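import Groth.Agent.H9FCoh.Qcoh

/-!
# Modules with models are quasi-coherent
-/

set_option autoImplicit false
set_option backward.isDefEq.respectTransparency false
set_option backward.isDefEq.respectTransparency.types false
set_option linter.style.haveILetI false

universe u

open CategoryTheory CategoryTheory.Limits Opposite TopologicalSpace
open Groth.Agent.RngSp (pt gm fns Nearby rsM freeM GenOn RelOn)
open Groth.Agent.ClosedRinged Groth.Agent.ModPull

noncomputable section

namespace Groth.Agent.H9FCoh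

variable {X : TopCat.{u}} {O : TopCat.Sheaf CommRingCat.{u} X} {M : ModSite.Mod O} {U : Opens X}
  {ι : Type u} {t : ι → M.val.obj (op U)} {N : Submodule (Fn O U) (ι →₀ Fn O U)}

theorem IsModel.genOn (h : IsModel M U t N) : GenOn M U t := by
  intro V hV z x hx
  obtain ⟨w, hw⟩ := h.gen x (hV hx) (gm M hx z)
  obtain ⟨V', hV', hxV', v, hv⟩ := exists_pv_eq hx w
  have h1 : gm M hxV' (cmb (fun i => res M (hV'.trans hV) (t i)) v) = gm M hxV' (res M hV' z) := by
    rw [gm_cmb_res, hv, RngSp.gm_res]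
    exact hw
  obtain ⟨W, hW, hxW, he⟩ := (RngSp.gm_eq_iff hxV' _ _).1 h1
  refine ⟨W, hW.trans hV', hxW, ?_⟩
  rw [res_res] at he
  show res M (hW.trans hV') z ∈ _
  rw [← he, cmb, Finsupp.sum, RngSp.res_sum]
  refine Submodule.sum_mem _ fun i _ => ?_
  rw [res_smul, res_res]
  exact Submodule.smul_mem _ _ (Submodule.subset_span ⟨i, rfl⟩)

theorem IsModel.cmb_eq_zero (h : IsModel M U t N) {v : ι →₀ Fn O U} (hv : v ∈ N) : cmb t v = 0 :=
  eq_of_gm fun x hx => by
    rw [gm_cmb, RngSp.gm_zero]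
    exact (h.rel x hx _).2 (pv_mem_pN _ hv)

theorem IsModel.nearby_mem (h : IsModel M U t N) {V : Opens X} (hV : V ≤ U) {v : ι →₀ Fn O V}
    (hv : cmb (fun i => res M hV (t i)) v = 0) :
    Nearby V fun W hW => pv (rr O hW) v ∈ pN (rr O (hW.trans hV)) N := fun x hx => by
  refine exists_mem_pN_rr hV hx ((h.rel x (hV hx) _).1 ?_)
  rw [← gm_cmb_res, hv, RngSp.gm_zero]

theorem pN_span {A B : Type u} [CommRing A] [CommRing B] (φ : A →+* B) {ι : Type*} (S : Set (ι →₀ A)) :
    pN φ (Submodule.span A S) = Submodule.span B (pv φ '' S) := by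
  refine le_antisymm (Submodule.span_le.2 ?_) (Submodule.span_mono (Set.image_mono Submodule.subset_span))
  rintro _ ⟨n, hn, rfl⟩
  induction hn using Submodule.span_induction with
  | mem n hn => exact Submodule.subset_span ⟨n, hn, rfl⟩
  | zero => rw [pv_zero]; exact zero_mem _
  | add a b _ _ ha hb => rw [pv_add]; exact add_mem ha hb
  | smul c a _ ha => rw [pv_smul]; exact Submodule.smul_mem _ _ ha

theorem IsModel.relOn [Fintype ι] (h : IsModel M U t N) {κ : Type u} (r : κ → ι →₀ Fn O U)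
    (hr : Submodule.span (Fn O U) (Set.range r) = N) :
    RelOn M U t (fun l i => (show fns O U from r l i)) := by
  refine ⟨fun l => ?_, fun V hV c hc x hx => ?_⟩
  · refine Eq.trans ?_ (h.cmb_eq_zero (hr.le (Submodule.subset_span ⟨l, rfl⟩)))
    rw [cmb]
    exact (Finsupp.sum_fintype (r l) (fun i a => (show fns O U from a) • t i)
      (fun i => zero_smul (fns O U) (t i))).symm
  · let v : ι →₀ Fn O V := Finsupp.equivFunOnFinite.symm c
    have hv : cmb (fun i => res M hV (t i)) v = 0 := by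
      refine Eq.trans ?_ hc
      rw [cmb]
      exact Finsupp.sum_fintype v (fun i a => (show fns O V from a) • res M hV (t i))
        (fun i => zero_smul (fns O V) (res M hV (t i)))
    obtain ⟨W, hW, hxW, hm⟩ := h.nearby_mem hV hv x hx
    refine ⟨W, hW, hxW, ?_⟩
    rw [← hr, pN_span, ← Set.range_comp] at hm
    have h2 := Submodule.mem_map_of_mem
      (f := (Finsupp.linearEquivFunOnFinite (Fn O W) (Fn O W) ι).toLinearMap) hm
    rw [Submodule.map_span, ← Set.range_comp] at h2
    exact h2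

theorem isFinitePresentation_of_models
    (h : ∀ x : X, ∃ (U : Opens X) (ι : Type u) (_ : Finite ι) (t : ι → M.val.obj (op U))
      (N : Submodule (Fn O U) (ι →₀ Fn O U)), x ∈ U ∧ N.FG ∧ IsModel M U t N) :
    SheafOfModules.IsFinitePresentation (R := ModSite.ringSh O) M := by
  rw [RngSp.isFinitePresentation_iff]
  intro x
  obtain ⟨U, ι, hι, t, N, hx, hN, hM⟩ := h x
  haveI := Fintype.ofFinite ι
  obtain ⟨n, r, hr⟩ := Submodule.fg_iff_exists_fin_generating_family.1 hN
  refine ⟨U, ι, ULift.{u} (Fin n), inferInstance, inferInstance, t, _, hx, hM.genOn,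
    hM.relOn (fun l : ULift.{u} (Fin n) => r l.down) ?_⟩
  rw [← hr]
  congr 1
  exact Set.ext fun v => ⟨fun ⟨l, e⟩ => ⟨l.down, e⟩, fun ⟨l, e⟩ => ⟨⟨l⟩, e⟩⟩

/-- The free section with given coefficients. -/
def vecSec (n : ι →₀ Fn O U) : (freeM (O.over U) ι).sections :=
  PresheafOfModules.sectionsMk (fun A => vfree A.unop (pv (rr O A.unop.hom.le) n)) fun _ B g => by
    refine (rsM_vfree (O := O) g.unop _).trans ?_
    rw [pv_rr]

/-- Values of the generators. -/
abbrev genSecs (t : ι → M.val.obj (op U)) (hg : GenOn M U t) : ((ModSite.restr O U).obj M).GeneratingSections :=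
  ((RngSp.gens_secOver_iff t).2 hg).generatingSections

theorem π_vfree' (hg : GenOn M U t) (B : Over U) (v : ι →₀ Fn O B.left) :
    (genSecs t hg).π.val.app (op B) (vfree B v) = cmb (fun i => res M B.hom.le (t i)) v := by
  rw [vfree, Finsupp.sum, map_sum, cmb, Finsupp.sum]
  refine Finset.sum_congr rfl fun i _ => ?_
  rw [map_smul]
  exact congrArg₂ (· • ·) rfl ((RngSp.app_freeSection _ _ _).trans (RngSp.secOver_eval (t i) B))

theorem vecSec_comp (h : IsModel M U t N) {n : ι →₀ Fn O U} (hn : n ∈ N) :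
    (freeM (O.over U) ι).unitHomEquiv.symm (vecSec n) ≫ (genSecs t h.genOn).π = 0 := by
  apply ((ModSite.restr O U).obj M).unitHomEquiv.injective
  refine PresheafOfModules.sections_ext _ _ fun A => ?_
  have e : ((freeM (O.over U) ι).unitHomEquiv.symm (vecSec n)).val.app A (1 : RngSp.rO (O.over U) A) =
      (vecSec n).eval A :=
    congrArg (fun q => q.eval A) ((freeM (O.over U) ι).unitHomEquiv.apply_symm_apply (vecSec n))
  change (genSecs t h.genOn).π.val.app A
    (((freeM (O.over U) ι).unitHomEquiv.symm (vecSec n)).val.app A (1 : RngSp.rO (O.over U) A)) = 0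
  rw [e]
  refine (π_vfree' h.genOn A.unop (pv (rr O A.unop.hom.le) n)).trans ?_
  exact (h.mono A.unop.hom.le).cmb_eq_zero (pv_mem_pN _ hn)

/-- Relations as sections of the kernel. -/
def relKer (h : IsModel M U t N) (n : N) : (kernel (genSecs t h.genOn).π).sections :=
  (kernel (genSecs t h.genOn).π).unitHomEquiv (kernel.lift _ _ (vecSec_comp h n.2))

theorem app_relKer (h : IsModel M U t N) (n : N) (A : (Over U)ᵒᵖ) :
    (kernel.ι (genSecs t h.genOn).π).val.app A ((relKer h n).eval A) = (vecSec n.1).eval A := by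
  change (kernel.lift _ _ (vecSec_comp h n.2) ≫ kernel.ι (genSecs t h.genOn).π).val.app A
    (1 : RngSp.rO (O.over U) A) = _
  rw [kernel.lift_ι]
  exact congrArg (fun q => q.eval A) ((freeM (O.over U) ι).unitHomEquiv.apply_symm_apply (vecSec n.1))

theorem exists_span_of_mem (h : IsModel M U t N) (B : Over U) {v : ι →₀ Fn O B.left}
    (hv : v ∈ pN (rr O B.hom.le) N) :
    ∃ k ∈ Submodule.span (RngSp.rO (O.over U) (op B)) (Set.range fun n => (relKer h n).eval (op B)),
      (kernel.ι (genSecs t h.genOn).π).val.app (op B) k = vfree B v := by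
  induction hv using Submodule.span_induction with
  | mem v hv =>
    obtain ⟨n, hn, rfl⟩ := hv
    exact ⟨_, Submodule.subset_span ⟨⟨n, hn⟩, rfl⟩, app_relKer h ⟨n, hn⟩ (op B)⟩
  | zero => exact ⟨0, zero_mem _, by rw [map_zero, vfree, Finsupp.sum_zero_index]⟩
  | add a b _ _ ha hb =>
    obtain ⟨ka, hka, ea⟩ := ha
    obtain ⟨kb, hkb, eb⟩ := hb
    exact ⟨ka + kb, add_mem hka hkb, by rw [map_add, ea, eb, vfree_add]⟩
  | smul c a _ ha =>
    obtain ⟨ka, hka, ea⟩ := ha
    refine ⟨(show RngSp.rO (O.over U) (op B) from c) • ka, Submodule.smul_mem _ _ hka, ?_⟩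
    rw [map_smul, ea, vfree_smul]

theorem nearby_vfree (A : Over U) (z : (freeM (O.over U) ι).val.obj (op A)) :
    Nearby A.left fun V hV => ∃ v : ι →₀ Fn O V,
      rsM (freeM (O.over U) ι) (sub A hV) z = vfree (Over.mk (homOfLE hV ≫ A.hom)) v := fun x hx => by
  obtain ⟨V, hV, hxV, S, a, ha⟩ := RngSp.free_nearby_sum (O := O) ι A z x hx
  refine ⟨V, hV, hxV, ∑ i ∈ S, Finsupp.single i (a i), ha.trans ?_⟩
  refine Eq.trans ?_ (map_sum (AddMonoidHom.mk' (vfree (ι := ι) (Over.mk (homOfLE hV ≫ A.hom)))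
    (vfree_add _)) _ _).symm
  refine Finset.sum_congr rfl fun i _ => ?_
  refine Eq.trans ?_ (vfree_eq_sum _ _ {i} Finsupp.support_single_subset).symm
  rw [Finset.sum_singleton, Finsupp.single_eq_same]

theorem app_eq_of_vfree {K : ModSite.Mod (O.over U)} (f : K ⟶ freeM (O.over U) ι) {A B C : Over U}
    (g : B ⟶ A) (g₁ : C ⟶ B) (g₂ : C ⟶ A) (z : K.val.obj (op A)) (v : ι →₀ Fn O B.left)
    (h : rsM (freeM (O.over U) ι) g (f.val.app (op A) z) = vfree B v) :
    f.val.app (op C) (rsM K g₂ z) = vfree C (pv (rr O g₁.left.le) v) := by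
  rw [← rsM_vfree, ← h]
  refine (PresheafOfModules.naturality_apply f.val g₂.op z).trans ?_
  rw [show g₂ = g₁ ≫ g from Over.OverMorphism.ext (Subsingleton.elim _ _)]
  exact ConcreteCategory.congr_hom ((freeM (O.over U) ι).val.presheaf.map_comp g.op g₁.op) _

set_option maxHeartbeats 1000000 in
theorem gens_relKer (h : IsModel M U t N) :
    RngSp.Gens (kernel (genSecs t h.genOn).π) (relKer h) := by
  intro A z
  refine RngSp.locally_of_nearby fun x hx => ?_
  obtain ⟨V, hV, hxV, v, hv⟩ := nearby_vfree A ((kernel.ι (genSecs t h.genOn).π).val.app (op A) z) x hx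
  let B : Over U := Over.mk (homOfLE hV ≫ A.hom)
  have hv' := app_eq_of_vfree (kernel.ι (genSecs t h.genOn).π) (sub A hV) (𝟙 B) (sub A hV) z v hv
  have h0 : cmb (fun i => res M B.hom.le (t i)) (pv (rr O (𝟙 B : B ⟶ B).left.le) v) = 0 := by
    rw [← π_vfree' h.genOn B, ← hv']
    exact RngSp.app_kerι (genSecs t h.genOn).π _
  obtain ⟨W, hW, hxW, hm⟩ := h.nearby_mem B.hom.le h0 x hxV
  refine ⟨W, hxW, fun C g hC => ?_⟩
  let g₁ : C ⟶ B := Over.homMk (homOfLE (hC.trans hW)) (Subsingleton.elim _ _)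
  have hm' : pv (rr O g₁.left.le) v ∈ pN (rr O C.hom.le) N := by
    have := pv_mem_comp _ (rr O hC) hm
    rw [pv_rr, pv_rr, rr_comp] at this
    exact this
  obtain ⟨k, hk, hke⟩ := exists_span_of_mem h C hm'
  have hz : rsM (kernel (genSecs t h.genOn).π) g z = k :=
    app_injective (kernel.ι (genSecs t h.genOn).π) (op C)
      ((app_eq_of_vfree (kernel.ι (genSecs t h.genOn).π) (sub A hV) g₁ g z v hv).trans hke.symm)
  rw [hz]
  exact hk

theorem isQuasicoherent_of_models
    (h : ∀ x : X, ∃ (U : Opens X) (ι : Type u) (t : ι → M.val.obj (op U))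
      (N : Submodule (Fn O U) (ι →₀ Fn O U)), x ∈ U ∧ IsModel M U t N) :
    SheafOfModules.IsQuasicoherent.{u} (R := ModSite.ringSh O) M := by
  choose U ι t N hx hM using h
  let q : SheafOfModules.QuasicoherentData.{u} (R := ModSite.ringSh O) M :=
    { I := X, X := U, coversTop := RngSp.coversTop_of_forall fun x => ⟨x, hx x⟩
      presentation := fun x => ⟨genSecs (t x) (hM x).genOn, (gens_relKer (hM x)).generatingSections⟩ }
  exact q.isQuasicoherent

end Groth.Agent.H9FCoh
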