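import Groth.Agent.H9FCoh.Rebuild
import Groth.Agent.RngSp.Stalks

/-!
# Filtered colimits of coherent modules are quasi-coherent
-/

set_option autoImplicit false
set_option backward.isDefEq.respectTransparency false
set_option backward.isDefEq.respectTransparency.types false
set_option linter.style.haveILetI false

universe u

open CategoryTheory CategoryTheory.Limits Opposite TopologicalSpace
open Groth.Agent.RngSp (pt gm fns mp stalkF)
open Groth.Agent.ClosedRinged

noncomputable section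

namespace Groth.Agent.H9FCoh

variable {X : TopCat.{u}} {O : TopCat.Sheaf CommRingCat.{u} X}

/-- Models on one open are carried along isomorphisms. -/
theorem IsModel.map_iso {M M' : ModSite.Mod O} {U : Opens X} {ι : Type u} {t : ι → M.val.obj (op U)}
    {N : Submodule (Fn O U) (ι →₀ Fn O U)} (hm : IsModel M U t N) (e : M ≅ M') :
    IsModel M' U (fun i => mp e.hom U (t i)) N := by
  have hinv : ∀ (x : X) (z : ModSite.stalkAb (pt x) M'), fx e.hom x (fx e.inv x z) = z := fun x z => by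
    change ((stalkF O x).map e.inv ≫ (stalkF O x).map e.hom) z = z
    rw [← Functor.map_comp, e.inv_hom_id, CategoryTheory.Functor.map_id]
    rfl
  refine ⟨fun x hx z => ?_, fun x hx w => ?_⟩
  · obtain ⟨w, hw⟩ := hm.gen x hx (fx e.inv x z)
    exact ⟨w, by rw [← fx_gcmb, hw, hinv]⟩
  · rw [← fx_gcmb, ← hm.rel x hx]
    exact ⟨fun h => fx_injective e.hom x (h.trans (map_zero _).symm), fun h => by rw [h, map_zero]⟩

variable {J : Type u} [SmallCategory J] [IsFiltered J] {D : J ⥤ ModSite.Mod O} {c : Cocone D}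

/-- All relations of sections. -/
def relN {M : ModSite.Mod O} {U : Opens X} {ι : Type u} (T : ι → M.val.obj (op U)) :
    Submodule (Fn O U) (ι →₀ Fn O U) :=
  LinearMap.ker (Finsupp.linearCombination (fns O U) T : (ι →₀ fns O U) →ₗ[fns O U] _)

theorem mem_relN {M : ModSite.Mod O} {U : Opens X} {ι : Type u} {T : ι → M.val.obj (op U)}
    {v : ι →₀ Fn O U} : v ∈ relN T ↔ cmb (O := O) T v = 0 := by
  change Finsupp.linearCombination (fns O U) T v = 0 ↔ _
  rw [Finsupp.linearCombination_apply]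
  rfl

theorem gcmb_of_mem_relN {M : ModSite.Mod O} {U : Opens X} {ι : Type u} {T : ι → M.val.obj (op U)} {x : X}
    (hx : x ∈ U) {w : ι →₀ St O x} (hw : w ∈ pN (gH O hx) (relN T)) : gcmb (fun p => gm M hx (T p)) w = 0 := by
  refine LinearMap.mem_ker.1 ((Submodule.span_le.2 ?_ :
      pN (gH O hx) (relN T) ≤ LinearMap.ker (gcmb fun p => gm M hx (T p))) hw)
  rintro _ ⟨n, hn, rfl⟩
  rw [SetLike.mem_coe, LinearMap.mem_ker, ← gm_cmb, mem_relN.1 hn, RngSp.gm_zero]

theorem gcmb_mapDomain {M : ModSite.Mod O} {x : X} {ι κ : Type u} (T : κ → ModSite.stalkAb (pt x) M) (s : ι → κ)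
    (w : ι →₀ St O x) : gcmb T (w.mapDomain s) = gcmb (fun i => T (s i)) w :=
  lc_mapDomain T s w

theorem sub_mapDomain_colMap {A B : Type u} [CommRing A] [CommRing B] (φ : A →+* B) {S ι κ : Type u}
    (v : S → ι) (col : S → κ →₀ A) (s : κ → ι) (w : S →₀ B) :
    w.mapDomain v - (colMap φ col w).mapDomain s =
      Finsupp.linearCombination B (fun p => pv φ (Finsupp.single (v p) (1 : A) - (col p).mapDomain s)) w := by
  rw [colMap, Finsupp.linearCombination_apply, Finsupp.linearCombination_apply]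
  simp only [pv_sub, pv_mapDomain, Finsupp.sum, Finsupp.mapDomain_finset_sum, Finsupp.mapDomain_smul, smul_sub,
    Finset.sum_sub_distrib]
  congr 1
  rw [Finsupp.mapDomain, Finsupp.sum]
  refine Finset.sum_congr rfl fun p _ => ?_
  rw [pv, Finsupp.mapRange_single, map_one, Finsupp.smul_single, smul_eq_mul, mul_one]

variable {U : Opens X} {σ : J → Type u} (t : ∀ j, σ j → (D.obj j).val.obj (op U))

/-- The sections of the colimit. -/
abbrev colT (c : Cocone D) (t : ∀ j, σ j → (D.obj j).val.obj (op U)) : (Σ j, σ j) → c.pt.val.obj (op U) :=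
  fun p => mp (c.ι.app p.1) U (t p.1 p.2)

omit [IsFiltered J] in
theorem mp_ι_comp {j k : J} (f : j ⟶ k) (z : (D.obj j).val.obj (op U)) :
    mp (c.ι.app k) U (mp (D.map f) U z) = mp (c.ι.app j) U z :=
  congrArg (fun q : D.obj j ⟶ c.pt => mp q U z) (c.w f)

theorem fx_cocone_eq_iff (hc : IsColimit c) (x : X) {k : J} (z : ModSite.stalkAb (pt x) (D.obj k))
    (hz : fx (c.ι.app k) x z = 0) : ∃ (l : J) (g : k ⟶ l), fx (D.map g) x z = 0 := by
  haveI := RngSp.preservesColimits_stalkF (O := O) x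
  let z₀ : ModSite.stalkAb (pt x) (D.obj k) := 0
  obtain ⟨l, g, hg⟩ := (Types.FilteredColimit.isColimit_eq_iff'
    (isColimitOfPreserves (stalkF O x ⋙ forget AddCommGrpCat.{u}) hc) z z₀).1
      (hz.trans (map_zero (fx (c.ι.app k) x)).symm)
  exact ⟨l, g, hg.trans (map_zero (fx (D.map g) x))⟩

/-- A relation between germs holds at some stage. -/
theorem exists_stage (hc : IsColimit c) {x : X} (hx : x ∈ U) {S : Type u} [Finite S] (v : S → Σ j, σ j)
    (w : S →₀ St O x) (hw : gcmb (fun p => gm c.pt hx (colT c t (v p))) w = 0) :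
    ∃ (l : J) (s : S → (D.obj l).val.obj (op U)), (∀ p, mp (c.ι.app l) U (s p) = colT c t (v p)) ∧
      gcmb (fun p => gm (D.obj l) hx (s p)) w = 0 := by
  classical
  haveI := Fintype.ofFinite S
  obtain ⟨k, hk⟩ := IsFiltered.sup_objs_exists (Finset.univ.image fun p => (v p).1)
  let f : ∀ p : S, (v p).1 ⟶ k := fun p => (hk (Finset.mem_image_of_mem _ (Finset.mem_univ p))).some
  let s : S → (D.obj k).val.obj (op U) := fun p => mp (D.map (f p)) U (t (v p).1 (v p).2)
  have hs : ∀ p, mp (c.ι.app k) U (s p) = colT c t (v p) := fun p => mp_ι_comp (f p) _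
  obtain ⟨l, g, hg⟩ := fx_cocone_eq_iff hc x (gcmb (fun p => gm (D.obj k) hx (s p)) w) (by
    rw [fx_gcmb]; simp only [hs]; exact hw)
  refine ⟨l, fun p => mp (D.map g) U (s p), fun p => (mp_ι_comp g _).trans (hs p), ?_⟩
  rwa [fx_gcmb] at hg

theorem gm_colT_stage {l : J} (v : σ l →₀ Fn O U) {y : X} (hy : y ∈ U) :
    gm c.pt hy (cmb (O := O) (colT c t) (v.mapDomain (Sigma.mk l))) =
      fx (c.ι.app l) y (gm (D.obj l) hy (cmb (O := O) (t l) v)) := by
  rw [gm_cmb, pv_mapDomain, gcmb_mapDomain, gm_cmb, fx_gcmb]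
  rfl

variable (N : ∀ j, Submodule (Fn O U) (σ j →₀ Fn O U)) (hm : ∀ j, IsModel (D.obj j) U (t j) (N j))

include hm in
theorem le_comap_relN (l : J) :
    N l ≤ (relN (colT c t)).comap (Finsupp.lmapDomain (Fn O U) (Fn O U) (Sigma.mk l)) := fun v hv => by
  refine mem_relN.2 (eq_of_gm fun y hy => ?_)
  rw [Finsupp.lmapDomain_apply, gm_colT_stage, (hm l).cmb_eq_zero hv, RngSp.gm_zero, RngSp.gm_zero, map_zero]

theorem single_sub_mem {l : J} {p : Σ j, σ j} {s : (D.obj l).val.obj (op U)}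
    (hs : mp (c.ι.app l) U s = colT c t p) {col : σ l →₀ Fn O U} (hcl : cmb (O := O) (t l) col = s) :
    Finsupp.single p (1 : Fn O U) - col.mapDomain (Sigma.mk l) ∈ relN (colT c t) := by
  refine mem_relN.2 (eq_of_gm fun y hy => ?_)
  rw [gm_cmb, RngSp.gm_zero, pv_sub, map_sub, sub_eq_zero, ← gm_cmb, ← gm_cmb, gm_colT_stage, hcl, fx_gm, hs,
    gm_cmb, pv, Finsupp.mapRange_single, map_one, gcmb, Finsupp.linearCombination_single, one_smul]
  rfl

include hm in
theorem mem_of_relation (G : Good O) (hc : IsColimit c) (hU : G.P U) {x : X} (hx : x ∈ U)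
    (w : (Σ j, σ j) →₀ St O x) (hw : gcmb (fun p => gm c.pt hx (colT c t p)) w = 0) :
    w ∈ pN (gH O hx) (relN (colT c t)) := by
  classical
  let w' : w.support →₀ St O x := w.comapDomain Subtype.val Subtype.val_injective.injOn
  have hwe : w'.mapDomain Subtype.val = w :=
    Finsupp.mapDomain_comapDomain _ Subtype.val_injective w fun p hp => ⟨⟨p, hp⟩, rfl⟩
  rw [← hwe, gcmb_mapDomain] at hw
  obtain ⟨l, s, hs, hg⟩ := exists_stage t hc hx (Subtype.val : w.support → Σ j, σ j) w' hw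
  choose col hcl using fun p => (hm l).exists_cmb G hU (s p)
  simp only [← hcl] at hg
  rw [gcmb_cmb] at hg
  have h1 := mapDomain_mem_pN (gH O hx) (Sigma.mk l)
    ((Submodule.span_mono (Set.image_mono (le_comap_relN (c := c) t N hm l)) : pN (gH O hx) (N l) ≤ _)
      (((hm l).rel x hx _).1 hg))
  rw [← hwe, ← sub_add_cancel (w'.mapDomain Subtype.val) ((colMap (gH O hx) col w').mapDomain (Sigma.mk l))]
  refine add_mem ?_ h1
  rw [sub_mapDomain_colMap, Finsupp.linearCombination_apply, Finsupp.sum]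
  exact Submodule.sum_mem _ fun p _ => Submodule.smul_mem _ _ (pv_mem_pN _ (single_sub_mem t (hs p) (hcl p)))

include hm in
/-- Finite models of the terms on one open give a model of a filtered colimit. -/
theorem isModel_colimit (G : Good O) (hc : IsColimit c) (hU : G.P U) :
    IsModel c.pt U (colT c t) (relN (colT c t)) := by
  refine ⟨fun x hx z => ?_, fun x hx w => ⟨mem_of_relation t N hm G hc hU hx w, gcmb_of_mem_relN hx⟩⟩
  haveI := RngSp.preservesColimits_stalkF (O := O) x
  obtain ⟨j, a, ha⟩ := Types.jointly_surjective_of_isColimit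
    (isColimitOfPreserves (stalkF O x ⋙ forget AddCommGrpCat.{u}) hc) z
  obtain ⟨w, rfl⟩ := (hm j).gen x hx a
  refine ⟨w.mapDomain (Sigma.mk j), Eq.trans ?_ ha⟩
  rw [gcmb_mapDomain]
  exact (fx_gcmb (c.ι.app j) (t j) hx w).symm

open AlgebraicGeometry in
theorem isQC_ind {𝔛 : FSch.Sys.{u}} (h : 𝔛.IsLocNoethFormal) (𝔉 : FSch.ModF 𝔛 h.1)
    (h𝔉 : (ObjectProperty.ind.{u} fun 𝔊 : FSch.ModF 𝔛 h.1 => FSch.IsCohF 𝔛 h.1 𝔊) 𝔉) :
    SheafOfModules.IsQuasicoherent.{u} 𝔉 := by
  obtain ⟨J, hJ, hJf, pres, hP⟩ := h𝔉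
  refine isQuasicoherent_of_models (M := 𝔉) fun x => ?_
  obtain ⟨U, hU, hxU, -⟩ := Opens.isBasis_iff_nbhd.1 (𝔛.X 0).isBasis_affineOpens (Opens.mem_top x)
  choose σ hσ t N hN hm hml using fun j =>
    exists_model_realMod h (pullSys h (pres.diag.obj j)) (isCoh_pullSys h _ (hP j)) hU
  haveI := fun j => isIso_toReal h (pres.diag.obj j) (hP j)
  exact ⟨U, _, _, _, hxU, isModel_colimit _ N
    (fun j => (hm j).map_iso (asIso (toReal h (pres.diag.obj j))).symm) (good h) pres.isColimit hU⟩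

end Groth.Agent.H9FCoh
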