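import Groth.Agent.H9FCoh.CohSmall
import Groth.Agent.H9FCoh.Ind
import Mathlib.CategoryTheory.Adjunction.Basic
import Mathlib.CategoryTheory.ObjectProperty.Ind
import Mathlib.CategoryTheory.ObjectProperty.ColimitsOfShape

/-!
# The coherator: ind-coherent modules are coreflective
-/

set_option autoImplicit false
set_option backward.isDefEq.respectTransparency false
set_option backward.isDefEq.respectTransparency.types false
set_option linter.style.haveILetI false

universe u

open CategoryTheory CategoryTheory.Limits Opposite TopologicalSpace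
open Groth.Agent.RngSp (pt gm fns mp gm_res gm_eq_iff)
open Groth.Agent.ClosedRinged

noncomputable section

namespace Groth.Agent.H9FCoh

variable {X : TopCat.{u}} {O : TopCat.Sheaf CommRingCat.{u} X}

/-- Finite presentation as an object property. -/
abbrev fpP (O : TopCat.Sheaf CommRingCat.{u} X) : ObjectProperty (ModSite.Mod O) := fun M => IsFP M

/-- Coherent modules over a module. -/
abbrev OverM (M : ModSite.Mod O) := CostructuredArrow (fpP O).ι M

variable {M : ModSite.Mod O}

/-- Maps that agree on the fibred product with a family of jointly epimorphic maps agree. -/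
theorem eq_of_locally_stage {P Q : ModSite.Mod O} (g g' : P ⟶ Q)
    (h : ∀ (W : Opens X) (y : P.val.obj (op W)) (x : X), x ∈ W → ∃ (V : Opens X) (hV : V ≤ W), x ∈ V ∧
      mp g V (res P hV y) = mp g' V (res P hV y)) : g = g' :=
  SheafOfModules.hom_ext (PresheafOfModules.Hom.ext (funext fun W =>
    ModuleCat.hom_ext (LinearMap.ext fun y => ClosedRinged.ext_locally Q _ _ fun x hx => by
      obtain ⟨V, hV, hxV, he⟩ := h W.unop y x hx
      exact ⟨V, hV, hxV, (RngSp.mp_res g hV y).symm.trans (he.trans (RngSp.mp_res g' hV y))⟩)))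

/-- The object of a coherent module over a module. -/
abbrev mkOver {P : ModSite.Mod O} (hP : IsFP P) (p : P ⟶ M) : OverM M :=
  CostructuredArrow.mk (S := (fpP O).ι) (Y := (⟨P, hP⟩ : (fpP O).FullSubcategory)) p

/-- Fibred products of coherent modules over quasi-coherent ones. -/
theorem exists_fiber_pair (G : Good O) {P S Q : ModSite.Mod O} (hP : IsFP P) (hS : IsFP S) (hQ : IsQC Q)
    (g : P ⟶ Q) (σ : S ⟶ Q) :
    ∃ (K : ModSite.Mod O) (_ : IsFP K) (a : K ⟶ P) (b : K ⟶ S), a ≫ g = b ≫ σ ∧
      ∀ (V : Opens X) (y : P.val.obj (op V)) (s : S.val.obj (op V)), mp g V y = mp σ V s → ∃ k, mp a V k = y := by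
  let f : P ⊞ S ⟶ Q := biprod.desc g (-σ)
  have hPS : IsFP (P ⊞ S) := isFP_biprod G hP hS
  refine ⟨kernel f, isFP_of_mono G hPS (isQC_kernel G (isQC_of_isFP hPS) hQ f) (kernel.ι f),
    kernel.ι f ≫ biprod.fst, kernel.ι f ≫ biprod.snd, ?_, fun V y s hys => ?_⟩
  · have := kernel.condition f
    simp only [f, biprod.desc_eq, Preadditive.comp_add, Preadditive.comp_neg] at this
    rw [Category.assoc, Category.assoc]
    exact eq_of_sub_eq_zero (by rw [sub_eq_add_neg]; exact this)
  · let w : (P ⊞ S).val.obj (op V) :=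
      mp (biprod.inl : P ⟶ P ⊞ S) V y + mp (biprod.inr : S ⟶ P ⊞ S) V s
    have hfw : mp f V w = 0 := by
      simp only [w, map_add]
      refine (congrArg₂ (· + ·) (congrArg (fun q => mp q V y) (biprod.inl_desc g (-σ)))
        (congrArg (fun q => mp q V s) (biprod.inr_desc g (-σ)))).trans ?_
      change mp g V y + -(mp σ V s) = 0
      rw [hys, add_neg_cancel]
    obtain ⟨k, hk⟩ := exists_mp_kernel_eq (f := f) w hfw
    refine ⟨k, (congrArg (mp (biprod.fst : P ⊞ S ⟶ P) V) hk).trans ?_⟩
    simp only [w, map_add]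
    refine (congrArg₂ (· + ·) (congrArg (fun q => mp q V y) biprod.inl_fst)
      (congrArg (fun q => mp q V s) biprod.inr_fst)).trans ?_
    exact add_zero y

/-- Maps from coherent modules to the colimit of all coherent modules over a module are stages. -/
theorem eq_stage (G : Good O) (M Q : ModSite.Mod O) (hQ : IsQC Q) (ε : Q ⟶ M)
    (τ : ∀ A : OverM M, A.left.obj ⟶ Q) (hτε : ∀ A, τ A ≫ ε = A.hom)
    (hw : ∀ {A B : OverM M} (φ : A ⟶ B), φ.left.hom ≫ τ B = τ A)
    (hsurj : ∀ (x : X) (z : ModSite.stalkAb (pt x) Q),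
      ∃ (A : OverM M) (a : ModSite.stalkAb (pt x) A.left.obj), fx (τ A) x a = z)
    (P : ModSite.Mod O) (hP : IsFP P) (g : P ⟶ Q) : g = τ (mkOver hP (g ≫ ε)) := by
  refine eq_of_locally_stage g _ fun W y x hx => ?_
  obtain ⟨S, a₀, ha⟩ := hsurj x (gm Q hx (mp g W y))
  obtain ⟨V₀, hxV₀, s, rfl⟩ := RngSp.exists_gm a₀
  rw [fx_gm] at ha
  obtain ⟨V, hV₀, hV, hxV, he⟩ := RngSp.exists_gm_eq hxV₀ hx _ _ ha
  rw [← RngSp.mp_res, ← RngSp.mp_res] at he
  obtain ⟨K, hK, a, b, hab, hlift⟩ := exists_fiber_pair G hP S.left.property hQ g (τ S)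
  let C : OverM M := mkOver hK (b ≫ S.hom)
  let φS : C ⟶ S := CostructuredArrow.homMk (ObjectProperty.homMk b) rfl
  let φP : C ⟶ mkOver hP (g ≫ ε) := CostructuredArrow.homMk (ObjectProperty.homMk a) (by
    change a ≫ g ≫ ε = b ≫ S.hom
    rw [← Category.assoc, hab, Category.assoc, hτε])
  have e1 : a ≫ g = a ≫ τ (mkOver hP (g ≫ ε)) := hab.trans ((hw φS).trans (hw φP).symm)
  obtain ⟨k, hk⟩ := hlift V (res P hV y) (res S.left.obj hV₀ s) he.symm
  refine ⟨V, hV, hxV, ?_⟩
  rw [← hk]
  exact congrArg (fun q => mp q V k) e1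

section
variable (G : Good O) (hqc : ∀ A : ModSite.Mod O, ObjectProperty.ind.{u} (fpP O) A → IsQC A)
include G hqc

theorem exists_coreflection (M : ModSite.Mod O) : ∃ (Q : ModSite.Mod O) (ε : Q ⟶ M), ObjectProperty.ind.{u} (fpP O) Q ∧
    ∀ (A : ModSite.Mod O), ObjectProperty.ind.{u} (fpP O) A → ∀ f : A ⟶ M, ∃! g : A ⟶ Q, g ≫ ε = f := by
  classical
  haveI : ObjectProperty.EssentiallySmall.{u} (fpP O) :=
    haveI := essentiallySmall_isFT (O := O)
    ObjectProperty.EssentiallySmall.of_le (Q := fun M : ModSite.Mod O => IsFT M) fun P hP => isFT_of_isFP hP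
  let I := OverM M
  let mk : ∀ (P : ModSite.Mod O) (_ : IsFP P) (_ : P ⟶ M), I := fun P hP p => mkOver hP p
  haveI : Nonempty I := ⟨mk _ (isFP_free (O := O) PEmpty.{u + 1}) 0⟩
  haveI : IsFiltered I :=
    { cocone_objs := fun A B => ⟨mk _ (isFP_biprod G A.left.property B.left.property) (biprod.desc A.hom B.hom),
        CostructuredArrow.homMk (ObjectProperty.homMk biprod.inl) (biprod.inl_desc _ _),
        CostructuredArrow.homMk (ObjectProperty.homMk biprod.inr) (biprod.inr_desc _ _), trivial⟩
      cocone_maps := fun A B f g => by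
        let φ := f.left.hom - g.left.hom
        have hw : φ ≫ B.hom = 0 := by
          rw [Preadditive.sub_comp]
          exact sub_eq_zero.2 ((CostructuredArrow.w f).trans (CostructuredArrow.w g).symm)
        refine ⟨mk _ (isFP_cokernel G A.left.property B.left.property φ) (cokernel.desc φ B.hom hw),
          CostructuredArrow.homMk (ObjectProperty.homMk (cokernel.π φ)) (cokernel.π_desc _ _ _), ?_⟩
        refine CostructuredArrow.hom_ext _ _ (ObjectProperty.hom_ext _ (sub_eq_zero.1 ?_))
        exact (Preadditive.sub_comp _ _ _).symm.trans (cokernel.condition φ) }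
  haveI : EssentiallySmall.{u} I := inferInstance
  let e := (equivSmallModel.{u} I).symm
  haveI : IsFiltered (SmallModel.{u} I) := IsFiltered.of_equivalence e.symm
  let D := e.functor ⋙ CostructuredArrow.proj _ _ ⋙ (fpP O).ι
  let εc : Cocone D := Cocone.mk M
    { app := fun j => (e.functor.obj j).hom
      naturality := fun j k f => (CostructuredArrow.w (e.functor.map f)).trans (Category.comp_id _).symm }
  have hQ : ObjectProperty.ind.{u} (fpP O) (colimit D) :=
    ⟨SmallModel.{u} I, inferInstance, inferInstance, ColimitPresentation.colimit D,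
      fun j => (e.functor.obj j).left.property⟩
  let ε : colimit D ⟶ M := colimit.desc D εc
  let τ : ∀ A : I, A.left.obj ⟶ colimit D := fun A =>
    (e.counitIso.inv.app A).left.hom ≫ colimit.ι D (e.inverse.obj A)
  have hτε : ∀ A : I, τ A ≫ ε = A.hom := fun A => by
    simp only [τ, ε, Category.assoc, colimit.ι_desc]
    exact CostructuredArrow.w (e.counitIso.inv.app A)
  have hw : ∀ {A B : I} (φ : A ⟶ B), φ.left.hom ≫ τ B = τ A := fun {A B} φ => by
    have := congrArg (fun q => q.left.hom) (e.counitIso.inv.naturality φ)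
    simp only [τ]
    rw [← Category.assoc]
    refine (congrArg (· ≫ _) this).trans ?_
    exact (Category.assoc _ _ _).trans (congrArg _ (colimit.w D (e.inverse.map φ)))
  have hτj : ∀ j, τ (e.functor.obj j) = colimit.ι D j := fun j => by
    let m : e.inverse.obj (e.functor.obj j) ⟶ j := e.functor.preimage (e.counitIso.hom.app (e.functor.obj j))
    have hm : e.functor.map m = e.counitIso.hom.app (e.functor.obj j) := e.functor.map_preimage _
    have h1 := colimit.w D m
    simp only [τ]
    rw [← h1, ← Category.assoc]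
    refine (congrArg (· ≫ colimit.ι D j) ?_).trans (Category.id_comp _)
    change ((e.counitIso.inv.app (e.functor.obj j)) ≫ e.functor.map m).left.hom = _
    rw [hm, Iso.inv_hom_id_app]
    rfl
  have hsurj : ∀ (x : X) (z : ModSite.stalkAb (pt x) (colimit D)),
      ∃ (A : I) (a : ModSite.stalkAb (pt x) A.left.obj), fx (τ A) x a = z := fun x z => by
    haveI := RngSp.preservesColimits_stalkF (O := O) x
    obtain ⟨j, a, ha⟩ := Types.jointly_surjective_of_isColimit
      (isColimitOfPreserves (RngSp.stalkF O x ⋙ forget AddCommGrpCat.{u}) (colimit.isColimit D)) z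
    refine ⟨e.functor.obj j, a, ?_⟩
    rw [hτj j]
    exact ha
  have key := eq_stage G M (colimit D) (hqc _ hQ) ε τ hτε hw hsurj
  refine ⟨colimit D, ε, hQ, ?_⟩
  rintro A ⟨J, hJ, hJf, pres, hP⟩ f
  let c : Cocone pres.diag := Cocone.mk (colimit D)
    { app := fun a => τ (mk _ (hP a) (pres.ι.app a ≫ f))
      naturality := fun a b q => by
        simp only [Functor.const_obj_obj, Functor.const_obj_map, Category.comp_id]
        exact hw (A := mk _ (hP a) (pres.ι.app a ≫ f)) (B := mk _ (hP b) (pres.ι.app b ≫ f))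
          (CostructuredArrow.homMk (ObjectProperty.homMk (pres.diag.map q)) (by
            change pres.diag.map q ≫ pres.ι.app b ≫ f = pres.ι.app a ≫ f
            rw [← Category.assoc, pres.ι.naturality q]
            simp)) }
  refine ⟨pres.isColimit.desc c, pres.isColimit.hom_ext fun a => ?_, fun g hg => pres.isColimit.hom_ext fun a => ?_⟩
  · exact (pres.isColimit.fac_assoc c a ε).trans (hτε _)
  · refine (key _ (hP a) (pres.ι.app a ≫ g)).trans ?_
    refine Eq.trans ?_ (pres.isColimit.fac c a).symm
    exact congrArg (fun q : pres.diag.obj a ⟶ M => show pres.diag.obj a ⟶ colimit D from τ (mkOver (hP a) q)) ((Category.assoc _ _ _).trans (congrArg _ hg))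

theorem isLeftAdjoint_ι_ind : (ObjectProperty.ind.{u} (fpP O) : ObjectProperty (ModSite.Mod O)).ι.IsLeftAdjoint := by
  choose Q ε hQ huniv using exists_coreflection G hqc
  refine ⟨_, ⟨Adjunction.adjunctionOfEquivRight
    (F := (ObjectProperty.ind.{u} (fpP O) : ObjectProperty (ModSite.Mod O)).ι) (G_obj := fun M => ⟨Q M, hQ M⟩)
    (fun A M =>
      { toFun := fun f => ObjectProperty.homMk (huniv M A.obj A.property f).exists.choose
        invFun := fun g => g.hom ≫ ε M
        left_inv := fun f => (huniv M A.obj A.property f).exists.choose_spec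
        right_inv := fun g => ObjectProperty.hom_ext _ ((huniv M A.obj A.property (g.hom ≫ ε M)).unique
          (huniv M A.obj A.property (g.hom ≫ ε M)).exists.choose_spec rfl) }) ?_⟩⟩
  intro A' A M f g
  refine ObjectProperty.hom_ext _ ((huniv M A'.obj A'.property _).unique
    (huniv M A'.obj A'.property _).exists.choose_spec ?_)
  simp only [Equiv.coe_fn_mk, ObjectProperty.FullSubcategory.comp_hom, ObjectProperty.homMk_hom, Category.assoc]
  rw [(huniv M A.obj A.property g).exists.choose_spec]
  rfl

theorem isClosedUnderColimitsOfShape_ind (J : Type u) [SmallCategory J] :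
    (ObjectProperty.ind.{u} (fpP O) : ObjectProperty (ModSite.Mod O)).IsClosedUnderColimitsOfShape J :=
  ObjectProperty.IsClosedUnderColimitsOfShape.mk' (by
    rintro _ ⟨F, hF⟩
    obtain ⟨Q, ε, hQ, huniv⟩ := exists_coreflection G hqc (colimit F)
    choose g hg hu using fun j => huniv (F.obj j) (hF j) (colimit.ι F j)
    let c : Cocone F := Cocone.mk Q
      { app := g
        naturality := fun a b q => by
          simp only [Functor.const_obj_obj, Functor.const_obj_map, Category.comp_id]
          exact hu a _ (by simp only [Category.assoc, hg, colimit.w]) }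
    have h1 : colimit.desc F c ≫ ε = 𝟙 _ := colimit.hom_ext fun j => by
      rw [colimit.ι_desc_assoc, Category.comp_id]
      exact hg j
    have h2 : ε ≫ colimit.desc F c = 𝟙 _ := (huniv Q hQ ε).unique
      (by rw [Category.assoc, h1, Category.comp_id]) (Category.id_comp _)
    exact ((ObjectProperty.ind.{u} (fpP O)).prop_iff_of_iso (Iso.mk ε (colimit.desc F c) h2 h1)).1 hQ)

end

end Groth.Agent.H9FCoh
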