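import Groth.Agent.H9FCoh.LQ
import Groth.Agent.H9FCoh.Coherator
import Groth.Agent.H9FCoh.Back
import Groth.Agent.RngSp.FPHom
import Groth.Agent.S19542
import Mathlib.CategoryTheory.Limits.Shapes.Kernels

/-!
# Extensions of ind-coherent modules on Noetherian formal schemes
-/

set_option autoImplicit false
set_option backward.isDefEq.respectTransparency false
set_option backward.isDefEq.respectTransparency.types false
set_option linter.style.haveILetI false

universe u

open CategoryTheory CategoryTheory.Limits AlgebraicGeometry TopologicalSpace Opposite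
open Groth.Agent.RngSp (pt gm mp fns)

noncomputable section

namespace Groth.Agent.H9FCoh

variable {𝔛 : FSch.Sys.{u}} (h : 𝔛.IsLocNoethFormal)

/-- An extension of coherent modules is coherent. -/
theorem isFP_extension {S : ShortComplex (FSch.ModF 𝔛 h.1)} (hS : S.ShortExact) (h₁ : IsFP S.X₁)
    (h₃ : IsFP S.X₃) : IsFP S.X₂ := by
  refine isFP_of_isQC_of_isFT (good h) (isQC_extension h hS (isQC_of_isFP h₁) (isQC_of_isFP h₃))
    (RngSp.isFiniteType_iff.2 fun x => ?_)
  obtain ⟨V₁, hV₁, -, ι, hι, tA, NA, hxV₁, hA⟩ :=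
    exists_finite_model (good h) (isQC_of_isFP h₁) (isFT_of_isFP h₁) (show x ∈ (⊤ : (𝔛.X 0).Opens) from trivial)
  obtain ⟨V, hV, hVV, κ, hκ, tB, NB, hxV, hB⟩ :=
    exists_finite_model (good h) (isQC_of_isFP h₃) (isFT_of_isFP h₃) hxV₁
  choose l hl using fun k => sections_surjective_of_isModel h hS hV (hA.mono hVV) (tB k)
  exact ⟨V, _, inferInstance, _, hxV, (isModel_extension (good h) hS hV (hA.mono hVV) hB l hl).genOn⟩

section colim

variable {I : Type u} [Preorder I] [Nonempty I] [IsDirectedOrder I] {S : ShortComplex (FSch.ModF 𝔛 h.1)}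
  (hS : S.ShortExact) {D : I ⥤ FSch.ModF 𝔛 h.1} {c : Cocone D} (hc : IsColimit c) (e : c.pt ≅ S.X₁)

/-- The quotients of the middle term by the stages of the first. -/
def quotD : I ⥤ FSch.ModF 𝔛 h.1 where
  obj i := cokernel (c.ι.app i ≫ e.hom ≫ S.f)
  map {i j} g := cokernel.map _ _ (D.map g) (𝟙 _) (by
    simp only [Category.comp_id, c.w_assoc g])
  map_id i := coequalizer.hom_ext (by simp)
  map_comp g g' := coequalizer.hom_ext (by simp)

/-- The quotient cocone to the third term. -/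
def quotC : Cocone (quotD h e) where
  pt := S.X₃
  ι :=
    { app := fun i => cokernel.desc _ S.g (by simp [S.zero])
      naturality := fun i j g => coequalizer.hom_ext (by simp [quotD]) }

include hS hc in
theorem nonempty_isColimit_quotC : Nonempty (IsColimit (quotC h e)) := by
  haveI := hS.epi_g
  obtain ⟨i₀⟩ := (inferInstance : Nonempty I)
  have hind : ∀ (s : Cocone (quotD h e)) (i j : I), i ≤ j →
      cokernel.π _ ≫ s.ι.app j = cokernel.π _ ≫ s.ι.app i := fun s i j hij => by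
    rw [← s.w (homOfLE hij)]
    simp [quotD]
  have hall : ∀ (s : Cocone (quotD h e)) (i : I), cokernel.π _ ≫ s.ι.app i = cokernel.π _ ≫ s.ι.app i₀ := fun s i => by
    obtain ⟨k, hik, hk⟩ := directed_of (· ≤ ·) i i₀
    rw [← hind s i k hik, hind s i₀ k hk]
  have hkill : ∀ s : Cocone (quotD h e), S.f ≫ cokernel.π _ ≫ s.ι.app i₀ = 0 := fun s => by
    rw [← cancel_epi e.hom, comp_zero]
    refine hc.hom_ext fun i => ?_
    rw [comp_zero, ← hall s i]
    exact ((cokernel.condition_assoc (c.ι.app i ≫ e.hom ≫ S.f) (s.ι.app i))).trans zero_comp |> fun q => by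
      simpa only [Category.assoc] using q
  refine ⟨{ desc := fun s => hS.exact.desc (cokernel.π _ ≫ s.ι.app i₀) (hkill s), fac := fun s i => ?_, uniq := fun s φ hφ => ?_ }⟩
  · refine coequalizer.hom_ext ?_
    show cokernel.π _ ≫ cokernel.desc _ S.g _ ≫ _ = cokernel.π _ ≫ _
    rw [cokernel.π_desc_assoc, hS.exact.g_desc]
    exact (hall s i).symm
  · rw [← cancel_epi S.g, hS.exact.g_desc, ← hφ i₀]
    exact (cokernel.π_desc_assoc _ _ _ _).symm

include hS hc in
/-- With coherent quotient, the extension is the pushout of a coherent one. -/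
theorem exists_coherent_stage (hD : ∀ i, IsFP (D.obj i)) [∀ i, Mono (c.ι.app i)] (h₃ : IsFP S.X₃)
    [CompactSpace (𝔛.X 0)] :
    ∃ (i : I) (M' : FSch.ModF 𝔛 h.1) (a : D.obj i ⟶ M') (b : M' ⟶ S.X₂), IsFP M' ∧
      a ≫ b = c.ι.app i ≫ e.hom ≫ S.f ∧ ∀ {Z : FSch.ModF 𝔛 h.1} (φ : S.X₂ ⟶ Z),
        S.f ≫ φ = 0 → b ≫ φ = 0 → φ = 0 := by
  obtain ⟨hcq⟩ := nonempty_isColimit_quotC h hS hc e
  haveI := h.2.2 0
  haveI : AlgebraicGeometry.IsNoetherian (𝔛.X 0) := {}
  have hfac := @RngSp.exists_factor _ (𝔛.Osh h.1) I _ _ _ (quotD h e) (quotC h e) S.X₃ h₃ hcq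
    (fun ι V hV => by
      obtain ⟨T, hT⟩ := isCompact_univ.elim_finite_subcover (fun i => (V i : Set (𝔛.X 0))) (fun i => (V i).2)
        (fun x _ => Set.mem_iUnion.2 (Opens.mem_iSup.1 (hV.ge (Set.mem_univ x))))
      refine ⟨T, inferInstance, fun i => V i, eq_top_iff.2 fun x _ => ?_, fun i => ⟨i.1, le_rfl⟩,
        fun _ _ => NoetherianSpace.isCompact _⟩
      obtain ⟨i, hi, hx⟩ := Set.mem_iUnion₂.1 (hT (Set.mem_univ x))
      exact Opens.mem_iSup.2 ⟨⟨i, hi⟩, hx⟩)
    (𝟙 S.X₃)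
  obtain ⟨i, s, hs⟩ := hfac
  have hs : s ≫ cokernel.desc (c.ι.app i ≫ e.hom ≫ S.f) S.g (by simp [S.zero]) = 𝟙 _ := hs
  have := hS.mono_f
  have := hS.epi_g
  let π : S.X₂ ⟶ cokernel (c.ι.app i ≫ e.hom ≫ S.f) := cokernel.π _
  let b : pullback π s ⟶ S.X₂ := pullback.fst π s
  let g' : pullback π s ⟶ S.X₃ := pullback.snd π s
  let a : D.obj i ⟶ pullback π s := pullback.lift (c.ι.app i ≫ e.hom ≫ S.f) 0 (by simp [π])
  have hab : a ≫ b = c.ι.app i ≫ e.hom ≫ S.f := pullback.lift_fst _ _ _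
  have hag : a ≫ g' = 0 := pullback.lift_snd _ _ _
  haveI : Mono a := mono_of_mono_fac hab
  have hker : IsLimit (KernelFork.ofι a hag) := by
    refine KernelFork.IsLimit.ofι' a hag fun {Z} k hk => ?_
    have h1 : (k ≫ b) ≫ π = 0 := by
      exact (Category.assoc _ _ _).trans ((congrArg (k ≫ ·) pullback.condition).trans
        ((Category.assoc _ _ _).symm.trans ((congrArg (· ≫ s) hk).trans zero_comp)))
    have hm : IsLimit (KernelFork.ofι (c.ι.app i ≫ e.hom ≫ S.f) (cokernel.condition _)) :=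
      Abelian.monoIsKernelOfCokernel (CokernelCofork.ofπ π (cokernel.condition _)) (cokernelIsCokernel _)
    obtain ⟨l, hl⟩ := KernelFork.IsLimit.lift' hm (k ≫ b) h1
    refine ⟨l, pullback.hom_ext (by rw [Category.assoc, hab]; exact hl) ?_⟩
    rw [Category.assoc, hag, comp_zero, hk]
  haveI : Epi g' := inferInstanceAs (Epi (pullback.snd π s))
  have hse : (ShortComplex.mk a g' hag).ShortExact :=
    { exact := ShortComplex.exact_of_f_is_kernel _ hker
      mono_f := mono_of_isLimit_fork hker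
      epi_g := inferInstance }
  refine ⟨i, pullback π s, a, b, isFP_extension h hse (hD i) h₃, hab, fun φ hf hb => ?_⟩
  obtain ⟨ψ, rfl⟩ : ∃ ψ, S.g ≫ ψ = φ := ⟨_, hS.exact.g_desc φ hf⟩
  have : g' ≫ ψ = 0 := by
    have hbg : b ≫ S.g = g' := by
      have := congrArg (· ≫ cokernel.desc (c.ι.app i ≫ e.hom ≫ S.f) S.g (by simp [S.zero])) (pullback.condition (f := π) (g := s))
      simpa [π, b, g', hs] using this
    rw [← hbg, Category.assoc]; exact hb
  rw [show ψ = 0 from (cancel_epi g').1 (this.trans comp_zero.symm), comp_zero]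

end colim

/-- Kernels of maps of ind-coherent modules are ind-coherent. -/
theorem ind_kernel {P Q : FSch.ModF 𝔛 h.1} (f : P ⟶ Q) (hP : ObjectProperty.ind.{u} (fpP (𝔛.Osh h.1)) P)
    (hQ : ObjectProperty.ind.{u} (fpP (𝔛.Osh h.1)) Q) : ObjectProperty.ind.{u} (fpP (𝔛.Osh h.1)) (kernel f) := by
  haveI : IsGrothendieckAbelian.{u} (FSch.ModF 𝔛 h.1) :=
    S0484.result (Opens.grothendieckTopology (𝔛.X 0).toPresheafedSpace.carrier) (ModSite.ringSh (𝔛.Osh h.1))
  have hQ' := isQC_ind h Q hQ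
  obtain ⟨J, hJ, hJf, pres, hD⟩ := hP
  haveI := IsFiltered.isConnected J
  let α : pres.diag ⟶ (Functor.const J).obj Q :=
    { app := fun j => pres.ι.app j ≫ f
      naturality := fun i j g => by simp [reassoc_of% pres.w g] }
  let ec : colimit ((Functor.const J).obj Q) ≅ Q :=
    (colimit.isColimit _).coconePointUniqueUpToIso (isColimitConstCocone J Q)
  let ep : colimit pres.diag ≅ P := (colimit.isColimit _).coconePointUniqueUpToIso pres.isColimit
  have w : colim.map α ≫ ec.hom = ep.hom ≫ f := colimit.hom_ext fun j => by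
    simp [α, ec, ep, isColimitConstCocone]
  let e : colimit (kernel α) ≅ kernel f :=
    PreservesKernel.iso colim α ≪≫ kernel.mapIso (colim.map α) f ep ec w
  haveI := isClosedUnderColimitsOfShape_ind (good h) (isQC_ind h) J
  refine ObjectProperty.prop_of_iso _ e (ObjectProperty.prop_colimit _ _ fun j => ObjectProperty.le_ind _ _ ?_)
  have e' : (kernel α).obj j ≅ kernel (α.app j) :=
    PreservesKernel.iso ((evaluation J (FSch.ModF 𝔛 h.1)).obj j) α
  exact ObjectProperty.prop_of_iso (fpP (𝔛.Osh h.1)) e'.symm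
    (isFP_of_mono (good h) (hD j) (isQC_kernel (good h) (isQC_of_isFP (hD j)) hQ' _) (kernel.ι (α.app j)))

/-- A copy of an index category, ordered by existence of arrows. -/
structure Stg (J : Type u) where
  /-- the index -/
  obj : J

/-- An ind-coherent module is the directed union of coherent submodules. -/
theorem exists_directed_union {K : FSch.ModF 𝔛 h.1} (hK : ObjectProperty.ind.{u} (fpP (𝔛.Osh h.1)) K) :
    ∃ (I : Type u) (_ : Preorder I) (_ : Nonempty I) (_ : IsDirectedOrder I) (D : I ⥤ FSch.ModF 𝔛 h.1)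
      (c : Cocone D) (_ : IsColimit c), Nonempty (c.pt ≅ K) ∧ (∀ i, IsFP (D.obj i)) ∧ ∀ i, Mono (c.ι.app i) := by
  obtain ⟨J, hJ, hJf, pres, hP, hm⟩ := S19542.result 𝔛 h K hK
  letI : Preorder (Stg J) :=
    { le := fun i j => Nonempty (i.obj ⟶ j.obj)
      le_refl := fun i => ⟨𝟙 i.obj⟩
      le_trans := fun i j k ⟨g⟩ ⟨g'⟩ => ⟨g ≫ g'⟩ }
  haveI : IsDirectedOrder (Stg J) := ⟨fun i j =>
    ⟨⟨IsFiltered.max i.obj j.obj⟩, ⟨IsFiltered.leftToMax _ _⟩, ⟨IsFiltered.rightToMax _ _⟩⟩⟩
  haveI : Nonempty (Stg J) := IsFiltered.nonempty.map Stg.mk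
  let D : Stg J ⥤ FSch.ModF 𝔛 h.1 :=
    { obj := fun i => pres.diag.obj i.obj
      map := fun {i j} g => pres.diag.map g.le.some
      map_id := fun i => by
        haveI := hm i.obj
        exact (cancel_mono (pres.ι.app i.obj)).1 ((pres.w _).trans (Category.id_comp _).symm)
      map_comp := fun {i j k} g g' => by
        haveI := hm k.obj
        exact (cancel_mono (pres.ι.app k.obj)).1 (by simp [pres.w]) }
  let c : Cocone D :=
    { pt := K
      ι :=
        { app := fun i => pres.ι.app i.obj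
          naturality := fun i j g => (pres.w g.le.some).trans (Category.comp_id _).symm } }
  let push : Cocone D → Cocone pres.diag := fun s => Cocone.mk s.pt
    { app := fun i => s.ι.app ⟨i⟩
      naturality := fun i j g => by
        haveI := hm j
        rw [show pres.diag.map g = D.map (homOfLE (show (⟨i⟩ : Stg J) ≤ ⟨j⟩ from ⟨g⟩)) from
          (cancel_mono (pres.ι.app j)).1 ((pres.w g).trans
            (pres.w (homOfLE (show (⟨i⟩ : Stg J) ≤ ⟨j⟩ from ⟨g⟩)).le.some).symm)]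
        exact (s.w _).trans (Category.comp_id _).symm }
  exact ⟨Stg J, inferInstance, inferInstance, inferInstance, D, c,
    { desc := fun s => pres.isColimit.desc (push s)
      fac := fun s i => pres.isColimit.fac (push s) i.obj
      uniq := fun s φ hφ => pres.isColimit.uniq (push s) φ fun i => hφ ⟨i⟩ },
    ⟨Iso.refl _⟩, fun i => hP i.obj, fun i => hm i.obj⟩

/-- Each coherent piece of the quotient lifts to a coherent piece of the extension. -/
theorem exists_lift_piece [CompactSpace (𝔛.X 0)] {S : ShortComplex (FSch.ModF 𝔛 h.1)} (hS : S.ShortExact)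
    (h₁ : ObjectProperty.ind.{u} (fpP (𝔛.Osh h.1)) S.X₁) {C : FSch.ModF 𝔛 h.1} (hC : IsFP C) (t : C ⟶ S.X₃) :
    ∃ (M' : FSch.ModF 𝔛 h.1) (u : M' ⟶ S.X₂), IsFP M' ∧
      ∀ {Z : FSch.ModF 𝔛 h.1} (ψ : S.X₃ ⟶ Z), u ≫ S.g ≫ ψ = 0 → t ≫ ψ = 0 := by
  haveI := hS.mono_f
  haveI := hS.epi_g
  let f' : S.X₁ ⟶ pullback S.g t := pullback.lift S.f 0 (by simp [S.zero])
  have hfg : f' ≫ pullback.snd _ _ = 0 := pullback.lift_snd _ _ _
  have hff : f' ≫ pullback.fst _ _ = S.f := pullback.lift_fst _ _ _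
  haveI : Mono f' := mono_of_mono_fac hff
  have hker : IsLimit (KernelFork.ofι f' hfg) := KernelFork.IsLimit.ofι' f' hfg fun {Z} k hk => by
    have h1 : (k ≫ pullback.fst _ _) ≫ S.g = 0 :=
      (Category.assoc _ _ _).trans ((congrArg (k ≫ ·) pullback.condition).trans
        ((Category.assoc _ _ _).symm.trans ((congrArg (· ≫ t) hk).trans zero_comp)))
    obtain ⟨l, hl⟩ := KernelFork.IsLimit.lift' hS.fIsKernel _ h1
    exact ⟨l, pullback.hom_ext (by rw [Category.assoc, hff]; exact hl) (by rw [Category.assoc, hfg, comp_zero, hk])⟩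
  have hse : (ShortComplex.mk f' (pullback.snd _ _) hfg).ShortExact :=
    { exact := ShortComplex.exact_of_f_is_kernel _ hker
      mono_f := mono_of_isLimit_fork hker
      epi_g := inferInstanceAs (Epi (pullback.snd S.g t)) }
  obtain ⟨I, _, _, _, D, c, hc, ⟨e⟩, hD, hm⟩ := exists_directed_union h h₁
  obtain ⟨i, M', x, v, hM', -, hv⟩ := exists_coherent_stage h hse hc e hD hC
  refine ⟨M', v ≫ pullback.fst _ _, hM', fun ψ hψ => ?_⟩
  have := hv (pullback.fst _ _ ≫ S.g ≫ ψ)
    (by rw [← Category.assoc]; exact (congrArg (· ≫ S.g ≫ ψ) hff).trans (by rw [← Category.assoc, S.zero, zero_comp]))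
    ((Category.assoc _ _ _).symm.trans hψ)
  rw [pullback.condition_assoc] at this
  exact (cancel_epi (pullback.snd S.g t)).1 (this.trans comp_zero.symm)

/-- Cokernels stay in a class closed under colimits. -/
theorem prop_of_epi {C : Type (u + 1)} [Category.{u} C] [Abelian C] (P : ObjectProperty C) [P.IsClosedUnderIsomorphisms]
    [hP : ∀ (J : Type u) [SmallCategory J], P.IsClosedUnderColimitsOfShape J] [HasColimitsOfSize.{u, u} C]
    {A B : C} (φ : A ⟶ B) [Epi φ] (hA : P A) (hk : P (kernel φ)) : P B := by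
  let F := parallelPair (kernel.ι φ) 0
  have hcl : P (colimit ((AsSmall.down : AsSmall.{u} WalkingParallelPair ⥤ _) ⋙ F)) :=
    ObjectProperty.prop_colimit _ _ fun p => by
      obtain ⟨_ | _⟩ := p
      · exact hk
      · exact hA
  refine P.prop_of_iso ?_ hcl
  exact (Functor.Final.colimitIso (AsSmall.equiv : WalkingParallelPair ≌ AsSmall.{u} WalkingParallelPair).inverse F) ≪≫
    (colimit.isColimit F).coconePointUniqueUpToIso
      (Abelian.epiIsCokernelOfKernel (KernelFork.ofι (kernel.ι φ) (kernel.condition φ)) (kernelIsKernel φ))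

/-- Binary sums stay in a class closed under colimits. -/
theorem prop_biprod_of_colimits {C : Type (u + 1)} [Category.{u} C] [Abelian C] (P : ObjectProperty C) [P.IsClosedUnderIsomorphisms]
    [hP : ∀ (J : Type u) [SmallCategory J], P.IsClosedUnderColimitsOfShape J] [HasColimitsOfSize.{u, u} C]
    {A B : C} (hA : P A) (hB : P B) : P (A ⊞ B) := by
  let Q : ULift.{u} Bool → C := fun p => bif p.down then A else B
  have hz : P (∐ Q) := ObjectProperty.prop_colimit _ _ fun p => by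
    obtain ⟨⟨_ | _⟩⟩ := p
    · exact hB
    · exact hA
  exact P.prop_of_iso
    { hom := Sigma.desc fun p => match p with
        | ⟨true⟩ => (biprod.inl : Q ⟨true⟩ ⟶ A ⊞ B)
        | ⟨false⟩ => (biprod.inr : Q ⟨false⟩ ⟶ A ⊞ B)
      inv := biprod.desc (Sigma.ι Q ⟨true⟩) (Sigma.ι Q ⟨false⟩)
      hom_inv_id := Sigma.hom_ext _ _ fun p => by
        rcases p with ⟨_ | _⟩ <;> simp only [Sigma.ι_desc_assoc, Category.comp_id]
        · exact biprod.inr_desc _ _
        · exact biprod.inl_desc _ _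
      inv_hom_id := biprod.hom_ext' _ _ (by simp; rfl) (by simp; rfl) } hz

theorem nonempty_kernel_iso {C : Type*} [Category C] [Abelian C] {A M B Q : C} (f : A ⟶ M) (g : M ⟶ B) [Mono f]
    (φ : Q ⟶ M) (l : kernel (φ ≫ g) ⟶ A) (hl : l ≫ f = kernel.ι (φ ≫ g) ≫ φ) :
    Nonempty (kernel l ≅ kernel φ) := by
  exact ⟨
    { hom := kernel.lift φ (kernel.ι l ≫ kernel.ι _) (by rw [Category.assoc, ← hl, kernel.condition_assoc, zero_comp])
      inv := kernel.lift l (kernel.lift _ (kernel.ι φ) (by rw [kernel.condition_assoc, zero_comp]))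
        ((cancel_mono f).1 (by rw [Category.assoc, hl, kernel.lift_ι_assoc, kernel.condition, zero_comp]))
      hom_inv_id := equalizer.hom_ext (equalizer.hom_ext (by simp))
      inv_hom_id := equalizer.hom_ext (by simp) }⟩

/-- The middle term is ind-coherent once it is a quotient of an ind-coherent module. -/
theorem ind_of_epi_of_ind {S : ShortComplex (FSch.ModF 𝔛 h.1)} (hS : S.ShortExact)
    (h₁ : ObjectProperty.ind.{u} (fpP (𝔛.Osh h.1)) S.X₁) (h₃ : ObjectProperty.ind.{u} (fpP (𝔛.Osh h.1)) S.X₃)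
    {Q : FSch.ModF 𝔛 h.1} (hQ : ObjectProperty.ind.{u} (fpP (𝔛.Osh h.1)) Q) (φ : Q ⟶ S.X₂) [Epi φ] :
    ObjectProperty.ind.{u} (fpP (𝔛.Osh h.1)) S.X₂ := by
  haveI := hS.mono_f
  haveI : ∀ (J : Type u) [SmallCategory J],
      (ObjectProperty.ind.{u} (fpP (𝔛.Osh h.1))).IsClosedUnderColimitsOfShape J := fun J _ =>
    isClosedUnderColimitsOfShape_ind (good h) (isQC_ind h) J
  have hL := ind_kernel h (φ ≫ S.g) hQ h₃
  obtain ⟨l, hl⟩ := KernelFork.IsLimit.lift' hS.fIsKernel (kernel.ι (φ ≫ S.g) ≫ φ)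
    (by rw [Category.assoc, kernel.condition])
  have hl : l ≫ S.f = kernel.ι (φ ≫ S.g) ≫ φ := hl
  have hN := ind_kernel h l hL h₁
  obtain ⟨e⟩ := nonempty_kernel_iso S.f S.g φ l hl
  exact prop_of_epi _ φ hQ (ObjectProperty.prop_of_iso _ e hN)

/-- Extensions of ind-coherent modules on a Noetherian formal scheme are ind-coherent. -/
theorem ind_extension [CompactSpace (𝔛.X 0)] {S : ShortComplex (FSch.ModF 𝔛 h.1)} (hS : S.ShortExact)
    (h₁ : ObjectProperty.ind.{u} (fpP (𝔛.Osh h.1)) S.X₁) (h₃ : ObjectProperty.ind.{u} (fpP (𝔛.Osh h.1)) S.X₃) :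
    ObjectProperty.ind.{u} (fpP (𝔛.Osh h.1)) S.X₂ := by
  haveI : IsGrothendieckAbelian.{u} (FSch.ModF 𝔛 h.1) :=
    S0484.result (Opens.grothendieckTopology (𝔛.X 0).toPresheafedSpace.carrier) (ModSite.ringSh (𝔛.Osh h.1))
  haveI : ∀ (J : Type u) [SmallCategory J],
      (ObjectProperty.ind.{u} (fpP (𝔛.Osh h.1))).IsClosedUnderColimitsOfShape J := fun J _ =>
    isClosedUnderColimitsOfShape_ind (good h) (isQC_ind h) J
  obtain ⟨JC, hJC, hJCf, presC, hC⟩ := h₃
  choose M' v hM' hv using fun a => exists_lift_piece h hS h₁ (hC a) (presC.ι.app a)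
  have hcop : ObjectProperty.ind.{u} (fpP (𝔛.Osh h.1)) (∐ M') :=
    ObjectProperty.prop_colimit _ _ fun a => ObjectProperty.le_ind _ _ (hM' a.as)
  let φ : S.X₁ ⊞ ∐ M' ⟶ S.X₂ := biprod.desc S.f (Sigma.desc v)
  haveI : Epi φ := Preadditive.epi_of_cancel_zero _ fun {Z} ψ hψ => by
    have e1 : S.f ≫ ψ = 0 := by
      simpa [φ] using congrArg (biprod.inl ≫ ·) hψ
    have e2 : ∀ a, v a ≫ ψ = 0 := fun a => by
      simpa [φ] using congrArg (Sigma.ι M' a ≫ biprod.inr ≫ ·) hψ
    haveI := hS.epi_g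
    obtain ⟨ψ', rfl⟩ : ∃ ψ', S.g ≫ ψ' = ψ := ⟨_, hS.exact.g_desc ψ e1⟩
    rw [show ψ' = 0 from presC.isColimit.hom_ext fun a => (hv a ψ' (e2 a)).trans comp_zero.symm, comp_zero]
  exact ind_of_epi_of_ind h hS h₁ ⟨JC, hJC, hJCf, presC, hC⟩ (prop_biprod_of_colimits _ h₁ hcop) φ

/-- Cokernels stay in a class closed under colimits. -/
theorem prop_cokernel_of_colimits {C : Type (u + 1)} [Category.{u} C] [Abelian C] (P : ObjectProperty C) [P.IsClosedUnderIsomorphisms]
    [hP : ∀ (J : Type u) [SmallCategory J], P.IsClosedUnderColimitsOfShape J] [HasColimitsOfSize.{u, u} C]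
    {A B : C} (φ : A ⟶ B) (hA : P A) (hB : P B) : P (cokernel φ) := by
  let F := parallelPair φ 0
  have hcl : P (colimit ((AsSmall.down : AsSmall.{u} WalkingParallelPair ⥤ _) ⋙ F)) :=
    ObjectProperty.prop_colimit _ _ fun p => by
      obtain ⟨_ | _⟩ := p
      · exact hA
      · exact hB
  exact P.prop_of_iso (Functor.Final.colimitIso (AsSmall.equiv : WalkingParallelPair ≌ AsSmall.{u} WalkingParallelPair).inverse F) hcl

/-- The middle of a five term exact sequence is ind-coherent. -/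
theorem ind_of_exact_five [CompactSpace (𝔛.X 0)] (S : ComposableArrows (FSch.ModF 𝔛 h.1) 4) (hS : S.Exact)
    (h₀ : ObjectProperty.ind.{u} (fpP (𝔛.Osh h.1)) (S.obj 0)) (h₁ : ObjectProperty.ind.{u} (fpP (𝔛.Osh h.1)) (S.obj 1))
    (h₃ : ObjectProperty.ind.{u} (fpP (𝔛.Osh h.1)) (S.obj 3)) (h₄ : ObjectProperty.ind.{u} (fpP (𝔛.Osh h.1)) (S.obj 4)) :
    ObjectProperty.ind.{u} (fpP (𝔛.Osh h.1)) (S.obj 2) := by
  haveI : IsGrothendieckAbelian.{u} (FSch.ModF 𝔛 h.1) :=
    S0484.result (Opens.grothendieckTopology (𝔛.X 0).toPresheafedSpace.carrier) (ModSite.ringSh (𝔛.Osh h.1))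
  haveI : ∀ (J : Type u) [SmallCategory J],
      (ObjectProperty.ind.{u} (fpP (𝔛.Osh h.1))).IsClosedUnderColimitsOfShape J := fun J _ =>
    isClosedUnderColimitsOfShape_ind (good h) (isQC_ind h) J
  have e₁ := hS.exact 0
  have e₂ := hS.exact 1
  have e₃ := hS.exact 2
  let a := cokernel.desc (S.map' 0 1) (S.map' 1 2) (hS.toIsComplex.zero 0)
  let b := kernel.lift (S.map' 3 4) (S.map' 2 3) (hS.toIsComplex.zero 2)
  have hab : a ≫ b = 0 := by
    rw [← cancel_epi (cokernel.π (S.map' 0 1)), ← cancel_mono (kernel.ι (S.map' 3 4))]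
    simpa [a, b] using hS.toIsComplex.zero 1
  haveI : Mono a := e₁.mono_cokernelDesc
  haveI : Epi b := e₃.epi_kernelLift
  have hT : (ShortComplex.mk a b hab).ShortExact :=
    { exact := by
        let φ : S.sc hS.toIsComplex 1 ⟶ ShortComplex.mk a (b ≫ kernel.ι (S.map' 3 4)) (by rw [← Category.assoc, hab, zero_comp]) :=
          { τ₁ := cokernel.π (S.map' 0 1)
            τ₂ := 𝟙 _
            τ₃ := 𝟙 _
            comm₁₂ := (cokernel.π_desc _ _ _).trans (Category.comp_id _).symm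
            comm₂₃ := (Category.id_comp _).trans ((kernel.lift_ι _ _ _).trans (Category.comp_id _).symm) }
        have h1 := (ShortComplex.exact_iff_of_epi_of_isIso_of_mono φ).1 e₂
        let ψ : ShortComplex.mk a b hab ⟶ ShortComplex.mk a (b ≫ kernel.ι (S.map' 3 4)) (by rw [← Category.assoc, hab, zero_comp]) :=
          { τ₁ := 𝟙 _, τ₂ := 𝟙 _, τ₃ := kernel.ι _
            comm₁₂ := (Category.id_comp _).trans (Category.comp_id _).symm
            comm₂₃ := Category.id_comp _ }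
        exact (ShortComplex.exact_iff_of_epi_of_isIso_of_mono ψ).2 h1 }
  exact ind_extension h hT (prop_cokernel_of_colimits _ _ h₀ h₁) (ind_kernel h _ h₃ h₄)

end Groth.Agent.H9FCoh
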