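import Groth.Agent.HDULib.SmallDerived
import Groth.Agent.S6523
import Mathlib.Algebra.Homology.DerivedCategory.ExactFunctor

/-!
# Brown representability for standard derived categories of Grothendieck categories
-/

set_option autoImplicit false
set_option backward.isDefEq.respectTransparency false
set_option linter.style.haveILetI false

universe w₁ w₂ v u

open CategoryTheory CategoryTheory.Limits

noncomputable section

namespace Groth.Agent.H9FCoh

variable {A : Type u} [Category.{v} A] [Abelian A]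

/-- The comparison between two models of the derived category. -/
def changeUniv (h₁ : HasDerivedCategory.{w₁} A) (h₂ : HasDerivedCategory.{w₂} A) :
    @DerivedCategory A _ _ h₁ ⥤ @DerivedCategory A _ _ h₂ :=
  @Functor.mapDerivedCategory A _ _ h₁ A _ _ h₂ (𝟭 A) _ _ _

theorem isEquivalence_changeUniv (h₁ : HasDerivedCategory.{w₁} A) (h₂ : HasDerivedCategory.{w₂} A) :
    (changeUniv h₁ h₂).IsEquivalence := by
  let W := HomologicalComplex.quasiIso A (ComplexShape.up ℤ)
  let Q₁ := @DerivedCategory.Q A _ _ h₁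
  let Q₂ := @DerivedCategory.Q A _ _ h₂
  let e : Q₁ ⋙ changeUniv h₁ h₂ ≅ Q₂ :=
    @Functor.mapDerivedCategoryFactors A _ _ h₁ A _ _ h₂ (𝟭 A) _ _ _ ≪≫
      Functor.isoWhiskerRight (NatIso.ofComponents (fun K => HomologicalComplex.Hom.isoOfComponents
        (fun i => Iso.refl _) (by simp)) (by intros; ext; simp)) Q₂ ≪≫ Functor.leftUnitor _
  exact Functor.isEquivalence_of_iso (Localization.isoUniqFunctor Q₁ Q₂ W (changeUniv h₁ h₂) e).symm

end Groth.Agent.H9FCoh

namespace Groth.Agent.H9FCoh

universe u₁ w₃ w₄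

/-- Brown representability transported along exact functors. -/
theorem isLeftAdjoint_sandwich {A₁ A₂ B₁ B₂ : Type (u₁ + 1)} [Category.{u₁} A₁] [Abelian A₁]
    [IsGrothendieckAbelian.{u₁} A₁] [Category.{u₁} A₂] [Abelian A₂] [Category.{u₁} B₁] [Abelian B₁]
    [Category.{u₁} B₂] [Abelian B₂] [HasDerivedCategory.{u₁} A₁] [HasDerivedCategory.{w₃} A₂]
    [HasDerivedCategory.{w₄} B₁] [HasDerivedCategory.{u₁} B₂]
    (E : A₁ ⥤ A₂) [E.Additive] [PreservesFiniteLimits E] [PreservesFiniteColimits E]
    (E' : B₁ ⥤ B₂) [E'.Additive] [PreservesFiniteLimits E'] [PreservesFiniteColimits E']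
    (F : DerivedCategory A₂ ⥤ DerivedCategory B₁) [F.CommShift ℤ] [F.IsTriangulated]
    (h : ∀ ι : Type u₁, PreservesColimitsOfShape (Discrete ι)
      (E.mapDerivedCategory ⋙ F ⋙ E'.mapDerivedCategory)) :
    (E.mapDerivedCategory ⋙ F ⋙ E'.mapDerivedCategory).IsLeftAdjoint :=
  haveI := h
  S6523.result (E.mapDerivedCategory ⋙ F ⋙ E'.mapDerivedCategory)

attribute [local instance] HasDerivedCategory.standard

/-- A triangulated functor between standard derived categories of Grothendieck categories commuting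
with coproducts has a right adjoint. -/
theorem isLeftAdjoint_of_std {A : Type (u₁ + 1)} [Category.{u₁} A] [Abelian A] [IsGrothendieckAbelian.{u₁} A]
    {B : Type (u₁ + 1)} [Category.{u₁} B] [Abelian B] [IsGrothendieckAbelian.{u₁} B]
    (F : DerivedCategory A ⥤ DerivedCategory B) [F.CommShift ℤ] [F.IsTriangulated]
    [hF : ∀ ι : Type u₁, PreservesColimitsOfShape (Discrete ι) F] : F.IsLeftAdjoint := by
  haveI := isEquivalence_changeUniv (HDULib.hasDerivedCategory.{u₁} A) (HasDerivedCategory.standard A)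
  haveI := isEquivalence_changeUniv (HasDerivedCategory.standard B) (HDULib.hasDerivedCategory.{u₁} B)
  let E := changeUniv (HDULib.hasDerivedCategory.{u₁} A) (HasDerivedCategory.standard A)
  let E' := changeUniv (HasDerivedCategory.standard B) (HDULib.hasDerivedCategory.{u₁} B)
  haveI : E.IsEquivalence := isEquivalence_changeUniv _ _
  haveI : E'.IsEquivalence := isEquivalence_changeUniv _ _
  haveI : (E ⋙ F ⋙ E').IsLeftAdjoint :=
    @isLeftAdjoint_sandwich A A B B _ _ _ _ _ _ _ _ _ (HDULib.hasDerivedCategory.{u₁} A)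
      (HasDerivedCategory.standard A) (HasDerivedCategory.standard B) (HDULib.hasDerivedCategory.{u₁} B)
      (𝟭 A) _ _ _ (𝟭 B) _ _ _ F _ _
      fun ι => inferInstanceAs (PreservesColimitsOfShape (Discrete ι) (E ⋙ F ⋙ E'))
  let e : E.asEquivalence.inverse ⋙ (E ⋙ F ⋙ E') ⋙ E'.asEquivalence.inverse ≅ F :=
    Functor.isoWhiskerLeft _ (Functor.associator _ _ _ ≪≫ Functor.isoWhiskerLeft E (Functor.associator _ _ _ ≪≫
      Functor.isoWhiskerLeft F E'.asEquivalence.unitIso.symm ≪≫ Functor.rightUnitor F)) ≪≫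
    (Functor.associator _ _ _).symm ≪≫ Functor.isoWhiskerRight E.asEquivalence.counitIso F ≪≫ Functor.leftUnitor F
  exact Functor.isLeftAdjoint_of_iso e

end Groth.Agent.H9FCoh
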