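import Groth.Agent.H9FCoh.Coherator
import Mathlib.CategoryTheory.ObjectProperty.FullSubcategory
import Mathlib.CategoryTheory.Abelian.GrothendieckCategory.Basic
import Mathlib.CategoryTheory.Abelian.Subcategory
import Mathlib.CategoryTheory.Generator.Basic

/-!
# Ind-coherent modules form a Grothendieck category
-/

set_option autoImplicit false
set_option backward.isDefEq.respectTransparency false
set_option backward.isDefEq.respectTransparency.types false
set_option linter.style.haveILetI false

universe u

open CategoryTheory CategoryTheory.Limits Opposite TopologicalSpace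

noncomputable section

namespace Groth.Agent.H9FCoh

variable {X : TopCat.{u}} {O : TopCat.Sheaf CommRingCat.{u} X}

/-- The ind-finitely presented modules form a Grothendieck category. -/
theorem isGrothendieckAbelian_ind (G : Good O)
    (hqc : ∀ A : ModSite.Mod O, ObjectProperty.ind.{u} (fpP O) A → IsQC A)
    [(ObjectProperty.ind.{u} (fpP O)).ContainsZero] [(ObjectProperty.ind.{u} (fpP O)).IsClosedUnderKernels]
    [(ObjectProperty.ind.{u} (fpP O)).IsClosedUnderCokernels] [(ObjectProperty.ind.{u} (fpP O)).IsClosedUnderFiniteProducts]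
    [PreservesFiniteLimits (ObjectProperty.ind.{u} (fpP O) : ObjectProperty (ModSite.Mod O)).ι] :
    IsGrothendieckAbelian.{u} (ObjectProperty.ind.{u} (fpP O) : ObjectProperty (ModSite.Mod O)).FullSubcategory := by
  haveI : IsGrothendieckAbelian.{u} (ModSite.Mod O) :=
    S0484.result (Opens.grothendieckTopology X) (ModSite.ringSh O)
  let P : ObjectProperty (ModSite.Mod O) := ObjectProperty.ind.{u} (fpP O)
  haveI hcl : ∀ (J : Type u) [SmallCategory J], P.IsClosedUnderColimitsOfShape J := fun J _ =>
    isClosedUnderColimitsOfShape_ind G hqc J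
  haveI hcol : ∀ (J : Type u) [SmallCategory J], HasColimitsOfShape J P.FullSubcategory := fun J _ => inferInstance
  haveI : P.ι.IsLeftAdjoint := isLeftAdjoint_ι_ind G hqc
  haveI : HasColimitsOfSize.{u, u} P.FullSubcategory := ⟨fun J => inferInstance⟩
  haveI : HasFilteredColimitsOfSize.{u, u} P.FullSubcategory := ⟨fun _ _ _ => inferInstance⟩
  haveI : ReflectsFiniteLimits P.ι := ⟨fun J _ _ => inferInstance⟩
  haveI : AB5OfSize.{u, u} P.FullSubcategory :=
    ⟨fun J _ _ => HasExactColimitsOfShape.domain_of_functor J P.ι⟩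
  haveI : ObjectProperty.EssentiallySmall.{u} (fpP O) :=
    haveI := essentiallySmall_isFT (O := O)
    ObjectProperty.EssentiallySmall.of_le (Q := fun M : ModSite.Mod O => IsFT M) fun P hP => isFT_of_isFP hP
  obtain ⟨Q, hQ, hQle, hle⟩ := ObjectProperty.EssentiallySmall.exists_small_le.{u} (fpP O)
  let obj : Shrink.{u} (Subtype Q) → P.FullSubcategory := fun a =>
    ⟨((equivShrink (Subtype Q)).symm a).1, ObjectProperty.le_ind _ _ (hQle _ ((equivShrink (Subtype Q)).symm a).2)⟩
  refine { hasSeparator := ⟨∐ obj, (isSeparator_sigma obj).2 fun A B f g h => ?_⟩ }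
  obtain ⟨J, hJ, hJf, pres, hP⟩ := A.property
  refine ObjectProperty.hom_ext _ (pres.isColimit.hom_ext fun j => ?_)
  obtain ⟨M, hM, ⟨e⟩⟩ := hle _ (hP j)
  have := congrArg (fun q => q.hom) (h (obj (equivShrink (Subtype Q) ⟨M, hM⟩)) (ObjectProperty.ofObj_apply obj _)
    (ObjectProperty.homMk ((eqToHom (by simp [obj]) : (obj (equivShrink (Subtype Q) ⟨M, hM⟩)).obj ⟶ M) ≫ e.inv ≫ pres.ι.app j)))
  simp only [ObjectProperty.FullSubcategory.comp_hom, ObjectProperty.homMk_hom, Category.assoc] at this
  exact (cancel_epi e.inv).1 ((cancel_epi (eqToHom _)).1 this)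

end Groth.Agent.H9FCoh
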