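import Groth.Agent.H9FCoh.RCoprod
import Groth.Agent.H9FCoh.IndGroth
import Groth.Agent.H9FCoh.DerUniv
import Groth.Agent.H9Misc.AdjDescend
import Groth.Agent.SiteCmpLib.Secs.DerivedProps

/-!
# The derived direct image on ind-coherent modules has a right adjoint
-/

set_option autoImplicit false
set_option backward.isDefEq.respectTransparency false
set_option backward.isDefEq.respectTransparency.types false
set_option linter.style.haveILetI false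

universe u

open CategoryTheory CategoryTheory.Limits AlgebraicGeometry TopologicalSpace Opposite DerivedCategory

attribute [local instance] HasDerivedCategory.standard

noncomputable section

namespace Groth.Agent.H9FCoh

/-- Cohomology of the image of a complex over a full subcategory lies in the subcategory. -/
theorem prop_homology_mapDerivedCategory {A : Type (u + 1)} [Category.{u} A] [Abelian A] (P : ObjectProperty A)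
    [P.IsClosedUnderIsomorphisms] {B : Type (u + 1)} [Category.{u} B] [Abelian B] (F : B ⥤ A) [F.Additive]
    [PreservesFiniteLimits F] [PreservesFiniteColimits F] (hF : ∀ M, P (F.obj M))
    (X : DerivedCategory B) (i : ℤ) : P ((homologyFunctor A i).obj (F.mapDerivedCategory.obj X)) := by
  haveI := Localization.essSurj (Q (C := B)) (HomologicalComplex.quasiIso B (ComplexShape.up ℤ))
  let K := Q.objPreimage X
  refine P.prop_of_iso ((homologyFunctor A i).mapIso (F.mapDerivedCategory.mapIso (Q.objObjPreimageIso X))) ?_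
  refine P.prop_of_iso ((homologyFunctor A i).mapIso (F.mapDerivedCategoryFactors.app K)).symm ?_
  refine P.prop_of_iso ((homologyFunctorFactors A i).app _).symm ?_
  exact P.prop_of_iso ((K.sc i).mapHomologyIso F).symm (hF _)

variable {𝔛 𝔜 : FSch.Sys.{u}} (h𝔛 : 𝔛.IsLocNoethFormal) (h𝔜 : 𝔜.IsFormal) (g : 𝔛 ⟶ 𝔜)
  [CompactSpace (𝔛.X 0)] [CompactSpace (𝔜.X 0)]
  [SiteCmp.HasRpushD (FSch.homMor g h𝔛.1 h𝔜)]

theorem isLeftAdjoint_ι_RpushD [(ObjectProperty.ind.{u} fun 𝔊 : FSch.ModF 𝔛 h𝔛.1 => FSch.IsCohF 𝔛 h𝔛.1 𝔊).ContainsZero] [(ObjectProperty.ind.{u} fun 𝔊 : FSch.ModF 𝔛 h𝔛.1 => FSch.IsCohF 𝔛 h𝔛.1 𝔊).IsClosedUnderKernels]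
    [(ObjectProperty.ind.{u} fun 𝔊 : FSch.ModF 𝔛 h𝔛.1 => FSch.IsCohF 𝔛 h𝔛.1 𝔊).IsClosedUnderCokernels] [(ObjectProperty.ind.{u} fun 𝔊 : FSch.ModF 𝔛 h𝔛.1 => FSch.IsCohF 𝔛 h𝔛.1 𝔊).IsClosedUnderFiniteProducts]
    [PreservesFiniteLimits (ObjectProperty.ind.{u} fun 𝔊 : FSch.ModF 𝔛 h𝔛.1 => FSch.IsCohF 𝔛 h𝔛.1 𝔊).ι] [PreservesFiniteColimits (ObjectProperty.ind.{u} fun 𝔊 : FSch.ModF 𝔛 h𝔛.1 => FSch.IsCohF 𝔛 h𝔛.1 𝔊).ι]
    [(ObjectProperty.ind.{u} fun 𝔊 : FSch.ModF 𝔛 h𝔛.1 => FSch.IsCohF 𝔛 h𝔛.1 𝔊).ι.mapDerivedCategory.IsLeftAdjoint] :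
    ((ObjectProperty.ind.{u} fun 𝔊 : FSch.ModF 𝔛 h𝔛.1 => FSch.IsCohF 𝔛 h𝔛.1 𝔊).ι.mapDerivedCategory ⋙ SiteCmp.RpushD (FSch.homMor g h𝔛.1 h𝔜)).IsLeftAdjoint := by
  haveI : IsGrothendieckAbelian.{u} (FSch.ModF 𝔛 h𝔛.1) :=
    S0484.result (Opens.grothendieckTopology (𝔛.X 0).toPresheafedSpace.carrier) (ModSite.ringSh (𝔛.Osh h𝔛.1))
  haveI : IsGrothendieckAbelian.{u} (FSch.ModF 𝔜 h𝔜) :=
    S0484.result (Opens.grothendieckTopology (𝔜.X 0).toPresheafedSpace.carrier) (ModSite.ringSh (𝔜.Osh h𝔜))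
  haveI : IsGrothendieckAbelian.{u} (ObjectProperty.ind.{u} fun 𝔊 : FSch.ModF 𝔛 h𝔛.1 => FSch.IsCohF 𝔛 h𝔛.1 𝔊).FullSubcategory := isGrothendieckAbelian_ind (good h𝔛) (isQC_ind h𝔛)
  let R := SiteCmp.RpushD (FSch.homMor g h𝔛.1 h𝔜)
  obtain ⟨R', hR', hR'', ⟨e⟩⟩ := SiteCmpLib.Secs.exists_commShift_RG (FSch.homMor g h𝔛.1 h𝔜).push
  haveI hpres : ∀ ι : Type u, PreservesColimitsOfShape (Discrete ι) ((ObjectProperty.ind.{u} fun 𝔊 : FSch.ModF 𝔛 h𝔛.1 => FSch.IsCohF 𝔛 h𝔛.1 𝔊).ι.mapDerivedCategory ⋙ R') := fun ι => by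
    suffices h : ∀ C : ι → DerivedCategory (ObjectProperty.ind.{u} fun 𝔊 : FSch.ModF 𝔛 h𝔛.1 => FSch.IsCohF 𝔛 h𝔛.1 𝔊).FullSubcategory,
        PreservesColimit (Discrete.functor C) ((ObjectProperty.ind.{u} fun 𝔊 : FSch.ModF 𝔛 h𝔛.1 => FSch.IsCohF 𝔛 h𝔛.1 𝔊).ι.mapDerivedCategory ⋙ R') from
      ⟨fun {K} => haveI := h (fun j => K.obj ⟨j⟩); preservesColimit_of_iso_diagram _ Discrete.natIsoFunctor.symm⟩
    intro C
    haveI := preservesColimit_RpushD_discrete h𝔛 h𝔜 g ι (fun a => (ObjectProperty.ind.{u} fun 𝔊 : FSch.ModF 𝔛 h𝔛.1 => FSch.IsCohF 𝔛 h𝔛.1 𝔊).ι.mapDerivedCategory.obj (C a))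
      fun a i => prop_homology_mapDerivedCategory (ObjectProperty.ind.{u} fun 𝔊 : FSch.ModF 𝔛 h𝔛.1 => FSch.IsCohF 𝔛 h𝔛.1 𝔊) (ObjectProperty.ind.{u} fun 𝔊 : FSch.ModF 𝔛 h𝔛.1 => FSch.IsCohF 𝔛 h𝔛.1 𝔊).ι (fun M => M.property) (C a) i
    haveI : PreservesColimit (Discrete.functor fun a => (ObjectProperty.ind.{u} fun 𝔊 : FSch.ModF 𝔛 h𝔛.1 => FSch.IsCohF 𝔛 h𝔛.1 𝔊).ι.mapDerivedCategory.obj (C a)) R' :=
      preservesColimit_of_natIso _ e.symm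
    haveI : PreservesColimit (Discrete.functor C ⋙ (ObjectProperty.ind.{u} fun 𝔊 : FSch.ModF 𝔛 h𝔛.1 => FSch.IsCohF 𝔛 h𝔛.1 𝔊).ι.mapDerivedCategory) R' :=
      preservesColimit_of_iso_diagram _ (Discrete.natIso fun _ => Iso.refl _ :
        Discrete.functor (fun a => (ObjectProperty.ind.{u} fun 𝔊 : FSch.ModF 𝔛 h𝔛.1 => FSch.IsCohF 𝔛 h𝔛.1 𝔊).ι.mapDerivedCategory.obj (C a)) ≅ Discrete.functor C ⋙ (ObjectProperty.ind.{u} fun 𝔊 : FSch.ModF 𝔛 h𝔛.1 => FSch.IsCohF 𝔛 h𝔛.1 𝔊).ι.mapDerivedCategory)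
    infer_instance
  haveI := isLeftAdjoint_of_std ((ObjectProperty.ind.{u} fun 𝔊 : FSch.ModF 𝔛 h𝔛.1 => FSch.IsCohF 𝔛 h𝔛.1 𝔊).ι.mapDerivedCategory ⋙ R')
  exact Functor.isLeftAdjoint_of_iso (Functor.isoWhiskerLeft (ObjectProperty.ind.{u} fun 𝔊 : FSch.ModF 𝔛 h𝔛.1 => FSch.IsCohF 𝔛 h𝔛.1 𝔊).ι.mapDerivedCategory e)

end Groth.Agent.H9FCoh
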