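import Groth.Agent.H9FCoh.Lin

/-!
# Preimages of relation modules under flat ring maps
-/

universe u v w

open Finsupp

noncomputable section

namespace Groth.Agent.H9FCoh

variable {A B : Type u} [CommRing A] [CommRing B] (φ : A →+* B) {ι : Type v} {κ : Type w}

/-- The base change of a linear map of vectors given by its columns. -/
def colMap (col : ι → κ →₀ A) : (ι →₀ B) →ₗ[B] (κ →₀ B) :=
  Finsupp.linearCombination B fun i => pv φ (col i)

theorem colMap_pv (col : ι → κ →₀ A) (v : ι →₀ A) :
    colMap φ col (pv φ v) = pv φ (Finsupp.linearCombination A col v) := by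
  rw [colMap, Finsupp.linearCombination_apply, Finsupp.linearCombination_apply, Finsupp.sum, Finsupp.sum,
    pv_sum]
  simp only [pv_smul, pv_apply]
  refine Finset.sum_subset Finsupp.support_mapRange fun i _ hi => ?_
  rw [← pv_apply φ, Finsupp.notMem_support_iff.1 hi, zero_smul]

theorem colMap_mem_pN (col : ι → κ →₀ A) {N : Submodule A (ι →₀ A)} {M : Submodule A (κ →₀ A)}
    (h : ∀ v ∈ N, Finsupp.linearCombination A col v ∈ M) {w : ι →₀ B} (hw : w ∈ pN φ N) :
    colMap φ col w ∈ pN φ M := by
  refine (Submodule.span_le.2 ?_ : pN φ N ≤ (pN φ M).comap (colMap φ col)) hw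
  rintro _ ⟨n, hn, rfl⟩
  rw [SetLike.mem_coe, Submodule.mem_comap, colMap_pv]
  exact pv_mem_pN φ (h n hn)

/-- Flat maps commute with preimages of relation modules. -/
theorem mem_pN_comap_col (hφ : φ.Flat) (col : ι → κ →₀ A) {N : Submodule A (κ →₀ A)} {w : ι →₀ B}
    (hw : colMap φ col w ∈ pN φ N) : w ∈ pN φ (N.comap (Finsupp.linearCombination A col)) := by
  classical
  obtain ⟨k, c, n, hn, he⟩ := exists_sum_of_mem_pN φ hw
  let e := Finset.equivFin w.support
  obtain ⟨m, a, y, ha, hc⟩ := exists_of_sum_eq_zero φ hφ (σ := Fin w.support.card ⊕ Fin k)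
    (Sum.elim (fun j => col (e.symm j)) fun j => -n j)
    (Sum.elim (fun j => w (e.symm j)) c) (by
      rw [Fintype.sum_sum_type]
      simp only [Sum.elim_inl, Sum.elim_inr]
      rw [e.symm.sum_comp (fun i : w.support => w i • pv φ (col i)),
        Finset.sum_coe_sort w.support (fun i => w i • pv φ (col i))]
      have hneg : ∀ j, pv φ (-n j) = -pv φ (n j) := fun j => Finsupp.ext fun i => by simp
      simp only [hneg, smul_neg, Finset.sum_neg_distrib]
      rw [he, colMap, Finsupp.linearCombination_apply, Finsupp.sum, add_neg_cancel])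
  let u : Fin m → ι →₀ A := fun l => ∑ j, Finsupp.single (e.symm j : ι) (a l (Sum.inl j))
  have hu : ∀ l, u l ∈ N.comap (Finsupp.linearCombination A col) := fun l => by
    have h1 := ha l
    rw [Fintype.sum_sum_type] at h1
    simp only [Sum.elim_inl, Sum.elim_inr, smul_neg, Finset.sum_neg_distrib, add_neg_eq_zero] at h1
    rw [Submodule.mem_comap, map_sum]
    simp only [Finsupp.linearCombination_single]
    rw [h1]
    exact Submodule.sum_mem _ fun j _ => N.smul_mem _ (hn j)
  have hw' : w = ∑ l, y l • pv φ (u l) := by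
    refine Finsupp.ext fun i => ?_
    simp only [u, Finsupp.finsetSum_apply, Finsupp.smul_apply, pv_apply, map_sum, smul_eq_mul, Finset.mul_sum,
      Finsupp.single_apply, apply_ite φ, map_zero, mul_ite, mul_zero]
    rw [Finset.sum_comm]
    by_cases hi : i ∈ w.support
    · rw [Finset.sum_eq_single (e ⟨i, hi⟩) (fun j _ hj => Finset.sum_eq_zero fun l _ => if_neg fun he' =>
        hj (e.symm.injective (Subtype.ext (he'.trans (by rw [e.symm_apply_apply]))))) (by simp)]
      simp only [e.symm_apply_apply, if_true]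
      have := hc (Sum.inl (e ⟨i, hi⟩))
      simpa using this
    · rw [Finsupp.notMem_support_iff.1 hi]
      refine (Finset.sum_eq_zero fun j _ => Finset.sum_eq_zero fun l _ => if_neg fun he' => hi ?_).symm
      rw [← he']
      exact (e.symm j).2
  rw [hw']
  exact Submodule.sum_mem _ fun l _ => Submodule.smul_mem _ _ (pv_mem_pN φ (hu l))

end Groth.Agent.H9FCoh
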