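import Groth.Agent.H9FCoh.Rebuild
import Groth.Agent.ExistEasy.PP.PullSec
import Groth.Agent.FComplLib.Sys

/-!
# Completions of coherent modules on schemes
-/

set_option autoImplicit false
set_option backward.isDefEq.respectTransparency false
set_option backward.isDefEq.respectTransparency.types false
set_option linter.style.haveILetI false

universe u

open CategoryTheory CategoryTheory.Limits AlgebraicGeometry Opposite TopologicalSpace
open Groth.Agent.ClosedRinged
open Groth.Agent.RngSp (pt gm mp fns)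

noncomputable section

namespace Groth.Agent.H9FCoh

variable {𝔛 : FSch.Sys.{u}} (h : 𝔛.IsLocNoethFormal) {X : Scheme.{u}} (p : ∀ n, 𝔛.X n ⟶ X)
  (hp : ∀ n, 𝔛.ι n ≫ p (n + 1) = p n) (F : X.Modules)

/-- The morphism to the scheme. -/
abbrev cMor : ModSite.RMor (𝔛.Osh h.1) X.sheaf := FSch.toSchemeMor 𝔛 h.1 p hp

/-- The inverse images of a module on the levels. -/
abbrev plMod : FSch.ModSys 𝔛 where
  F k := (Scheme.Modules.pullback (p k)).obj F
  e k := (Scheme.Modules.pullbackComp (𝔛.ι k) (p (k + 1)) ≪≫ Scheme.Modules.pullbackCongr (hp k)).app F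

/-- The component of the comparison at a level. -/
def compC (k : ℕ) : F ⟶ (cMor h p hp).push.obj ((FSch.levelMor 𝔛 h.1 k).push.obj ((plMod p hp F).F k)) :=
  (Scheme.Modules.pullbackPushforwardAdjunction (p k)).unit.app F ≫
    (FSch.schPushCompare 𝔛 h.1 p hp k).app _

/-- The preimage open in the space. -/
abbrev cU (U : X.Opens) : (𝔛.X 0).Opens := p 0 ⁻¹ᵁ U

theorem schPushCompare_app (k : ℕ) (G : (𝔛.X k).Modules) (U : X.Opens) (w : Γ(G, p k ⁻¹ᵁ U)) :
    mp ((FSch.schPushCompare 𝔛 h.1 p hp k).app G) U w =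
      G.presheaf.map (homOfLE (FSch.lvU_p 𝔛 h.1 p hp k U).ge).op w :=
  rfl

theorem compC_app (k : ℕ) (U : X.Opens) (z : Γ(F, U)) :
    mp (compC h p hp F k) U z = QCoh.pullSec (p k) F (FSch.lvU_p 𝔛 h.1 p hp k U).ge z := by
  unfold compC
  change mp ((FSch.schPushCompare 𝔛 h.1 p hp k).app ((Scheme.Modules.pullback (p k)).obj F)) U
    (((Scheme.Modules.pullbackPushforwardAdjunction (p k)).unit.app F).app U z) = _
  rw [schPushCompare_app h p hp]
  rfl

theorem step_pullSec (k : ℕ) (U : X.Opens) (z : Γ(F, U)) :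
    step h (plMod p hp F) k (cU p U) (QCoh.pullSec (p (k + 1)) F (FSch.lvU_p 𝔛 h.1 p hp (k + 1) U).ge z) =
      QCoh.pullSec (p k) F (FSch.lvU_p 𝔛 h.1 p hp k U).ge z := by
  rw [step_eq]
  refine (QCoh.map_app_comm ((plMod p hp F).e k).hom (homOfLE (FSch.Sys.lvU_le 𝔛 h.1 k (cU p U))) _).symm.trans ?_
  change ((Scheme.Modules.pullbackCongr (hp k)).hom.app F).app _
    (((Scheme.Modules.pullbackComp (𝔛.ι k) (p (k + 1))).hom.app F).app _
      (QCoh.pullSec (𝔛.ι k) _ (FSch.Sys.lvU_le 𝔛 h.1 k (cU p U)) _)) = _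
  rw [ExistEasy.pullSec_comp]
  exact ExistEasy.pullSec_congr (hp k) F _ z

/-- The cone of the comparison maps. -/
def complCone : Cone (FSch.levelSysOf 𝔛 h.1 (plMod p hp F).F (plMod p hp F).toPush) where
  pt := (cMor h p hp).pull.obj F
  π := NatTrans.ofOpSequence (F := (Functor.const ℕᵒᵖ).obj ((cMor h p hp).pull.obj F))
    (fun k => ((cMor h p hp).adj.homEquiv _ _).symm (compC h p hp F k)) fun k => by
    refine ((cMor h p hp).adj.homEquiv _ _).injective ?_
    refine (congrArg _ (Category.id_comp _)).trans ((Equiv.apply_symm_apply _ _).trans ?_)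
    refine Eq.trans ?_ ((cMor h p hp).adj.homEquiv_naturality_right _ _).symm
    rw [Equiv.apply_symm_apply, FSch.levelSysOf_map_succ]
    refine SheafOfModules.hom_ext (PresheafOfModules.Hom.ext (funext fun U => ModuleCat.hom_ext
      (LinearMap.ext fun z => ?_)))
    have h1 := compC_app h p hp F (k + 1) U.unop z
    refine (compC_app h p hp F k U.unop z).trans ((step_pullSec h p hp F k U.unop z).symm.trans ?_)
    exact congrArg (step h (plMod p hp F) k (cU p U.unop)) h1.symm

/-- The comparison map. -/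
def toCompl : (cMor h p hp).pull.obj F ⟶ (plMod p hp F).realMod h.1 :=
  limit.lift _ (complCone h p hp F)

theorem toCompl_realProj (k : ℕ) :
    (cMor h p hp).adj.homEquiv _ _ (toCompl h p hp F) ≫
      (cMor h p hp).push.map (FSch.realProj 𝔛 h.1 (plMod p hp F).F (plMod p hp F).toPush k) =
    compC h p hp F k := by
  refine ((cMor h p hp).adj.homEquiv_naturality_right _ _).symm.trans ?_
  refine (congrArg _ (limit.lift_π (complCone h p hp F) (op k))).trans ?_
  exact Equiv.apply_symm_apply _ _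

/-- The pulled back section. -/
abbrev puC {U : X.Opens} (z : Γ(F, U)) : ((cMor h p hp).pull.obj F).val.obj (op (cU p U)) :=
  puSec (p 0).base (FSch.schSharp 𝔛 h.1 p hp) F z

theorem prM_toCompl (k : ℕ) {U : X.Opens} (z : Γ(F, U)) :
    prM h (plMod p hp F) k (cU p U) (mp (toCompl h p hp F) _ (puC h p hp F z)) =
      QCoh.pullSec (p k) F (FSch.lvU_p 𝔛 h.1 p hp k U).ge z := by
  refine Eq.trans ?_ ((congrArg (fun q => mp q U z) (toCompl_realProj h p hp F k)).trans (compC_app h p hp F k U z))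
  refine congrArg (prM h (plMod p hp F) k (cU p U)) ?_
  exact (ModPull.adj_homEquiv_app (cMor h p hp) (toCompl h p hp F) (U := op U) z).symm

/-- The functions pulled back to a level. -/
abbrev shC (U : X.Opens) : Γ(X, U) →+* Ox h (cU p U) := shH (p 0).base (FSch.schSharp 𝔛 h.1 p hp) U

/-- Models of a module give models of the levels. -/
theorem isModel_complLevel (k : ℕ) {U : X.Opens} {ι : Type u} {t : ι → Γ(F, U)}
    {N : Submodule Γ(X, U) (ι →₀ Γ(X, U))} (hm : IsModel (O := X.sheaf) F U t N) :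
    IsModel (O := (𝔛.X k).sheaf) ((plMod p hp F).F k) (𝔛.lvU h.1 k (cU p U))
      (fun i => QCoh.pullSec (p k) F (FSch.lvU_p 𝔛 h.1 p hp k U).ge (t i))
      (pN (pr h k (cU p U)) (pN (shC h p hp U) N)) := by
  let sh : X.sheaf ⟶ (TopCat.Sheaf.pushforward CommRingCat.{u} (p k).base).obj (𝔛.X k).sheaf := ⟨(p k).c⟩
  have h1 := (isModel_pull (p k).base sh hm).mono (FSch.lvU_p 𝔛 h.1 p hp k U).ge
  have hcomp : (rr (𝔛.X k).sheaf (FSch.lvU_p 𝔛 h.1 p hp k U).ge).comp (shH (p k).base sh U) =
      (pr h k (cU p U)).comp (shC h p hp U) := RingHom.ext fun a =>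
    (congrArg (fun q => (q.hom.app (op U)).hom a) (FSch.schSharp_proj 𝔛 h.1 p hp k)).symm
  have hN' : pN (rr (𝔛.X k).sheaf (FSch.lvU_p 𝔛 h.1 p hp k U).ge) (pN (shH (p k).base sh U) N) =
      pN (pr h k (cU p U)) (pN (shC h p hp U) N) := by
    refine ((pN_pN_le _ _ N).antisymm (pN_pN _ _ N)).trans ?_
    rw [hcomp]
    exact (pN_pN _ _ N).antisymm (pN_pN_le _ _ N)
  rw [← hN']
  exact h1

theorem isCoh_plMod [IsLocallyNoetherian X] (hc : Coh.IsCoh F) : (plMod p hp F).IsCoh := fun k => by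
  have hfp : IsFP (O := (𝔛.X k).sheaf) ((plMod p hp F).F k) := by
    refine isFinitePresentation_of_models fun y => ?_
    obtain ⟨V, hV, -, κ, hκ, s, M, hyV, hmV⟩ := exists_finite_model (schGood X) hc.1 hc.2
      (show p k y ∈ (⊤ : X.Opens) from trivial)
    haveI := (schGood X).noeth V hV
    classical
    obtain ⟨S, hS⟩ := (IsNoetherian.noetherian M : M.FG)
    let sh : X.sheaf ⟶ (TopCat.Sheaf.pushforward CommRingCat.{u} (p k).base).obj (𝔛.X k).sheaf := ⟨(p k).c⟩
    refine ⟨_, κ, hκ, _, _, hyV, ⟨S.image (pv (shH (p k).base sh V)), ?_⟩, isModel_pull (p k).base sh hmV⟩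
    rw [← hS, pN_span, Finset.coe_image]
  exact ⟨isQC_of_isFP hfp, isFT_of_isFP hfp⟩

/-- The models of the two sides correspond. -/
theorem isModel_toCompl [IsLocallyNoetherian X] [IsAffineHom (p 0)] (hc : Coh.IsCoh F) {U : X.Opens}
    (hU : IsAffineOpen U) {ι : Type u} [Finite ι] {t : ι → Γ(F, U)} {N : Submodule Γ(X, U) (ι →₀ Γ(X, U))}
    (hm : IsModel (O := X.sheaf) F U t N) :
    IsModel ((plMod p hp F).realMod h.1) (cU p U) (fun i => mp (toCompl h p hp F) _ (puC h p hp F (t i)))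
      (pN (shC h p hp U) N) := by
  refine isModel_realMod_of_levels h (isCoh_plMod p hp F hc) (hU.preimage _) _ _ fun k => ?_
  simp only [prM_toCompl]
  exact isModel_complLevel h p hp F k hm

/-- The comparison map is an isomorphism for coherent modules. -/
theorem isIso_toCompl [IsLocallyNoetherian X] [IsAffineHom (p 0)] (hc : Coh.IsCoh F) :
    IsIso (toCompl h p hp F) := by
  choose U hP hUW ι hι t N hxU hm using fun x : (𝔛.X 0 : Scheme.{u}) =>
    exists_finite_model (schGood X) hc.1 hc.2 (show p 0 x ∈ (⊤ : X.Opens) from trivial)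
  haveI : ∀ x, Finite (ι x) := hι
  exact isIso_of_models (good h) (toCompl h p hp F) (fun x => cU p (U x)) (fun x => ⟨x, hxU x⟩)
    (fun x i => puC h p hp F (t x i)) (fun x => pN (shC h p hp (U x)) (N x))
    (fun x => isModel_pull (p 0).base (FSch.schSharp 𝔛 h.1 p hp) (hm x))
    fun x => isModel_toCompl h p hp F hc (hP x) (hm x)

end Groth.Agent.H9FCoh
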