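import Groth.Agent.H9FCoh.Gen
import Groth.Agent.RngSp.GenAny

/-!
# Models of modules: generators and relations on germs
-/

set_option autoImplicit false
set_option backward.isDefEq.respectTransparency false
set_option backward.isDefEq.respectTransparency.types false
set_option linter.style.haveILetI false

universe u

open CategoryTheory Opposite TopologicalSpace
open Groth.Agent.RngSp (pt gm fns gm_sum gm_smul gm_res gm_eq_iff gm_zero exists_gm)
open Groth.Agent.ClosedRinged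

noncomputable section

namespace Groth.Agent.H9FCoh

variable {X : TopCat.{u}} {O : TopCat.Sheaf CommRingCat.{u} X} {M : ModSite.Mod O}

/-- A combination of sections. -/
def cmb {U : Opens X} {ι : Type u} (t : ι → M.val.obj (op U)) (v : ι →₀ Fn O U) : M.val.obj (op U) :=
  v.sum fun i a => (show fns O U from a) • t i

/-- A combination of germs. -/
def gcmb {x : X} {ι : Type u} (t : ι → ModSite.stalkAb (pt x) M) :
    (ι →₀ St O x) →ₗ[St O x] ModSite.stalkAb (pt x) M :=
  Finsupp.linearCombination _ t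

theorem gm_neg {U : Opens X} {x : X} (hx : x ∈ U) (z : M.val.obj (op U)) : gm M hx (-z) = -gm M hx z := by
  rw [eq_neg_iff_add_eq_zero, ← RngSp.gm_add, neg_add_cancel, gm_zero]

theorem gm_sub {U : Opens X} {x : X} (hx : x ∈ U) (z z' : M.val.obj (op U)) :
    gm M hx (z - z') = gm M hx z - gm M hx z' := by
  rw [sub_eq_add_neg, RngSp.gm_add, gm_neg, ← sub_eq_add_neg]

theorem eq_of_gm {U : Opens X} {z z' : M.val.obj (op U)} (h : ∀ x (hx : x ∈ U), gm M hx z = gm M hx z') :
    z = z' :=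
  ClosedRinged.ext_locally M _ _ fun x hx => by
    obtain ⟨V, hV, hxV, he⟩ := (gm_eq_iff hx z z').1 (h x hx)
    exact ⟨V, hV, hxV, he⟩

theorem gm_cmb {U : Opens X} {ι : Type u} {t : ι → M.val.obj (op U)} (v : ι →₀ Fn O U) {x : X} (hx : x ∈ U) :
    gm M hx (cmb t v) = gcmb (fun i => gm M hx (t i)) (pv (gH O hx) v) := by
  rw [gcmb, Finsupp.linearCombination_apply, pv]
  refine Eq.trans ?_ (Finsupp.sum_mapRange_index (h := fun i a => a • gm M hx (t i)) (fun i => zero_smul _ _)).symm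
  rw [cmb, Finsupp.sum, gm_sum, Finsupp.sum]
  exact Finset.sum_congr rfl fun i _ => gm_smul hx _ _

theorem gm_res_fun {U V : Opens X} {ι : Type u} (t : ι → M.val.obj (op U)) (h : V ≤ U) {x : X} (hx : x ∈ V) :
    (fun i => gm M hx (res M h (t i))) = fun i => gm M (h hx) (t i) := funext fun i => gm_res h hx (t i)

theorem gm_cmb_res {U V : Opens X} {ι : Type u} {t : ι → M.val.obj (op U)} (h : V ≤ U) (v : ι →₀ Fn O V)
    {x : X} (hx : x ∈ V) :
    gm M hx (cmb (fun i => res M h (t i)) v) = gcmb (fun i => gm M (h hx) (t i)) (pv (gH O hx) v) := by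
  rw [gm_cmb, gm_res_fun]

variable (M) in
/-- Sections and relations presenting all germs over an open. -/
structure IsModel (U : Opens X) {ι : Type u} (t : ι → M.val.obj (op U))
    (N : Submodule (Fn O U) (ι →₀ Fn O U)) : Prop where
  gen : ∀ (x : X) (hx : x ∈ U) (z : ModSite.stalkAb (pt x) M), ∃ w, gcmb (fun i => gm M hx (t i)) w = z
  rel : ∀ (x : X) (hx : x ∈ U) (w : ι →₀ St O x),
    gcmb (fun i => gm M hx (t i)) w = 0 ↔ w ∈ pN (gH O hx) N

theorem pN_gH_rr {U V : Opens X} (h : V ≤ U) {x : X} (hx : x ∈ V) {ι : Type u}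
    (N : Submodule (Fn O U) (ι →₀ Fn O U)) : pN (gH O hx) (pN (rr O h) N) = pN (gH O (h hx)) N := by
  refine le_antisymm ?_ ?_
  · rw [← gH_comp_rr h hx]
    refine Submodule.span_le.2 ?_
    rintro _ ⟨n, hn, rfl⟩
    exact pv_mem_comp _ _ hn
  · rw [← gH_comp_rr h hx]
    exact pN_pN _ _ N

theorem IsModel.mono {U V : Opens X} {ι : Type u} {t : ι → M.val.obj (op U)}
    {N : Submodule (Fn O U) (ι →₀ Fn O U)} (hM : IsModel M U t N) (h : V ≤ U) :
    IsModel M V (fun i => res M h (t i)) (pN (rr O h) N) where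
  gen x hx z := by simpa only [gm_res] using hM.gen x (h hx) z
  rel x hx w := by
    rw [pN_gH_rr, gm_res_fun]
    exact hM.rel x (h hx) w

variable (G : Good O)

theorem IsModel.cmb_eq_zero_iff {U : Opens X} (hU : G.P U) {ι : Type u} {t : ι → M.val.obj (op U)}
    {N : Submodule (Fn O U) (ι →₀ Fn O U)} (hM : IsModel M U t N) {v : ι →₀ Fn O U} :
    cmb t v = 0 ↔ v ∈ N := by
  refine ⟨fun h => G.mem_of_stalks hU fun x hx => (hM.rel x hx _).1 ?_, fun h => eq_of_gm fun x hx => ?_⟩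
  · rw [← gm_cmb, h, gm_zero]
  · rw [gm_cmb, gm_zero]
    exact (hM.rel x hx _).2 (pv_mem_pN _ h)

/-- Finitely many basic opens cover a member of the basis. -/
theorem Good.exists_finite_cover {U : Opens X} (hU : G.P U) (Q : Opens X → Prop)
    (hQ : ∀ x ∈ U, ∃ V : Opens X, V ≤ U ∧ x ∈ V ∧ Q V) :
    ∃ (κ : Type u) (_ : Finite κ) (W : κ → Opens X), (∀ a, W a ≤ U) ∧ (∀ x ∈ U, ∃ a, x ∈ W a) ∧
      ∀ a, Q (W a) := by
  choose V hV hxV hQV using hQ
  obtain ⟨s, hs⟩ := (G.compact U hU).elim_finite_subcover (fun x : U => ((V x.1 x.2 : Opens X) : Set X))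
    (fun x => (V x.1 x.2).2) fun x hx => Set.mem_iUnion.2 ⟨⟨x, hx⟩, hxV x hx⟩
  refine ⟨s, inferInstance, fun a => V a.1.1 a.1.2, fun a => hV _ _, fun x hx => ?_, fun a => hQV _ _⟩
  obtain ⟨y, hy, hxy⟩ := Set.mem_iUnion₂.1 (hs hx)
  exact ⟨⟨y, hy⟩, hxy⟩

theorem IsModel.exists_cmb {U : Opens X} (hU : G.P U) {ι : Type u} {t : ι → M.val.obj (op U)}
    {N : Submodule (Fn O U) (ι →₀ Fn O U)} (hM : IsModel M U t N) (z : M.val.obj (op U)) :
    ∃ v, cmb t v = z := by
  obtain ⟨κ, hκ, W, hW, hcov, hQ⟩ := G.exists_finite_cover hU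
    (fun V => G.P V ∧ ∃ (h : V ≤ U) (v : ι →₀ Fn O V), cmb (fun i => res M h (t i)) v = res M h z)
    fun x hx => by
      obtain ⟨w, hw⟩ := hM.gen x hx (gm M hx z)
      obtain ⟨V, hV, hxV, v, hv⟩ := exists_pv_eq hx w
      have : gm M hxV (cmb (fun i => res M hV (t i)) v) = gm M hxV (res M hV z) := by
        rw [gm_cmb_res, hv, gm_res]
        exact hw
      obtain ⟨V', hV', hxV', he⟩ := (gm_eq_iff hxV _ _).1 this
      obtain ⟨V'', hV'', hxV'', hP⟩ := G.basis V' x hxV'
      refine ⟨V'', hV''.trans (hV'.trans hV), hxV'', hP, hV''.trans (hV'.trans hV), pv (rr O (hV''.trans hV')) v,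
        eq_of_gm fun y hy => ?_⟩
      rw [gm_cmb_res, pv_gH_rr]
      have h1 := congrArg (fun q => gm M (hV'' hy) q) he
      simp only [gm_res, gm_cmb_res] at h1
      rw [gm_res]
      exact h1
  choose hP hWU v hv using hQ
  obtain ⟨m, hm⟩ := G.descent U hU ι N κ W hW hP hcov v fun a b x ha hb => (hM.rel x (hW a ha) _).1 (by
    have ha' := congrArg (fun q => gm M ha q) (hv a)
    have hb' := congrArg (fun q => gm M hb q) (hv b)
    simp only [gm_res, gm_cmb_res] at ha' hb'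
    rw [map_sub, ha', hb', sub_self])
  refine ⟨m, eq_of_gm fun x hx => ?_⟩
  obtain ⟨a, ha⟩ := hcov x hx
  have h1 := (hM.rel x hx _).2 (hm a x ha)
  have h2 := congrArg (fun q => gm M ha q) (hv a)
  simp only [gm_res, gm_cmb_res] at h2
  rw [map_sub, h2, sub_eq_zero] at h1
  rw [gm_cmb, h1]

end Groth.Agent.H9FCoh
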