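import Groth.Agent.H9FCoh.Sch
import Groth.Agent.H9FCoh.Model
import Groth.Agent.QCoh.Support

/-!
# Models of quasi-coherent modules on schemes
-/

set_option autoImplicit false
set_option backward.isDefEq.respectTransparency false
set_option backward.isDefEq.respectTransparency.types false
set_option linter.style.haveILetI false

universe u

open CategoryTheory AlgebraicGeometry TopologicalSpace Opposite
open Groth.Agent.ClosedRinged
open Groth.Agent.RngSp (pt gm fns)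

noncomputable section

namespace Groth.Agent.H9FCoh

variable {Y : Scheme.{u}}

theorem flat_rr_affine {U V : Y.Opens} (hU : IsAffineOpen U) (hV : IsAffineOpen V) (h : V ≤ U) :
    (rr Y.sheaf h).Flat := by
  have := Scheme.Hom.flat_appLE (𝟙 Y) hU hV h
  rw [Scheme.Hom.appLE, Scheme.Hom.id_app, Category.id_comp] at this
  exact this

theorem flat_gH_sch {U : Y.Opens} (hU : IsAffineOpen U) (x : Y) (hx : x ∈ U) : (gH Y.sheaf hx).Flat :=
  flat_gH_of_basis hx IsAffineOpen (fun V hV => by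
    obtain ⟨W, hW, hxW, hWV⟩ := Opens.isBasis_iff_nbhd.1 Y.isBasis_affineOpens hV
    exact ⟨W, hWV, hxW, hW⟩) fun W hW hWa => flat_rr_affine hU hWa hW

theorem isUnit_rr_basicOpen {U V : Y.Opens} (g : Fn Y.sheaf U) (hV : V ≤ U) (h : V ≤ Y.basicOpen g) :
    IsUnit (rr Y.sheaf hV g) := by
  have := (RingedSpace.isUnit_res_basicOpen Y.toRingedSpace g).map (rs h)
  rw [← rr_rr (Y.basicOpen_le g) h]
  exact this

theorem not_isUnit_gH_iff {U : Y.Opens} {x : Y} (hx : x ∈ U) (g : Fn Y.sheaf U) :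
    x ∈ Y.basicOpen g → IsUnit (gH Y.sheaf hx g) := fun h => by
  rw [← gH_rr (Y.basicOpen_le g) h]
  exact (isUnit_rr_basicOpen g (Y.basicOpen_le g) le_rfl).map _

theorem single_mem_pN {A B : Type u} [CommRing A] [CommRing B] (φ : A →+* B) {𝔞 : Ideal A} (h : 𝔞.map φ = ⊤) :
    pv φ (Finsupp.single PUnit.unit.{u + 1} 1) ∈ pN φ (Submodule.comap (Finsupp.lapply PUnit.unit.{u + 1}) 𝔞) := by
  have key : ∀ r ∈ 𝔞.map φ, Finsupp.single PUnit.unit.{u + 1} r ∈
      pN φ (Submodule.comap (Finsupp.lapply PUnit.unit.{u + 1}) 𝔞) := by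
    intro r hr
    induction hr using Submodule.span_induction with
    | mem r hr =>
      obtain ⟨a, ha, rfl⟩ := hr
      have h1 : Finsupp.single PUnit.unit.{u + 1} a ∈ Submodule.comap (Finsupp.lapply PUnit.unit.{u + 1}) 𝔞 := by
        rw [Submodule.mem_comap, Finsupp.lapply_apply, Finsupp.single_eq_same]; exact ha
      have := pv_mem_pN φ h1
      rwa [pv, Finsupp.mapRange_single] at this
    | zero => rw [Finsupp.single_zero]; exact zero_mem _
    | add r s _ _ hr hs => rw [Finsupp.single_add]; exact add_mem hr hs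
    | smul c r _ hr => rw [← Finsupp.smul_single]; exact Submodule.smul_mem _ _ hr
  rw [pv, Finsupp.mapRange_single, map_one]
  exact key 1 (h ▸ trivial)

theorem exists_point_sch {U : Y.Opens} (hU : IsAffineOpen U) (𝔞 : Ideal (Fn Y.sheaf U)) (h : 𝔞 ≠ ⊤) :
    ∃ (x : Y) (hx : x ∈ U), 𝔞.map (gH Y.sheaf hx) ≠ ⊤ := by
  obtain ⟨m, hm, hle⟩ := Ideal.exists_le_maximal _ h
  let q : PrimeSpectrum Γ(Y, U) := ⟨m, hm.isPrime⟩
  have hx : hU.fromSpec q ∈ U := hU.range_fromSpec.le ⟨q, rfl⟩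
  refine ⟨_, hx, fun htop => ?_⟩
  let e : Fn Y.sheaf U →+* Y.presheaf.stalk (hU.fromSpec q) := (Y.presheaf.germ U _ hx).hom
  -- spread out the unit
  let N : Submodule (Fn Y.sheaf U) (PUnit.{u + 1} →₀ Fn Y.sheaf U) :=
    Submodule.comap (Finsupp.lapply PUnit.unit) 𝔞
  have h1 : pv (gH Y.sheaf hx) (Finsupp.single PUnit.unit 1) ∈ pN (gH Y.sheaf hx) N :=
    single_mem_pN _ htop
  obtain ⟨W, hWU, hxW, hW⟩ := exists_mem_pN_rr le_rfl hx (N := N) h1
  obtain ⟨g, hgW, hxg⟩ := hU.exists_basicOpen_le ⟨_, hxW⟩ hx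
  have h2 := pv_mem_comp _ (rr Y.sheaf hgW) hW
  rw [pv_rr, rr_comp] at h2
  obtain ⟨r, hr⟩ := exists_pow_mem_colon hU g h2
  have hgm : g ∉ m := by
    have : q ∈ hU.fromSpec ⁻¹ᵁ Y.basicOpen g := hxg
    rw [hU.fromSpec_preimage_basicOpen] at this
    exact this
  refine hgm (hm.isPrime.mem_of_pow_mem r (hle ?_))
  have : ((show Fn Y.sheaf U from g ^ r) • Finsupp.single PUnit.unit.{u + 1} (1 : Fn Y.sheaf U)) PUnit.unit ∈ 𝔞 := hr
  rwa [Finsupp.smul_apply, Finsupp.single_eq_same, smul_eq_mul, mul_one] at this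

theorem descent_sch {U : Y.Opens} (hU : IsAffineOpen U) (ι : Type u)
    (N : Submodule (Fn Y.sheaf U) (ι →₀ Fn Y.sheaf U)) (κ : Type u) (W : κ → Y.Opens) (hW : ∀ a, W a ≤ U)
    (hcov : ∀ x ∈ U, ∃ a, x ∈ W a) (v : ∀ a, ι →₀ Fn Y.sheaf (W a))
    (hagree : ∀ a b (x : Y) (ha : x ∈ W a) (hb : x ∈ W b),
      pv (gH Y.sheaf ha) (v a) - pv (gH Y.sheaf hb) (v b) ∈ pN (gH Y.sheaf (hW a ha)) N) :
    ∃ m : ι →₀ Fn Y.sheaf U, ∀ a (x : Y) (ha : x ∈ W a),
      pv (gH Y.sheaf (hW a ha)) m - pv (gH Y.sheaf ha) (v a) ∈ pN (gH Y.sheaf (hW a ha)) N := by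
  obtain ⟨m, hm⟩ := exists_glue hU N W hW hcov v fun a b x ha hb => by
    obtain ⟨O, hO, hxO, hmem⟩ := exists_mem_pN_rr ((inf_le_left : W a ⊓ W b ≤ W a).trans (hW a)) (x := x) ⟨ha, hb⟩
      (N := N) (v := pv (rr Y.sheaf inf_le_left) (v a) - pv (rr Y.sheaf inf_le_right) (v b))
      (by rw [pv_sub, pv_gH_rr, pv_gH_rr]; exact hagree a b x ha hb)
    refine ⟨O, hO.trans inf_le_left, hO.trans inf_le_right, hxO, ?_⟩
    rw [pv_sub, pv_rr, pv_rr] at hmem
    exact hmem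
  refine ⟨m, fun a x ha => ?_⟩
  obtain ⟨O, hOa, hxO, hO⟩ := hm a x ha
  have := pv_gH_mem (O := Y.sheaf) (hOa.trans (hW a)) hxO hO
  change pv (gH Y.sheaf hxO) (pv (rr Y.sheaf (hOa.trans (hW a))) m - pv (rr Y.sheaf hOa) (v a)) ∈ _ at this
  rw [pv_sub, pv_gH_rr, pv_gH_rr] at this
  exact this

/-- Affine opens of a locally Noetherian scheme. -/
def schGood (Y : Scheme.{u}) [IsLocallyNoetherian Y] : Good Y.sheaf where
  P := IsAffineOpen
  basis U x hx := by
    obtain ⟨W, hW, hxW, hWU⟩ := Opens.isBasis_iff_nbhd.1 Y.isBasis_affineOpens hx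
    exact ⟨W, hWU, hxW, hW⟩
  compact U hU := hU.isCompact
  noeth U hU := IsLocallyNoetherian.component_noetherian ⟨U, hU⟩
  flat U hU := flat_gH_sch hU
  point U hU := exists_point_sch hU
  descent U hU ι N κ _ W hW _ hcov v hagree := descent_sch hU ι N κ W hW hcov v hagree

/-- Sections generating a quasi-coherent module on an affine open, with their relations, form a model. -/
theorem isModel_of_span {M : ModSite.Mod Y.sheaf} (hM : Coh.IsQCoh (X := Y) M) {U : Y.Opens}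
    (hU : IsAffineOpen U) {ι : Type u} (t : ι → M.val.obj (op U))
    (hgen : ∀ z, ∃ v, cmb t v = z) (N : Submodule (Fn Y.sheaf U) (ι →₀ Fn Y.sheaf U))
    (hN : ∀ v, cmb t v = 0 ↔ v ∈ N) : IsModel M U t N where
  gen x hx z := by
    obtain ⟨W, hW, z', rfl⟩ := RngSp.exists_gm z
    obtain ⟨g, hg, hxg⟩ := hU.exists_basicOpen_le ⟨x, hW⟩ hx
    obtain ⟨n, s, hs⟩ := QCoh.exists_pow_smul_eq_map (M := M) hM hU g (res M hg z')
    obtain ⟨v, rfl⟩ := hgen s
    have h1 := congrArg (fun q => gm M hxg q) hs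
    change gm M hxg (res M (Y.basicOpen_le g) (cmb t v)) = gm M hxg
      ((show fns Y.sheaf (Y.basicOpen g) from rr Y.sheaf (Y.basicOpen_le g) g ^ n) • res M hg z') at h1
    rw [RngSp.gm_res, gm_cmb, RngSp.gm_smul, RngSp.gm_res] at h1
    have hu : IsUnit (gH Y.sheaf hxg (rr Y.sheaf (Y.basicOpen_le g) g ^ n)) := by
      rw [map_pow, gH_rr]
      exact (not_isUnit_gH_iff hx g hxg).pow n
    obtain ⟨c, hc⟩ := hu
    refine ⟨(↑c⁻¹ : St Y.sheaf x) • pv (gH Y.sheaf hx) v, ?_⟩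
    rw [map_smul, h1]
    change (↑c⁻¹ : St Y.sheaf x) • (gH Y.sheaf hxg (rr Y.sheaf (Y.basicOpen_le g) g ^ n)) • gm M hW z' = _
    rw [← hc, smul_smul, Units.inv_mul, one_smul]
  rel x hx w := by
    constructor
    · intro hw
      obtain ⟨V, hV, hxV, v, rfl⟩ := exists_pv_eq hx w
      have h0 : gm M hxV (cmb (fun i => res M hV (t i)) v) = gm M hxV 0 := by
        rw [gm_cmb_res, RngSp.gm_zero]; exact hw
      obtain ⟨V', hV', hxV', he⟩ := (RngSp.gm_eq_iff hxV _ _).1 h0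
      obtain ⟨g, hg, hxg⟩ := hU.exists_basicOpen_le ⟨x, hxV'⟩ hx
      obtain ⟨k, u, hu⟩ := exists_fraction hU g (pv (rr Y.sheaf (hg.trans hV')) v)
      have hz : res M (Y.basicOpen_le g) (cmb t u) = 0 := eq_of_gm fun y hy => by
        have h1 := congrArg (fun q => gm M (hg hy) q) he
        simp only [RngSp.gm_res, gm_cmb_res, RngSp.gm_zero] at h1
        have h2 : pv (gH Y.sheaf (Y.basicOpen_le g hy)) u =
            gH Y.sheaf (Y.basicOpen_le g hy) g ^ k • pv (gH Y.sheaf (hV' (hg hy))) v := by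
          have := congrArg (pv (gH Y.sheaf hy)) hu
          change pv (gH Y.sheaf hy) (pv (rr Y.sheaf (Y.basicOpen_le g)) u) =
            pv (gH Y.sheaf hy) (rr Y.sheaf (Y.basicOpen_le g) g ^ k • pv (rr Y.sheaf (hg.trans hV')) v) at this
          rw [pv_smul, pv_gH_rr, pv_gH_rr, map_pow, gH_rr] at this
          exact this
        rw [RngSp.gm_res, gm_cmb, h2, map_smul, h1, smul_zero, RngSp.gm_zero]
      obtain ⟨r, hr⟩ := QCoh.exists_pow_smul_eq_zero (M := M) hM hU g _ hz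
      have hmem : g ^ r • u ∈ N := (hN _).1 (eq_of_gm fun y hy => by
        have h3 : gm M hy ((show fns Y.sheaf U from g ^ r) • cmb t u) = gm M hy 0 := congrArg (gm M hy) hr
        rw [RngSp.gm_smul, gm_cmb] at h3
        rw [gm_cmb, pv_smul, map_smul]
        exact h3)
      have h4 := pv_mem_pN (gH Y.sheaf hx) hmem
      have h5 := congrArg (pv (gH Y.sheaf hxg)) hu
      change pv (gH Y.sheaf hxg) (pv (rr Y.sheaf (Y.basicOpen_le g)) u) =
        pv (gH Y.sheaf hxg) (rr Y.sheaf (Y.basicOpen_le g) g ^ k • pv (rr Y.sheaf (hg.trans hV')) v) at h5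
      rw [pv_smul, pv_gH_rr, pv_gH_rr, map_pow, gH_rr] at h5
      rw [pv_smul, h5, smul_smul, map_pow, ← pow_add,
        Submodule.smul_mem_iff_of_isUnit _ ((not_isUnit_gH_iff hx g hxg).pow _)] at h4
      exact h4
    · intro hw
      refine LinearMap.mem_ker.1 ((Submodule.span_le.2 ?_ : pN (gH Y.sheaf hx) N ≤
        LinearMap.ker (gcmb fun i => gm M hx (t i))) hw)
      rintro _ ⟨n, hn, rfl⟩
      rw [SetLike.mem_coe, LinearMap.mem_ker, ← gm_cmb, (hN n).2 hn, RngSp.gm_zero]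

end Groth.Agent.H9FCoh
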