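import Groth.Agent.H9FCoh.Ops

/-!
# Quasi-coherent and finitely presented modules
-/

set_option autoImplicit false
set_option backward.isDefEq.respectTransparency false
set_option backward.isDefEq.respectTransparency.types false
set_option linter.style.haveILetI false

universe u

open CategoryTheory CategoryTheory.Limits Opposite TopologicalSpace
open Groth.Agent.RngSp (pt gm fns Nearby mp)
open Groth.Agent.ClosedRinged Groth.Agent.ModPull

noncomputable section

namespace Groth.Agent.H9FCoh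

variable {X : TopCat.{u}} {O : TopCat.Sheaf CommRingCat.{u} X} {M M' : ModSite.Mod O} (G : Good O)

/-- Being quasi-coherent. -/
abbrev IsQC (M : ModSite.Mod O) : Prop := SheafOfModules.IsQuasicoherent.{u} (R := ModSite.ringSh O) M

/-- Being finitely presented. -/
abbrev IsFP (M : ModSite.Mod O) : Prop := SheafOfModules.IsFinitePresentation (R := ModSite.ringSh O) M

/-- Being of finite type. -/
abbrev IsFT (M : ModSite.Mod O) : Prop := SheafOfModules.IsFiniteType (R := ModSite.ringSh O) M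

theorem isQC_of_isFP (h : IsFP M) : IsQC M :=
  haveI := h
  inferInstance

theorem isFT_of_isFP (h : IsFP M) : IsFT M :=
  haveI := h
  inferInstance

theorem lc_mapDomain {R P : Type*} [Semiring R] [AddCommMonoid P] [Module R P] {α β : Type*} (v : β → P)
    (f : α → β) (l : α →₀ R) :
    Finsupp.linearCombination R v (l.mapDomain f) = Finsupp.linearCombination R (fun a => v (f a)) l :=
  Finsupp.linearCombination_mapDomain R f l

theorem exists_finset_span_eq {R P : Type*} [Semiring R] [AddCommMonoid P] [Module R P] {α : Type*} (v : α → P)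
    (h : (Submodule.span R (Set.range v)).FG) :
    ∃ T : Finset α, Submodule.span R (Set.range fun j : T => v j) = Submodule.span R (Set.range v) := by
  classical
  obtain ⟨s, hs⟩ := h
  choose c hc using fun x : s => Finsupp.mem_span_range_iff_exists_finsupp.1
    (show (x : P) ∈ Submodule.span R (Set.range v) from hs ▸ Submodule.subset_span x.2)
  refine ⟨Finset.univ.biUnion fun x => (c x).support, le_antisymm
    (Submodule.span_mono (by rintro _ ⟨j, rfl⟩; exact ⟨_, rfl⟩)) (hs.symm.le.trans (Submodule.span_le.2 ?_))⟩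
  intro x hx
  rw [SetLike.mem_coe, show x = _ from (hc ⟨x, hx⟩).symm, Finsupp.sum]
  exact Submodule.sum_mem _ fun i hi => Submodule.smul_mem _ _
    (Submodule.subset_span ⟨⟨i, Finset.mem_biUnion.2 ⟨⟨x, hx⟩, Finset.mem_univ _, hi⟩⟩, rfl⟩)

theorem IsModel.restrict {U : Opens X} {ι : Type u} {t : ι → M.val.obj (op U)}
    {N : Submodule (Fn O U) (ι →₀ Fn O U)} (hflat : ∀ (x : X) (hx : x ∈ U), (gH O hx).Flat) (h : IsModel M U t N)
    {σ : Type u} (s : σ → ι) (hs : Function.Injective s)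
    (hgen : ∀ (x : X) (hx : x ∈ U) (i : ι), ∃ w, gcmb (fun j => gm M hx (t (s j))) w = gm M hx (t i)) :
    IsModel M U (fun j => t (s j)) (N.comap (Finsupp.lmapDomain (Fn O U) (Fn O U) s)) := by
  have hmap : ∀ (x : X) (hx : x ∈ U) (w : σ →₀ St O x),
      gcmb (fun j => gm M hx (t (s j))) w = gcmb (fun i => gm M hx (t i)) (w.mapDomain s) := fun x hx w =>
    (lc_mapDomain (fun i => gm M hx (t i)) s w).symm
  refine ⟨fun x hx z => ?_, fun x hx w => ?_⟩
  · obtain ⟨w, rfl⟩ := h.gen x hx z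
    have : gcmb (fun i => gm M hx (t i)) w ∈ LinearMap.range (gcmb fun j => gm M hx (t (s j))) := by
      change Finsupp.linearCombination (St O x) (fun i => gm M hx (t i)) w ∈ _
      rw [Finsupp.linearCombination_apply, Finsupp.sum]
      exact Submodule.sum_mem _ fun i _ => Submodule.smul_mem _ _ (hgen x hx i)
    exact this
  · rw [hmap, h.rel x hx]
    exact ⟨mem_pN_comap _ (hflat x hx) s hs, mapDomain_mem_pN _ s⟩

theorem gm_cmb_support {U : Opens X} {ι : Type u} (t : ι → M.val.obj (op U)) (S : Finset ι) (v : ι →₀ Fn O U)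
    (hv : v.support ⊆ S) {x : X} (hx : x ∈ U) :
    ∃ w, gcmb (fun j : S => gm M hx (t j)) w = gm M hx (cmb t v) := by
  refine ⟨(pv (gH O hx) v).comapDomain Subtype.val Subtype.val_injective.injOn, ?_⟩
  rw [gm_cmb, gcmb, gcmb]
  refine (lc_mapDomain (fun i => gm M hx (t i)) Subtype.val _).symm.trans ?_
  exact congrArg _ (Finsupp.mapDomain_comapDomain _ Subtype.val_injective (pv (gH O hx) v) fun i hi =>
    ⟨⟨i, hv (Finsupp.support_mapRange hi)⟩, rfl⟩)

include G in
theorem exists_finite_model (hM : IsQC M) (hT : IsFT M) {W : Opens X} {x : X} (hx : x ∈ W) :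
    ∃ (U : Opens X) (_ : G.P U) (_ : U ≤ W) (ι : Type u) (_ : Finite ι) (t : ι → M.val.obj (op U))
      (N : Submodule (Fn O U) (ι →₀ Fn O U)), x ∈ U ∧ IsModel M U t N := by
  classical
  haveI := hM
  obtain ⟨U₁, hU₁, hU₁W, ι, t, N, hxU₁, hmod⟩ := exists_isModel (M := M) G hx
  obtain ⟨V, σ, hσ, s, hxV, hs⟩ := RngSp.isFiniteType_iff.1 hT x
  obtain ⟨U, hU, hxU, hP⟩ := G.basis (U₁ ⊓ V) x ⟨hxU₁, hxV⟩
  have hmod' := hmod.mono (hU.trans inf_le_left)
  choose v hv using fun j => hmod'.exists_cmb G hP (res M (hU.trans inf_le_right) (s j))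
  haveI := Fintype.ofFinite σ
  let S : Finset ι := Finset.univ.biUnion fun j => (v j).support
  refine ⟨U, hP, hU.trans (inf_le_left.trans hU₁W), S, inferInstance, _, _, hxU,
    hmod'.restrict (G.flat U hP) (Subtype.val : S → ι) Subtype.val_injective fun y hy i => ?_⟩
  obtain ⟨W', hW', hyW', hz⟩ := (hs.mono (hU.trans inf_le_right)) U le_rfl
    (res M (hU.trans inf_le_left) (t i)) y hy
  have h1 : gm M hy (res M (hU.trans inf_le_left) (t i)) ∈
      LinearMap.range (gcmb fun j : S => gm M hy (res M (hU.trans inf_le_left) (t j))) := by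
    obtain ⟨c, hc⟩ := (Submodule.mem_span_range_iff_exists_fun _).1 hz
    rw [← RngSp.gm_res hW' hyW', ← hc, RngSp.gm_sum]
    refine Submodule.sum_mem _ fun j _ => ?_
    rw [RngSp.gm_smul]
    refine Submodule.smul_mem _ _ ?_
    rw [RngSp.gm_res, RngSp.gm_res]
    obtain ⟨w, hw⟩ := gm_cmb_support (fun i => res M (hU.trans inf_le_left) (t i)) S (v j)
      (Finset.subset_biUnion_of_mem (fun j => (v j).support) (Finset.mem_univ j)) hy
    exact ⟨w, hw.trans ((congrArg (gm M hy) (hv j)).trans (RngSp.gm_res _ hy (s j)))⟩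
  exact h1

include G in
theorem isFP_of_isQC_of_isFT (hM : IsQC M) (hT : IsFT M) : IsFP M := by
  refine isFinitePresentation_of_models fun x => ?_
  obtain ⟨U, hP, -, ι, hι, t, N, hxU, h⟩ := exists_finite_model G hM hT (show x ∈ (⊤ : Opens X) from trivial)
  haveI := G.noeth U hP
  exact ⟨U, ι, hι, t, N, hxU, IsNoetherian.noetherian N, h⟩

include G in
theorem exists_models (hM : IsQC M) (hM' : IsQC M') (f : M ⟶ M') {W : Opens X} {x : X} (hx : x ∈ W) :
    ∃ (U : Opens X) (_ : G.P U) (_ : U ≤ W) (ι : Type u) (t : ι → M.val.obj (op U))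
      (N : Submodule (Fn O U) (ι →₀ Fn O U)) (κ : Type u) (t' : κ → M'.val.obj (op U))
      (N' : Submodule (Fn O U) (κ →₀ Fn O U)) (col : ι → κ →₀ Fn O U),
      x ∈ U ∧ IsModel M U t N ∧ IsModel M' U t' N' ∧ ∀ i, mp f U (t i) = cmb t' (col i) := by
  haveI := hM
  haveI := hM'
  obtain ⟨U₁, hU₁, hU₁W, ι, t, N, hxU₁, hmod⟩ := exists_isModel (M := M) G hx
  obtain ⟨U, hU, hUU₁, κ, t', N', hxU, hmod'⟩ := exists_isModel (M := M') G hxU₁
  choose col hcol using fun i => hmod'.exists_cmb G hU (mp f U (res M hUU₁ (t i)))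
  exact ⟨U, hU, hUU₁.trans hU₁W, ι, _, _, κ, t', N', col, hxU, hmod.mono hUU₁, hmod',
    fun i => (hcol i).symm⟩

include G in
theorem isQC_cokernel (hM : IsQC M) (hM' : IsQC M') (f : M ⟶ M') : IsQC (cokernel f) := by
  refine isQuasicoherent_of_models fun x => ?_
  obtain ⟨U, hP, -, ι, t, N, κ, t', N', col, hxU, h, h', hcol⟩ :=
    exists_models G hM hM' f (show x ∈ (⊤ : Opens X) from trivial)
  exact ⟨U, _, _, _, hxU, isModel_cokernel f h h' hcol⟩

include G in
theorem isQC_kernel (hM : IsQC M) (hM' : IsQC M') (f : M ⟶ M') : IsQC (kernel f) := by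
  refine isQuasicoherent_of_models fun x => ?_
  obtain ⟨U, hP, -, ι, t, N, κ, t', N', col, hxU, h, h', hcol⟩ :=
    exists_models G hM hM' f (show x ∈ (⊤ : Opens X) from trivial)
  obtain ⟨s, -, hs⟩ := isModel_kernel f (G.flat U hP) h h' hcol
    (g := fun j : N'.comap (Finsupp.linearCombination (Fn O U) col) => (j : ι →₀ Fn O U))
    ((congrArg _ Subtype.range_coe).trans (Submodule.span_eq _))
  exact ⟨U, _, s, _, hxU, hs⟩

include G in
theorem isQC_image (hM : IsQC M) (hM' : IsQC M') (f : M ⟶ M') : IsQC (Abelian.image f) :=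
  isQC_kernel G hM' (isQC_cokernel G hM hM' f) (cokernel.π f)

include G in
theorem isFP_kernel (hM : IsFP M) (hM' : IsFP M') (f : M ⟶ M') : IsFP (kernel f) := by
  refine isFinitePresentation_of_models fun x => ?_
  obtain ⟨U₁, hU₁, -, ι, hι, t, N, hxU₁, hmod⟩ :=
    exists_finite_model G (isQC_of_isFP hM) (isFT_of_isFP hM) (show x ∈ (⊤ : Opens X) from trivial)
  haveI := isQC_of_isFP hM'
  obtain ⟨U, hU, hUU₁, κ, t', N', hxU, hmod'⟩ := exists_isModel (M := M') G hxU₁
  choose col hcol using fun i => hmod'.exists_cmb G hU (mp f U (res M hUU₁ (t i)))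
  haveI := G.noeth U hU
  obtain ⟨n, g, hg⟩ := Submodule.fg_iff_exists_fin_generating_family.1
    (IsNoetherian.noetherian (N'.comap (Finsupp.linearCombination (Fn O U) col)))
  obtain ⟨s, -, hs⟩ := isModel_kernel f (G.flat U hU) (hmod.mono hUU₁) hmod' (fun i => (hcol i).symm)
    (g := fun j : ULift.{u} (Fin n) => g j.down)
    (by rw [← hg]; congr 1; exact Set.ext fun v => ⟨fun ⟨l, e⟩ => ⟨l.down, e⟩, fun ⟨l, e⟩ => ⟨⟨l⟩, e⟩⟩)
  exact ⟨U, _, inferInstance, s, _, hxU, IsNoetherian.noetherian _, hs⟩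

include G in
theorem isFP_of_mono (hM' : IsFP M') (hM : IsQC M) (f : M ⟶ M') [Mono f] : IsFP M := by
  classical
  refine isFP_of_isQC_of_isFT G hM (RngSp.isFiniteType_iff.2 fun x => ?_)
  obtain ⟨U₁, hU₁, -, κ, hκ, t', N', hxU₁, hmod'⟩ :=
    exists_finite_model G (isQC_of_isFP hM') (isFT_of_isFP hM') (show x ∈ (⊤ : Opens X) from trivial)
  haveI := hM
  obtain ⟨U, hU, hUU₁, ι, t, N, hxU, hmod⟩ := exists_isModel (M := M) G hxU₁
  have hm' := hmod'.mono hUU₁
  choose col hcol using fun i => hm'.exists_cmb G hU (mp f U (t i))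
  haveI := G.noeth U hU
  obtain ⟨T, hT⟩ := exists_finset_span_eq col
    (IsNoetherian.noetherian (Submodule.span (Fn O U) (Set.range col)))
  refine ⟨U, T, inferInstance, fun j => t j, hxU, (hmod.restrict (G.flat U hU) (Subtype.val : T → ι)
    Subtype.val_injective fun y hy i => ?_).genOn⟩
  obtain ⟨c, hc⟩ := Finsupp.mem_span_range_iff_exists_finsupp.1
    (show col i ∈ Submodule.span (Fn O U) (Set.range fun j : T => col j) from
      hT.ge (Submodule.subset_span ⟨i, rfl⟩))
  refine ⟨pv (gH O hy) c, fx_injective f y ?_⟩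
  rw [fx_gcmb, fx_gm, ← hcol i, ← gm_cmb (t := fun j : T => mp f U (t j))]
  refine eq_of_sub_eq_zero ?_
  rw [← hc, gm_cmb, gm_cmb]
  simp only [← hcol]
  rw [gcmb_cmb, ← map_sub, colMap_pv, Finsupp.linearCombination_apply, sub_self, map_zero]

include G in
theorem isFP_of_epi (hM : IsFP M) (hM' : IsQC M') (f : M ⟶ M') [Epi f] : IsFP M' := by
  refine isFP_of_isQC_of_isFT G hM' (RngSp.isFiniteType_iff.2 fun x => ?_)
  obtain ⟨U, ι, hι, t, hxU, ht⟩ := RngSp.isFiniteType_iff.1 (isFT_of_isFP hM) x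
  refine ⟨U, ι, hι, fun i => mp f U (t i), hxU, fun V hV z y hy => ?_⟩
  obtain ⟨W, hW, hyW, m, hm⟩ := RngSp.exists_mp_eq f z y hy
  obtain ⟨W', hW', hyW', hz⟩ := ht W (hW.trans hV) m y hyW
  refine ⟨W', hW'.trans hW, hyW', ?_⟩
  show res M' (hW'.trans hW) z ∈ _
  rw [← res_res M' hW hW', ← hm, ← RngSp.mp_res]
  refine (Submodule.span_le.2 ?_ : Submodule.span (fns O W') _ ≤
    (Submodule.span (fns O W') (Set.range fun i => res M' _ (mp f U (t i)))).comap (mp f W')) hz
  rintro _ ⟨i, rfl⟩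
  exact Submodule.subset_span ⟨i, (RngSp.mp_res f _ (t i)).symm⟩

end Groth.Agent.H9FCoh
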