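import Groth.Agent.H9FCoh.Back
import Groth.Agent.H9FCoh.Lin2

/-!
# Kernels and cokernels of maps between modules with models
-/

set_option autoImplicit false
set_option backward.isDefEq.respectTransparency false
set_option backward.isDefEq.respectTransparency.types false
set_option linter.style.haveILetI false

universe u

open CategoryTheory CategoryTheory.Limits Opposite TopologicalSpace
open Groth.Agent.RngSp (pt gm fns Nearby mp)
open Groth.Agent.ClosedRinged Groth.Agent.ModPull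

noncomputable section

namespace Groth.Agent.H9FCoh

variable {X : TopCat.{u}} {O : TopCat.Sheaf CommRingCat.{u} X} {M M' : ModSite.Mod O}

/-- The map on germs. -/
abbrev fx (f : M ⟶ M') (x : X) : ModSite.stalkAb (pt x) M →+ ModSite.stalkAb (pt x) M' :=
  (ModSite.stalkMap (pt x) f).hom

theorem fx_gm (f : M ⟶ M') {U : Opens X} {x : X} (hx : x ∈ U) (z : M.val.obj (op U)) :
    fx f x (gm M hx z) = gm M' hx (mp f U z) := RngSp.stalkMap_gm f hx z

theorem mp_cmb (f : M ⟶ M') {U : Opens X} {ι : Type u} (t : ι → M.val.obj (op U)) (v : ι →₀ Fn O U) :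
    mp f U (cmb t v) = cmb (fun i => mp f U (t i)) v := by
  rw [cmb, cmb, Finsupp.sum, Finsupp.sum, map_sum]
  exact Finset.sum_congr rfl fun i _ => map_smul _ _ _

theorem fx_gcmb (f : M ⟶ M') {U : Opens X} {ι : Type u} (t : ι → M.val.obj (op U)) {x : X} (hx : x ∈ U)
    (w : ι →₀ St O x) :
    fx f x (gcmb (fun i => gm M hx (t i)) w) = gcmb (fun i => gm M' hx (mp f U (t i))) w := by
  obtain ⟨V, hV, hxV, v, rfl⟩ := exists_pv_eq hx w
  rw [← gm_cmb_res hV v hxV, fx_gm, mp_cmb, gm_cmb]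
  refine congrArg (fun q => gcmb q (pv (gH O hxV) v)) (funext fun i => ?_)
  rw [RngSp.mp_res, RngSp.gm_res]

theorem fx_injective (f : M ⟶ M') [Mono f] (x : X) : Function.Injective (fx f x) := by
  rw [injective_iff_map_eq_zero]
  intro z hz
  obtain ⟨W, hW, m, rfl⟩ := RngSp.exists_gm z
  rw [fx_gm, ← RngSp.gm_zero hW] at hz
  obtain ⟨V, hV, hxV, he⟩ := (RngSp.gm_eq_iff hW _ _).1 hz
  rw [← RngSp.gm_res hV hxV]
  have h0 : res M hV m = 0 := by
    apply app_injective f (op V)
    change mp f V (res M hV m) = mp f V 0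
    rw [RngSp.mp_res, he, map_zero, res_zero]
  rw [h0, RngSp.gm_zero]

theorem gcmb_cmb {U : Opens X} {ι κ : Type u} (t' : κ → M'.val.obj (op U)) (col : ι → κ →₀ Fn O U) {x : X}
    (hx : x ∈ U) (w : ι →₀ St O x) :
    gcmb (fun i => gm M' hx (cmb t' (col i))) w =
      gcmb (fun k => gm M' hx (t' k)) (colMap (gH O hx) col w) := by
  rw [colMap, gcmb, gcmb, Finsupp.apply_linearCombination]
  simp only [gm_cmb]
  rfl

variable {U : Opens X} {ι κ : Type u} {t : ι → M.val.obj (op U)} {N : Submodule (Fn O U) (ι →₀ Fn O U)}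
  {t' : κ → M'.val.obj (op U)} {N' : Submodule (Fn O U) (κ →₀ Fn O U)} (f : M ⟶ M')
  {col : ι → κ →₀ Fn O U}

theorem fx_model (hcol : ∀ i, mp f U (t i) = cmb t' (col i)) {x : X} (hx : x ∈ U) (w : ι →₀ St O x) :
    fx f x (gcmb (fun i => gm M hx (t i)) w) =
      gcmb (fun k => gm M' hx (t' k)) (colMap (gH O hx) col w) := by
  rw [fx_gcmb, ← gcmb_cmb]
  simp only [hcol]

theorem isModel_cokernel (hM : IsModel M U t N) (hM' : IsModel M' U t' N')
    (hcol : ∀ i, mp f U (t i) = cmb t' (col i)) :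
    IsModel (cokernel f) U (fun k => mp (cokernel.π f) U (t' k))
      (N' ⊔ Submodule.span (Fn O U) (Set.range col)) where
  gen x hx z := by
    obtain ⟨W, hW, z₀, rfl⟩ := RngSp.exists_gm z
    obtain ⟨V, hV, hxV, m, hm⟩ := RngSp.exists_mp_eq (cokernel.π f) z₀ x hW
    obtain ⟨w, hw⟩ := hM'.gen x hx (gm M' hxV m)
    refine ⟨w, ?_⟩
    rw [← fx_gcmb, hw, fx_gm, hm, RngSp.gm_res]
  rel x hx w := by
    constructor
    · intro hw
      rw [← fx_gcmb] at hw
      obtain ⟨V, hV, hxV, v, rfl⟩ := exists_pv_eq hx w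
      rw [← gm_cmb_res hV v hxV, fx_gm, ← RngSp.gm_zero hxV] at hw
      obtain ⟨V', hV', hxV', he⟩ := (RngSp.gm_eq_iff hxV _ _).1 hw
      rw [res_zero, ← RngSp.mp_res] at he
      obtain ⟨V'', hV'', hxV'', m, hm⟩ := RngSp.exists_of_cokernel f _ he x hxV'
      obtain ⟨u, hu⟩ := hM.gen x hx (gm M hxV'' m)
      have h1 : gcmb (fun k => gm M' hx (t' k)) (colMap (gH O hx) col u) =
          gcmb (fun k => gm M' hx (t' k)) (pv (gH O hxV) v) := by
        rw [← fx_model f hcol, hu, fx_gm, hm, RngSp.gm_res, RngSp.gm_res, gm_cmb_res]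
      rw [← sub_eq_zero, ← map_sub, hM'.rel x hx] at h1
      have h2 : colMap (gH O hx) col u ∈ pN (gH O hx) (N' ⊔ Submodule.span (Fn O U) (Set.range col)) := by
        rw [colMap, Finsupp.linearCombination_apply, Finsupp.sum]
        exact Submodule.sum_mem _ fun i _ => Submodule.smul_mem _ _
          (pv_mem_pN _ (Submodule.mem_sup_right (Submodule.subset_span ⟨i, rfl⟩)))
      have := sub_mem h2 ((Submodule.span_mono (Set.image_mono fun _ hn => Submodule.mem_sup_left hn) :
        pN (gH O hx) N' ≤ pN (gH O hx) (N' ⊔ Submodule.span (Fn O U) (Set.range col))) h1)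
      rwa [sub_sub_cancel] at this
    · intro hw
      refine LinearMap.mem_ker.1 ((Submodule.span_le.2 ?_ : pN (gH O hx) _ ≤
        LinearMap.ker (gcmb fun k => gm (cokernel f) hx (mp (cokernel.π f) U (t' k)))) hw)
      rintro _ ⟨n, hn, rfl⟩
      rw [SetLike.mem_coe, LinearMap.mem_ker, ← fx_gcmb, ← gm_cmb]
      obtain ⟨a, ha, b, hb, rfl⟩ := Submodule.mem_sup.1 hn
      rw [gm_cmb, pv_add, map_add, (hM'.rel x hx _).2 (pv_mem_pN _ ha), zero_add]
      clear hn
      induction hb using Submodule.span_induction with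
      | mem b hb =>
        obtain ⟨i, rfl⟩ := hb
        rw [← gm_cmb, ← hcol, fx_gm, RngSp.mp_cokernel_π, RngSp.gm_zero]
      | zero => rw [pv_zero, map_zero, map_zero]
      | add a' b' _ _ iha ihb => rw [pv_add, map_add, map_add, iha, ihb, add_zero]
      | smul c a' _ iha =>
        rw [pv_smul, fx_gcmb, map_smul]
        rw [fx_gcmb] at iha
        rw [iha, smul_zero]

theorem exists_mp_kernel_eq {V : Opens X} (y : M.val.obj (op V)) (h : mp f V y = 0) :
    ∃ s, mp (kernel.ι f) V s = y := by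
  have hS : (ShortComplex.mk (kernel.ι f) (cokernel.π (kernel.ι f)) (cokernel.condition _)).ShortExact :=
    .mk' (ShortComplex.exact_of_g_is_cokernel _ (cokernelIsCokernel _)) inferInstance inferInstance
  refine exists_app_eq_of_exact hS y ?_
  apply app_injective (Abelian.factorThruCoimage f) (op V)
  refine Eq.trans ?_ (map_zero _).symm
  exact (congrArg (fun k : M ⟶ M' => mp k V y) (Abelian.coimage.fac f)).trans h

theorem isModel_kernel {σ : Type u} {g : σ → ι →₀ Fn O U} (hflat : ∀ (x : X) (hx : x ∈ U), (gH O hx).Flat)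
    (hM : IsModel M U t N) (hM' : IsModel M' U t' N') (hcol : ∀ i, mp f U (t i) = cmb t' (col i))
    (hg : Submodule.span (Fn O U) (Set.range g) = N'.comap (Finsupp.linearCombination (Fn O U) col)) :
    ∃ s : σ → (kernel f).val.obj (op U), (∀ j, mp (kernel.ι f) U (s j) = cmb t (g j)) ∧
      IsModel (kernel f) U s (N.comap (Finsupp.linearCombination (Fn O U) g)) := by
  have hzero : ∀ j, mp f U (cmb t (g j)) = 0 := fun j => eq_of_gm fun x hx => by
    rw [← fx_gm, gm_cmb, fx_model f hcol, colMap_pv, RngSp.gm_zero]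
    exact (hM'.rel x hx _).2 (pv_mem_pN _ (hg.le (Submodule.subset_span ⟨j, rfl⟩)))
  choose s hs using fun j => exists_mp_kernel_eq f _ (hzero j)
  have hι : ∀ (x : X) (hx : x ∈ U) (u : σ →₀ St O x), fx (kernel.ι f) x (gcmb (fun j => gm _ hx (s j)) u) =
      gcmb (fun i => gm M hx (t i)) (colMap (gH O hx) g u) := fun x hx u => fx_model (kernel.ι f) hs hx u
  refine ⟨s, hs, ⟨fun x hx z => ?_, fun x hx u => ?_⟩⟩
  · obtain ⟨w, hw⟩ := hM.gen x hx (fx (kernel.ι f) x z)
    have h0 : fx f x (fx (kernel.ι f) x z) = 0 := by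
      obtain ⟨W, hW, z₀, rfl⟩ := RngSp.exists_gm z
      rw [fx_gm, fx_gm, show mp f W (mp (kernel.ι f) W z₀) = 0 from RngSp.app_kerι f z₀, RngSp.gm_zero]
    rw [← hw, fx_model f hcol, hM'.rel x hx] at h0
    have h1 := mem_pN_comap_col _ (hflat x hx) col h0
    rw [← hg, pN_span, ← Set.range_comp] at h1
    obtain ⟨u, hu⟩ := Finsupp.mem_span_range_iff_exists_finsupp.1 h1
    refine ⟨u, fx_injective (kernel.ι f) x ?_⟩
    rw [hι, ← hw]
    exact congrArg _ hu
  · rw [← (fx_injective (kernel.ι f) x).eq_iff, map_zero, hι, hM.rel x hx]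
    exact ⟨mem_pN_comap_col _ (hflat x hx) g, colMap_mem_pN _ g fun v hv => hv⟩

end Groth.Agent.H9FCoh
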