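import Groth.Agent.H9FCoh.Sky
import Groth.Agent.H9FCoh.Back
import Groth.Agent.H9FCoh.Ops
import Groth.Agent.ModPull.Tensor

/-!
# Inverse images of modules with models
-/

set_option autoImplicit false
set_option backward.isDefEq.respectTransparency false
set_option backward.isDefEq.respectTransparency.types false
set_option linter.style.haveILetI false

universe u

open CategoryTheory Opposite TopologicalSpace
open Groth.Agent.RngSp (pt gm fns mp)
open Groth.Agent.ClosedRinged

noncomputable section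

namespace Groth.Agent.H9FCoh

variable {X Y : TopCat.{u}} {OX : TopCat.Sheaf CommRingCat.{u} X} {OY : TopCat.Sheaf CommRingCat.{u} Y}
  (g : Y ⟶ X)
  (sharp : OX ⟶ ((Opens.map g).sheafPushforwardContinuous CommRingCat.{u}
    (Opens.grothendieckTopology X) (Opens.grothendieckTopology Y)).obj OY)

/-- The morphism of ringed spaces. -/
abbrev rmor : ModSite.RMor OY OX := ModSite.RMor.ofFlat (Opens.map g) sharp

/-- The map of functions. -/
abbrev shH (U : Opens X) : Fn OX U →+* Fn OY ((Opens.map g).obj U) := (sharp.hom.app (op U)).hom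

theorem shH_rr {U V : Opens X} (h : V ≤ U) (a : Fn OX U) :
    rr OY ((Opens.map g).map (homOfLE h)).le (shH g sharp U a) = shH g sharp V (rr OX h a) :=
  (ConcreteCategory.congr_hom (sharp.hom.naturality (homOfLE h).op) a).symm

theorem exists_θ (y : Y) : ∃ θ : St OX (g y) →+* St OY y,
    ∀ (U : Opens X) (hU : g y ∈ U) (a : Fn OX U),
      θ (gH OX hU a) = gH OY (show y ∈ (Opens.map g).obj U from hU) (shH g sharp U a) := by
  let φ : ∀ (U : Opens X) (_ : (pt (g y)).fiber.obj U), OX.obj.obj (op U) ⟶ ModSite.stalkRing (pt y) OY :=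
    fun U hU => sharp.hom.app (op U) ≫ (pt y).toPresheafFiber ((Opens.map g).obj U) ⟨⟨hU.down.down⟩⟩ OY.obj
  refine ⟨((pt (g y)).presheafFiberDesc φ fun U V f hU => ?_).hom, fun U hU a =>
    ConcreteCategory.congr_hom (GrothendieckTopology.Point.toPresheafFiber_presheafFiberDesc (pt (g y)) φ _ U ⟨⟨hU⟩⟩) a⟩
  ext a
  have h2 := gH_rr (O := OY) ((Opens.map g).map f).le hU.down.down
    (shH g sharp V a)
  rw [shH_rr g sharp f.le] at h2
  exact h2

/-- The map of stalks of functions. -/
def θ (y : Y) : St OX (g y) →+* St OY y := (exists_θ g sharp y).choose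

theorem θ_gH (y : Y) {U : Opens X} (hU : g y ∈ U) (a : Fn OX U) :
    θ g sharp y (gH OX hU a) = gH OY (show y ∈ (Opens.map g).obj U from hU) (shH g sharp U a) :=
  (exists_θ g sharp y).choose_spec U hU a

theorem θ_comp_gH (y : Y) {U : Opens X} (hU : g y ∈ U) :
    (θ g sharp y).comp (gH OX hU) = (gH OY (show y ∈ (Opens.map g).obj U from hU)).comp (shH g sharp U) :=
  RingHom.ext (θ_gH g sharp y hU)

variable (M : ModSite.Mod OX)

/-- The pulled back section. -/
def puSec {U : Opens X} (z : M.val.obj (op U)) :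
    ((rmor g sharp).pull.obj M).val.obj (op ((Opens.map g).obj U)) :=
  ModPull.pu (rmor g sharp) M (U := op U) z

theorem puSec_res {U V : Opens X} (h : V ≤ U) (z : M.val.obj (op U)) :
    puSec g sharp M (res M h z) =
      res ((rmor g sharp).pull.obj M) ((Opens.map g).map (homOfLE h)).le (puSec g sharp M z) :=
  ModPull.pu_rs (rmor g sharp) M (homOfLE h).op z

theorem puSec_cmb {U : Opens X} {ι : Type u} (t : ι → M.val.obj (op U)) (v : ι →₀ Fn OX U) :
    puSec g sharp M (cmb t v) = cmb (fun i => puSec g sharp M (t i)) (pv (shH g sharp U) v) := by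
  rw [cmb, cmb, pv, Finsupp.sum]
  refine Eq.trans ?_ (Finsupp.sum_of_support_subset (Finsupp.mapRange _ (map_zero _) v) Finsupp.support_mapRange
      (fun i a => (show fns OY ((Opens.map g).obj U) from a) • puSec g sharp M (t i))
      (fun i _ => zero_smul (fns OY ((Opens.map g).obj U)) (puSec g sharp M (t i)))).symm
  refine (map_sum (AddMonoidHom.mk' (puSec g sharp M) (ModPull.pu_add (rmor g sharp) M (U := op U)))
    _ _).trans (Finset.sum_congr rfl fun i _ => ?_)
  exact ModPull.pu_smul (rmor g sharp) M (U := op U) _ _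

variable {M} {U : Opens X} {ι : Type u} {t : ι → M.val.obj (op U)} {N : Submodule (Fn OX U) (ι →₀ Fn OX U)}

theorem gcmb_θ_mem {y : Y} (hy : g y ∈ U) {w : ι →₀ St OX (g y)} (hw : w ∈ pN (gH OX hy) N) :
    pv (θ g sharp y) w ∈
      pN (gH OY (show y ∈ (Opens.map g).obj U from hy)) (pN (shH g sharp U) N) := by
  have h1 := pv_mem_comp _ (θ g sharp y) hw
  rw [θ_comp_gH] at h1
  exact pN_pN _ _ N h1

theorem exists_classHom (hM : IsModel M U t N) {y : Y} (hy : g y ∈ U) :
    ∃ Φ : ModSite.stalkAb (pt (g y)) M →+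
      ((ι →₀ St OY y) ⧸ pN (gH OY (show y ∈ (Opens.map g).obj U from hy)) (pN (shH g sharp U) N)),
      (∀ w, Φ (gcmb (fun i => gm M hy (t i)) w) = Submodule.Quotient.mk (pv (θ g sharp y) w)) ∧
      ∀ (r : St OX (g y)) z, Φ (r • z) = θ g sharp y r • Φ z := by
  choose w hw using hM.gen (g y) hy
  have key : ∀ w₁ w₂, gcmb (fun i => gm M hy (t i)) w₁ = gcmb (fun i => gm M hy (t i)) w₂ →
      (Submodule.Quotient.mk (pv (θ g sharp y) w₁) : (ι →₀ St OY y) ⧸
        pN (gH OY (show y ∈ (Opens.map g).obj U from hy)) (pN (shH g sharp U) N)) =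
      Submodule.Quotient.mk (pv (θ g sharp y) w₂) := fun w₁ w₂ h => by
    rw [Submodule.Quotient.eq, ← pv_sub]
    refine gcmb_θ_mem g sharp hy ((hM.rel _ hy _).1 ?_)
    rw [map_sub, h, sub_self]
  refine ⟨AddMonoidHom.mk' (fun z => Submodule.Quotient.mk (pv (θ g sharp y) (w z))) fun a b => ?_,
    fun w₀ => key _ _ (hw _), fun r z => ?_⟩
  · rw [← Submodule.Quotient.mk_add, ← pv_add]
    exact key _ _ (by rw [map_add, hw, hw, hw])
  · show Submodule.Quotient.mk _ = _ • Submodule.Quotient.mk _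
    rw [← Submodule.Quotient.mk_smul, ← pv_smul]
    exact key _ _ (by rw [map_smul, hw, hw])

/-- The map to the pushed forward skyscraper given by a map on the stalk. -/
theorem exists_toSky {y : Y} {Q : Type u} [AddCommGroup Q] [Module (St OY y) Q]
    (Φ : ModSite.stalkAb (pt (g y)) M →+ Q) (hΦ : ∀ (r : St OX (g y)) z, Φ (r • z) = θ g sharp y r • Φ z) :
    ∃ φ : M ⟶ (rmor g sharp).push.obj (sky OY y Q), ∀ (V : Opens X) (hV : g y ∈ V) (z : M.val.obj (op V)),
      skyVal OY y Q (show y ∈ (Opens.map g).obj V from hV) (mp φ V z) = Φ (gm M hV z) := by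
  refine ⟨⟨PresheafOfModules.homMk
    { app := fun V => AddCommGrpCat.ofHom (AddMonoidHom.mk'
        (fun z hy => Φ (gm M (show g y ∈ V.unop from hy.down) z))
        fun a b => funext fun hy => by
          change Φ (gm M (show g y ∈ V.unop from hy.down) ((show M.val.obj V from a) + (show M.val.obj V from b))) = _
          rw [RngSp.gm_add, map_add]
          rfl)
      naturality := fun V W k => by
        ext z
        refine funext fun hy => ?_
        change Φ (gm M (show g y ∈ W.unop from hy.down) (res M k.unop.le z)) =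
          Φ (gm M (show g y ∈ V.unop from k.unop.le hy.down) z)
        rw [RngSp.gm_res] }
    fun V a z => funext fun hy => ?_⟩, fun V hV z => rfl⟩
  change Φ (gm M (show g y ∈ V.unop from hy.down) (a • (show M.val.obj V from z))) =
    gH OY (show y ∈ (Opens.map g).obj V.unop from hy.down) (shH g sharp V.unop (show Fn OX V.unop from a)) •
      Φ (gm M (show g y ∈ V.unop from hy.down) z)
  rw [RngSp.gm_smul, hΦ]
  exact congrArg (· • _) (θ_gH g sharp y (show g y ∈ V.unop from hy.down) _)

theorem gen_pull (hM : IsModel M U t N) (y : Y) (hy : y ∈ (Opens.map g).obj U)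
    (z : ModSite.stalkAb (pt y) ((rmor g sharp).pull.obj M)) :
    ∃ w, gcmb (fun i => gm ((rmor g sharp).pull.obj M) hy (puSec g sharp M (t i))) w = z := by
  obtain ⟨W, hW, z', rfl⟩ := RngSp.exists_gm z
  obtain ⟨W', hW', hyW', V, h, n, a, k, he⟩ :=
    RngSp.nearby_of_locally_opens (ModPull.locally_combination (rmor g sharp) M (W := W) z') y hW
  have h1 : gm ((rmor g sharp).pull.obj M) hyW' (res ((rmor g sharp).pull.obj M) hW' z') ∈
      LinearMap.range (gcmb fun i => gm ((rmor g sharp).pull.obj M) hy (puSec g sharp M (t i))) := by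
    change res ((rmor g sharp).pull.obj M) hW' z' = ∑ l, (show fns OY W' from a l) •
      res ((rmor g sharp).pull.obj M) h.le (puSec g sharp M (k l)) at he
    rw [he, RngSp.gm_sum]
    refine Submodule.sum_mem _ fun l _ => ?_
    rw [RngSp.gm_smul]
    refine Submodule.smul_mem _ _ ?_
    rw [RngSp.gm_res]
    have hgy : g y ∈ V := h.le hyW'
    obtain ⟨w, hw⟩ := hM.gen (g y) hy (gm M hgy (k l))
    obtain ⟨V', hV', hxV', v, hv⟩ := exists_pv_eq (show g y ∈ U ⊓ V from ⟨hy, hgy⟩) w
    have h0 : gm M hxV' (cmb (fun i => res M (hV'.trans inf_le_left) (t i)) v) =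
        gm M hxV' (res M (hV'.trans inf_le_right) (k l)) := by
      rw [gm_cmb_res, hv, RngSp.gm_res]; exact hw
    obtain ⟨V'', hV'', hxV'', hres⟩ := (RngSp.gm_eq_iff hxV' _ _).1 h0
    refine ⟨pv (gH OY (show y ∈ (Opens.map g).obj V' from hxV')) (pv (shH g sharp V') v), ?_⟩
    have h2 := congrArg (fun q => gm ((rmor g sharp).pull.obj M)
      (show y ∈ (Opens.map g).obj V'' from hxV'') (puSec g sharp M q)) hres
    simp only [puSec_res, RngSp.gm_res, puSec_cmb] at h2
    rw [gm_cmb] at h2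
    simp only [RngSp.gm_res] at h2
    exact h2
  rwa [RngSp.gm_res] at h1

theorem rel_pull (hM : IsModel M U t N) (y : Y) (hy : y ∈ (Opens.map g).obj U) (w : ι →₀ St OY y)
    (hw : gcmb (fun i => gm ((rmor g sharp).pull.obj M) hy (puSec g sharp M (t i))) w = 0) :
    w ∈ pN (gH OY hy) (pN (shH g sharp U) N) := by
  have hyU : g y ∈ U := hy
  obtain ⟨Φ, hΦ, hΦ'⟩ := exists_classHom g sharp hM hyU
  obtain ⟨φ, hφ⟩ := exists_toSky g sharp Φ hΦ'
  let ψ := ((rmor g sharp).adj.homEquiv _ _).symm φ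
  have hψ : ∀ i, skyVal OY y _ hy (mp ψ ((Opens.map g).obj U) (puSec g sharp M (t i))) =
      Submodule.Quotient.mk (Finsupp.single i 1) := fun i => by
    have h1 := ModPull.adj_homEquiv_app (rmor g sharp) ψ (U := op U) (t i)
    rw [Equiv.apply_symm_apply] at h1
    have h2 := hφ U hyU (t i)
    refine Eq.trans (congrArg (skyVal OY y _ hy) h1.symm) (h2.trans ?_)
    have h3 : gm M hyU (t i) = gcmb (fun i => gm M hyU (t i)) (Finsupp.single i 1) := by
      rw [gcmb, Finsupp.linearCombination_single, one_smul]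
    rw [h3, hΦ, pv, Finsupp.mapRange_single, map_one]
  obtain ⟨V, hV, hyV, v, rfl⟩ := exists_pv_eq hy w
  rw [← gm_cmb_res hV v hyV, ← RngSp.gm_zero hyV] at hw
  obtain ⟨V', hV', hyV', he⟩ := (RngSp.gm_eq_iff hyV _ _).1 hw
  have h4 := congrArg (fun q => skyVal OY y _ hyV' (mp ψ V' q)) he
  simp only [RngSp.mp_res, map_zero, res_zero] at h4
  change skyVal OY y _ hyV (mp ψ V (cmb (fun i => res _ hV (puSec g sharp M (t i))) v)) = 0 at h4
  rw [mp_cmb, cmb, Finsupp.sum] at h4
  rw [← Submodule.Quotient.mk_eq_zero, ← (pv (gH OY hyV) v).sum_single, pv,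
    Finsupp.sum_mapRange_index (fun i => Finsupp.single_zero i), Finsupp.sum,
    ← Submodule.mkQ_apply, map_sum]
  refine Eq.trans ?_ h4
  refine Eq.trans ?_ (map_sum (skyValHom OY y ((ι →₀ St OY y) ⧸ pN (gH OY hy) (pN (shH g sharp U) N)) hyV) _ _).symm
  refine Finset.sum_congr rfl fun i _ => ?_
  refine Eq.trans ?_ (skyVal_smul OY y _ hyV _ _).symm
  rw [RngSp.mp_res]
  change _ = gH OY hyV (v i) • skyVal OY y _ hy (mp ψ _ (puSec g sharp M (t i)))
  rw [hψ, Submodule.mkQ_apply, ← Submodule.Quotient.mk_smul, Finsupp.smul_single, smul_eq_mul, mul_one]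

theorem isModel_pull (hM : IsModel M U t N) :
    IsModel ((rmor g sharp).pull.obj M) ((Opens.map g).obj U) (fun i => puSec g sharp M (t i))
      (pN (shH g sharp U) N) := by
  refine ⟨gen_pull g sharp hM, fun y hy w => ⟨rel_pull g sharp hM y hy w, fun hw => ?_⟩⟩
  refine LinearMap.mem_ker.1 ((Submodule.span_le.2 ?_ : pN (gH OY hy) (pN (shH g sharp U) N) ≤
    LinearMap.ker (gcmb fun i => gm _ hy (puSec g sharp M (t i)))) hw)
  rintro _ ⟨n, hn, rfl⟩
  rw [SetLike.mem_coe, LinearMap.mem_ker]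
  induction hn using Submodule.span_induction with
  | mem n hn =>
    obtain ⟨n₀, hn₀, rfl⟩ := hn
    rw [← gm_cmb, ← puSec_cmb, hM.cmb_eq_zero hn₀]
    rw [show puSec g sharp M (0 : M.val.obj (op U)) = 0 from ModPull.pu_zero _ _, RngSp.gm_zero]
  | zero => rw [pv_zero, map_zero]
  | add a b _ _ ha hb => rw [pv_add, map_add, ha, hb, add_zero]
  | smul c a _ ha => rw [pv_smul, map_smul, ha, smul_zero]

end Groth.Agent.H9FCoh
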