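import Groth.Agent.H9FCoh.Univ
import Groth.Agent.H9FCoh.Pull
import Groth.Agent.H9FCoh.Coh

/-!
# Coherent modules as limits of their inverse images on the levels
-/

set_option autoImplicit false
set_option backward.isDefEq.respectTransparency false
set_option backward.isDefEq.respectTransparency.types false
set_option linter.style.haveILetI false

universe u

open CategoryTheory CategoryTheory.Limits AlgebraicGeometry Opposite TopologicalSpace
open Groth.Agent.ClosedRinged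
open Groth.Agent.RngSp (pt gm mp fns comb)

noncomputable section

namespace Groth.Agent.H9FCoh

section Gen

variable {X : TopCat.{u}} {O : TopCat.Sheaf CommRingCat.{u} X} {M M' : ModSite.Mod O}

/-- A map carrying models to models with the same relations is an isomorphism. -/
theorem isIso_of_models (G : Good O) (f : M ⟶ M') {J : Type u} (U : J → Opens X)
    (hU : ∀ x, ∃ j, x ∈ U j) {σ : J → Type u} [∀ j, Finite (σ j)] (t : ∀ j, σ j → M.val.obj (op (U j)))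
    (N : ∀ j, Submodule (Fn O (U j)) (σ j →₀ Fn O (U j))) (hM : ∀ j, IsModel M (U j) (t j) (N j))
    (hM' : ∀ j, IsModel M' (U j) (fun i => mp f (U j) (t j i)) (N j)) : IsIso f := by
  haveI : ∀ j, Fintype (σ j) := fun j => Fintype.ofFinite _
  have hrel : ∀ (j : J) (V : Opens X) (hV : V ≤ U j) (c : σ j → fns O V),
      comb c (fun i => res M' hV (mp f (U j) (t j i))) = 0 → comb c (fun i => res M hV (t j i)) = 0 := by
    intro j V hV c hc
    rw [comb_eq_cmb] at hc ⊢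
    refine eq_of_gm fun y hy => ?_
    have h1 := ((hM' j).rel y (hV hy) _).1 (by rw [← gm_cmb_res hV _ hy, hc, RngSp.gm_zero])
    rw [gm_cmb_res, RngSp.gm_zero, ((hM j).rel y (hV hy) _)]
    exact h1
  have hcompat : ∀ j l : J, RngSp.Compat (G := M') (N := M) U (fun j i => mp f (U j) (t j i)) t j l := by
    intro j l x hx
    obtain ⟨W, hW, hxW, hP⟩ := G.basis (U j ⊓ U l) x hx
    have hj : W ≤ U j := hW.trans inf_le_left
    have hl : W ≤ U l := hW.trans inf_le_right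
    choose v hv using fun i => ((hM l).mono hl).exists_cmb G hP (res M hj (t j i))
    refine ⟨W, hW, hxW, fun i p => v i p, fun i => ⟨?_, ?_⟩⟩
    · have h1 := congrArg (mp f W) (hv i)
      rw [mp_cmb, RngSp.mp_res] at h1
      rw [comb_eq_cmb, ← h1]
      congr 1
      · exact funext fun p => RngSp.mp_res f hl (t l p)
      · exact Finsupp.ext fun p => rfl
    · rw [comb_eq_cmb, ← hv i]
      congr 1
      exact Finsupp.ext fun p => rfl
  obtain ⟨g, hg⟩ := RngSp.exists_hom (G := M') (N := M) (U := U) (t := fun j i => mp f (U j) (t j i)) (m := t)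
    hU (fun j => (hM' j).genOn) hrel hcompat
  refine ⟨g, RngSp.hom_ext_of_cover U hU t (fun j => (hM j).genOn) _ _ hg,
    RngSp.hom_ext_of_cover U hU _ (fun j => (hM' j).genOn) _ _ fun j i => ?_⟩
  exact congrArg (mp f (U j)) (hg j i)

end Gen

variable {𝔛 : FSch.Sys.{u}} (h : 𝔛.IsLocNoethFormal)

/-- The inverse image of a module on a level. -/
abbrev lvP (k : ℕ) (𝔉 : FSch.ModF 𝔛 h.1) : (𝔛.X k).Modules := (FSch.levelMor 𝔛 h.1 k).pull.obj 𝔉

/-- The inverse image of a section on a level. -/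
abbrev puL (k : ℕ) (𝔉 : FSch.ModF 𝔛 h.1) {U : (𝔛.X 0).Opens} (z : 𝔉.val.obj (op U)) :
    Γ(lvP h k 𝔉, 𝔛.lvU h.1 k U) :=
  puSec (𝔛.gInv h.1 k) (𝔛.OshProj h.1 k) 𝔉 z

theorem isModel_lvP (k : ℕ) {𝔉 : FSch.ModF 𝔛 h.1} {U : (𝔛.X 0).Opens} {ι : Type u} {t : ι → 𝔉.val.obj (op U)}
    {N : Submodule (Ox h U) (ι →₀ Ox h U)} (hm : IsModel 𝔉 U t N) :
    IsModel (O := (𝔛.X k).sheaf) (lvP h k 𝔉) (𝔛.lvU h.1 k U) (fun i => puL h k 𝔉 (t i)) (pN (pr h k U) N) :=
  isModel_pull (𝔛.gInv h.1 k) (𝔛.OshProj h.1 k) hm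

variable (𝔉 : FSch.ModF 𝔛 h.1)

/-- The adjunct of the transition of inverse images. -/
def trP (k : ℕ) : lvP h (k + 1) 𝔉 ⟶ (Scheme.Modules.pushforward (𝔛.ι k)).obj (lvP h k 𝔉) :=
  ((FSch.levelMor 𝔛 h.1 (k + 1)).adj.homEquiv _ _).symm
    ((FSch.levelMor 𝔛 h.1 k).adj.unit.app 𝔉 ≫ (FSch.pushCompareInv 𝔛 h.1 k).app (lvP h k 𝔉))

theorem isIso_trP_symm (k : ℕ) :
    IsIso (((Scheme.Modules.pullbackPushforwardAdjunction (𝔛.ι k)).homEquiv _ _).symm (trP h 𝔉 k)) := by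
  refine (CategoryTheory.isIso_iff_coyoneda_map_bijective _).2 fun T => ?_
  haveI : IsIso ((FSch.pushCompareInv 𝔛 h.1 k).app T) :=
    ⟨(FSch.pushCompare 𝔛 h.1 k).app T, FSch.pushCompareInv_pushCompare 𝔛 h.1 k T,
      FSch.pushCompare_pushCompareInv 𝔛 h.1 k T⟩
  let a₀ := (FSch.levelMor 𝔛 h.1 k).adj.homEquiv 𝔉 T
  let c := (asIso ((FSch.pushCompareInv 𝔛 h.1 k).app T)).homToEquiv (Z := 𝔉)
  let a₁ := ((FSch.levelMor 𝔛 h.1 (k + 1)).adj.homEquiv 𝔉 ((Scheme.Modules.pushforward (𝔛.ι k)).obj T)).symm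
  let b := ((Scheme.Modules.pullbackPushforwardAdjunction (𝔛.ι k)).homEquiv (lvP h (k + 1) 𝔉) T).symm
  refine Eq.mp (congrArg Function.Bijective (funext fun x => ?_)) (((a₀.trans c).trans a₁).trans b).bijective
  change b (a₁ (a₀ x ≫ (FSch.pushCompareInv 𝔛 h.1 k).app T)) = _
  have e1 : a₀ x ≫ (FSch.pushCompareInv 𝔛 h.1 k).app T =
      ((FSch.levelMor 𝔛 h.1 k).adj.unit.app 𝔉 ≫ (FSch.pushCompareInv 𝔛 h.1 k).app (lvP h k 𝔉)) ≫
      (FSch.levelMor 𝔛 h.1 (k + 1)).push.map ((Scheme.Modules.pushforward (𝔛.ι k)).map x) := by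
    rw [Category.assoc]
    refine Eq.trans ?_ (congrArg (_ ≫ ·) ((FSch.pushCompareInv 𝔛 h.1 k).naturality x))
    simp only [a₀, Adjunction.homEquiv_unit, Category.assoc]
  rw [e1]
  exact (congrArg b ((FSch.levelMor 𝔛 h.1 (k + 1)).adj.homEquiv_naturality_right_symm _ _)).trans
      ((Scheme.Modules.pullbackPushforwardAdjunction (𝔛.ι k)).homEquiv_naturality_right_symm _ _)

/-- The system of inverse images on the levels. -/
def pullSys : FSch.ModSys 𝔛 where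
  F k := lvP h k 𝔉
  e k := @asIso _ _ _ _ _ (isIso_trP_symm h 𝔉 k)

theorem toPush_pullSys (k : ℕ) : (pullSys h 𝔉).toPush k = trP h 𝔉 k :=
  ((Scheme.Modules.pullbackPushforwardAdjunction (𝔛.ι k)).homEquiv _ _).apply_symm_apply _

/-- The units give the canonical map. -/
def unitCone : Cone (FSch.levelSysOf 𝔛 h.1 (pullSys h 𝔉).F (pullSys h 𝔉).toPush) where
  pt := 𝔉
  π := NatTrans.ofOpSequence (F := (Functor.const ℕᵒᵖ).obj 𝔉)
    (fun k => (FSch.levelMor 𝔛 h.1 k).adj.unit.app 𝔉) fun k => by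
    rw [FSch.levelSysOf_map_succ, toPush_pullSys]
    exact (Category.id_comp _).trans (FSch.unit_levelTrans 𝔛 h.1 𝔉 k).symm

/-- The canonical map to the limit of the inverse images. -/
def toReal : 𝔉 ⟶ (pullSys h 𝔉).realMod h.1 := limit.lift _ (unitCone h 𝔉)

theorem toReal_realProj (k : ℕ) :
    toReal h 𝔉 ≫ FSch.realProj 𝔛 h.1 _ _ k = (FSch.levelMor 𝔛 h.1 k).adj.unit.app 𝔉 :=
  limit.lift_π (unitCone h 𝔉) (op k)

theorem prM_toReal (k : ℕ) (U : (𝔛.X 0).Opens) (z : 𝔉.val.obj (op U)) :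
    prM h (pullSys h 𝔉) k U (mp (toReal h 𝔉) U z) = puL h k 𝔉 z :=
  congrArg (fun q => mp q U z) (toReal_realProj h 𝔉 k)

theorem isCoh_pullSys (h𝔉 : FSch.IsCohF 𝔛 h.1 𝔉) : (pullSys h 𝔉).IsCoh := fun k => by
  have hfp : IsFP (O := (𝔛.X k).sheaf) (lvP h k 𝔉) := by
    refine isFinitePresentation_of_models fun y => ?_
    obtain ⟨U, hP, -, ι, hι, t, N, hxU, hm⟩ := exists_finite_model (good h) (isQC_of_isFP h𝔉) (isFT_of_isFP h𝔉)
      (show 𝔛.gInv h.1 k y ∈ (⊤ : (𝔛.X 0).Opens) from trivial)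
    haveI : IsNoetherianRing (Ox h U) := (good h).noeth U hP
    obtain ⟨S, hS⟩ := (IsNoetherian.noetherian N : N.FG)
    classical
    refine ⟨_, ι, hι, _, _, hxU, ⟨S.image (pv (pr h k U)), ?_⟩, isModel_lvP h k hm⟩
    rw [← hS, pN_span, Finset.coe_image]
  exact ⟨isQC_of_isFP hfp, isFT_of_isFP hfp⟩

/-- Generators and relations of the levels give them for the limit. -/
theorem isModel_realMod_of_levels {𝔐 : FSch.ModSys 𝔛} (h𝔐 : 𝔐.IsCoh) {U : (𝔛.X 0).Opens} (hU : IsAffineOpen U)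
    {ι : Type u} [Finite ι] (t : ι → Lm h 𝔐 U) (N : Submodule (Ox h U) (ι →₀ Ox h U))
    (hlev : ∀ k, IsModel (O := (𝔛.X k).sheaf) (𝔐.F k) (𝔛.lvU h.1 k U) (fun i => prM h 𝔐 k U (t i))
      (pN (pr h k U) N)) : IsModel (𝔐.realMod h.1) U t N := by
  letI := lmModule h 𝔐 U
  haveI := isNoetherianRing_Ox h hU
  haveI := isAdicComplete_Ox h hU
  haveI : ∀ k, IsLocallyNoetherian (𝔛.X k) := h.2.2
  obtain ⟨hsurj, hker, hfin⟩ := limit_affine h 𝔐 h𝔐 hU
  refine isModel_realMod h 𝔐 h𝔐 hU t ?_ N fun v => ⟨fun hv => ?_, fun hv => ?_⟩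
  · let P : Submodule (Ox h U) (Lm h 𝔐 U) := LinearMap.range (Finsupp.linearCombination (Ox h U) t)
    have hP : (⊤ : Submodule (Ox h U) (Lm h 𝔐 U)) ≤ P ⊔ J h U • ⊤ := by
      intro z _
      obtain ⟨w, hw⟩ := (hlev 0).exists_cmb (schGood (𝔛.X 0)) (affine_lvU h hU 0) (prM h 𝔐 0 U z)
      obtain ⟨v, rfl⟩ := Finsupp.mapRange_surjective (pr h 0 U) (map_zero _) (pr_surjective h hU 0) w
      change cmb (O := (𝔛.X 0).sheaf) (M := 𝔐.F 0) _ (pv (pr h 0 U) v) = _ at hw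
      rw [← prM_cmb] at hw
      refine Submodule.mem_sup.2 ⟨_, ⟨v, rfl⟩, z - cmb (O := 𝔛.Osh h.1) t v, ?_, add_sub_cancel _ z⟩
      have h0 : prM h 𝔐 0 U (z - cmb (O := 𝔛.Osh h.1) t v) = 0 :=
        (map_sub (mp (FSch.realProj 𝔛 h.1 𝔐.F 𝔐.toPush 0) U) _ _).trans (sub_eq_zero.2 hw.symm)
      have := (hker 0 _).1 h0
      rwa [pow_one] at this
    intro z
    obtain ⟨v, hv⟩ := Submodule.le_of_le_smul_of_le_jacobson_bot hfin.fg_top
      (IsAdicComplete.le_jacobson_bot (J h U)) hP (show z ∈ ⊤ from trivial)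
    exact ⟨v, hv⟩
  · refine mem_of_forall_mem_sup (J h U) (IsAdicComplete.le_jacobson_bot _) _ _ fun k => ?_
    rw [← ker_pr h hU k]
    refine mem_pN_of_surjective _ (pr_surjective h hU k) ?_
    refine ((hlev k).cmb_eq_zero_iff (schGood (𝔛.X k)) (affine_lvU h hU k)).1 ?_
    rw [← prM_cmb, hv]
    exact map_zero (mp (FSch.realProj 𝔛 h.1 𝔐.F 𝔐.toPush k) U)
  · refine prM_ext h 𝔐 fun k => ?_
    rw [prM_cmb, (hlev k).cmb_eq_zero (pv_mem_pN _ hv)]
    exact (map_zero (mp (FSch.realProj 𝔛 h.1 𝔐.F 𝔐.toPush k) U)).symm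

/-- A coherent module is the limit of its inverse images. -/
theorem isIso_toReal (h𝔉 : FSch.IsCohF 𝔛 h.1 𝔉) : IsIso (toReal h 𝔉) := by
  choose U hP hUW ι hι t N hxU hm using fun x : (𝔛.X 0 : Scheme.{u}) =>
    exists_finite_model (good h) (isQC_of_isFP h𝔉) (isFT_of_isFP h𝔉) (show x ∈ (⊤ : (𝔛.X 0).Opens) from trivial)
  haveI : ∀ x, Finite (ι x) := hι
  refine isIso_of_models (good h) (toReal h 𝔉) U (fun x => ⟨x, hxU x⟩) t N hm fun x => ?_
  refine isModel_realMod_of_levels h (isCoh_pullSys h 𝔉 h𝔉) (hP x) _ (N x) fun k => ?_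
  simp only [prM_toReal]
  exact isModel_lvP h k (hm x)

end Groth.Agent.H9FCoh
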