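import Groth.Agent.H9FCoh.PullSys
import Groth.Agent.FComplLib.IdealComap
import Groth.Agent.ModPairLib.Basic
import Groth.Agent.QCoh.Qcqs
import Groth.Agent.QCoh.VanIdeal

/-!
# Direct images of the structure sheaf along finite morphisms
-/

set_option autoImplicit false
set_option backward.isDefEq.respectTransparency false
set_option backward.isDefEq.respectTransparency.types false
set_option linter.style.haveILetI false

universe u

open CategoryTheory CategoryTheory.Limits AlgebraicGeometry Opposite TopologicalSpace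
open Groth.Agent.ClosedRinged
open Groth.Agent.RngSp (pt gm mp fns)

noncomputable section

namespace Groth.Agent.H9FCoh

/-- Generators and relations on small members of a basis give models. -/
theorem isModel_of_basis {X : TopCat.{u}} {O : TopCat.Sheaf CommRingCat.{u} X} {M : ModSite.Mod O} {U : Opens X}
    {ι : Type u} (t : ι → M.val.obj (op U)) (N : Submodule (Fn O U) (ι →₀ Fn O U)) (B : Opens X → Prop)
    (hB : ∀ (x : X) (V : Opens X), x ∈ V → ∃ W, B W ∧ x ∈ W ∧ W ≤ V)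
    (hgen : ∀ (W : Opens X), B W → ∀ (hWU : W ≤ U) (z : M.val.obj (op W)),
      ∃ v, cmb (fun i => res M hWU (t i)) v = z)
    (hrel : ∀ (W : Opens X), B W → ∀ (hWU : W ≤ U) (v : ι →₀ Fn O W),
      cmb (fun i => res M hWU (t i)) v = 0 → v ∈ pN (rr O hWU) N)
    (hN : ∀ n ∈ N, cmb t n = 0) : IsModel M U t N := by
  refine ⟨fun x hx z => ?_, fun x hx w => ⟨fun hw => ?_, fun hw => ?_⟩⟩
  · obtain ⟨V, hV, z', rfl⟩ := RngSp.exists_gm z
    obtain ⟨W, hW, hxW, hWle⟩ := hB x (U ⊓ V) ⟨hx, hV⟩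
    obtain ⟨v, hv⟩ := hgen W hW (hWle.trans inf_le_left) (res _ (hWle.trans inf_le_right) z')
    refine ⟨pv (gH O hxW) v, ?_⟩
    have := congrArg (fun q => gm M hxW q) hv
    simp only [RngSp.gm_res, gm_cmb_res] at this
    exact this
  · obtain ⟨V, hV, hxV, v, rfl⟩ := exists_pv_eq hx w
    rw [← gm_cmb_res hV v hxV, ← RngSp.gm_zero hxV] at hw
    obtain ⟨V', hV', hxV', he⟩ := (RngSp.gm_eq_iff hxV _ _).1 hw
    obtain ⟨W, hW, hxW, hWle⟩ := hB x V' hxV'
    have hWU : W ≤ U := hWle.trans (hV'.trans hV)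
    have h1 : cmb (fun i => res M hWU (t i)) (pv (rr O (hWle.trans hV')) v) = 0 := eq_of_gm fun y hy => by
      have h2 := congrArg (fun q => gm M (hWle hy) q) he
      simp only [RngSp.gm_res, gm_cmb_res, RngSp.gm_zero] at h2
      rw [gm_cmb_res, pv_gH_rr, RngSp.gm_zero]
      exact h2
    have h2 := pv_gH_mem (O := O) hWU hxW (hrel W hW hWU _ h1)
    rw [pv_gH_rr] at h2
    exact h2
  · refine LinearMap.mem_ker.1 ((Submodule.span_le.2 ?_ : pN (gH O hx) N ≤
      LinearMap.ker (gcmb fun i => gm M hx (t i))) hw)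
    rintro _ ⟨n, hn, rfl⟩
    rw [SetLike.mem_coe, LinearMap.mem_ker, ← gm_cmb, hN n hn, RngSp.gm_zero]

variable {𝔛 𝔜 : FSch.Sys.{u}} (hX : 𝔛.IsLocNoethFormal) (hY : 𝔜.IsLocNoethFormal) (f : 𝔛 ⟶ 𝔜)

/-- The functions of a level pulled back. -/
abbrev lp (k : ℕ) (U : (𝔜.X 0).Opens) : On hY k U →+* On hX k (fU f U) :=
  ((fl f k).appLE (𝔜.lvU hY.1 k U) (𝔛.lvU hX.1 k (fU f U)) (le_preimage hX hY f k U)).hom

theorem pr_shF (k : ℕ) (U : (𝔜.X 0).Opens) (a : Ox hY U) :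
    pr hX k (fU f U) (shF hX hY f U a) = lp hX hY f k U (pr hY k U a) :=
  congrArg (fun q => (q.hom.app (op U)).hom a) (FSch.Hom.sharp_proj f hX.1 hY.1 k)

theorem ker_tr_map (hfA : FSch.IsAdicHom f) [IsAffineHom (fl f 0)] {U : (𝔜.X 0).Opens} (hU : IsAffineOpen U)
    (k : ℕ) : RingHom.ker (tr hX k (fU f U)) = (RingHom.ker (tr hY k U)).map (lp hX hY f (k + 1) U) := by
  haveI := (hY.1 k).1
  rw [← ker_ι_ideal hX (hU.preimage _) k, ← ker_ι_ideal hY hU k, FComplLib.ker_of_isPullback (hfA k)]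
  exact _root_.ModPairLib.ideal_comap _ _ ⟨_, affine_lvU hY hU (k + 1)⟩
    ⟨_, affine_lvU hX (hU.preimage _) (k + 1)⟩ _

theorem finite_lp_pr [IsFinite (fl f 0)] {U : (𝔜.X 0).Opens} (hU : IsAffineOpen U) :
    ((lp hX hY f 0 U).comp (pr hY 0 U)).Finite := by
  have h1 : ∀ (W : (𝔛.X 0).Opens) (e : W = fl f 0 ⁻¹ᵁ 𝔜.lvU hY.1 0 U),
      ((fl f 0).appLE (𝔜.lvU hY.1 0 U) W e.le).hom.Finite := by
    rintro W rfl
    rw [← Scheme.Hom.app_eq_appLE]
    exact IsFinite.finite_app (fl f 0) _ (affine_lvU hY hU 0)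
  exact (h1 _ (FSch.Hom.lvU_preimage f hX.1 hY.1 0 U).symm).comp
    (RingHom.Finite.of_surjective _ (pr_surjective hY hU 0))

theorem finite_shF (hfA : FSch.IsAdicHom f) [IsFinite (fl f 0)] {U : (𝔜.X 0).Opens} (hU : IsAffineOpen U) :
    (shF hX hY f U).Finite ∧ ∀ k, RingHom.ker (pr hX k (fU f U)) = (J hY U ^ (k + 1)).map (shF hX hY f U) := by
  haveI := isNoetherianRing_Ox hY hU
  haveI := isAdicComplete_Ox hY hU
  letI : Algebra (Ox hY U) (Ox hX (fU f U)) := (shF hX hY f U).toAlgebra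
  letI : ∀ k, Algebra (Ox hY U) (On hX k (fU f U)) := fun k =>
    ((lp hX hY f k U).comp (pr hY k U)).toAlgebra
  have htr : ∀ k a, tr hX k (fU f U) (algebraMap (Ox hY U) (On hX (k + 1) (fU f U)) a) =
      algebraMap (Ox hY U) (On hX k (fU f U)) a := fun k a => by
    change tr hX k (fU f U) (lp hX hY f (k + 1) U (pr hY (k + 1) U a)) = lp hX hY f k U (pr hY k U a)
    rw [← pr_shF, ← pr_shF, tr_pr]
  let φ : ∀ k, On hX (k + 1) (fU f U) →ₗ[Ox hY U] On hX k (fU f U) := fun k =>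
    (({ tr hX k (fU f U) with commutes' := htr k } :
      On hX (k + 1) (fU f U) →ₐ[Ox hY U] On hX k (fU f U))).toLinearMap
  let π : ∀ k, Ox hX (fU f U) →ₗ[Ox hY U] On hX k (fU f U) := fun k =>
    (({ pr hX k (fU f U) with commutes' := pr_shF hX hY f k U } :
      Ox hX (fU f U) →ₐ[Ox hY U] On hX k (fU f U))).toLinearMap
  obtain ⟨-, hπ, hfin⟩ := Adic7.limit_quotient_system (Ox hY U) (J hY U) (IsNoetherian.noetherian _)
    (fun k => On hX k (fU f U)) φ (fun k => tr_surjective hX (hU.preimage _) k)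
    (fun k => SetLike.ext fun x => by
      rw [Ideal.smul_top_eq_map]
      change x ∈ RingHom.ker (tr hX k (fU f U)) ↔ _
      rw [ker_tr_map hX hY f hfA hU k, ← map_pr_J_pow hY hU k, Ideal.map_map]
      rfl)
    (Ox hX (fU f U)) π (fun k => LinearMap.ext fun x => tr_pr hX k (fU f U) x)
    (fun x hx => pr_ext hX fun k => (hx k).trans (map_zero (pr hX k (fU f U))).symm) (pr_lift hX)
  refine ⟨hfin inferInstance (finite_lp_pr hX hY f hU), fun k => SetLike.ext fun x => ?_⟩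
  have := SetLike.ext_iff.1 (hπ k).2 x
  rw [Ideal.smul_top_eq_map] at this
  exact this

/-- The direct image of the structure sheaf of a level. -/
abbrev Plev (k : ℕ) : (𝔜.X k).Modules :=
  (Scheme.Modules.pushforward (fl f k)).obj (Coh.structureModule (𝔛.X k))

/-- The direct image of the structure sheaf. -/
abbrev Pone : FSch.ModF 𝔜 hY.1 := (FSch.pushF f hX.1 hY.1).obj (FSch.unitF 𝔛 hX.1)

/-- The value of a function at a level. -/
def ev (k : ℕ) (U : (𝔜.X 0).Opens) : Ox hX (fU f U) →+* Γ(𝔛.X k, fl f k ⁻¹ᵁ 𝔜.lvU hY.1 k U) :=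
  ((𝔛.X k).presheaf.map (homOfLE (FSch.Hom.lvU_preimage f hX.1 hY.1 k U).le).op).hom.comp (pr hX k (fU f U))

theorem bijective_map_eq {Y : Scheme.{u}} {A B : Y.Opens} (e : A = B) :
    Function.Bijective (Y.presheaf.map (homOfLE e.le : A ⟶ B).op).hom := by
  subst e
  rw [Subsingleton.elim (homOfLE _) (𝟙 A), op_id, CategoryTheory.Functor.map_id]
  exact Function.bijective_id

theorem ev_surjective {U : (𝔜.X 0).Opens} [IsAffineHom (fl f 0)] (hU : IsAffineOpen U) (k : ℕ) :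
    Function.Surjective (ev hX hY f k U) :=
  (bijective_map_eq (FSch.Hom.lvU_preimage f hX.1 hY.1 k U)).2.comp (pr_surjective hX (hU.preimage _) k)

theorem ev_eq_zero_iff {U : (𝔜.X 0).Opens} (k : ℕ) (b : Ox hX (fU f U)) :
    ev hX hY f k U b = 0 ↔ pr hX k (fU f U) b = 0 :=
  let φ := ((𝔛.X k).presheaf.map (homOfLE (FSch.Hom.lvU_preimage f hX.1 hY.1 k U).le).op).hom
  ⟨fun h => (bijective_map_eq (FSch.Hom.lvU_preimage f hX.1 hY.1 k U)).1 (h.trans (map_zero φ).symm),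
    fun h => (congrArg φ h).trans (map_zero φ)⟩

theorem ev_shF (k : ℕ) (U : (𝔜.X 0).Opens) (a : Ox hY U) :
    ev hX hY f k U (shF hX hY f U a) = (fl f k).app (𝔜.lvU hY.1 k U) (pr hY k U a) := by
  change (𝔛.X k).presheaf.map _ (pr hX k (fU f U) (shF hX hY f U a)) = _
  rw [pr_shF]
  have := congrArg (fun q => q.hom (pr hY k U a)) (Scheme.Hom.appLE_map (fl f k) (le_preimage hX hY f k U)
    (homOfLE (FSch.Hom.lvU_preimage f hX.1 hY.1 k U).le).op)
  refine this.trans ?_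
  rw [← Scheme.Hom.app_eq_appLE]

theorem ev_res (k : ℕ) {U W : (𝔜.X 0).Opens} (hWU : W ≤ U) (b : (Pone hX hY f).val.obj (op U)) :
    ev hX hY f k W (res (Pone hX hY f) hWU b) =
      res (O := (𝔜.X k).sheaf) (Plev f k) (lvU_mono hY k hWU) (ev hX hY f k U b) := by
  change (𝔛.X k).presheaf.map _ (pr hX k (fU f W) (rO hX ((Opens.map (fl f 0).base).map (homOfLE hWU)).le b)) =
    (𝔛.X k).presheaf.map ((Opens.map (fl f k).base).map (homOfLE (lvU_mono hY k hWU))).op
      ((𝔛.X k).presheaf.map _ (pr hX k (fU f U) b))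
  rw [← rn_pr]
  change ((𝔛.X k).presheaf.map _ ≫ (𝔛.X k).presheaf.map _) (pr hX k (fU f U) b) =
    ((𝔛.X k).presheaf.map _ ≫ (𝔛.X k).presheaf.map _) (pr hX k (fU f U) b)
  rw [← Functor.map_comp, ← Functor.map_comp]
  rfl

theorem ev_cmb {ι : Type u} (k : ℕ) {U : (𝔜.X 0).Opens} (t : ι → (Pone hX hY f).val.obj (op U))
    (v : ι →₀ Ox hY U) :
    ev hX hY f k U (cmb (O := 𝔜.Osh hY.1) t v) =
      cmb (O := (𝔜.X k).sheaf) (M := Plev f k) (fun i => ev hX hY f k U (t i)) (pv (pr hY k U) v) := by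
  rw [cmb, cmb, pv, Finsupp.sum]
  refine Eq.trans ?_ (Finsupp.sum_of_support_subset (Finsupp.mapRange _ (map_zero _) v) Finsupp.support_mapRange
    (fun i a => (show fns (𝔜.X k).sheaf (𝔜.lvU hY.1 k U) from a) •
      (show (Plev f k).val.obj (op (𝔜.lvU hY.1 k U)) from ev hX hY f k U (t i)))
    (fun i _ => zero_smul (fns (𝔜.X k).sheaf (𝔜.lvU hY.1 k U)) _)).symm
  refine (map_sum (ev hX hY f k U) _ _).trans (Finset.sum_congr rfl fun i _ => ?_)
  change ev hX hY f k U (shF hX hY f U (v i) * (show Ox hX (fU f U) from t i)) = _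
  rw [map_mul, ev_shF, Finsupp.mapRange_apply]
  rfl

include hX hY in
theorem isAffineHom_fl [IsAffineHom (fl f 0)] (k : ℕ) : IsAffineHom (fl f k) := by
  refine isAffineHom_of_forall_exists_isAffineOpen _ fun y => ?_
  obtain ⟨U, hU, hyU, -⟩ := Opens.isBasis_iff_nbhd.1 (𝔜.X 0).isBasis_affineOpens
    (show 𝔜.gInv hY.1 k y ∈ (⊤ : (𝔜.X 0).Opens) from trivial)
  refine ⟨_, hyU, affine_lvU hY hU k, ?_⟩
  rw [FSch.Hom.lvU_preimage f hX.1 hY.1]
  exact affine_lvU hX (hU.preimage _) k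

include hX hY in
theorem isQCoh_Plev [IsAffineHom (fl f 0)] (k : ℕ) : Coh.IsQCoh (Plev f k) := by
  haveI := isAffineHom_fl hX hY f k
  exact QCoh.isQCoh_pushforward (fl f k) QCoh.isQCoh_structureModule

variable (hfA : FSch.IsAdicHom f) [IsFinite (fl f 0)] {U : (𝔜.X 0).Opens} {ι : Type u}
  (t : ι → (Pone hX hY f).val.obj (op U))

include hfA in
theorem mem_span_of_pr_eq_zero (hU : IsAffineOpen U) (hgen : ∀ z, ∃ v, cmb (O := 𝔜.Osh hY.1) t v = z) (k : ℕ)
    (b : Ox hX (fU f U)) (hb : pr hX k (fU f U) b = 0) :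
    ∃ j : ι →₀ Ox hY U, (∀ i, j i ∈ J hY U ^ (k + 1)) ∧ cmb (O := 𝔜.Osh hY.1) t j = b := by
  letI : Algebra (Ox hY U) (Ox hX (fU f U)) := (shF hX hY f U).toAlgebra
  have hb' : b ∈ (J hY U ^ (k + 1) • ⊤ : Submodule (Ox hY U) (Ox hX (fU f U))) := by
    rw [Ideal.smul_top_eq_map, Submodule.restrictScalars_mem]
    exact ((finite_shF hX hY f hfA hU).2 k).le hb
  have hlc : ∀ v, cmb (O := 𝔜.Osh hY.1) t v =
      Finsupp.linearCombination (Ox hY U) (fun i => (show Ox hX (fU f U) from t i)) v := fun v =>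
    ((Finsupp.linearCombination_apply (Ox hY U) v).symm)
  refine Submodule.smul_induction_on (p := fun z => ∃ j : ι →₀ Ox hY U, (∀ i, j i ∈ J hY U ^ (k + 1)) ∧
    cmb (O := 𝔜.Osh hY.1) t j = z) hb' (fun r hr z _ => ?_) ?_
  · obtain ⟨u, rfl⟩ := hgen z
    refine ⟨r • u, fun i => ?_, ?_⟩
    · rw [Finsupp.smul_apply, smul_eq_mul]; exact Ideal.mul_mem_right _ _ hr
    · rw [hlc, hlc, map_smul]
  · rintro a b ⟨ja, hja, rfl⟩ ⟨jb, hjb, rfl⟩
    refine ⟨ja + jb, fun i => by rw [Finsupp.add_apply]; exact add_mem (hja i) (hjb i), ?_⟩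
    rw [hlc, hlc, hlc, map_add]

include hfA in
theorem isModel_Plev (hU : IsAffineOpen U) (hgen : ∀ z, ∃ v, cmb (O := 𝔜.Osh hY.1) t v = z)
    (N : Submodule (Ox hY U) (ι →₀ Ox hY U)) (hN : ∀ v, cmb (O := 𝔜.Osh hY.1) t v = 0 ↔ v ∈ N) (k : ℕ) :
    IsModel (O := (𝔜.X k).sheaf) (Plev f k) (𝔜.lvU hY.1 k U) (fun i => ev hX hY f k U (t i))
      (pN (pr hY k U) N) := by
  refine isModel_of_span (isQCoh_Plev hX hY f k) (affine_lvU hY hU k) _ (fun z => ?_) _
    fun w => ⟨fun hw => ?_, fun hw => ?_⟩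
  · obtain ⟨b, rfl⟩ := ev_surjective hX hY f hU k z
    obtain ⟨v, rfl⟩ := hgen b
    exact ⟨_, (ev_cmb hX hY f k t v).symm⟩
  · obtain ⟨v, rfl⟩ := Finsupp.mapRange_surjective (pr hY k U) (map_zero _) (pr_surjective hY hU k) w
    change cmb (O := (𝔜.X k).sheaf) (M := Plev f k) _ (pv (pr hY k U) v) = 0 at hw
    rw [← ev_cmb] at hw
    obtain ⟨j, hj, hje⟩ := mem_span_of_pr_eq_zero hX hY f hfA t hU hgen k _ ((ev_eq_zero_iff hX hY f k _).1 hw)
    have hmem : v - j ∈ N := (hN _).1 (eq_of_gm fun x hx => by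
      rw [gm_cmb, pv_sub, map_sub, ← gm_cmb, ← gm_cmb, hje, RngSp.gm_zero]
      exact sub_self _)
    have := pv_mem_pN (pr hY k U) hmem
    rw [pv_sub] at this
    have hj0 : pv (pr hY k U) j = 0 := Finsupp.ext fun i => by
      rw [pv_apply, Finsupp.zero_apply, ← RingHom.mem_ker, ker_pr hY hU k]; exact hj i
    rwa [hj0, sub_zero] at this
  · obtain ⟨n, hn, rfl⟩ := exists_preimage_pN (pr hY k U) (pr_surjective hY hU k) hw
    rw [← ev_cmb, (hN n).2 hn]
    exact map_zero (ev hX hY f k U)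

include hfA in
theorem isModel_Pone (hU : IsAffineOpen U) [Finite ι] (hgen : ∀ z, ∃ v, cmb (O := 𝔜.Osh hY.1) t v = z)
    (N : Submodule (Ox hY U) (ι →₀ Ox hY U)) (hN : ∀ v, cmb (O := 𝔜.Osh hY.1) t v = 0 ↔ v ∈ N) :
    IsModel (Pone hX hY f) U t N := by
  refine isModel_of_basis t N (fun W => IsAffineOpen W)
    (fun x V hx => Opens.isBasis_iff_nbhd.1 (𝔜.X 0).isBasis_affineOpens hx) (fun W hW hWU z => ?_)
    (fun W hW hWU v hv => ?_) fun n hn => (hN n).2 hn
  · haveI := isNoetherianRing_Ox hY hW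
    haveI := isAdicComplete_Ox hY hW
    haveI : IsLocallyNoetherian (𝔜.X 0) := hY.2.2 0
    letI : Algebra (Ox hY W) (Ox hX (fU f W)) := (shF hX hY f W).toAlgebra
    haveI : Module.Finite (Ox hY W) (Ox hX (fU f W)) := (finite_shF hX hY f hfA hW).1
    let s : ι → Ox hX (fU f W) := fun i => res (Pone hX hY f) hWU (t i)
    have hm : IsModel (O := (𝔜.X 0).sheaf) (Plev f 0) (𝔜.lvU hY.1 0 W)
        (fun i => ev hX hY f 0 W (res (Pone hX hY f) hWU (t i))) _ :=
      Eq.mp (congrArg (fun s => IsModel (O := (𝔜.X 0).sheaf) (Plev f 0) (𝔜.lvU hY.1 0 W) s _)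
        (funext fun i => (ev_res hX hY f 0 hWU (t i)).symm))
        ((isModel_Plev hX hY f hfA t hU hgen N hN 0).mono (lvU_mono hY 0 hWU))
    have hP : (⊤ : Submodule (Ox hY W) (Ox hX (fU f W))) ≤
        LinearMap.range (Finsupp.linearCombination (Ox hY W) s) ⊔ J hY W • ⊤ := by
      intro z _
      obtain ⟨w, hw⟩ := hm.exists_cmb (schGood (𝔜.X 0)) (affine_lvU hY hW 0) (ev hX hY f 0 W z)
      obtain ⟨v, rfl⟩ := Finsupp.mapRange_surjective (pr hY 0 W) (map_zero _) (pr_surjective hY hW 0) w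
      change cmb (O := (𝔜.X 0).sheaf) (M := Plev f 0) _ (pv (pr hY 0 W) v) = _ at hw
      rw [← ev_cmb] at hw
      refine Submodule.mem_sup.2 ⟨_, ⟨v, rfl⟩, z - Finsupp.linearCombination (Ox hY W) s v, ?_,
        add_sub_cancel _ z⟩
      have h0 : ev hX hY f 0 W (z - Finsupp.linearCombination (Ox hY W) s v) = 0 := by
        rw [map_sub, sub_eq_zero, ← hw, Finsupp.linearCombination_apply]
        rfl
      have h1 := ((finite_shF hX hY f hfA hW).2 0).le ((ev_eq_zero_iff hX hY f 0 _).1 h0)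
      rw [pow_one] at h1
      rw [Ideal.smul_top_eq_map, Submodule.restrictScalars_mem]
      exact h1
    obtain ⟨v, hv⟩ := Submodule.le_of_le_smul_of_le_jacobson_bot Module.Finite.fg_top
      (IsAdicComplete.le_jacobson_bot (J hY W)) hP (show (show Ox hX (fU f W) from z) ∈ ⊤ from trivial)
    exact ⟨v, ((Finsupp.linearCombination_apply (Ox hY W) v).symm).trans hv⟩
  · haveI := isNoetherianRing_Ox hY hW
    haveI := isAdicComplete_Ox hY hW
    haveI : ∀ k, IsLocallyNoetherian (𝔜.X k) := hY.2.2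
    refine mem_of_forall_mem_sup (J hY W) (IsAdicComplete.le_jacobson_bot _) _ _ fun k => ?_
    rw [← ker_pr hY hW k]
    refine mem_pN_of_surjective _ (pr_surjective hY hW k) ?_
    have hm : IsModel (O := (𝔜.X k).sheaf) (Plev f k) (𝔜.lvU hY.1 k W)
        (fun i => ev hX hY f k W (res (Pone hX hY f) hWU (t i))) _ :=
      Eq.mp (congrArg (fun s => IsModel (O := (𝔜.X k).sheaf) (Plev f k) (𝔜.lvU hY.1 k W) s _)
        (funext fun i => (ev_res hX hY f k hWU (t i)).symm))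
        ((isModel_Plev hX hY f hfA t hU hgen N hN k).mono (lvU_mono hY k hWU))
    have h2 := (hm.cmb_eq_zero_iff (schGood (𝔜.X k)) (affine_lvU hY hW k) (v := pv (pr hY k W) v)).1
      (by rw [← ev_cmb, hv]; exact map_zero (ev hX hY f k W))
    refine pN_pN _ _ _ ?_
    rw [show (pr hY k W).comp (rO hY hWU) = (rn hY k hWU).comp (pr hY k U) from
      RingHom.ext fun s => (rn_pr hY k hWU s).symm]
    exact pN_pN_le _ _ _ h2

include hfA in
theorem isFP_Pone : IsFP (Pone hX hY f) := by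
  refine isFinitePresentation_of_models fun x => ?_
  obtain ⟨U, hU, hxU, -⟩ := Opens.isBasis_iff_nbhd.1 (𝔜.X 0).isBasis_affineOpens
    (show x ∈ (⊤ : (𝔜.X 0).Opens) from trivial)
  haveI := isNoetherianRing_Ox hY hU
  letI : Algebra (Ox hY U) (Ox hX (fU f U)) := (shF hX hY f U).toAlgebra
  haveI : Module.Finite (Ox hY U) (Ox hX (fU f U)) := (finite_shF hX hY f hfA hU).1
  obtain ⟨n, s, hs⟩ := Module.Finite.exists_fin (R := Ox hY U) (M := Ox hX (fU f U))
  let b : ULift.{u} (Fin n) → (Pone hX hY f).val.obj (op U) := fun j => s j.down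
  have hlc : ∀ v, cmb (O := 𝔜.Osh hY.1) b v =
      Finsupp.linearCombination (Ox hY U) (fun i => (show Ox hX (fU f U) from b i)) v := fun v =>
    ((Finsupp.linearCombination_apply (Ox hY U) v).symm)
  refine ⟨U, _, inferInstance, b, LinearMap.ker (Finsupp.linearCombination (Ox hY U)
    (fun i => (show Ox hX (fU f U) from b i))), hxU, IsNoetherian.noetherian _,
    isModel_Pone hX hY f hfA b hU (fun z => ?_) _ fun v => by rw [hlc]; rfl⟩
  have hz : (show Ox hX (fU f U) from z) ∈ Submodule.span (Ox hY U) (Set.range s) := hs ▸ trivial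
  rw [show Set.range s = Set.range (fun i => (show Ox hX (fU f U) from b i)) from
    Set.ext fun y => ⟨fun ⟨i, e⟩ => ⟨⟨i⟩, e⟩, fun ⟨i, e⟩ => ⟨i.down, e⟩⟩,
    ← Finsupp.range_linearCombination] at hz
  obtain ⟨v, hv⟩ := hz
  exact ⟨v, (hlc v).trans hv⟩

end Groth.Agent.H9FCoh
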