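import Groth.Agent.H9FCoh.Bound
import Groth.Agent.RngSp.Stalks
import Mathlib.CategoryTheory.Limits.Preserves.Shapes.Products

/-!
# Coproducts of modules on Noetherian ringed spaces and direct images
-/

set_option autoImplicit false
set_option backward.isDefEq.respectTransparency false
set_option backward.isDefEq.respectTransparency.types false
set_option linter.style.haveILetI false

universe u

open CategoryTheory CategoryTheory.Limits AlgebraicGeometry TopologicalSpace Opposite
open Groth.Agent.ClosedRinged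
open Groth.Agent.RngSp (pt gm mp fns nearby_finsum_coproduct)

noncomputable section

namespace Groth.Agent.H9FCoh

section Fix

variable {T : TopCat.{u}} {O : Sheaf (Opens.grothendieckTopology T) CommRingCat.{u}} {J : Type u}
  (M : J → ModSite.Mod O)

/-- The projection to a finite partial sum, seen as an endomorphism. -/
def finEnd (G : Finset J) : ∐ M ⟶ ∐ M :=
  haveI := Classical.decEq J
  Sigma.desc fun i => if i ∈ G then Sigma.ι M i else 0

/-- The projection onto a finite partial sum. -/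
def finProj (G : Finset J) : ∐ M ⟶ ∐ (fun j : G => M j.1) :=
  haveI := Classical.decEq J
  Sigma.desc fun i => if h : i ∈ G then Sigma.ι (fun j : G => M j.1) ⟨i, h⟩ else 0

/-- The inclusion of a finite partial sum. -/
def finIncl (G : Finset J) : ∐ (fun j : G => M j.1) ⟶ ∐ M := Sigma.desc fun j => Sigma.ι M j.1

theorem finProj_finIncl (G : Finset J) : finProj M G ≫ finIncl M G = finEnd M G := by
  classical
  refine Sigma.hom_ext _ _ fun i => ?_
  by_cases hi : i ∈ G <;> simp [finProj, finIncl, finEnd, hi]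

theorem mp_finEnd_sum {V : Opens T} {S G : Finset J} (hSG : S ⊆ G) (t : ∀ i, (M i).val.obj (op V)) :
    mp (finEnd M G) V (∑ i ∈ S, mp (Sigma.ι M i) V (t i)) = ∑ i ∈ S, mp (Sigma.ι M i) V (t i) := by
  classical
  rw [map_sum]
  refine Finset.sum_congr rfl fun i hi => ?_
  have h : Sigma.ι M i ≫ finEnd M G = Sigma.ι M i := by simp [finEnd, hSG hi]
  exact congrArg (fun φ : M i ⟶ ∐ M => mp φ V (t i)) h

/-- Near every point a section of a coproduct is fixed by a finite partial projection. -/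
theorem exists_fix_nearby {W : Opens T} (s : (∐ M).val.obj (op W)) {x : T} (hx : x ∈ W) :
    ∃ (V : Opens T) (hV : V ≤ W) (F : Finset J), x ∈ V ∧
      ∀ G, F ⊆ G → mp (finEnd M G) V (res (∐ M) hV s) = res (∐ M) hV s := by
  obtain ⟨V, hV, hxV, S, t, ht⟩ := nearby_finsum_coproduct s x hx
  exact ⟨V, hV, S, hxV, fun G hG => by rw [ht]; exact mp_finEnd_sum M hG t⟩

/-- Sections of a coproduct on a compact open come from finite partial sums. -/
theorem exists_fix_section {W : Opens T} (hW : IsCompact (W : Set T)) (s : (∐ M).val.obj (op W)) :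
    ∃ F : Finset J, ∀ G, F ⊆ G → mp (finEnd M G) W s = s := by
  classical
  choose V hV F hxV hF using fun x : W => exists_fix_nearby M s x.2
  obtain ⟨R, hR⟩ := hW.elim_finite_subcover (fun x : W => (V x : Set T)) (fun x => (V x).2)
    fun y hy => Set.mem_iUnion.2 ⟨⟨y, hy⟩, hxV ⟨y, hy⟩⟩
  refine ⟨R.biUnion F, fun G hG => eq_of_gm fun x hx => ?_⟩
  obtain ⟨y, hy⟩ := Set.mem_iUnion.1 (hR hx)
  obtain ⟨hyR, hxy⟩ := Set.mem_iUnion.1 hy
  rw [← RngSp.gm_res (hV y) hxy, ← RngSp.mp_res,
    hF y G ((Finset.subset_biUnion_of_mem F hyR).trans hG)]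
  exact RngSp.gm_res (hV y) hxy s

theorem isIso_of_bijective_mp {A B : ModSite.Mod O} (c : A ⟶ B) (h : ∀ W, Function.Bijective (mp c W)) :
    IsIso c := by
  haveI := SiteCmpLib.Secs.toSheaf_reflectsIso (ModSite.ringSh O)
  haveI : IsIso ((SheafOfModules.toSheaf (ModSite.ringSh O)).map c) := by
    haveI : IsIso ((SheafOfModules.toSheaf (ModSite.ringSh O)).map c).hom := by
      refine @NatIso.isIso_of_isIso_app _ _ _ _ _ _ _ fun W => ?_
      exact (ConcreteCategory.isIso_iff_bijective _).2 (h W.unop)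
    exact @isIso_of_fully_faithful _ _ _ _ (sheafToPresheaf _ _) _ _ _ _ _ ‹_›
  exact isIso_of_reflects_iso c (SheafOfModules.toSheaf (ModSite.ringSh O))

/-- A map out of a coproduct compatible with the finite projections is injective on sections. -/
theorem injective_of_proj {N : ModSite.Mod O} (c : ∐ M ⟶ N)
    (hq : ∀ G : Finset J, ∃ q : N ⟶ ∐ (fun j : G => M j.1), c ≫ q = finProj M G) (W : Opens T) :
    Function.Injective (mp c W) := by
  refine (injective_iff_map_eq_zero _).2 fun s hs => eq_of_gm fun y hy => ?_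
  obtain ⟨V, hV, G, hyV, hG⟩ := exists_fix_nearby M s hy
  obtain ⟨q, hq⟩ := hq G
  have h1 : finEnd M G = c ≫ q ≫ finIncl M G := by
    rw [← finProj_finIncl, ← hq, Category.assoc]
  have h0 : res (∐ M) hV s = 0 := by
    rw [← hG G subset_rfl, h1]
    show mp (q ≫ finIncl M G) V (mp c V (res (∐ M) hV s)) = 0
    rw [RngSp.mp_res c hV s, hs]
    exact (congrArg _ (map_zero _)).trans (map_zero _)
  rw [← RngSp.gm_res hV hyV, h0, RngSp.gm_zero, RngSp.gm_zero]

/-- A map into a module in which sections are fixed by liftable endomorphisms is surjective. -/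
theorem surjective_of_sect {A N : ModSite.Mod O} (c : A ⟶ N) (W : Opens T)
    (h : ∀ t : N.val.obj (op W), ∃ e : N ⟶ A, mp (e ≫ c) W t = t) :
    Function.Surjective (mp c W) := fun t => by
  obtain ⟨e, he⟩ := h t
  exact ⟨mp e W t, he⟩

/-- Finite open coverings. -/
def finCovers (T : TopCat.{u}) [NoetherianSpace T] : QCoh.Ab.CoverSystem T where
  Good _ := True
  Cov V ι U := Finite ι ∧ (∀ i, U i ≤ V) ∧ V ≤ ⨆ i, U i
  le h := h.2.1
  covers h := h.2.2
  inter _ _ _ := trivial
  exists_refinement {V} _ N hN := by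
    obtain ⟨s, hs⟩ := (NoetherianSpace.isCompact (V : Set T)).elim_finite_subcover
      (fun x : V => (N x : Set T)) (fun x => (N x).2) fun x hx => Set.mem_iUnion.2 ⟨⟨x, hx⟩, hN ⟨x, hx⟩⟩
    refine ⟨s, fun i => N i.1 ⊓ V, ⟨inferInstance, fun _ => inf_le_right, fun x hx => ?_⟩,
      fun i => ⟨i.1, inf_le_left⟩⟩
    obtain ⟨y, hy⟩ := Set.mem_iUnion.1 (hs hx)
    obtain ⟨hys, hy⟩ := Set.mem_iUnion.1 hy
    exact Opens.mem_iSup.2 ⟨⟨y, hys⟩, hy, hx⟩

/-- A module without Cech cohomology for finite coverings. -/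
def FinAcyclic [NoetherianSpace T] (N : ModSite.Mod O) : Prop := (finCovers T).Acyclic (ModSite.toAb N)

open QCoh.Ab in
/-- Coproducts of injective modules on a Noetherian space are acyclic. -/
theorem finAcyclic_sigma [NoetherianSpace T] [∀ i, Injective (M i)] : FinAcyclic (∐ M) := by
  classical
  intro V _ ι U hU p q hqn hdq
  haveI : Finite ι := hU.1
  haveI : Fintype ι := Fintype.ofFinite ι
  choose F hF using fun σ : Fin (p + 2) → ι =>
    exists_fix_section M (NoetherianSpace.isCompact _) (q σ ⟨⨅ a, U (σ a), fun a => iInf_le _ a⟩)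
  let G := Finset.univ.biUnion F
  let r := ((SheafOfModules.toSheaf _).map (finProj M G)).hom
  let i := ((SheafOfModules.toSheaf _).map (finIncl M G)).hom
  have hri : push i (push r q) = q := by
    refine natural_ext (push_natural _ (push_natural _ hqn)) hqn fun σ => ?_
    exact (congrArg (fun φ : ∐ M ⟶ ∐ M => mp φ _ _) (finProj_finIncl M G)).trans
      (hF σ G (Finset.subset_biUnion_of_mem F (Finset.mem_univ σ)))
  haveI : Injective (∐ fun j : G => M j.1) :=
    haveI := Abelian.hasFiniteBiproducts (C := ModSite.Mod O)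
    Injective.of_iso (biproduct.isoCoproduct fun j : G => M j.1) inferInstance
  obtain ⟨b, hb, hdb⟩ := acyclic_of_injective_mod (∐ fun j : G => M j.1) U p (push r q)
    (push_natural r hqn) (by rw [d_push, hdq]; funext σ W; exact map_zero _)
  exact ⟨push i b, push_natural i hb, by rw [d_push, hdb, hri]⟩

end Fix

variable {𝔛 𝔜 : FSch.Sys.{u}} (h𝔛 : 𝔛.IsLocNoethFormal) (h𝔜 : 𝔜.IsFormal) (g : 𝔛 ⟶ 𝔜)

include h𝔛 in
theorem noetherianSpace_X0 [CompactSpace (𝔛.X 0)] :
    NoetherianSpace (𝔛.X 0).toPresheafedSpace.carrier := by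
  haveI := h𝔛.2.2 0
  haveI : AlgebraicGeometry.IsNoetherian (𝔛.X 0) := {}
  exact inferInstance

variable [NoetherianSpace (𝔛.X 0).toPresheafedSpace.carrier]

/-- Acyclic modules for finite coverings have no higher direct images. -/
theorem isZero_RpushF_of_finAcyclic [HasInjectiveResolutions (FSch.ModF 𝔛 h𝔛.1)]
    (M : FSch.ModF 𝔛 h𝔛.1) (hM : FinAcyclic M) (i : ℕ) :
    IsZero ((FSch.RpushF g h𝔛.1 h𝔜 (i + 1)).obj M) := by
  haveI := enoughInjectives_of_hasInjectiveResolutions (C := FSch.ModF 𝔛 h𝔛.1)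
  haveI : (FSch.pushF g h𝔛.1 h𝔜).IsRightAdjoint := (FSch.homMor g h𝔛.1 h𝔜).adj.isRightAdjoint
  haveI : PreservesFiniteLimits (FSch.pushF g h𝔛.1 h𝔜) := inferInstance
  refine SitePullUnit.isZero_rightDerived_of_class (FSch.pushF g h𝔛.1 h𝔜)
    FinAcyclic (fun S hS h₁ h₂ => ?_) (fun S hS h₁ h₂ => ?_) hM i
  · refine QCoh.Ab.Acyclic_X₃ (finCovers _) (shortExact_abF h𝔛 hS) h₁ fun _ _ _ U _ => ?_
    haveI := h₂
    exact acyclic_of_injective_mod (O := 𝔛.Osh h𝔛.1) S.X₂ U
  · have he : Epi ((SheafOfModules.toSheaf _).map ((FSch.pushF g h𝔛.1 h𝔜).map S.g)) := by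
      refine (TopCat.Sheaf.isLocallySurjective_iff_epi _).1
        ((TopCat.Presheaf.isLocallySurjective_iff _).2 fun U t y hy => ?_)
      exact ⟨U, le_rfl, QCoh.Ab.sections_surjective (finCovers _) (shortExact_abF h𝔛 hS) h₁ trivial _, hy⟩
    exact (SheafOfModules.toSheaf _).epi_of_epi_map he

/-- Direct image commutes with coproducts of modules. -/
theorem preservesColimitsOfShape_pushF_discrete (J : Type u) :
    PreservesColimitsOfShape (Discrete J) (FSch.pushF g h𝔛.1 h𝔜) := by
  classical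
  suffices h : ∀ M : J → FSch.ModF 𝔛 h𝔛.1, PreservesColimit (Discrete.functor M) (FSch.pushF g h𝔛.1 h𝔜) from
    ⟨fun {K} => haveI := h (fun j => K.obj ⟨j⟩); preservesColimit_of_iso_diagram _ Discrete.natIsoFunctor.symm⟩
  intro M
  let P := FSch.pushF g h𝔛.1 h𝔜
  haveI : P.IsRightAdjoint := (FSch.homMor g h𝔛.1 h𝔜).adj.isRightAdjoint
  let c := sigmaComparison P M
  let σ := fun G : Finset J => sigmaComparison P (fun j : G => M j.1)
  haveI : ∀ G : Finset J, IsIso (σ G) := fun G => inferInstance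
  have hnat : ∀ G : Finset J, c ≫ P.map (finProj M G) ≫ inv (σ G) = finProj (fun j => P.obj (M j)) G := fun G => by
    rw [← Category.assoc, IsIso.comp_inv_eq]
    refine Sigma.hom_ext _ _ fun j => ?_
    rw [ι_comp_sigmaComparison_assoc, ← P.map_comp, finProj, finProj, Sigma.ι_desc, Sigma.ι_desc_assoc]
    by_cases hj : j ∈ G
    · rw [dif_pos hj, dif_pos hj, ι_comp_sigmaComparison]
    · rw [dif_neg hj, dif_neg hj, P.map_zero, zero_comp]
  have hsec : ∀ G : Finset J, (P.map (finProj M G) ≫ inv (σ G) ≫ finIncl (fun j => P.obj (M j)) G) ≫ c =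
      P.map (finEnd M G) := fun G => by
    have h' : finIncl (fun j => P.obj (M j)) G ≫ c = σ G ≫ P.map (finIncl M G) := by
      refine Sigma.hom_ext _ _ fun j => ?_
      rw [finIncl, finIncl, Sigma.ι_desc_assoc, ι_comp_sigmaComparison, ι_comp_sigmaComparison_assoc,
        ← P.map_comp, Sigma.ι_desc]
    rw [Category.assoc, Category.assoc, h', IsIso.inv_hom_id_assoc, ← P.map_comp, finProj_finIncl]
  have hbij : ∀ W, Function.Bijective (mp c W) := fun W => by
    refine ⟨injective_of_proj _ c (fun G => ⟨_, hnat G⟩) W, surjective_of_sect c W fun t => ?_⟩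
    obtain ⟨G, hG⟩ := exists_fix_section M (W := ((g : FSch.Hom 𝔛 𝔜).app 0) ⁻¹ᵁ W)
      (NoetherianSpace.isCompact _) t
    refine ⟨P.map (finProj M G) ≫ inv (σ G) ≫ finIncl (fun j => P.obj (M j)) G, ?_⟩
    rw [hsec]
    exact hG G subset_rfl
  haveI : IsIso c := isIso_of_bijective_mp c hbij
  exact PreservesCoproduct.of_iso_comparison P M

end Groth.Agent.H9FCoh
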