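import Groth.Agent.H9FCoh.Model
import Groth.Agent.QCoh.Ab.Cartan

/-!
# Injective modules on ringed spaces are Cech acyclic
-/

set_option autoImplicit false
set_option backward.isDefEq.respectTransparency false
set_option backward.isDefEq.respectTransparency.types false
set_option linter.style.haveILetI false

universe u

open CategoryTheory CategoryTheory.Limits TopologicalSpace Opposite
open Groth.Agent.RngSp (pt gm mp fns gR gR_res gm_smul gm_res gm_add gm_zero)
open Groth.Agent.ClosedRinged

noncomputable section

namespace Groth.Agent.H9FCoh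

variable {X : TopCat.{u}} {O : TopCat.Sheaf CommRingCat.{u} X} (M : ModSite.Mod O)

/-- The germ of a function as a ring map. -/
def gRHom {U : Opens X} {x : X} (hx : x ∈ U) : fns O U →+* ModSite.stalkRing (pt x) O :=
  gH O hx

/-- Stalks as modules over sections. -/
abbrev godFib (U : (Opens X)ᵒᵖ) (x : U.unop) : ModuleCat.{u} ((ModSite.ringSh O).obj.obj U) :=
  (ModuleCat.restrictScalars (gRHom (O := O) (U := U.unop) x.2)).obj (ModuleCat.of _ (ModSite.stalkAb (pt x.1) M))

/-- Families of germs. -/
abbrev godOb (U : (Opens X)ᵒᵖ) : ModuleCat.{u} ((ModSite.ringSh O).obj.obj U) :=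
  ModuleCat.of _ (∀ x : U.unop, godFib M U x)

/-- The presheaf of families of germs. -/
def godPre : PresheafOfModules.{u} (ModSite.ringSh O).obj where
  obj := godOb M
  map {U V} i := ModuleCat.ofHom
    (Y := (ModuleCat.restrictScalars ((ModSite.ringSh O).obj.map i).hom).obj (godOb M V))
    { toFun := fun s x => (s ⟨x.1, i.unop.le x.2⟩ : ModSite.stalkAb (pt x.1) M)
      map_add' := fun _ _ => rfl
      map_smul' := fun r s => by
        funext x
        change gR (O := O) (i.unop.le x.2) r • (s ⟨x.1, i.unop.le x.2⟩ : ModSite.stalkAb (pt x.1) M) =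
          gR (O := O) x.2 (resO O i.unop.le r) • (s ⟨x.1, i.unop.le x.2⟩ : ModSite.stalkAb (pt x.1) M)
        exact congrArg (fun t => t • (s ⟨x.1, i.unop.le x.2⟩ : ModSite.stalkAb (pt x.1) M))
          (gR_res (O := O) i.unop.le x.2 r).symm }
  map_id U := ModuleCat.hom_ext (LinearMap.ext fun _ => rfl)
  map_comp i j := ModuleCat.hom_ext (LinearMap.ext fun _ => rfl)

/-- The Godement module. -/
def godMod : ModSite.Mod O where
  val := godPre M
  isSheaf := QCoh.Ab.pointwise_isSheaf fun x => ModSite.stalkAb (pt x) M

/-- The embedding into the Godement module. -/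
def toGodMod : M ⟶ godMod M :=
  ⟨PresheafOfModules.homMk
    { app := fun U => AddCommGrpCat.ofHom (AddMonoidHom.mk'
        (fun s : M.val.obj U => (fun x => gm M x.2 s : ∀ x : U.unop, ModSite.stalkAb (pt x.1) M))
        fun s t => funext fun x => gm_add x.2 s t)
      naturality := fun U V i => AddCommGrpCat.ext fun s => funext fun x =>
        gm_res i.unop.le x.2 s }
    fun U r s => funext fun x => by
      exact gm_smul (M := M) x.2 r s⟩

instance : Mono (toGodMod M) := by
  haveI : Mono ((SheafOfModules.toSheaf (ModSite.ringSh O)).map (toGodMod M)) := by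
    haveI : Mono ((SheafOfModules.toSheaf (ModSite.ringSh O)).map (toGodMod M)).hom := by
      refine @NatTrans.mono_of_mono_app _ _ _ _ _ _ _ fun W => ?_
      refine ConcreteCategory.mono_of_injective _ fun s t hst => ?_
      exact eq_of_gm (M := M) fun x hx => congrFun hst ⟨x, hx⟩
    exact (sheafToPresheaf _ _).mono_of_mono_map this
  exact (SheafOfModules.toSheaf _).mono_of_mono_map this

/-- Injective modules are Cech acyclic. -/
theorem acyclic_of_injective_mod [Injective M] {ι : Type u} (U : ι → Opens X) :
    QCoh.Ab.Acyclic (ModSite.toAb M).obj U :=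
  (QCoh.Ab.pointwise_acyclic (fun x => ModSite.stalkAb (pt x) M) U).of_retract
    ((SheafOfModules.toSheaf _).map (toGodMod M)).hom
    ((SheafOfModules.toSheaf _).map (Injective.factorThru (𝟙 M) (toGodMod M))).hom
    (congrArg (fun φ : M ⟶ M => ((SheafOfModules.toSheaf _).map φ).hom)
      (Injective.comp_factorThru (𝟙 M) (toGodMod M)))

end Groth.Agent.H9FCoh
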