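import Groth.Agent.H9FCoh.Extension
import Groth.Agent.H9FCoh.InjAcyclic
import Groth.Agent.SiteBase.Cohom
import Groth.Prelude.Def_WeakSerre

/-!
# Modules with models on every affine open of a formal scheme
-/

set_option autoImplicit false
set_option backward.isDefEq.respectTransparency false
set_option backward.isDefEq.respectTransparency.types false
set_option linter.style.haveILetI false

universe u

open CategoryTheory CategoryTheory.Limits AlgebraicGeometry TopologicalSpace Opposite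
open Groth.Agent.ClosedRinged
open Groth.Agent.RngSp (pt gm mp fns)

noncomputable section

namespace Groth.Agent.H9FCoh

variable {𝔛 : FSch.Sys.{u}} (h : 𝔛.IsLocNoethFormal)

/-- Modules with a model on every affine open. -/
def lqP : ObjectProperty (FSch.ModF 𝔛 h.1) := fun M =>
  ∀ V : (𝔛.X 0).Opens, IsAffineOpen V → ∃ (ι : Type u) (t : ι → M.val.obj (op V))
    (N : Submodule (Ox h V) (ι →₀ Ox h V)), IsModel M V t N

theorem lqP_of_ind (M : FSch.ModF 𝔛 h.1)
    (hM : (ObjectProperty.ind.{u} fun 𝔊 : FSch.ModF 𝔛 h.1 => FSch.IsCohF 𝔛 h.1 𝔊) M) : lqP h M :=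
  fun _ hV => exists_model_ind h M hM hV

theorem isQC_of_lqP (M : FSch.ModF 𝔛 h.1) (hM : lqP h M) : IsQC M := by
  refine isQuasicoherent_of_models (M := M) fun x => ?_
  obtain ⟨U, hU, hxU, -⟩ := Opens.isBasis_iff_nbhd.1 (𝔛.X 0).isBasis_affineOpens (Opens.mem_top x)
  obtain ⟨ι, t, N, hm⟩ := hM U hU
  exact ⟨U, ι, t, N, hxU, hm⟩

instance isClosedUnderIsomorphisms_lqP : (lqP h).IsClosedUnderIsomorphisms :=
  ⟨fun e hM V hV => let ⟨ι, t, N, hm⟩ := hM V hV; ⟨ι, _, N, hm.map_iso e⟩⟩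

theorem lqP_cokernel {M M' : FSch.ModF 𝔛 h.1} (f : M ⟶ M') (hM : lqP h M) (hM' : lqP h M') :
    lqP h (cokernel f) := fun V hV => by
  obtain ⟨ι, t, N, hm⟩ := hM V hV
  obtain ⟨κ, t', N', hm'⟩ := hM' V hV
  choose col hcol using fun i => hm'.exists_cmb (good h) hV (mp f V (t i))
  exact ⟨_, _, _, isModel_cokernel f hm hm' fun i => (hcol i).symm⟩

theorem lqP_kernel {M M' : FSch.ModF 𝔛 h.1} (f : M ⟶ M') (hM : lqP h M) (hM' : lqP h M') :
    lqP h (kernel f) := fun V hV => by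
  obtain ⟨ι, t, N, hm⟩ := hM V hV
  obtain ⟨κ, t', N', hm'⟩ := hM' V hV
  choose col hcol using fun i => hm'.exists_cmb (good h) hV (mp f V (t i))
  obtain ⟨s, -, hs⟩ := isModel_kernel f ((good h).flat V hV) hm hm' (fun i => (hcol i).symm)
    (g := fun j : N'.comap (Finsupp.linearCombination (Ox h V) col) => (j : ι →₀ Ox h V))
    ((congrArg _ Subtype.range_coe).trans (Submodule.span_eq _))
  exact ⟨_, s, _, hs⟩

theorem lqP_extension {S : ShortComplex (FSch.ModF 𝔛 h.1)} (hS : S.ShortExact) (h₁ : lqP h S.X₁)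
    (h₃ : lqP h S.X₃) : lqP h S.X₂ := fun V hV => by
  obtain ⟨ι, tA, NA, hA⟩ := h₁ V hV
  obtain ⟨κ, tB, NB, hB⟩ := h₃ V hV
  choose l hl using fun k => sections_surjective_of_isModel h hS hV hA (tB k)
  exact ⟨_, _, _, isModel_extension (good h) hS hV hA hB l hl⟩

theorem lqP_zero {Z : FSch.ModF 𝔛 h.1} (hZ : IsZero Z) : lqP h Z := fun V _ => by
  have h0 : ∀ (x : (𝔛.X 0)) (z : ModSite.stalkAb (pt x) Z), z = 0 := fun x z => by
    obtain ⟨U, hx, y, rfl⟩ := RngSp.exists_gm z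
    rw [show y = 0 from (congrArg (fun q : Z ⟶ Z => mp q U y) (hZ.eq_of_src (𝟙 Z) 0))]
    exact RngSp.gm_zero hx
  refine ⟨PEmpty.{u + 1}, fun i => i.elim, ⊤, fun x hx z => ⟨0, by rw [map_zero, h0 x z]⟩, fun x hx w => ?_⟩
  rw [show w = 0 from Finsupp.ext fun i => i.elim]
  exact ⟨fun _ => zero_mem _, fun _ => map_zero _⟩

instance isWeakSerre_lqP : WSerre.IsWeakSerre (lqP h) where
  exists_zero := ⟨_, isZero_zero _, lqP_zero h (isZero_zero _)⟩
  kernels_le := by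
    rintro _ ⟨f, k, hk, hX, hY⟩
    exact (lqP h).prop_of_iso (IsLimit.conePointUniqueUpToIso (kernelIsKernel f) hk) (lqP_kernel h f hX hY)
  cokernels_le := by
    rintro _ ⟨f, k, hk, hX, hY⟩
    exact (lqP h).prop_of_iso (IsColimit.coconePointUniqueUpToIso (cokernelIsCokernel f) hk) (lqP_cokernel h f hX hY)
  prop_X₂_of_shortExact hS h₁ h₃ := lqP_extension h hS h₁ h₃

theorem acyclic_of_lqP (M : FSch.ModF 𝔛 h.1) (hM : lqP h M) :
    (QCoh.stdCovers (𝔛.X 0)).Acyclic (abF h M) := fun W hW ι U hU => by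
  obtain ⟨ι', t, N, hm⟩ := hM W hW
  exact acyclic_of_isModel h W M hW hm le_rfl hU

theorem subsingleton_HU_of_lqP (M : FSch.ModF 𝔛 h.1) (hM : lqP h M) {V : (𝔛.X 0).Opens} (hV : IsAffineOpen V)
    (n : ℕ) : Subsingleton (ModSite.HU (𝔛.Osh h.1) M (n + 1) V) :=
  SiteBase.subsingleton_HU_of_class (J := Opens.grothendieckTopology (𝔛.X 0).toPresheafedSpace.carrier)
    (fun G => (QCoh.stdCovers (𝔛.X 0)).Acyclic G) (fun W => IsAffineOpen W)
    (fun E hE h₁ h₂ => QCoh.Ab.Acyclic_X₃ (QCoh.stdCovers (𝔛.X 0)) hE h₁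
      fun _ _ _ U _ => @QCoh.Ab.acyclic_of_injective _ E.X₂ h₂ _ U)
    (fun _ hE h₁ _ _ hW => QCoh.Ab.sections_surjective (QCoh.stdCovers (𝔛.X 0)) hE h₁ hW)
    (acyclic_of_lqP h M hM) hV n

end Groth.Agent.H9FCoh
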