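import Groth.Agent.H9FCoh.Vanish
import Groth.Agent.H9FCoh.InjAcyclic
import Groth.Agent.QCoh.Ab.Rpush
import Groth.Agent.SitePullUnit.DerivedClass

/-!
# Vanishing of higher direct images of ind-coherent modules along affine morphisms
-/

set_option autoImplicit false
set_option backward.isDefEq.respectTransparency false
set_option backward.isDefEq.respectTransparency.types false
set_option linter.style.haveILetI false

universe u

open CategoryTheory CategoryTheory.Limits AlgebraicGeometry TopologicalSpace Opposite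

noncomputable section

namespace Groth.Agent.H9FCoh

variable {𝔛 𝔜 : FSch.Sys.{u}} (h𝔛 : 𝔛.IsLocNoethFormal) (h𝔜 : 𝔜.IsLocNoethFormal) (g : 𝔛 ⟶ 𝔜)

/-- Short exact sequences of modules give short exact sequences of abelian sheaves. -/
theorem shortExact_abF {S : ShortComplex (FSch.ModF 𝔛 h𝔛.1)} (hS : S.ShortExact) :
    (S.map (SheafOfModules.toSheaf _)).ShortExact := by
  haveI := ModTensor.preservesColimits_toSheaf (𝔛.Osh h𝔛.1)
  exact hS.map_of_exact (SheafOfModules.toSheaf _)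

theorem preimageBasis_of_isAffineHom [IsAffineHom ((g : FSch.Hom 𝔛 𝔜).app 0)] :
    QCoh.Ab.PreimageBasis ((g : FSch.Hom 𝔛 𝔜).app 0).base (QCoh.stdCovers (𝔛.X 0)) := fun U y hy => by
  obtain ⟨_, ⟨W, hW, rfl⟩, hyW, hWU⟩ := (𝔜.X 0).isBasis_affineOpens.exists_subset_of_mem_open hy U.2
  exact ⟨W, hWU, hyW, hW.preimage ((g : FSch.Hom 𝔛 𝔜).app 0)⟩

theorem enoughInjectives_of_hasInjectiveResolutions {C : Type*} [Category C] [Abelian C]
    [HasInjectiveResolutions C] : EnoughInjectives C :=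
  ⟨fun X => ⟨{ J := (injectiveResolution X).cocomplex.X 0
               injective := (injectiveResolution X).injective 0
               f := (injectiveResolution X).ι.f 0
               mono := inferInstance }⟩⟩

theorem isZero_RpushF_of_acyclic [IsAffineHom ((g : FSch.Hom 𝔛 𝔜).app 0)]
    [HasInjectiveResolutions (FSch.ModF 𝔛 h𝔛.1)] (M : FSch.ModF 𝔛 h𝔛.1)
    (hM : (QCoh.stdCovers (𝔛.X 0)).Acyclic (abF h𝔛 M)) (i : ℕ) :
    IsZero ((FSch.RpushF g h𝔛.1 h𝔜.1 (i + 1)).obj M) := by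
  haveI := enoughInjectives_of_hasInjectiveResolutions (C := FSch.ModF 𝔛 h𝔛.1)
  haveI : (FSch.pushF g h𝔛.1 h𝔜.1).IsRightAdjoint := (FSch.homMor g h𝔛.1 h𝔜.1).adj.isRightAdjoint
  haveI : PreservesFiniteLimits (FSch.pushF g h𝔛.1 h𝔜.1) := inferInstance
  refine SitePullUnit.isZero_rightDerived_of_class (FSch.pushF g h𝔛.1 h𝔜.1)
    (fun M => (QCoh.stdCovers (𝔛.X 0)).Acyclic (abF h𝔛 M)) (fun S hS h₁ h₂ => ?_) (fun S hS h₁ h₂ => ?_) hM i
  · refine QCoh.Ab.Acyclic_X₃ (QCoh.stdCovers (𝔛.X 0)) (shortExact_abF h𝔛 hS) h₁ fun _ _ _ U _ => ?_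
    haveI := h₂
    exact acyclic_of_injective_mod (O := 𝔛.Osh h𝔛.1) S.X₂ U
  · have he := (QCoh.Ab.push_shortExact ((g : FSch.Hom 𝔛 𝔜).app 0).base (shortExact_abF h𝔛 hS)
      (preimageBasis_of_isAffineHom g) h₁).epi_g
    haveI : Epi ((SheafOfModules.toSheaf _).map ((FSch.pushF g h𝔛.1 h𝔜.1).map S.g)) := he
    exact (SheafOfModules.toSheaf _).epi_of_epi_map this

theorem isZero_RpushF_of_ind [IsAffineHom ((g : FSch.Hom 𝔛 𝔜).app 0)]
    [HasInjectiveResolutions (FSch.ModF 𝔛 h𝔛.1)] (M : FSch.ModF 𝔛 h𝔛.1)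
    (hM : (ObjectProperty.ind.{u} fun 𝔊 : FSch.ModF 𝔛 h𝔛.1 => FSch.IsCohF 𝔛 h𝔛.1 𝔊) M) (i : ℕ) :
    IsZero ((FSch.RpushF g h𝔛.1 h𝔜.1 (i + 1)).obj M) := by
  obtain ⟨J, hJ, hJf, pres, hP⟩ := hM
  exact isZero_RpushF_of_acyclic h𝔛 h𝔜 g M
    (fun V hV ι U hU => acyclic_ind h𝔛 hU pres.isColimit hP) i

end Groth.Agent.H9FCoh
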