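import Groth.Agent.H9FCoh.LQ
import Groth.Agent.H9FCoh.AffPush
import Groth.Agent.SiteCmpLib.Secs.SiteTower
import Groth.Agent.S9066
import Groth.Agent.S0484

/-!
# Affine morphisms of formal schemes have cohomological amplitude zero
-/

set_option autoImplicit false
set_option backward.isDefEq.respectTransparency false
set_option backward.isDefEq.respectTransparency.types false
set_option linter.style.haveILetI false

universe u

open CategoryTheory CategoryTheory.Limits AlgebraicGeometry TopologicalSpace Opposite DerivedCategory Pretriangulated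

attribute [local instance] HasDerivedCategory.standard

noncomputable section

namespace Groth.Agent.H9FCoh

/-- The derived direct image of a bounded complex is bounded above if it is on sheaves. -/
theorem isZero_homology_RG_of_bdd {A B : Type (u + 1)} [Category.{u} A] [Abelian A] [IsGrothendieckAbelian.{u} A]
    [Category.{u} B] [Abelian B] (G : A ⥤ B) [G.Additive]
    [(G.mapHomotopyCategory (ComplexShape.up ℤ) ⋙ Qh).HasRightDerivedFunctor
      (HomotopyCategory.quasiIso A (ComplexShape.up ℤ))]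
    (P : ObjectProperty A) [WSerre.IsWeakSerre P] (N : ℤ)
    (h4 : ∀ M, P M → ∀ p : ℕ, N < (p : ℤ) → IsZero ((G.rightDerived p).obj M)) :
    ∀ (k : ℕ) (X : DerivedCategory A) (a b : ℤ), b ≤ a + k → X.IsGE a → X.IsLE b →
      WSerre.cohIn P X → ∀ i, N + b < i → IsZero ((homologyFunctor B i).obj ((SiteCmpLib.Secs.RG G).obj X)) := by
  intro k
  induction k with
  | zero =>
    intro X a b hk hGE hLE hX i hi
    have := hGE
    by_cases hba : b < a
    · have hz : IsZero X := by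
        exact TStructure.t.isZero X b a hba
      obtain ⟨R', _, _, ⟨e⟩⟩ := SiteCmpLib.Secs.exists_commShift_RG G
      exact (homologyFunctor B i).map_isZero ((R'.map_isZero hz).of_iso (e.app X).symm)
    · obtain rfl : b = a := by omega
      obtain ⟨Y, ⟨e⟩⟩ := exists_iso_singleFunctor_obj_of_isGE_of_isLE X b
      have hY : P Y := P.prop_of_iso ((homologyFunctor A b).mapIso e ≪≫
        (singleFunctorCompHomologyFunctorIso A b).app Y) (hX b)
      exact (SiteCmpLib.Secs.isZero_homology_RG_single G Y N (h4 Y hY) b i hi).of_iso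
        ((homologyFunctor B i).mapIso ((SiteCmpLib.Secs.RG G).mapIso e))
  | succ k ih =>
    intro X a b hk hGE hLE hX i hi
    have := hGE; have := hLE
    by_cases hab : b ≤ a + k
    · exact ih X a b hab hGE hLE hX i hi
    have hP : ∀ Z : A, IsZero Z → P Z := fun Z hZ => SiteCmpLib.prop_of_isZero P hZ
    let T := (TStructure.t.triangleLTGE (a + 1)).obj X
    have hT : T ∈ distinguishedTriangles := TStructure.t.triangleLTGE_distinguished (a + 1) X
    have g₁ : T.obj₁.IsGE a := KFlatLib.isGE_truncLT X a (a + 1)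
    have l₁ : T.obj₁.IsLE a := TStructure.t.isLE_truncLT_obj X (a + 1) a (by omega)
    have g₃ : T.obj₃.IsGE (a + 1) := TStructure.t.isGE_truncGE_obj X (a + 1) (a + 1) (by omega)
    have l₃ : T.obj₃.IsLE b := by
      rw [isLE_iff]
      intro i hi
      rcases lt_or_ge i (a + 1) with h | h
      · exact isZero_of_isGE _ (a + 1) i h
      · have := H9Misc.WayOut.isIso_H_truncGE X (a + 1) i h
        exact (isZero_of_isLE X b i hi).of_iso
          (asIso ((homologyFunctor A i).map ((TStructure.t.truncGEπ (a + 1)).app X))).symm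
    have c₁ : WSerre.cohIn P T.obj₁ := H9Misc.WayOut.P_truncLT P (hP := hP) hX (a + 1)
    have c₃ : WSerre.cohIn P T.obj₃ := H9Misc.WayOut.P_truncGE P (hP := hP) hX (a + 1)
    obtain ⟨δ, hδ⟩ := SiteCmpLib.Secs.exists_distinguished_RG G T hT
    exact (HomologySequence.exact₂ _ hδ i).isZero_X₂
      ((ih _ a a (by omega) g₁ l₁ c₁ i (by omega)).eq_of_src _ _)
      ((ih _ (a + 1) b (by omega) g₃ l₃ c₃ i hi).eq_of_tgt _ _)

variable {𝔛 𝔜 : FSch.Sys.{u}} (h𝔛 : 𝔛.IsLocNoethFormal) (h𝔜 : 𝔜.IsLocNoethFormal) (g : 𝔛 ⟶ 𝔜)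

theorem exists_affine_refinement {𝔖 : FSch.Sys.{u}} (V : (𝔖.X 0).Opens)
    (T : Sieve V) (hT : T ∈ Opens.grothendieckTopology (𝔖.X 0).toPresheafedSpace.carrier V) :
    ∃ (ι : Type u) (Y : ι → (𝔖.X 0).Opens) (g : ∀ i, Y i ⟶ V), (∀ i, T.arrows (g i)) ∧
      Sieve.ofArrows Y g ∈ Opens.grothendieckTopology (𝔖.X 0).toPresheafedSpace.carrier V ∧
      ∀ i, IsAffineOpen (Y i) := by
  have hx : ∀ x : V, ∃ (W : (𝔖.X 0).Opens) (i : W ⟶ V), T.arrows i ∧ x.1 ∈ W ∧ IsAffineOpen W := fun x => by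
    obtain ⟨U, i, hi, hxU⟩ := hT x.1 x.2
    obtain ⟨W, hW, hxW, hWU⟩ := Opens.isBasis_iff_nbhd.1 (𝔖.X 0).isBasis_affineOpens hxU
    exact ⟨W, homOfLE hWU ≫ i, T.downward_closed hi _, hxW, hW⟩
  choose W i hi hxW hW using hx
  exact ⟨V, W, i, hi, fun x hx => ⟨W ⟨x, hx⟩, i ⟨x, hx⟩, Sieve.ofArrows_mk W i ⟨x, hx⟩, hxW ⟨x, hx⟩⟩, hW⟩

theorem isZero_hMod_RpushD_of_lqP [IsAffineHom ((g : FSch.Hom 𝔛 𝔜).app 0)]
    [SiteCmp.HasRpushD (FSch.homMor g h𝔛.1 h𝔜.1)] (X : DerivedCategory (FSch.ModF 𝔛 h𝔛.1))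
    (hX : ∀ i : ℤ, lqP h𝔛 (SiteCmp.HMod X i)) (e : ℤ) (he : ∀ i : ℤ, e < i → IsZero (SiteCmp.HMod X i))
    (i : ℤ) (hi : e < i) :
    IsZero (SiteCmp.HMod ((SiteCmp.RpushD (FSch.homMor g h𝔛.1 h𝔜.1)).obj X) i) := by
  haveI : IsGrothendieckAbelian.{u} (FSch.ModF 𝔛 h𝔛.1) :=
    S0484.result (Opens.grothendieckTopology (𝔛.X 0).toPresheafedSpace.carrier) (ModSite.ringSh (𝔛.Osh h𝔛.1))
  haveI : HasInjectiveResolutions (FSch.ModF 𝔛 h𝔛.1) := inferInstance
  have hcov : ∀ {𝔖 : FSch.Sys.{u}} (U : (𝔖.X 0).Opens), ∃ (ι : Type u) (Y : ι → (𝔖.X 0).Opens) (g : ∀ i, Y i ⟶ U),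
      Sieve.ofArrows Y g ∈ Opens.grothendieckTopology (𝔖.X 0).toPresheafedSpace.carrier U ∧
        ∀ i, Y i ∈ {W : (𝔖.X 0).Opens | IsAffineOpen W} := fun U => by
    obtain ⟨ι, Y, g, -, h2, h3⟩ := exists_affine_refinement U ⊤
      ((Opens.grothendieckTopology _).top_mem U)
    exact ⟨ι, Y, g, h2, h3⟩
  let n : ℕ := (-i).toNat
  have h3 : ∀ F, lqP h𝔛 F → ∀ p : ℕ, (0 : ℤ) < (p : ℤ) →
      IsZero (((FSch.homMor g h𝔛.1 h𝔜.1).Rpush p).obj F) := fun F hF p hp => by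
    obtain ⟨q, rfl⟩ := Nat.exists_eq_succ_of_ne_zero (show p ≠ 0 by omega)
    exact isZero_RpushF_of_acyclic h𝔛 h𝔜 g F (acyclic_of_lqP h𝔛 F hF) q
  have := S9066.result (FSch.homMor g h𝔛.1 h𝔜.1) (lqP h𝔛) {W | IsAffineOpen W} {W | IsAffineOpen W}
    hcov (fun V hV => ⟨0, fun T hT => by
      obtain ⟨ι, Y, r, h1, h2, h3⟩ := exists_affine_refinement V T hT
      refine ⟨ι, Y, r, h1, h2, fun a F hF k hk => ?_⟩
      obtain ⟨q, rfl⟩ := Nat.exists_eq_succ_of_ne_zero hk.ne'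
      exact subsingleton_HU_of_lqP h𝔛 F hF (h3 a) q⟩)
    hcov (fun V hV => ⟨0, fun T hT => by
      obtain ⟨ι, Y, r, h1, h2, h3⟩ := exists_affine_refinement V T hT
      refine ⟨ι, Y, r, h1, h2, fun a F hF k hk => ?_⟩
      obtain ⟨q, rfl⟩ := Nat.exists_eq_succ_of_ne_zero hk.ne'
      exact subsingleton_HU_of_lqP h𝔛 F hF ((h3 a).preimage ((g : FSch.Hom 𝔛 𝔜).app 0)) q⟩)
    0 h3 X hX n i (by omega)
  let X' := (TStructure.t.truncGE (-(n : ℤ))).obj X
  have hGE : X'.IsGE (-(n : ℤ)) := inferInstanceAs (TStructure.t.IsGE _ _)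
  have hLE : X'.IsLE e := by
    rw [isLE_iff]
    intro j hj
    rcases lt_or_ge j (-(n : ℤ)) with h | h
    · exact isZero_of_isGE _ _ j h
    · have := H9Misc.WayOut.isIso_H_truncGE X (-(n : ℤ)) j h
      exact (he j hj).of_iso
        (asIso ((homologyFunctor _ j).map ((TStructure.t.truncGEπ (-(n : ℤ))).app X))).symm
  have hP : ∀ Z : FSch.ModF 𝔛 h𝔛.1, IsZero Z → lqP h𝔛 Z := fun Z hZ => lqP_zero h𝔛 hZ
  exact (isZero_homology_RG_of_bdd (FSch.homMor g h𝔛.1 h𝔜.1).push (lqP h𝔛) 0 h3 (e + n).toNat X' (-(n : ℤ)) e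
    (by omega) hGE hLE (H9Misc.WayOut.P_truncGE (lqP h𝔛) (hP := hP) hX _) i (by omega)).of_iso
    (@asIso _ _ _ _ _ this)

end Groth.Agent.H9FCoh
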