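import Groth.Agent.SiteCmpLib.Secs.Derived
import Groth.Agent.TriCat.AcyclicObj
import Groth.Agent.TriCat.Resolve
import Groth.Agent.KFlatLib.Scheme.RpushCoprod

/-!
# The unit of a total right derived functor on complexes
-/

set_option autoImplicit false
set_option backward.isDefEq.respectTransparency false
set_option linter.style.haveILetI false

universe u

open CategoryTheory CategoryTheory.Limits

attribute [local instance] HasDerivedCategory.standard

noncomputable section

namespace Groth.Agent.H9FCoh

variable {A : Type (u + 1)} [Category.{u} A] [Abelian A] [IsGrothendieckAbelian.{u} A]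
  {B : Type (u + 1)} [Category.{u} B] [Abelian B] (G : A ⥤ B) [G.Additive]
  [(G.mapHomotopyCategory (ComplexShape.up ℤ) ⋙ DerivedCategory.Qh).HasRightDerivedFunctor
      (HomotopyCategory.quasiIso A (ComplexShape.up ℤ))]

open SiteCmpLib.Secs (RG)

/-- The unit `Q(G K) ⟶ RG(Q K)`. -/
def rgUnit : G.mapHomologicalComplex (ComplexShape.up ℤ) ⋙ DerivedCategory.Q ⟶ DerivedCategory.Q ⋙ RG G :=
  (Functor.isoWhiskerRight (G.mapHomotopyCategoryFactors (ComplexShape.up ℤ)) DerivedCategory.Qh ≪≫
      Functor.associator _ _ _ ≪≫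
    Functor.isoWhiskerLeft _ (DerivedCategory.quotientCompQhIso B)).inv ≫
  (Functor.associator _ _ _).hom ≫
  Functor.whiskerLeft (HomotopyCategory.quotient A (ComplexShape.up ℤ))
    ((G.mapHomotopyCategory (ComplexShape.up ℤ) ⋙ DerivedCategory.Qh).totalRightDerivedUnit DerivedCategory.Qh
      (HomotopyCategory.quasiIso A (ComplexShape.up ℤ))) ≫
  (Functor.associator _ _ _).inv ≫
  Functor.whiskerRight (DerivedCategory.quotientCompQhIso A).hom (RG G)

theorem isIso_rgUnit_of_kInjective (I : CochainComplex A ℤ) [I.IsKInjective] :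
    IsIso ((rgUnit G).app I) := by
  simp only [rgUnit, NatTrans.comp_app, Functor.associator_hom_app, Functor.associator_inv_app,
    Functor.whiskerLeft_app, Functor.whiskerRight_app]
  erw [isIso_comp_left_iff, isIso_comp_left_iff, isIso_comp_right_iff]
  exact SiteCmpLib.Secs.isIso_unit_of_kInj _ I

/-- Bounded below complexes of acyclic objects compute the derived functor. -/
theorem isIso_rgUnit_of_isStrictlyGE [PreservesFiniteLimits G] (F : CochainComplex A ℤ) (a : ℤ)
    [F.IsStrictlyGE a] (hac : ∀ n, TriCat.IsRightAcyclic G (F.X n)) : IsIso ((rgUnit G).app F) := by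
  obtain ⟨I, s, hI, hinj, hm, hs⟩ := TriCat.exists_quasiIso_resolution (A := A) Injective
    ⟨_, isZero_zero A, IsZero.injective (isZero_zero _)⟩
    (fun M => ⟨Injective.under M, Injective.ι M, inferInstance, inferInstance⟩) F a
  haveI := hI
  haveI := hinj
  haveI := hs
  haveI : I.IsKInjective := CochainComplex.isKInjective_of_injective _ a
  haveI := TriCat.quasiIso_map_of_adapted
    (TriCat.isAdapted_isRightAcyclic (F := G)) s hm a hac
    (fun n => TriCat.isRightAcyclic_of_injective _)
  let P := G.mapHomologicalComplex (ComplexShape.up ℤ)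
  have h1 : IsIso (DerivedCategory.Q.map (P.map s)) := inferInstance
  have h2 : IsIso (DerivedCategory.Q.map s) := inferInstance
  have h3 := isIso_rgUnit_of_kInjective G I
  have w := (rgUnit G).naturality s
  simp only [Functor.comp_map] at w
  have h4 : IsIso ((rgUnit G).app F ≫ (RG G).map (DerivedCategory.Q.map s)) := by
    rw [← w]
    exact IsIso.comp_isIso' h1 h3
  exact IsIso.of_isIso_comp_right _ ((RG G).map (DerivedCategory.Q.map s))

/-- The derived functor commutes with uniformly bounded below coproducts when coproducts of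
injectives are acyclic. -/
theorem isIso_sigmaDesc_RG_of_isGE [PreservesFiniteLimits G] {ι : Type u}
    [HasExactColimitsOfShape (Discrete ι) A]
    [HasColimitsOfShape (Discrete ι) B] [HasExactColimitsOfShape (Discrete ι) B]
    [PreservesColimitsOfShape (Discrete ι) G]
    (hac : ∀ I : ι → A, (∀ i, Injective (I i)) → TriCat.IsRightAcyclic G (∐ I))
    (C : ι → DerivedCategory A) (n : ℤ) (hC : ∀ i, (C i).IsGE n)
    [HasCoproduct C] [HasCoproduct fun i => (RG G).obj (C i)] :
    IsIso (Sigma.desc (fun i => (RG G).map (Sigma.ι C i))) := by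
  let GC := G.mapHomologicalComplex (ComplexShape.up ℤ)
  haveI : PreservesColimitsOfShape (Discrete ι) GC :=
    ⟨fun {K} => ⟨fun {c} hc => ⟨HomologicalComplex.isColimitOfEval _ _ fun m =>
      isColimitOfPreserves (HomologicalComplex.eval A (ComplexShape.up ℤ) m ⋙ G) hc⟩⟩⟩
  have hres : ∀ i, ∃ (K : CochainComplex A ℤ), K.IsStrictlyGE n ∧ (∀ m, Injective (K.X m)) ∧
      Nonempty (DerivedCategory.Q.obj K ≅ C i) := fun i => by
    haveI := hC i
    obtain ⟨L, hL, ⟨e⟩⟩ := DerivedCategory.exists_iso_Q_obj_of_isGE (C i) n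
    haveI := hL
    obtain ⟨I, s, hI, hinj, -, hs⟩ := TriCat.exists_quasiIso_resolution (A := A) Injective
      ⟨_, isZero_zero A, IsZero.injective (isZero_zero _)⟩
      (fun M => ⟨Injective.under M, Injective.ι M, inferInstance, inferInstance⟩) L n
    haveI := hs
    exact ⟨I, hI, hinj, ⟨(asIso (DerivedCategory.Q.map s)).symm ≪≫ e.symm⟩⟩
  choose K hKge hKinj eK using hres
  refine KFlatLib.isIso_sigmaDesc' (RG G) GC (rgUnit G) C K
    (fun i => (eK i).some) (fun i => ?_) ?_
  · haveI := hKge i
    haveI := hKinj i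
    haveI : (K i).IsKInjective := CochainComplex.isKInjective_of_injective _ n
    exact isIso_rgUnit_of_kInjective G (K i)
  · let e : ∀ m, ∐ (fun i => (K i).X m) ≅ (∐ K).X m := fun m =>
      (PreservesCoproduct.iso (HomologicalComplex.eval A (ComplexShape.up ℤ) m) K).symm
    haveI : CochainComplex.IsStrictlyGE (∐ K) n := (CochainComplex.isStrictlyGE_iff _ n).2 fun m hm => by
      refine IsZero.of_iso ?_ (e m).symm
      rw [IsZero.iff_id_eq_zero]
      exact Sigma.hom_ext _ _ fun i => by
        haveI := hKge i
        exact (CochainComplex.isZero_of_isStrictlyGE (K i) n m hm).eq_of_src _ _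
    refine isIso_rgUnit_of_isStrictlyGE G (∐ K) n fun m k hk => ?_
    exact (hac (fun i => (K i).X m) (fun i => hKinj i m) k hk).of_iso ((G.rightDerived k).mapIso (e m).symm)

end Groth.Agent.H9FCoh
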