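import Groth.Agent.H9FCoh.PushCoprod
import Groth.Agent.H9FCoh.RUnit
import Groth.Agent.H9FCoh.Coherator
import Groth.Agent.KFlatLib.Scheme.RpushCoprodQCoh

/-!
# Derived direct image and coproducts on Noetherian formal schemes
-/

set_option autoImplicit false
set_option backward.isDefEq.respectTransparency false
set_option backward.isDefEq.respectTransparency.types false
set_option linter.style.haveILetI false

universe u

open CategoryTheory CategoryTheory.Limits AlgebraicGeometry TopologicalSpace Opposite DerivedCategory Pretriangulated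

attribute [local instance] HasDerivedCategory.standard

noncomputable section

namespace Groth.Agent.H9FCoh

theorem sigmaDesc_naturality {C D : Type*} [Category C] [Category D] (R : C ⥤ D) {J : Type*} {A B : J → C}
    [HasCoproduct A] [HasCoproduct B] [HasCoproduct fun j => R.obj (A j)] [HasCoproduct fun j => R.obj (B j)]
    (π : ∀ j, A j ⟶ B j) :
    Sigma.desc (fun j => R.map (Sigma.ι A j)) ≫ R.map (Limits.Sigma.map π) =
      Limits.Sigma.map (fun j => R.map (π j)) ≫ Sigma.desc (fun j => R.map (Sigma.ι B j)) := by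
  refine Sigma.hom_ext _ _ fun i => ?_
  simp only [Sigma.ι_desc_assoc, Limits.Sigma.ι_map_assoc, Sigma.ι_desc]
  rw [← Functor.map_comp, ← Functor.map_comp, Limits.Sigma.ι_map]

theorem isIso_map_sigmaDesc {C D : Type*} [Category C] [Category D] (R : C ⥤ D) {F : Type*} [Category F]
    (H : D ⥤ F) {J : Type*} (A B : J → C)
    [HasCoproduct A] [HasCoproduct B] [HasCoproduct fun j => R.obj (A j)] [HasCoproduct fun j => R.obj (B j)]
    [PreservesColimit (Discrete.functor fun j => R.obj (A j)) H]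
    [PreservesColimit (Discrete.functor fun j => R.obj (B j)) H]
    (π : ∀ j, A j ⟶ B j) (h₁ : ∀ j, IsIso (H.map (R.map (π j))))
    (h₂ : IsIso (H.map (R.map (Limits.Sigma.map π))))
    (h₃ : IsIso (Sigma.desc (fun j => R.map (Sigma.ι B j)))) :
    IsIso (H.map (Sigma.desc (fun j => R.map (Sigma.ι A j)))) := by
  haveI := KFlatLib.isIso_map_sigmaMap H _ _ (fun j => R.map (π j)) h₁
  have h : IsIso (H.map (Sigma.desc (fun j => R.map (Sigma.ι A j))) ≫ H.map (R.map (Limits.Sigma.map π))) := by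
    rw [← H.map_comp, sigmaDesc_naturality, H.map_comp]
    infer_instance
  exact IsIso.of_isIso_comp_right _ (H.map (R.map (Limits.Sigma.map π)))

variable {𝔛 𝔜 : FSch.Sys.{u}} (h𝔛 : 𝔛.IsLocNoethFormal) (h𝔜 : 𝔜.IsFormal) (g : 𝔛 ⟶ 𝔜)
  [CompactSpace (𝔛.X 0)] [CompactSpace (𝔜.X 0)]
  [SiteCmp.HasRpushD (FSch.homMor g h𝔛.1 h𝔜)]

/-- The derived direct image only sees a truncation, in a range of degrees. -/
theorem exists_isIso_homology_trunc :
    ∃ N : ℕ, ∀ (X : DerivedCategory (FSch.ModF 𝔛 h𝔛.1)), (∀ i : ℤ, lqP h𝔛 (SiteCmp.HMod X i)) →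
      ∀ (n : ℕ) (j : ℤ), (N : ℤ) - n ≤ j → IsIso ((homologyFunctor (FSch.ModF 𝔜 h𝔜) j).map
        ((SiteCmp.RpushD (FSch.homMor g h𝔛.1 h𝔜)).map ((TStructure.t.truncGEπ (-(n : ℤ))).app X))) := by
  haveI : IsGrothendieckAbelian.{u} (FSch.ModF 𝔛 h𝔛.1) :=
    S0484.result (Opens.grothendieckTopology (𝔛.X 0).toPresheafedSpace.carrier) (ModSite.ringSh (𝔛.Osh h𝔛.1))
  haveI : HasInjectiveResolutions (FSch.ModF 𝔛 h𝔛.1) := inferInstance
  obtain ⟨N, hN⟩ := exists_RpushF_bound h𝔛 h𝔜 g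
  refine ⟨N, fun X hX n j hj => ?_⟩
  have hcov : ∀ {𝔖 : FSch.Sys.{u}} (U : (𝔖.X 0).Opens), ∃ (ι : Type u) (Y : ι → (𝔖.X 0).Opens) (g : ∀ i, Y i ⟶ U),
      Sieve.ofArrows Y g ∈ Opens.grothendieckTopology (𝔖.X 0).toPresheafedSpace.carrier U ∧
        ∀ i, Y i ∈ {W : (𝔖.X 0).Opens | IsAffineOpen W} := fun U => by
    obtain ⟨ι, Y, g, -, h2, h3⟩ := exists_affine_refinement U ⊤
      ((Opens.grothendieckTopology _).top_mem U)
    exact ⟨ι, Y, g, h2, h3⟩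
  have h3 : ∀ F, lqP h𝔛 F → ∀ p : ℕ, (N : ℤ) < (p : ℤ) →
      IsZero (((FSch.homMor g h𝔛.1 h𝔜).Rpush p).obj F) := fun F hF p hp => hN F hF p (by omega)
  exact S9066.result (FSch.homMor g h𝔛.1 h𝔜) (lqP h𝔛) {W | IsAffineOpen W} {W | IsAffineOpen W}
    hcov (fun V hV => ⟨0, fun T hT => by
      obtain ⟨ι, Y, r, h1, h2, h3⟩ := exists_affine_refinement V T hT
      refine ⟨ι, Y, r, h1, h2, fun a F hF k hk => ?_⟩
      obtain ⟨q, rfl⟩ := Nat.exists_eq_succ_of_ne_zero hk.ne'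
      exact subsingleton_HU_of_lqP h𝔛 F hF (h3 a) q⟩)
    hcov (fun V hV => by
      obtain ⟨d, hd⟩ := exists_bound_preimage h𝔛 g V
      refine ⟨d, fun T hT => ?_⟩
      have hx : ∀ x : V, ∃ (t : Γ(𝔜.X 0, V)) (i : (𝔜.X 0).basicOpen t ⟶ V),
          T.arrows i ∧ x.1 ∈ (𝔜.X 0).basicOpen t := fun x => by
        obtain ⟨U, r, hr, hxU⟩ := hT x.1 x.2
        obtain ⟨t, ht, hxt⟩ := hV.exists_basicOpen_le (V := U) ⟨x.1, hxU⟩ x.2
        exact ⟨t, homOfLE ht ≫ r, T.downward_closed hr _, hxt⟩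
      choose t r hr hxt using hx
      exact ⟨V, fun x => (𝔜.X 0).basicOpen (t x), r, hr,
        fun x hx => ⟨_, r ⟨x, hx⟩, Sieve.ofArrows_mk _ r ⟨x, hx⟩, hxt ⟨x, hx⟩⟩,
        fun a F hF k hk => hd (t a) F hF k hk.le⟩)
    N h3 X hX n j hj

/-- A map inducing isomorphisms on cohomology above `-n` gives isomorphisms on direct images in high degrees. -/
theorem isIso_homology_RpushD_map {N n : ℕ} {k : ℤ}
    (hX : ∀ X : DerivedCategory (FSch.ModF 𝔛 h𝔛.1), (∀ i : ℤ, lqP h𝔛 (SiteCmp.HMod X i)) →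
      IsIso ((homologyFunctor (FSch.ModF 𝔜 h𝔜) k).map
        ((SiteCmp.RpushD (FSch.homMor g h𝔛.1 h𝔜)).map ((TStructure.t.truncGEπ (-(n : ℤ))).app X))))
    (_hk : (N : ℤ) - n ≤ k) {A B : DerivedCategory (FSch.ModF 𝔛 h𝔛.1)}
    (hA : ∀ i : ℤ, lqP h𝔛 (SiteCmp.HMod A i)) (hB : ∀ i : ℤ, lqP h𝔛 (SiteCmp.HMod B i)) (a : A ⟶ B)
    (ha : ∀ i : ℤ, -(n : ℤ) ≤ i → IsIso ((homologyFunctor (FSch.ModF 𝔛 h𝔛.1) i).map a)) :
    IsIso ((homologyFunctor (FSch.ModF 𝔜 h𝔜) k).map ((SiteCmp.RpushD (FSch.homMor g h𝔛.1 h𝔜)).map a)) := by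
  let a' := (TStructure.t.truncGE (-(n : ℤ))).map a
  have hnat : a ≫ (TStructure.t.truncGEπ (-(n : ℤ))).app B = (TStructure.t.truncGEπ (-(n : ℤ))).app A ≫ a' :=
    (TStructure.t.truncGEπ (-(n : ℤ))).naturality a
  haveI : IsIso a' := (DerivedCategory.isIso_iff _ a').2 fun i => by
    by_cases hi : -(n : ℤ) ≤ i
    · haveI := ha i hi
      haveI := H9Misc.WayOut.isIso_H_truncGE A (-(n : ℤ)) i hi
      haveI := H9Misc.WayOut.isIso_H_truncGE B (-(n : ℤ)) i hi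
      have : IsIso ((homologyFunctor _ i).map ((TStructure.t.truncGEπ (-(n : ℤ))).app A) ≫
          (homologyFunctor _ i).map a') := by
        rw [← Functor.map_comp, ← hnat, Functor.map_comp]
        infer_instance
      exact IsIso.of_isIso_comp_left ((homologyFunctor _ i).map ((TStructure.t.truncGEπ (-(n : ℤ))).app A)) _
    · haveI : ((TStructure.t.truncGE (-(n : ℤ))).obj A).IsGE (-(n : ℤ)) := inferInstanceAs (TStructure.t.IsGE _ _)
      haveI : ((TStructure.t.truncGE (-(n : ℤ))).obj B).IsGE (-(n : ℤ)) := inferInstanceAs (TStructure.t.IsGE _ _)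
      exact ⟨0, (isZero_of_isGE ((TStructure.t.truncGE (-(n : ℤ))).obj A) (-(n : ℤ)) i (by omega)).eq_of_src _ _,
        (isZero_of_isGE ((TStructure.t.truncGE (-(n : ℤ))).obj B) (-(n : ℤ)) i (by omega)).eq_of_src _ _⟩
  let Φ := SiteCmp.RpushD (FSch.homMor g h𝔛.1 h𝔜) ⋙ homologyFunctor (FSch.ModF 𝔜 h𝔜) k
  haveI : IsIso (Φ.map ((TStructure.t.truncGEπ (-(n : ℤ))).app A)) := hX A hA
  haveI : IsIso (Φ.map ((TStructure.t.truncGEπ (-(n : ℤ))).app B)) := hX B hB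
  have h : IsIso (Φ.map a ≫ Φ.map ((TStructure.t.truncGEπ (-(n : ℤ))).app B)) := by
    rw [← Φ.map_comp, hnat, Φ.map_comp]
    infer_instance
  exact IsIso.of_isIso_comp_right (Φ.map a) (Φ.map ((TStructure.t.truncGEπ (-(n : ℤ))).app B))

omit [CompactSpace (𝔛.X 0)] [CompactSpace (𝔜.X 0)] [SiteCmp.HasRpushD (FSch.homMor g h𝔛.1 h𝔜)] in
theorem ind_of_isZero {Z : FSch.ModF 𝔛 h𝔛.1} (hZ : IsZero Z) :
    (ObjectProperty.ind.{u} fun 𝔊 : FSch.ModF 𝔛 h𝔛.1 => FSch.IsCohF 𝔛 h𝔛.1 𝔊) Z := by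
  haveI := isClosedUnderColimitsOfShape_ind (good h𝔛) (isQC_ind h𝔛) (Discrete PEmpty.{u + 1})
  have h0 := ObjectProperty.prop_colimit
    (ObjectProperty.ind.{u} fun 𝔊 : FSch.ModF 𝔛 h𝔛.1 => FSch.IsCohF 𝔛 h𝔛.1 𝔊)
    (Functor.empty.{u} (FSch.ModF 𝔛 h𝔛.1)) fun a => a.as.elim
  have hz : IsZero (colimit (Functor.empty.{u} (FSch.ModF 𝔛 h𝔛.1))) :=
    (IsZero.iff_id_eq_zero _).2 (colimit.hom_ext fun a => a.as.elim)
  exact ObjectProperty.prop_of_iso _ (hz.iso hZ) h0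

omit [CompactSpace (𝔛.X 0)] [CompactSpace (𝔜.X 0)] in
/-- `Rf_*` commutes with coproducts of uniformly bounded below complexes. -/
theorem isIso_sigmaDesc_RpushD_of_isGE [NoetherianSpace (𝔛.X 0).toPresheafedSpace.carrier] {ι : Type u}
    (T : ι → DerivedCategory (FSch.ModF 𝔛 h𝔛.1)) (n : ℤ) (hT : ∀ i, (T i).IsGE n)
    [HasCoproduct T] [HasCoproduct fun i => (SiteCmp.RpushD (FSch.homMor g h𝔛.1 h𝔜)).obj (T i)] :
    IsIso (Sigma.desc (fun i => (SiteCmp.RpushD (FSch.homMor g h𝔛.1 h𝔜)).map (Sigma.ι T i))) := by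
  haveI : IsGrothendieckAbelian.{u} (FSch.ModF 𝔛 h𝔛.1) :=
    S0484.result (Opens.grothendieckTopology (𝔛.X 0).toPresheafedSpace.carrier) (ModSite.ringSh (𝔛.Osh h𝔛.1))
  haveI : IsGrothendieckAbelian.{u} (FSch.ModF 𝔜 h𝔜) :=
    S0484.result (Opens.grothendieckTopology (𝔜.X 0).toPresheafedSpace.carrier) (ModSite.ringSh (𝔜.Osh h𝔜))
  haveI : HasInjectiveResolutions (FSch.ModF 𝔛 h𝔛.1) := inferInstance
  haveI : (FSch.pushF g h𝔛.1 h𝔜).IsRightAdjoint := (FSch.homMor g h𝔛.1 h𝔜).adj.isRightAdjoint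
  haveI : PreservesFiniteLimits (FSch.pushF g h𝔛.1 h𝔜) := inferInstance
  haveI := preservesColimitsOfShape_pushF_discrete h𝔛 h𝔜 g ι
  exact isIso_sigmaDesc_RG_of_isGE (FSch.homMor g h𝔛.1 h𝔜).push (fun I hI k hk => by
    obtain ⟨k, rfl⟩ := Nat.exists_eq_succ_of_ne_zero (by omega : k ≠ 0)
    haveI := hI
    exact isZero_RpushF_of_finAcyclic h𝔛 h𝔜 g _ (finAcyclic_sigma I) k) T n hT

/-- `Rf_*` commutes with coproducts of complexes with ind-coherent cohomology. -/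
theorem preservesColimit_RpushD_discrete (ι : Type u) (E : ι → DerivedCategory (FSch.ModF 𝔛 h𝔛.1))
    (hE : ∀ (a : ι) (i : ℤ), (ObjectProperty.ind.{u} fun 𝔊 : FSch.ModF 𝔛 h𝔛.1 => FSch.IsCohF 𝔛 h𝔛.1 𝔊) (SiteCmp.HMod (E a) i)) :
    PreservesColimit (Discrete.functor E) (SiteCmp.RpushD (FSch.homMor g h𝔛.1 h𝔜)) := by
  haveI : IsGrothendieckAbelian.{u} (FSch.ModF 𝔛 h𝔛.1) :=
    S0484.result (Opens.grothendieckTopology (𝔛.X 0).toPresheafedSpace.carrier) (ModSite.ringSh (𝔛.Osh h𝔛.1))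
  haveI : IsGrothendieckAbelian.{u} (FSch.ModF 𝔜 h𝔜) :=
    S0484.result (Opens.grothendieckTopology (𝔜.X 0).toPresheafedSpace.carrier) (ModSite.ringSh (𝔜.Osh h𝔜))
  haveI : HasInjectiveResolutions (FSch.ModF 𝔛 h𝔛.1) := inferInstance
  haveI := noetherianSpace_X0 h𝔛
  let R := SiteCmp.RpushD (FSch.homMor g h𝔛.1 h𝔜)
  haveI : HasColimitsOfShape (Discrete ι) (DerivedCategory (FSch.ModF 𝔛 h𝔛.1)) := TriCat.hasColimitsOfShape_derivedCategory
  haveI : HasColimitsOfShape (Discrete ι) (DerivedCategory (FSch.ModF 𝔜 h𝔜)) := TriCat.hasColimitsOfShape_derivedCategory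
  obtain ⟨N₀, hN₀⟩ := exists_isIso_homology_trunc h𝔛 h𝔜 g
  have hlq : ∀ (F : ι → DerivedCategory (FSch.ModF 𝔛 h𝔛.1)),
      (∀ (a : ι) (i : ℤ), (ObjectProperty.ind.{u} fun 𝔊 : FSch.ModF 𝔛 h𝔛.1 => FSch.IsCohF 𝔛 h𝔛.1 𝔊) (SiteCmp.HMod (F a) i)) →
      ∀ i : ℤ, lqP h𝔛 (SiteCmp.HMod (∐ F) i) := fun F hF i => by
    haveI := KFlatLib.preservesColimit_homology F i
    haveI := isClosedUnderColimitsOfShape_ind (good h𝔛) (isQC_ind h𝔛) (Discrete ι)
    exact (lqP h𝔛).prop_of_iso (PreservesCoproduct.iso (homologyFunctor _ i) F).symm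
      (lqP_of_ind h𝔛 _ (ObjectProperty.prop_colimit _ _ fun a => hF a.as i))
  haveI : IsIso (sigmaComparison R E) := by
    refine (DerivedCategory.isIso_iff _ _).2 fun k => ?_
    let n : ℕ := ((N₀ : ℤ) - k).toNat
    let T := fun i => (TStructure.t.truncGE (-(n : ℤ))).obj (E i)
    let π := fun i => (TStructure.t.truncGEπ (-(n : ℤ))).app (E i)
    haveI : ∀ i, (T i).IsGE (-(n : ℤ)) := fun i => inferInstanceAs (TStructure.t.IsGE _ _)
    have hT : ∀ (a : ι) (i : ℤ), (ObjectProperty.ind.{u} fun 𝔊 : FSch.ModF 𝔛 h𝔛.1 => FSch.IsCohF 𝔛 h𝔛.1 𝔊)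
        (SiteCmp.HMod (T a) i) := fun a i => by
      rcases lt_or_ge i (-(n : ℤ)) with hi | hi
      · exact ind_of_isZero h𝔛 (isZero_of_isGE (T a) (-(n : ℤ)) i hi)
      · haveI := H9Misc.WayOut.isIso_H_truncGE (E a) (-(n : ℤ)) i hi
        exact ((ObjectProperty.ind.{u} fun 𝔊 : FSch.ModF 𝔛 h𝔛.1 => FSch.IsCohF 𝔛 h𝔛.1 𝔊)).prop_of_iso
          (asIso ((homologyFunctor _ i).map (π a))) (hE a i)
    let H := homologyFunctor (FSch.ModF 𝔜 h𝔜) k
    haveI := KFlatLib.preservesColimit_homology (fun i => R.obj (E i)) k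
    haveI := KFlatLib.preservesColimit_homology (fun i => R.obj (T i)) k
    refine @isIso_map_sigmaDesc _ _ _ _ R _ _ H _ E T _ _ _ _ (by assumption) (by assumption) π
      (fun i => hN₀ (E i) (fun j => lqP_of_ind h𝔛 _ (hE i j)) n k (by omega)) ?_
      (isIso_sigmaDesc_RpushD_of_isGE h𝔛 h𝔜 g T (-(n : ℤ)) fun i => inferInstance)
    exact isIso_homology_RpushD_map h𝔛 h𝔜 g (fun X hX => hN₀ X hX n k (by omega)) (N := N₀) (by omega)
      (hlq E hE) (hlq T hT) _ fun i hi => by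
        haveI := KFlatLib.preservesColimit_homology E i
        haveI := KFlatLib.preservesColimit_homology T i
        exact KFlatLib.isIso_map_sigmaMap (homologyFunctor (FSch.ModF 𝔛 h𝔛.1) i) E T π fun j =>
          H9Misc.WayOut.isIso_H_truncGE (E j) (-(n : ℤ)) i hi
  exact PreservesCoproduct.of_iso_comparison R E

end Groth.Agent.H9FCoh
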