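import Groth.Agent.QCoh.Ab.Cartan
import Mathlib.CategoryTheory.Filtered.Basic

/-!
# Cech acyclicity of limits and of filtered colimits
-/

set_option autoImplicit false
set_option backward.isDefEq.respectTransparency false
set_option backward.isDefEq.respectTransparency.types false
set_option linter.style.haveILetI false

universe u v w

open CategoryTheory TopologicalSpace Opposite

noncomputable section

namespace Groth.Agent.H9FCoh

open Groth.Agent.QCoh.Ab (Cochain IsNatural Le d push d_natural d_sub d_push d_d push_natural push_sub Acyclic)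

variable {X : TopCat.{u}} {ι : Type u} {U : ι → Opens X} {P Q : TopCat.Presheaf AddCommGrpCat.{u} X}

theorem rmap_rmap {A B C : Opens X} (f : B ⟶ A) (g : C ⟶ B) (f' : C ⟶ A) (z : P.obj (op A)) :
    P.map g.op (P.map f.op z) = P.map f'.op z := by
  rw [Subsingleton.elim f' (g ≫ f), op_comp, P.map_comp]; rfl

/-- The natural cochain with prescribed values on the intersections. -/
def ofVals {p : ℕ} (v : ∀ σ : Fin p → ι, P.obj (op (⨅ a, U (σ a)))) : Cochain P U p :=
  fun σ W => P.map (homOfLE (le_iInf W.2)).op (v σ)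

theorem ofVals_natural {p : ℕ} (v : ∀ σ : Fin p → ι, P.obj (op (⨅ a, U (σ a)))) : IsNatural (ofVals v) :=
  fun _ _ _ _ _ _ => rmap_rmap _ _ _ _

theorem ofVals_self {p : ℕ} (v : ∀ σ : Fin p → ι, P.obj (op (⨅ a, U (σ a)))) (σ : Fin p → ι)
    (h : Le U σ (⨅ a, U (σ a))) : ofVals v σ ⟨_, h⟩ = v σ := by
  rw [ofVals, Subsingleton.elim (homOfLE _) (𝟙 (⨅ a, U (σ a))), op_id, P.map_id]; rfl

theorem natural_ext {p : ℕ} {c c' : Cochain P U p} (hc : IsNatural c) (hc' : IsNatural c')
    (h : ∀ σ, c σ ⟨⨅ a, U (σ a), fun a => iInf_le _ a⟩ = c' σ ⟨⨅ a, U (σ a), fun a => iInf_le _ a⟩) :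
    c = c' := by
  funext σ W
  rw [← hc σ _ W.1 (fun a => iInf_le _ a) W.2 (homOfLE (le_iInf W.2)), h σ, hc' σ _ W.1 _ W.2]

theorem natural_sub {p : ℕ} {c c' : Cochain P U p} (hc : IsNatural c) (hc' : IsNatural c') :
    IsNatural (c - c') := fun σ W W' h h' i => by
  simp only [Pi.sub_apply, map_sub, hc σ W W' h h' i, hc' σ W W' h h' i]

theorem natural_zero {p : ℕ} : IsNatural (0 : Cochain P U p) := fun _ _ _ _ _ _ => map_zero _

theorem push_push {R : TopCat.Presheaf AddCommGrpCat.{u} X} (φ : P ⟶ Q) (ψ : Q ⟶ R) {p : ℕ} (c : Cochain P U p) :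
    push ψ (push φ c) = push (φ ≫ ψ) c := rfl

theorem push_ofVals (φ : P ⟶ Q) {p : ℕ} (v : ∀ σ : Fin p → ι, P.obj (op (⨅ a, U (σ a)))) :
    push φ (ofVals v) = ofVals fun σ => φ.app (op _) (v σ) := by
  funext σ W
  exact congr($(φ.naturality (homOfLE (le_iInf W.2)).op) (v σ))

/-- The cochain in degree zero of a section. -/
def resC {V : Opens X} (hle : ∀ i, U i ≤ V) (s : P.obj (op V)) : Cochain P U 1 :=
  fun _ W => P.map (homOfLE ((W.2 0).trans (hle _))).op s

theorem resC_natural {V : Opens X} (hle : ∀ i, U i ≤ V) (s : P.obj (op V)) : IsNatural (resC hle s) :=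
  fun _ _ _ _ _ _ => rmap_rmap _ _ _ _

theorem d_resC {V : Opens X} (hle : ∀ i, U i ≤ V) (s : P.obj (op V)) : d (resC hle s) = 0 := by
  funext σ W
  simp [d, resC, Fin.sum_univ_two]

theorem push_resC (φ : P ⟶ Q) {V : Opens X} (hle : ∀ i, U i ≤ V) (s : P.obj (op V)) :
    push φ (resC hle s) = resC hle (φ.app (op V) s) := by
  funext σ W
  exact congr($(φ.naturality (homOfLE ((W.2 0).trans (hle _))).op) s)

theorem resC_sub {V : Opens X} (hle : ∀ i, U i ≤ V) (s t : P.obj (op V)) :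
    resC hle (s - t) = resC hle s - resC hle t := by
  funext σ W
  exact map_sub _ _ _

/-- A cocycle in degree zero is a section. -/
theorem exists_resC {V : Opens X} (hle : ∀ i, U i ≤ V) (hcov : V ≤ ⨆ i, U i)
    (F : TopCat.Sheaf AddCommGrpCat.{u} X) (z : Cochain F.presheaf U 1) (hz : IsNatural z) (hdz : d z = 0) :
    ∃ s, resC hle s = z := by
  have key : ∀ (W : Opens X) (τ τ' : Fin 1 → ι) (h : Le U τ W) (h' : Le U τ' W), z τ ⟨W, h⟩ = z τ' ⟨W, h'⟩ := by
    intro W τ τ' h h'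
    have e := congrFun (congrFun hdz ![τ 0, τ' 0]) ⟨W, Fin.forall_fin_two.2 ⟨h 0, h' 0⟩⟩
    simp [d, Fin.sum_univ_two, ← sub_eq_add_neg, sub_eq_zero] at e
    have e1 : ∀ (τ : Fin 1 → ι) (ρ : Fin 1 → ι) (_ : τ 0 = ρ 0) (h : Le U τ W) (h' : Le U ρ W),
        z τ ⟨W, h⟩ = z ρ ⟨W, h'⟩ := by
      intro τ ρ e h h'
      obtain rfl : τ = ρ := funext fun k => by rwa [Subsingleton.elim k 0]
      rfl
    exact (e1 τ (fun b => ![τ 0, τ' 0] (Fin.succAbove 1 b)) (by simp [Fin.succAbove]) h _).trans (e.symm.trans (e1 (fun b => ![τ 0, τ' 0] b.succ) τ' (by simp) _ h'))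
  let t : ∀ i, F.presheaf.obj (op (U i)) := fun i => z (fun _ => i) ⟨U i, fun _ => le_rfl⟩
  obtain ⟨s, hs, -⟩ := TopCat.Sheaf.existsUnique_gluing' F U V (fun i => homOfLE (hle i)) hcov t
    (fun i j => ((hz (fun _ => i) (U i) (U i ⊓ U j) (fun _ => le_rfl) (fun _ => inf_le_left) _).trans
      (key _ _ _ _ _)).trans
      (hz (fun _ => j) (U j) (U i ⊓ U j) (fun _ => le_rfl) (fun _ => inf_le_right) _).symm)
  refine ⟨s, funext₂ fun τ W => ?_⟩
  refine (rmap_rmap (homOfLE (hle (τ 0))) (homOfLE (W.2 0)) _ s).symm.trans ?_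
  refine (congrArg _ (hs (τ 0))).trans ?_
  exact (hz (fun _ => τ 0) (U (τ 0)) W.1 (fun _ => le_rfl) (fun _ => W.2 0) _).trans (key _ _ _ _ _)

section limit

variable {V : Opens X} (hle : ∀ i, U i ≤ V) (hcov : V ≤ ⨆ i, U i) (G : Opens X → Prop) (hV : G V)
  (hG : ∀ {p : ℕ} (σ : Fin (p + 1) → ι), G (⨅ a, U (σ a)))
  (Qs : ℕ → TopCat.Sheaf AddCommGrpCat.{u} X) (st : ∀ k, (Qs (k + 1)).presheaf ⟶ (Qs k).presheaf)
  (surj : ∀ k W, G W → Function.Surjective ((st k).app (op W)))

include surj in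
theorem exists_seq_step (W : Opens X) (hW : G W) (y : ∀ k, (Qs k).presheaf.obj (op W)) :
    ∃ x : ∀ k, (Qs k).presheaf.obj (op W), ∀ k, (st k).app (op W) (x (k + 1)) = x k - y k := by
  choose g hg using fun k => surj k W hW
  exact ⟨fun k => Nat.rec (motive := fun k => (Qs k).presheaf.obj (op W)) 0
    (fun k x => g k (x - y k)) k, fun k => hg k _⟩

variable (π : ∀ k, P ⟶ (Qs k).presheaf) (hπ : ∀ k, π (k + 1) ≫ st k = π k)
  (ext : ∀ W, G W → ∀ x y : P.obj (op W), (∀ k, (π k).app (op W) x = (π k).app (op W) y) → x = y)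
  (lift : ∀ W, G W → ∀ y : ∀ k, (Qs k).presheaf.obj (op W), (∀ k, (st k).app (op W) (y (k + 1)) = y k) →
    ∃ x, ∀ k, (π k).app (op W) x = y k)
  (hQ : ∀ k, Acyclic (Qs k).presheaf U)

include hle hcov hV hG surj hπ ext lift hQ in
/-- A limit with surjective transition maps of acyclic sheaves is acyclic. -/
theorem acyclic_limit : Acyclic P U := by
  intro p c hcn hdc
  choose h' hn' hd' using fun k => hQ k p (push (π k) c) (push_natural _ hcn)
    (by rw [d_push, hdc]; funext σ W; exact map_zero _)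
  let z : ∀ k, Cochain (Qs k).presheaf U (p + 1) := fun k => h' k - push (st k) (h' (k + 1))
  have hzn : ∀ k, IsNatural (z k) := fun k => natural_sub (hn' k) (push_natural _ (hn' (k + 1)))
  have hdz : ∀ k, d (z k) = 0 := fun k => by
    rw [d_sub, d_push, hd', hd', push_push, hπ, sub_self]
  obtain ⟨x, hxn, hxd, hx⟩ : ∃ x : ∀ k, Cochain (Qs k).presheaf U (p + 1), (∀ k, IsNatural (x k)) ∧
      (∀ k, d (x k) = 0) ∧ ∀ k, push (st k) (x (k + 1)) = x k - z k := by
    cases p with
    | zero =>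
      choose s hs using fun k => exists_resC hle hcov (Qs k) (z k) (hzn k) (hdz k)
      obtain ⟨x, hx⟩ := exists_seq_step G Qs st surj V hV s
      exact ⟨fun k => resC hle (x k), fun k => resC_natural hle _, fun k => d_resC hle _,
        fun k => by rw [push_resC, hx, resC_sub, hs]⟩
    | succ p =>
      choose e hen hed using fun k => hQ k p (z k) (hzn k) (hdz k)
      choose x hx using fun τ : Fin (p + 1) → ι => exists_seq_step G Qs st surj _ (hG τ)
        fun k => e k τ ⟨⨅ a, U (τ a), fun a => iInf_le _ a⟩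
      refine ⟨fun k => d (ofVals fun τ => x τ k), fun k => d_natural (ofVals_natural _),
        fun k => d_d _, fun k => ?_⟩
      rw [← d_push, ← hed k, ← d_sub]
      refine congrArg d (natural_ext (push_natural _ (ofVals_natural _))
        (natural_sub (ofVals_natural _) (hen k)) fun τ => ?_)
      simp only [push, Pi.sub_apply, ofVals_self]
      exact hx τ k
  let hk : ∀ k, Cochain (Qs k).presheaf U (p + 1) := fun k => h' k - x k
  have hkn : ∀ k, IsNatural (hk k) := fun k => natural_sub (hn' k) (hxn k)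
  have hks : ∀ k, push (st k) (hk (k + 1)) = hk k := fun k => by
    simp only [hk, z, push_sub, hx]; abel
  choose v hv using fun τ : Fin (p + 1) → ι => lift _ (hG τ)
    (fun k => hk k τ ⟨⨅ a, U (τ a), fun a => iInf_le _ a⟩)
    fun k => congrFun (congrFun (hks k) τ) ⟨⨅ a, U (τ a), fun a => iInf_le _ a⟩
  refine ⟨ofVals v, ofVals_natural v, natural_ext (d_natural (ofVals_natural v)) hcn fun σ =>
    ext _ (hG σ) _ _ fun k => ?_⟩
  have e : push (π k) (ofVals v) = hk k := natural_ext (push_natural _ (ofVals_natural v)) (hkn k) fun τ => by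
    simp only [push, ofVals_self]; exact hv τ k
  have e' : push (π k) (d (ofVals v)) = push (π k) c := by
    rw [← d_push, e, d_sub, hd', hxd, sub_zero]
  exact congrFun (congrFun e' σ) ⟨⨅ a, U (σ a), fun a => iInf_le _ a⟩

end limit

section colimit

variable [Finite ι] (G : Opens X → Prop) (hG : ∀ {p : ℕ} (σ : Fin (p + 1) → ι), G (⨅ a, U (σ a)))
  {J : Type v} [Category.{w} J] [IsFiltered J] (D : J ⥤ TopCat.Presheaf AddCommGrpCat.{u} X)
  (ι' : ∀ j, D.obj j ⟶ P) (w' : ∀ {j k} (f : j ⟶ k), D.map f ≫ ι' k = ι' j)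
  (lift : ∀ W, G W → ∀ x : P.obj (op W), ∃ j y, (ι' j).app (op W) y = x)
  (zero : ∀ W, G W → ∀ j (y : (D.obj j).obj (op W)), (ι' j).app (op W) y = 0 →
    ∃ (l : J) (g : j ⟶ l), (D.map g).app (op W) y = 0)
  (hD : ∀ j, Acyclic (D.obj j) U)

omit [Finite ι] in
/-- Finitely many arrows out of an object factor through a single one. -/
theorem exists_common_arrow {T : Type*} [Finite T] {j : J} (l : T → J) (g : ∀ t, j ⟶ l t) :
    ∃ (k : J) (f : j ⟶ k), ∀ t, ∃ m, g t ≫ m = f := by
  classical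
  haveI := Fintype.ofFinite T
  suffices H : ∀ S : Finset T, ∃ (k : J) (f : j ⟶ k), ∀ t ∈ S, ∃ m, g t ≫ m = f by
    obtain ⟨k, f, hf⟩ := H Finset.univ
    exact ⟨k, f, fun t => hf t (Finset.mem_univ t)⟩
  intro S
  induction S using Finset.induction with
  | empty => exact ⟨j, 𝟙 j, fun t ht => absurd ht (Finset.notMem_empty t)⟩
  | insert a S ha ih =>
    obtain ⟨k, f, hf⟩ := ih
    obtain ⟨k', r, r', hr⟩ := IsFiltered.span f (g a)
    refine ⟨k', f ≫ r, fun t ht => ?_⟩
    rcases Finset.mem_insert.1 ht with rfl | ht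
    · exact ⟨r', hr.symm⟩
    · obtain ⟨m, hm⟩ := hf t ht
      exact ⟨m ≫ r, by rw [← Category.assoc, hm]⟩

include hG w' lift zero hD in
/-- A filtered colimit on the distinguished opens of acyclic presheaves is acyclic for finite covers. -/
theorem acyclic_colimit : Acyclic P U := by
  intro p c hcn hdc
  classical
  haveI := Fintype.ofFinite ι
  choose j y hy using fun σ => lift _ (hG σ) (c σ ⟨⨅ a, U (σ a), fun a => iInf_le _ a⟩)
  obtain ⟨k, hk⟩ := IsFiltered.sup_objs_exists (Finset.univ.image j)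
  let f : ∀ σ, j σ ⟶ k := fun σ => (hk (Finset.mem_image_of_mem j (Finset.mem_univ σ))).some
  let ck : Cochain (D.obj k) U (p + 2) := ofVals fun σ => (D.map (f σ)).app (op _) (y σ)
  have hck : push (ι' k) ck = c := by
    refine natural_ext (push_natural _ (ofVals_natural _)) hcn fun σ => ?_
    simp only [ck, push, ofVals_self]
    exact (congr($(w' (f σ)).app (op _) (y σ))).trans (hy σ)
  have hdk : push (ι' k) (d ck) = 0 := by rw [← d_push, hck, hdc]
  choose l g hg using fun σ : Fin (p + 3) → ι => zero _ (hG σ) k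
    (d ck σ ⟨⨅ a, U (σ a), fun a => iInf_le _ a⟩) (congrFun (congrFun hdk σ) ⟨⨅ a, U (σ a), fun a => iInf_le _ a⟩)
  obtain ⟨m, f', hf'⟩ := exists_common_arrow l g
  have hdm : d (push (D.map f') ck) = 0 := by
    refine natural_ext (d_natural (push_natural _ (ofVals_natural _))) natural_zero fun σ => ?_
    obtain ⟨r, hr⟩ := hf' σ
    rw [d_push, push, ← hr, D.map_comp]
    exact (congrArg ((D.map r).app (op _)) (hg σ)).trans (map_zero ((D.map r).app (op _)).hom)
  obtain ⟨e, hen, hed⟩ := hD m p _ (push_natural _ (ofVals_natural _)) hdm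
  exact ⟨push (ι' m) e, push_natural _ hen, by rw [d_push, hed, push_push, w', hck]⟩

end colimit

/-- Acyclicity of a direct image. -/
theorem acyclic_push {Y : TopCat.{u}} (g : Y ⟶ X) (F : TopCat.Presheaf AddCommGrpCat.{u} Y)
    (h : Acyclic F fun i => (Opens.map g).obj (U i)) : Acyclic ((Opens.map g).op ⋙ F) U := by
  intro p c hcn hdc
  let U' : ι → Opens Y := fun i => (Opens.map g).obj (U i)
  have hle : ∀ {q : ℕ} (σ : Fin q → ι) {W : Opens Y}, Le U' σ W → W ≤ (Opens.map g).obj (⨅ a, U (σ a)) := by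
    intro q σ W hW x hx
    show g x ∈ ⨅ a, U (σ a)
    rw [← SetLike.mem_coe, Opens.coe_iInf]
    exact Set.mem_iInter.2 fun a => hW a hx
  let c' : Cochain F U' (p + 2) := fun σ W =>
    F.map (homOfLE (hle σ W.2)).op (c σ ⟨⨅ a, U (σ a), fun a => iInf_le _ a⟩)
  have hc' : IsNatural c' := fun _ _ _ _ _ _ => rmap_rmap _ _ _ _
  have hdc' : d c' = 0 := by
    funext σ W
    have e := congrArg (F.map (homOfLE (hle σ W.2)).op)
      (congrFun (congrFun hdc σ) ⟨⨅ a, U (σ a), fun a => iInf_le _ a⟩)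
    refine Eq.trans ?_ (e.trans (map_zero _))
    simp only [d, map_sum, map_zsmul]
    refine Finset.sum_congr rfl fun a _ => congrArg _ ?_
    rw [← hcn _ _ (⨅ b, U (σ b)) (fun b => iInf_le _ b) _ (homOfLE (le_iInf fun b => iInf_le _ (a.succAbove b)))]
    exact (rmap_rmap (P := F) _ _ _ _).symm
  obtain ⟨e, hen, hed⟩ := h p c' hc' hdc'
  refine ⟨fun τ W => e τ ⟨(Opens.map g).obj W.1, fun a => ((Opens.map g).map (homOfLE (W.2 a))).le⟩,
    fun τ W W' hW hW' i => hen τ _ _ _ _ _, funext₂ fun σ W => ?_⟩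
  refine (congrFun (congrFun hed σ) ⟨(Opens.map g).obj W.1,
    fun a => ((Opens.map g).map (homOfLE (W.2 a))).le⟩).trans ?_
  exact hcn σ _ W.1 _ W.2 (homOfLE (le_iInf W.2))

end Groth.Agent.H9FCoh
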