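import Groth.Agent.H9FCoh.AdicExact
import Groth.Agent.Frg7.Basic
/-!
Completion of finite modules over algebras topologically of finite type.
-/

set_option autoImplicit false
set_option backward.isDefEq.respectTransparency false
set_option backward.isDefEq.respectTransparency.types false
set_option linter.style.haveILetI false
universe u

open CategoryTheory CategoryTheory.Limits AlgebraicGeometry Opposite

noncomputable section

namespace Groth.Agent.H9FCoh

open Groth.Agent

variable {R : Type u} [CommRing R] {I : Ideal R} {A : Type u} [CommRing A] [Algebra R A]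

theorem ar_injective (hR : AdicRing.IsBase R I) (hA : AdicRing.TopFiniteType R I A) {M N : Type u} [AddCommGroup M]
    [Module A M] [AddCommGroup N] [Module A N] [Module.Finite A N] (f : M →ₗ[A] N) (hf : Function.Injective f) :
    ∃ n₀ : ℕ, ∀ (m : ℕ) (x : M), f x ∈ (I.map (algebraMap R A)) ^ (m + n₀) • (⊤ : Submodule A N) →
      x ∈ (I.map (algebraMap R A)) ^ m • (⊤ : Submodule A M) := by
  letI : Module R N := Module.compHom N (algebraMap R A)
  haveI : IsScalarTower R A N := IsScalarTower.of_algebraMap_smul fun _ _ => rfl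
  obtain ⟨n₀, hn⟩ := (Frg7.nice hR hA).artinRees (LinearMap.range f)
  refine ⟨n₀, fun m x hx => ?_⟩
  have h1 : f x ∈ I ^ (m + n₀) • (⊤ : Submodule R N) := by
    have : f x ∈ ((I.map (algebraMap R A)) ^ (m + n₀) • (⊤ : Submodule A N)).restrictScalars R := hx
    rwa [← Ideal.map_pow, Ideal.smul_restrictScalars] at this
  have h2 := hn m ⟨h1, LinearMap.mem_range_self f x⟩
  rw [← Ideal.smul_restrictScalars, Ideal.map_pow, Submodule.restrictScalars_mem, ← Submodule.map_top f,
    ← Submodule.map_smul''] at h2
  obtain ⟨y, hy, hyx⟩ := h2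
  rwa [← hf hyx]

theorem mem_smul_top_map {B : Type u} [CommRing B] (J : Ideal B) {M N : Type*} [AddCommGroup M] [Module B M]
    [AddCommGroup N] [Module B N] (f : M →ₗ[B] N) {x : M} (hx : x ∈ J • (⊤ : Submodule B M)) :
    f x ∈ J • (⊤ : Submodule B N) :=
  Submodule.smul_top_le_comap_smul_top J f hx

theorem isQCoh_tilde (M : ModuleCat.{u} A) : Coh.IsQCoh ((tilde.functor (CommRingCat.of A)).obj M) :=
  QCoh.isQCoh_spec_iff.2 ⟨M, ⟨Iso.refl _⟩⟩

theorem exists_shortExact_tilde (hR : AdicRing.IsBase R I) (hA : AdicRing.TopFiniteType R I A)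
    (h : (FSch.completionAlong (Spec (CommRingCat.of A)) (FSch.idealSpec A (I.map (algebraMap R A)))).IsFormal)
    (S : ShortComplex (ModuleCat.{u} A)) (hS : S.ShortExact) [Module.Finite A S.X₂] :
    ∃ w : FSch.ModSys.realModMap h (FSch.complModMap (FSch.idealSpec A (I.map (algebraMap R A))) ((tilde.functor (CommRingCat.of A)).map S.f)) ≫
        FSch.ModSys.realModMap h (FSch.complModMap (FSch.idealSpec A (I.map (algebraMap R A))) ((tilde.functor (CommRingCat.of A)).map S.g)) = 0,
      (ShortComplex.mk _ _ w).ShortExact := by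
  haveI := hS.mono_f
  haveI : PreservesFiniteColimits (tilde.functor (CommRingCat.of A)) := QCoh.tilde_preservesFiniteColimits
  haveI : PreservesFiniteLimits (tilde.functor (CommRingCat.of A)) := QCoh.tilde_preservesFiniteLimits
  obtain ⟨n₀, hn⟩ := ar_injective hR hA S.f.hom ((ModuleCat.mono_iff_injective S.f).1 inferInstance)
  refine exists_shortExact_adic (I.map (algebraMap R A)) ((Frg7.IsBase.fg hR).map _) h
    (S.map (tilde.functor (CommRingCat.of A))) (hS.map_of_exact _) (isQCoh_tilde _) (isQCoh_tilde _) (isQCoh_tilde _)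
    n₀ fun m x hx => ?_
  let u := fun M : ModuleCat.{u} A => (tilde.toTildeΓNatIso (R := CommRingCat.of A)).app M
  have hx' : S.f ((u S.X₁).inv x) ∈ (I.map (algebraMap R A)) ^ (m + 1 + n₀) • (⊤ : Submodule A S.X₂) := by
    have e : S.f ((u S.X₁).inv x) = (u S.X₂).inv ((moduleSpecΓFunctor (R := CommRingCat.of A)).map
        ((tilde.functor (CommRingCat.of A)).map S.f) x) :=
      congr($((tilde.toTildeΓNatIso (R := CommRingCat.of A)).inv.naturality S.f) x).symm
    rw [e, show m + 1 + n₀ = m + n₀ + 1 by omega]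
    exact mem_smul_top_map _ (u S.X₂).inv.hom hx
  have h1 := mem_smul_top_map _ (u S.X₁).hom.hom (hn (m + 1) _ hx')
  rwa [show (u S.X₁).hom.hom ((u S.X₁).inv x) = x from congr($((u S.X₁).inv_hom_id) x)] at h1

end Groth.Agent.H9FCoh
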