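import Groth.Agent.H9FCoh.AdicSec
import Groth.Agent.Algz7.Tilde
import Groth.Agent.Algz7.Completion
/-!
Exactness of completion for quasi-coherent modules satisfying the Artin–Rees bound.
-/

set_option autoImplicit false
set_option backward.isDefEq.respectTransparency false
set_option backward.isDefEq.respectTransparency.types false
set_option linter.style.haveILetI false
universe u

open CategoryTheory CategoryTheory.Limits AlgebraicGeometry Opposite TopologicalSpace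
open Groth.Agent.RngSp (pt gm mp fns)

noncomputable section

namespace Groth.Agent.H9FCoh

open Groth.Agent

section Algebra

variable {F₁ F₂ F₃ : Type*} [AddCommGroup F₁] [AddCommGroup F₂] [AddCommGroup F₃] (f : F₁ →+ F₂) (g : F₂ →+ F₃)
  {G₁ G₂ G₃ : ℕ → Type*} [∀ k, AddCommGroup (G₁ k)] [∀ k, AddCommGroup (G₂ k)] [∀ k, AddCommGroup (G₃ k)]
  (σ₁ : ∀ k, F₁ →+ G₁ k) (σ₂ : ∀ k, F₂ →+ G₂ k) (σ₃ : ∀ k, F₃ →+ G₃ k)
  (s₁ : ∀ k, G₁ (k + 1) → G₁ k) (s₂ : ∀ k, G₂ (k + 1) → G₂ k) (s₃ : ∀ k, G₃ (k + 1) → G₃ k)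
  (h₁ : ∀ k, Function.Surjective (σ₁ k)) (h₂ : ∀ k, Function.Surjective (σ₂ k))
  (h₃ : ∀ k, Function.Surjective (σ₃ k))
  (e₁ : ∀ k z, s₁ k (σ₁ (k + 1) z) = σ₁ k z) (e₂ : ∀ k z, s₂ k (σ₂ (k + 1) z) = σ₂ k z)
  (e₃ : ∀ k z, s₃ k (σ₃ (k + 1) z) = σ₃ k z)
  (hex : ∀ z, g z = 0 ↔ ∃ x, f x = z) (hg : Function.Surjective g)
  (hlift : ∀ k y, σ₃ k y = 0 → ∃ j, σ₂ k j = 0 ∧ g j = y)
  (n₀ : ℕ) (hAR : ∀ m x, σ₂ (m + n₀) (f x) = 0 → σ₁ m x = 0)

include e₂ in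
theorem tower_descend {z : ℕ → F₂} {x : ∀ k, G₂ k} (hz : ∀ k, σ₂ k (z k) = x k) (hx : ∀ k, s₂ k (x (k + 1)) = x k)
    (n N : ℕ) (hn : n ≤ N) : σ₂ n (z N) = x n := by
  suffices ∀ d n, σ₂ n (z (n + d)) = x n by
    obtain ⟨d, rfl⟩ := Nat.exists_eq_add_of_le hn; exact this d n
  intro d
  induction d with
  | zero => exact hz
  | succ d ih =>
    intro n
    have := congrArg (s₂ n) (ih (n + 1))
    rwa [e₂, hx, show n + 1 + d = n + (d + 1) by omega] at this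

include h₁ e₁ hAR in
theorem tower_injective (x : ∀ k, G₁ k) (hx : ∀ k, s₁ k (x (k + 1)) = x k)
    (h0 : ∀ k z, σ₁ k z = x k → σ₂ k (f z) = 0) (k : ℕ) : x k = 0 := by
  choose z hz using fun k => h₁ k (x k)
  rw [← tower_descend σ₁ s₁ e₁ hz hx k (k + n₀) (Nat.le_add_right _ _)]
  exact hAR k _ (h0 _ _ (hz _))

include h₂ e₁ e₂ hex hlift hAR in
theorem tower_exact (x : ∀ k, G₂ k) (hx : ∀ k, s₂ k (x (k + 1)) = x k)
    (h0 : ∀ k z, σ₂ k z = x k → σ₃ k (g z) = 0) :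
    ∃ b : ∀ k, G₁ k, (∀ k, s₁ k (b (k + 1)) = b k) ∧ ∀ k, ∃ z, σ₁ k z = b k ∧ σ₂ k (f z) = x k := by
  have hl : ∀ k, ∃ z, σ₂ k (f z) = x k := fun k => by
    obtain ⟨y, hy⟩ := h₂ k (x k)
    obtain ⟨j, hj, hgj⟩ := hlift k (g y) (h0 k y hy)
    obtain ⟨z, hz⟩ := (hex (y - j)).1 (by rw [map_sub, hgj, sub_self])
    exact ⟨z, by rw [hz, map_sub, hy, hj, sub_zero]⟩
  choose z hz using hl
  have hd := tower_descend σ₂ s₂ e₂ (z := fun k => f (z k)) hz hx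
  refine ⟨fun k => σ₁ k (z (k + n₀)), fun k => ?_, fun k => ⟨_, rfl, hd k _ (Nat.le_add_right _ _)⟩⟩
  rw [e₁, show k + 1 + n₀ = k + n₀ + 1 by omega]
  refine sub_eq_zero.1 ?_
  rw [← map_sub]
  refine hAR k _ ?_
  rw [map_sub, map_sub, hd (k + n₀) (k + n₀ + 1) (Nat.le_succ _), hz, sub_self]

include h₃ e₂ e₃ hex hg hlift in
theorem tower_surjective (y : ∀ k, G₃ k) (hy : ∀ k, s₃ k (y (k + 1)) = y k) :
    ∃ x : ∀ k, G₂ k, (∀ k, s₂ k (x (k + 1)) = x k) ∧ ∀ k, ∃ z, σ₂ k z = x k ∧ σ₃ k (g z) = y k := by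
  choose v hv using fun k => h₃ k (y k)
  have step : ∀ k (w : F₂), σ₃ k (g w) = y k → ∃ w', σ₃ (k + 1) (g w') = y (k + 1) ∧ σ₂ k w' = σ₂ k w := by
    intro k w hw
    obtain ⟨z, hz⟩ := hg (v (k + 1))
    have h0 : σ₃ k (g (z - w)) = 0 := by
      rw [map_sub, map_sub, hz, ← e₃, hv, hy, hw, sub_self]
    obtain ⟨j, hj, hgj⟩ := hlift k _ h0
    obtain ⟨u, hu⟩ := (hex (z - w - j)).1 (by rw [map_sub, hgj, sub_self])
    refine ⟨w + j, ?_, by rw [map_add, hj, add_zero]⟩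
    rw [map_add g, hgj, ← map_add g, show w + (z - w) = z by abel, hz, hv]
  obtain ⟨w₀, hw₀⟩ := hg (v 0)
  choose nx hnx hnx' using step
  let W : ∀ k, {w : F₂ // σ₃ k (g w) = y k} := fun k =>
    Nat.rec ⟨w₀, by rw [hw₀, hv]⟩ (fun k w => ⟨nx k w.1 w.2, hnx k w.1 w.2⟩) k
  exact ⟨fun k => σ₂ k (W k).1, fun k => (e₂ k _).trans (hnx' k (W k).1 (W k).2), fun k => ⟨_, rfl, (W k).2⟩⟩

end Algebra

section Sheaf

variable {A : Type u} [CommRing A]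

local notation "SpA" => Spec (CommRingCat.of A)

theorem isQuot_mem_ker {X : Scheme.{u}} [X.Over SpA] {J : Ideal A} {M N : X.Modules} {g : M ⟶ N}
    (hg : Algz7.IsQuot J g) (U : X.Opens) (z : Γ(M, U))
    (hz : letI := secMod (A := A) M U; z ∈ J • (⊤ : Submodule A Γ(M, U))) : g.app U z = 0 := by
  letI := secMod (A := A) M U
  obtain ⟨h0, -⟩ := id hg
  refine Submodule.smul_induction_on hz (fun a ha z _ => ?_) fun x y hx hy => by rw [map_add, hx, hy, add_zero]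
  exact (congr(($(Algz7.smulMod_comp_eq_zero h0 ha)).app U z) : _)

/-- The Artin–Rees bound passes from global sections to sections over affine opens. -/
theorem ar_bound_affine (J : Ideal A) (hJ : J.FG) {M N : (SpA).Modules} (hM : Coh.IsQCoh M) (hN : Coh.IsQCoh N)
    (f : M ⟶ N) (a b : ℕ)
    (hAR : ∀ x : (moduleSpecΓFunctor (R := CommRingCat.of A)).obj M,
      (moduleSpecΓFunctor (R := CommRingCat.of A)).map f x ∈ J ^ b • (⊤ : Submodule A _) →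
        x ∈ J ^ a • (⊤ : Submodule A _)) (U : (SpA).Opens) (hU : IsAffineOpen U) (z : Γ(M, U))
    (hz : letI : (SpA).Over SpA := ⟨𝟙 _⟩; letI := secMod (A := A) N U; f.app U z ∈ J ^ b • (⊤ : Submodule A Γ(N, U))) :
    letI : (SpA).Over SpA := ⟨𝟙 _⟩; letI := secMod (A := A) M U; z ∈ J ^ a • (⊤ : Submodule A Γ(M, U)) := by
  letI : (SpA).Over SpA := ⟨𝟙 _⟩
  have hNb := Algz7.isQCoh_modPow J b hN
  have hMa := Algz7.isQCoh_modPow J a hM
  have hK : Coh.IsQCoh (kernel (f ≫ Formal.modPowπ J b N)) := QCoh.isQCoh_kernel hM hNb _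
  have h0 : kernel.ι (f ≫ Formal.modPowπ J b N) ≫ Formal.modPowπ J a M = 0 := by
    refine Algz7.hom_ext_of_Γ hK (ModuleCat.hom_ext (LinearMap.ext fun w => ?_))
    have hw : (Formal.modPowπ J b N).app ⊤ (f.app ⊤ ((kernel.ι (f ≫ Formal.modPowπ J b N)).app ⊤ w)) = 0 :=
      congr(($(kernel.condition (f ≫ Formal.modPowπ J b N))).app ⊤ w)
    have h1 := ker_app_le_of_isQuot hJ.pow hN hNb (Algz7.isQuot_modPowπ J b N) (isAffineOpen_top _) _ hw
    have h2 := hAR ((kernel.ι (f ≫ Formal.modPowπ J b N)).app ⊤ w) h1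
    exact isQuot_mem_ker (Algz7.isQuot_modPowπ J a M) ⊤ _ h2
  obtain ⟨w, hw⟩ := QCoh.exists_kernel_lift (f ≫ Formal.modPowπ J b N) U z
    (isQuot_mem_ker (Algz7.isQuot_modPowπ J b N) U _ hz)
  refine ker_app_le_of_isQuot hJ.pow hM hMa (Algz7.isQuot_modPowπ J a M) hU z ?_
  rw [← hw]
  exact congr(($h0).app U w)

/-- Completion along a finitely generated ideal is exact on sequences satisfying the Artin–Rees bound. -/
theorem exists_shortExact_adic (J : Ideal A) (hJ : J.FG)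
    (hX : (FSch.completionAlong SpA (FSch.idealSpec A J)).IsFormal)
    (S : ShortComplex (SpA).Modules) (hS : S.ShortExact)
    (q₁ : Coh.IsQCoh S.X₁) (q₂ : Coh.IsQCoh S.X₂) (q₃ : Coh.IsQCoh S.X₃) (n₀ : ℕ)
    (hAR : ∀ (m : ℕ) (x : (moduleSpecΓFunctor (R := CommRingCat.of A)).obj S.X₁),
      (moduleSpecΓFunctor (R := CommRingCat.of A)).map S.f x ∈ J ^ (m + n₀ + 1) • (⊤ : Submodule A _) →
        x ∈ J ^ (m + 1) • (⊤ : Submodule A _)) :
    ∃ w : FSch.ModSys.realModMap hX (FSch.complModMap (FSch.idealSpec A J) S.f) ≫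
        FSch.ModSys.realModMap hX (FSch.complModMap (FSch.idealSpec A J) S.g) = 0,
      (ShortComplex.mk _ _ w).ShortExact := by
  letI : (SpA).Over SpA := ⟨𝟙 _⟩
  let 𝓘 := FSch.idealSpec A J
  have h𝓘 : 𝓘 = (FSch.idealSpec A J).comap ((SpA) ↘ SpA) := (Scheme.IdealSheafData.comap_id _).symm
  let P : Opens ((FSch.completionAlong SpA 𝓘).X 0) → Prop := fun W =>
    ∃ U : (SpA).Opens, IsAffineOpen U ∧ W = FSch.completionToX SpA 𝓘 0 ⁻¹ᵁ U
  have hP : ∀ (V : Opens ((FSch.completionAlong SpA 𝓘).X 0)) (x : (FSch.completionAlong SpA 𝓘).X 0), x ∈ V →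
      ∃ W, P W ∧ x ∈ W ∧ W ≤ V := by
    intro V x hx
    obtain ⟨V', hV', hVV⟩ :=
      (FSch.completionToX SpA 𝓘 0).isClosedEmbedding.isInducing.isOpen_iff.1 V.isOpen
    obtain ⟨U, hU, hxU, hUV⟩ := Opens.isBasis_iff_nbhd.mp (SpA).isBasis_affineOpens (U := ⟨V', hV'⟩)
      (show FSch.completionToX SpA 𝓘 0 x ∈ V' from (Set.ext_iff.1 hVV x).2 hx)
    exact ⟨_, ⟨U, hU, rfl⟩, hxU, fun y hy => (Set.ext_iff.1 hVV y).1 (hUV hy)⟩
  refine shortExact_of_basis hP _ _ ?_ ?_ ?_ ?_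
  all_goals
    rintro W ⟨U, hU, rfl⟩
    let σ₁ : ∀ k, Γ(S.X₁, U) →+ _ := fun k => AddMonoidHom.mk' (cSec 𝓘 hX S.X₁ k U) fun a b => cSec_add 𝓘 hX _ k U a b
    let σ₂ : ∀ k, Γ(S.X₂, U) →+ _ := fun k => AddMonoidHom.mk' (cSec 𝓘 hX S.X₂ k U) fun a b => cSec_add 𝓘 hX _ k U a b
    let σ₃ : ∀ k, Γ(S.X₃, U) →+ _ := fun k => AddMonoidHom.mk' (cSec 𝓘 hX S.X₃ k U) fun a b => cSec_add 𝓘 hX _ k U a b
    letI := secMod (A := A) S.X₁ U
    letI := secMod (A := A) S.X₂ U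
    letI := secMod (A := A) S.X₃ U
    have k₁ := fun k => cSec_surjective 𝓘 hX J hJ h𝓘 q₁ k hU
    have k₂ := fun k => cSec_surjective 𝓘 hX J hJ h𝓘 q₂ k hU
    have k₃ := fun k => cSec_surjective 𝓘 hX J hJ h𝓘 q₃ k hU
    let f : Γ(S.X₁, U) →+ Γ(S.X₂, U) := (S.f.app U).hom
    let g : Γ(S.X₂, U) →+ Γ(S.X₃, U) := (S.g.app U).hom
    have hg : Function.Surjective g := QCoh.app_surjective_of_shortExact hS q₁ hU
    have hgf : ∀ x, g (f x) = 0 := fun x => congr(($(S.zero)).app U x)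
    have hex : ∀ z, g z = 0 ↔ ∃ x, f x = z := fun z =>
      ⟨QCoh.exists_app_f_eq hS U z, fun ⟨x, hx⟩ => hx ▸ hgf x⟩
    have hlift : ∀ k y, σ₃ k y = 0 → ∃ j, σ₂ k j = 0 ∧ g j = y := fun k y hy => by
      have hy' := ((k₃ k).2 y).1 hy
      have : J ^ (k + 1) • (⊤ : Submodule A Γ(S.X₃, U)) =
          (J ^ (k + 1) • (⊤ : Submodule A Γ(S.X₂, U))).map (secMap S.g U) := by
        rw [Submodule.map_smul'', Submodule.map_top, LinearMap.range_eq_top.2 (show Function.Surjective (secMap (A := A) S.g U) from hg)]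
      rw [this] at hy'
      obtain ⟨j, hj, rfl⟩ := hy'
      exact ⟨j, ((k₂ k).2 j).2 hj, rfl⟩
    have har : ∀ m x, σ₂ (m + n₀) (f x) = 0 → σ₁ m x = 0 := fun m x hx =>
      ((k₁ m).2 x).2 (ar_bound_affine J hJ q₁ q₂ S.f (m + 1) (m + n₀ + 1) (hAR m) U hU x (((k₂ _).2 _).1 hx))
    have n₁ : ∀ x k z, σ₁ k z = fprM hX _ k _ x →
        fprM hX _ k _ (mp (FSch.ModSys.realModMap hX (FSch.complModMap 𝓘 S.f)) _ x) = σ₂ k (f z) := fun x k z hz => by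
      rw [fprM_realModMap, ← hz]; exact cSec_natural 𝓘 hX S.f k U z
    have n₂ : ∀ x k z, σ₂ k z = fprM hX _ k _ x →
        fprM hX _ k _ (mp (FSch.ModSys.realModMap hX (FSch.complModMap 𝓘 S.g)) _ x) = σ₃ k (g z) := fun x k z hz => by
      rw [fprM_realModMap, ← hz]; exact cSec_natural 𝓘 hX S.g k U z
  · intro x
    refine fprM_ext hX _ fun k => ?_
    obtain ⟨z, hz⟩ := (k₁ k).1 (fprM hX _ k _ x)
    rw [n₂ _ k (f z) (n₁ x k z hz).symm, hgf, map_zero]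
    exact (map_zero (mp (FSch.realProj _ hX _ _ k) _)).symm
  · refine (injective_iff_map_eq_zero _).2 fun x hx => fprM_ext hX _ fun k => ?_
    refine (tower_injective f σ₁ σ₂ (fun k => fstep hX _ k _) (fun k => (k₁ k).1) (fun k z => fstep_cSec 𝓘 hX _ k U z)
      n₀ har (fun k => fprM hX _ k _ x) (fun k => fprM_step hX _ k _ x)
      (fun k z hz => (n₁ x k z hz).symm.trans ?_) k).trans
      (map_zero (mp (FSch.realProj _ hX _ _ k) _)).symm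
    rw [hx]
    exact map_zero (mp (FSch.realProj _ hX _ _ k) _)
  · intro y
    obtain ⟨x, hx, hxy⟩ := tower_surjective f g σ₂ σ₃ (fun k => fstep hX _ k _) (fun k => fstep hX _ k _)
      (fun k => (k₃ k).1) (fun k z => fstep_cSec 𝓘 hX _ k U z) (fun k z => fstep_cSec 𝓘 hX _ k U z) hex hg hlift
      (fun k => fprM hX _ k _ y) (fun k => fprM_step hX _ k _ y)
    obtain ⟨x', hx'⟩ := fprM_lift hX _ x hx
    refine ⟨x', fprM_ext hX _ fun k => ?_⟩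
    obtain ⟨z, hz, hzy⟩ := hxy k
    rw [n₂ x' k z (hz.trans (hx' k).symm), hzy]
  · intro y hy
    obtain ⟨b, hb, hby⟩ := tower_exact f g σ₁ σ₂ σ₃ (fun k => fstep hX _ k _) (fun k => fstep hX _ k _)
      (fun k => (k₂ k).1) (fun k z => fstep_cSec 𝓘 hX _ k U z) (fun k z => fstep_cSec 𝓘 hX _ k U z) hex hlift n₀ har
      (fun k => fprM hX _ k _ y) (fun k => fprM_step hX _ k _ y)
      (fun k z hz => (n₂ y k z hz).symm.trans (by rw [hy]; exact map_zero (mp (FSch.realProj _ hX _ _ k) _)))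
    obtain ⟨x', hx'⟩ := fprM_lift hX _ b hb
    refine ⟨x', fprM_ext hX _ fun k => ?_⟩
    obtain ⟨z, hz, hzy⟩ := hby k
    rw [n₁ x' k z (hz.trans (hx' k).symm), hzy]

end Sheaf

end Groth.Agent.H9FCoh
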