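import Groth.Agent.H9FCoh.Limit
import Groth.Agent.RngSp.Glue

/-!
# The universal property of the projections of the limit
-/

set_option autoImplicit false
set_option backward.isDefEq.respectTransparency false
set_option backward.isDefEq.respectTransparency.types false
set_option linter.style.haveILetI false

universe u

open CategoryTheory CategoryTheory.Limits AlgebraicGeometry Opposite TopologicalSpace
open Groth.Agent.ClosedRinged
open Groth.Agent.RngSp (pt gm mp fns comb)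

noncomputable section

namespace Groth.Agent.H9FCoh

theorem comb_eq_cmb {X : TopCat.{u}} {O : TopCat.Sheaf CommRingCat.{u} X} {M : ModSite.Mod O} {U : Opens X}
    {ι : Type u} [Fintype ι] (c : ι → fns O U) (t : ι → M.val.obj (op U)) :
    comb c t = cmb (O := O) t (Finsupp.equivFunOnFinite.symm c) :=
  (Finsupp.sum_fintype (Finsupp.equivFunOnFinite.symm c) (fun i a => (show fns O U from a) • t i)
    fun i => zero_smul (fns O U) (t i)).symm

variable {𝔛 : FSch.Sys.{u}} (h : 𝔛.IsLocNoethFormal) (𝔐 : FSch.ModSys 𝔛)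

/-- Affine opens of the space. -/
abbrev Idx (𝔛 : FSch.Sys.{u}) : Type u := {U : (𝔛.X 0).Opens // IsAffineOpen U}

theorem cover_idx (x : (𝔛.X 0 : Scheme.{u})) : ∃ j : Idx 𝔛, x ∈ j.1 := by
  obtain ⟨U, hU, hx, -⟩ := Opens.isBasis_iff_nbhd.1 (𝔛.X 0).isBasis_affineOpens (show x ∈ (⊤ : (𝔛.X 0).Opens) from trivial)
  exact ⟨⟨U, hU⟩, hx⟩

theorem cover_lvU (k : ℕ) (y : (𝔛.X k : Scheme.{u})) : ∃ j : Idx 𝔛, y ∈ 𝔛.lvU h.1 k j.1 :=
  cover_idx (𝔛.gInv h.1 k y)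

variable {k : ℕ} {G : (𝔛.X k).Modules}

/-- A section of a direct image from a level. -/
abbrev pushVal {V : (𝔛.X 0).Opens} (ψ : 𝔐.realMod h.1 ⟶ (FSch.levelMor 𝔛 h.1 k).push.obj G) (x : Lm h 𝔐 V) :
    Γ(G, 𝔛.lvU h.1 k V) :=
  mp ψ V x

theorem pushVal_cmb {V : (𝔛.X 0).Opens} {ι : Type u}
    (ψ : 𝔐.realMod h.1 ⟶ (FSch.levelMor 𝔛 h.1 k).push.obj G) (t : ι → Lm h 𝔐 V) (v : ι →₀ Ox h V) :
    pushVal h 𝔐 ψ (cmb (O := 𝔛.Osh h.1) t v) =
      cmb (O := (𝔛.X k).sheaf) (M := G) (fun i => pushVal h 𝔐 ψ (t i)) (pv (pr h k V) v) := by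
  rw [cmb, cmb, pv, Finsupp.sum]
  refine Eq.trans ?_ (Finsupp.sum_of_support_subset (Finsupp.mapRange _ (map_zero _) v) Finsupp.support_mapRange
    (fun i a => (show fns (𝔛.X k).sheaf (𝔛.lvU h.1 k V) from a) •
      (show G.val.obj (op (𝔛.lvU h.1 k V)) from pushVal h 𝔐 ψ (t i)))
    (fun i _ => zero_smul (fns (𝔛.X k).sheaf (𝔛.lvU h.1 k V)) _)).symm
  refine (map_sum (mp ψ V) _ _).trans (Finset.sum_congr rfl fun i _ => ?_)
  exact map_smul (mp ψ V) _ _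

theorem realProj_push_injective (h𝔐 : 𝔐.IsCoh) (k : ℕ) (G : (𝔛.X k).Modules) :
    Function.Injective fun φ : 𝔐.F k ⟶ G =>
      FSch.realProj 𝔛 h.1 𝔐.F 𝔐.toPush k ≫ (FSch.levelMor 𝔛 h.1 k).push.map φ := by
  intro φ φ' he
  choose σ hσ t N hN hm hml using fun j : Idx 𝔛 => exists_model_realMod h 𝔐 h𝔐 j.2
  haveI : ∀ j, Finite (σ j) := hσ
  haveI : ∀ j, Fintype (σ j) := fun j => Fintype.ofFinite _
  exact RngSp.hom_ext_of_cover (O := (𝔛.X k).sheaf) (fun j : Idx 𝔛 => 𝔛.lvU h.1 k j.1) (cover_lvU h k)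
    (fun j i => prM h 𝔐 k j.1 (t j i)) (fun j => (hml j k).genOn) φ φ'
    fun j i => congrArg (fun q => mp q j.1 (t j i)) he

theorem realProj_push_surjective (h𝔐 : 𝔐.IsCoh) (k : ℕ) (G : (𝔛.X k).Modules) :
    Function.Surjective fun φ : 𝔐.F k ⟶ G =>
      FSch.realProj 𝔛 h.1 𝔐.F 𝔐.toPush k ≫ (FSch.levelMor 𝔛 h.1 k).push.map φ := by
  intro ψ
  choose σ hσ t N hN hm hml using fun j : Idx 𝔛 => exists_model_realMod h 𝔐 h𝔐 j.2
  haveI : ∀ j, Finite (σ j) := hσ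
  haveI : ∀ j, Fintype (σ j) := fun j => Fintype.ofFinite _
  have hrel : ∀ (j : Idx 𝔛) (V : Opens (𝔛.X k)) (hV : V ≤ 𝔛.lvU h.1 k j.1) (c : σ j → fns (𝔛.X k).sheaf V),
      comb c (fun i => res (𝔐.F k) hV (prM h 𝔐 k j.1 (t j i))) = 0 →
      comb c (fun i => res G hV (pushVal h 𝔐 ψ (t j i))) = 0 := by
    intro j V hV c hc
    rw [comb_eq_cmb] at hc ⊢
    refine eq_of_gm fun y hy => ?_
    rw [gm_cmb_res, RngSp.gm_zero]
    have h1 := ((hml j k).rel y (hV hy) _).1 (by rw [← gm_cmb_res hV _ hy, hc, RngSp.gm_zero])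
    refine LinearMap.mem_ker.1 ((Submodule.span_le.2 ?_ : pN (gH (𝔛.X k).sheaf (hV hy)) (pN (pr h k j.1) (N j)) ≤
      LinearMap.ker (gcmb fun i => gm (O := (𝔛.X k).sheaf) G (hV hy) (pushVal h 𝔐 ψ (t j i)))) h1)
    rintro _ ⟨n, hn, rfl⟩
    rw [SetLike.mem_coe, LinearMap.mem_ker, ← gm_cmb]
    obtain ⟨n₀, hn₀, rfl⟩ := exists_preimage_pN (pr h k j.1) (pr_surjective h j.2 k) hn
    rw [← pushVal_cmb, (hm j).cmb_eq_zero hn₀]
    exact (congrArg (fun q => gm (O := (𝔛.X k).sheaf) G (hV hy) q) (map_zero (mp ψ j.1))).trans (RngSp.gm_zero _)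
  have hcompat : ∀ j l : Idx 𝔛, RngSp.Compat (O := (𝔛.X k).sheaf) (G := 𝔐.F k) (N := G)
      (fun j : Idx 𝔛 => 𝔛.lvU h.1 k j.1) (fun j i => prM h 𝔐 k j.1 (t j i)) (fun j i => pushVal h 𝔐 ψ (t j i)) j l := by
    intro j l y hy
    obtain ⟨W, hW, hyW, hWle⟩ := Opens.isBasis_iff_nbhd.1 (𝔛.X 0).isBasis_affineOpens
      (show 𝔛.gInv h.1 k y ∈ j.1 ⊓ l.1 from hy)
    have hj : W ≤ j.1 := hWle.trans inf_le_left
    have hl : W ≤ l.1 := hWle.trans inf_le_right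
    choose v hv using fun i => ((hm l).mono hl).exists_cmb (good h) hW (res (𝔐.realMod h.1) hj (t j i))
    refine ⟨𝔛.lvU h.1 k W, lvU_mono h k hWle, hyW, fun i p => pr h k W (v i p), fun i => ⟨?_, ?_⟩⟩
    · have h1 := congrArg (prM h 𝔐 k W) (hv i)
      rw [prM_cmb, prM_res] at h1
      simp only [prM_res] at h1
      rw [comb_eq_cmb]
      refine h1.symm.trans ?_
      congr 1
      exact Finsupp.ext fun p => pv_apply _ _ p
    · have h1 := congrArg (pushVal h 𝔐 ψ) (hv i)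
      rw [pushVal_cmb] at h1
      simp only [pushVal, RngSp.mp_res] at h1
      rw [comb_eq_cmb]
      refine h1.symm.trans ?_
      congr 1
      exact Finsupp.ext fun p => pv_apply _ _ p
  obtain ⟨f, hf⟩ := RngSp.exists_hom (O := (𝔛.X k).sheaf) (G := 𝔐.F k) (N := G)
    (U := fun j : Idx 𝔛 => 𝔛.lvU h.1 k j.1) (t := fun j i => prM h 𝔐 k j.1 (t j i))
    (m := fun j i => pushVal h 𝔐 ψ (t j i)) (cover_lvU h k) (fun j => (hml j k).genOn)
    hrel hcompat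
  refine ⟨f, RngSp.hom_ext_of_cover (O := 𝔛.Osh h.1) (fun j : Idx 𝔛 => j.1) cover_idx t
      (fun j => (hm j).genOn) _ _ fun j i => ?_⟩
  exact hf j i

/-- Maps out of a level are the maps out of the limit to the direct images from the level. -/
theorem realProj_push_bijective (h𝔐 : 𝔐.IsCoh) (k : ℕ) (G : (𝔛.X k).Modules) :
    Function.Bijective fun φ : 𝔐.F k ⟶ G =>
      FSch.realProj 𝔛 h.1 𝔐.F 𝔐.toPush k ≫ (FSch.levelMor 𝔛 h.1 k).push.map φ :=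
  ⟨realProj_push_injective h 𝔐 h𝔐 k G, realProj_push_surjective h 𝔐 h𝔐 k G⟩

end Groth.Agent.H9FCoh
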