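import Groth.Agent.H9FCoh.AlgzExact
import Groth.Agent.H9FCoh.Rebuild
import Groth.Agent.S13336
import Groth.Agent.S0799
import Groth.Agent.QCoh.AnnIdeal

/-!
# Algebraization of coherent modules on a completion with proper support
-/

set_option autoImplicit false
set_option backward.isDefEq.respectTransparency false
set_option backward.isDefEq.respectTransparency.types false
set_option linter.style.haveILetI false

universe u

open CategoryTheory CategoryTheory.Limits AlgebraicGeometry Opposite TopologicalSpace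

noncomputable section

namespace Groth.Agent.H9FCoh

open Groth.Agent

theorem realModMap_comp {𝔛 : FSch.Sys.{u}} (h : 𝔛.IsFormal) {𝔐 𝔑 𝔓 : FSch.ModSys 𝔛} (φ : 𝔐 ⟶ 𝔑) (ψ : 𝔑 ⟶ 𝔓) :
    FSch.ModSys.realModMap h (φ ≫ ψ) = FSch.ModSys.realModMap h φ ≫ FSch.ModSys.realModMap h ψ := by
  refine limit.hom_ext fun j => ?_
  change FSch.ModSys.realModMap h (φ ≫ ψ) ≫ FSch.realProj 𝔛 h 𝔓.F 𝔓.toPush j.unop =
    (FSch.ModSys.realModMap h φ ≫ FSch.ModSys.realModMap h ψ) ≫ FSch.realProj 𝔛 h 𝔓.F 𝔓.toPush j.unop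
  unfold FSch.ModSys.realModMap
  rw [FSch.realLimMap_realProj, Category.assoc, FSch.realLimMap_realProj, FSch.realLimMap_realProj_assoc]
  exact congrArg (_ ≫ ·) ((FSch.levelMor 𝔛 h j.unop).push.map_comp _ _)

theorem realModMap_id {𝔛 : FSch.Sys.{u}} (h : 𝔛.IsFormal) (𝔐 : FSch.ModSys 𝔛) :
    FSch.ModSys.realModMap h (𝟙 𝔐) = 𝟙 _ := by
  refine limit.hom_ext fun j => ?_
  change FSch.ModSys.realModMap h (𝟙 𝔐) ≫ FSch.realProj 𝔛 h 𝔐.F 𝔐.toPush j.unop =
    𝟙 _ ≫ FSch.realProj 𝔛 h 𝔐.F 𝔐.toPush j.unop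
  unfold FSch.ModSys.realModMap
  rw [FSch.realLimMap_realProj, Category.id_comp]
  exact (congrArg (_ ≫ ·) ((FSch.levelMor 𝔛 h j.unop).push.map_id _)).trans (Category.comp_id _)

/-- The functor of limits on isomorphisms. -/
def realModIso {𝔛 : FSch.Sys.{u}} (h : 𝔛.IsFormal) {𝔐 𝔑 : FSch.ModSys 𝔛} (e : 𝔐 ≅ 𝔑) :
    𝔐.realMod h ≅ 𝔑.realMod h where
  hom := FSch.ModSys.realModMap h e.hom
  inv := FSch.ModSys.realModMap h e.inv
  hom_inv_id := by rw [← realModMap_comp, e.hom_inv_id, realModMap_id]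
  inv_hom_id := by rw [← realModMap_comp, e.inv_hom_id, realModMap_id]

theorem bijective_pushforward_map {Z X : Scheme.{u}} (i : Z ⟶ X) [IsClosedImmersion i] {M : Z.Modules}
    (hM : Coh.IsQCoh M) (N : Z.Modules) :
    Function.Bijective fun φ : M ⟶ N => (Scheme.Modules.pushforward i).map φ := by
  haveI := AmpleVan.isIso_counit i hM
  let adj := Scheme.Modules.pullbackPushforwardAdjunction i
  let e := ((asIso (adj.counit.app M)).homCongr (Iso.refl N)).symm
  have h2 : (fun φ : M ⟶ N => (Scheme.Modules.pushforward i).map φ) =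
      (adj.homEquiv _ N) ∘ e := by
    funext φ
    simp only [Function.comp_apply, e, Iso.homCongr_symm, Iso.homCongr_apply, Iso.symm_inv, Iso.refl_symm,
      Iso.refl_hom, asIso_hom, Category.comp_id, adj.homEquiv_unit, Functor.map_comp]
    exact (adj.right_triangle_components_assoc M _).symm
  rw [h2]
  exact (adj.homEquiv _ _).bijective.comp e.bijective

theorem support_pushforward_subset {Z X : Scheme.{u}} (i : Z ⟶ X) [IsClosedImmersion i] {N : Z.Modules}
    (hN : Coh.IsQCoh N) :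
    CohB1.support ((Scheme.Modules.pushforward i).obj N) ⊆ Set.range i := fun x hx => by
  by_contra hn
  obtain ⟨U, hU, hxU, hUc⟩ := Opens.isBasis_iff_nbhd.1 X.isBasis_affineOpens
    (show x ∈ (⟨(Set.range i)ᶜ, i.isClosedEmbedding.isClosed_range.isOpen_compl⟩ : X.Opens) from hn)
  refine (QCoh.notMem_support_iff (QCoh.isQCoh_pushforward i hN) hU hxU).2 (fun m => ⟨1, ?_, ?_⟩) hx
  · rw [Scheme.basicOpen_of_isUnit _ isUnit_one]; exact hxU
  · have hb : i ⁻¹ᵁ U = ⊥ := eq_bot_iff.2 fun z hz => (hUc hz ⟨z, rfl⟩).elim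
    haveI : Subsingleton Γ(N, i ⁻¹ᵁ U) := by
      rw [hb]
      exact AddCommGrpCat.subsingleton_of_isZero
        ((TopCat.Sheaf.isTerminalOfEmpty (⟨N.presheaf, N.isSheaf⟩ : TopCat.Sheaf AddCommGrpCat Z.carrier)).isZero)
    exact Subsingleton.elim (α := Γ(N, i ⁻¹ᵁ U)) _ _

variable {X : Scheme.{u}} (𝓘 : X.IdealSheafData)

section Base

variable {A : Type u} [CommRing A] [IsNoetherianRing A] (J : Ideal A) [IsAdicComplete J A]
  (f : X ⟶ Spec (CommRingCat.of A)) [LocallyOfFiniteType f] [QuasiCompact f]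

omit [IsNoetherianRing A] [IsAdicComplete J A] in
theorem isQuot_step [X.Over (Spec (CommRingCat.of A))] {Z₁ Z₀ : Scheme.{u}} (i₁ : Z₁ ⟶ X) [IsClosedImmersion i₁]
    (i₀ : Z₀ ⟶ X) [IsClosedImmersion i₀] (ι : Z₀ ⟶ Z₁) {K : Ideal A} {q} (sq : IsPullback
      i₀ q (X ↘ Spec (CommRingCat.of A)) (Spec.map (CommRingCat.ofHom (Ideal.Quotient.mk K))))
    (p : Scheme.Modules.pushforward ι ⋙ Scheme.Modules.pushforward i₁ ≅ Scheme.Modules.pushforward i₀)
    {M₁ : Z₁.Modules} {M₀ : Z₀.Modules} (hM₁ : Coh.IsQCoh M₁) (hM₀ : Coh.IsQCoh M₀)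
    (e : (Scheme.Modules.pullback ι).obj M₁ ≅ M₀) :
    Algz7.IsQuot K ((Scheme.Modules.pushforward i₁).map
      ((Scheme.Modules.pullbackPushforwardAdjunction ι).homEquiv _ _ e.hom) ≫ p.hom.app M₀) := by
  let P := (Scheme.Modules.pushforward i₁).obj M₁
  have hPq : Coh.IsQCoh P := QCoh.isQCoh_pushforward i₁ hM₁
  let adjι := Scheme.Modules.pullbackPushforwardAdjunction ι
  let t : P ⟶ (Scheme.Modules.pushforward i₀).obj M₀ :=
    (Scheme.Modules.pushforward i₁).map (adjι.homEquiv _ _ e.hom) ≫ p.hom.app M₀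
  have hb : ∀ N : Z₀.Modules,
      Function.Bijective fun χ : M₀ ⟶ N => t ≫ (Scheme.Modules.pushforward i₀).map χ := fun N => by
    have h1 : Function.Bijective fun χ : M₀ ⟶ N =>
        adjι.homEquiv _ _ e.hom ≫ (Scheme.Modules.pushforward ι).map χ := by
      convert (adjι.homEquiv _ N).bijective.comp (e.homCongr (Iso.refl N)).symm.bijective using 1
      funext χ
      simp only [Function.comp_apply, Iso.homCongr_symm, Iso.homCongr_apply, Iso.symm_inv, Iso.refl_symm,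
        Iso.refl_hom, Category.comp_id]
      exact (adjι.homEquiv_naturality_right _ _).symm
    have h2 := bijective_pushforward_map i₁ hM₁ ((Scheme.Modules.pushforward ι).obj N)
    have h3 : Function.Bijective fun g : P ⟶ (Scheme.Modules.pushforward i₁).obj
        ((Scheme.Modules.pushforward ι).obj N) => g ≫ p.hom.app N :=
      ⟨fun a b h => (cancel_mono (p.hom.app N)).1 h, fun g => ⟨g ≫ p.inv.app N, by
        change (g ≫ p.inv.app N) ≫ p.hom.app N = g
        rw [Category.assoc, Iso.inv_hom_id_app, Category.comp_id]⟩⟩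
    convert h3.comp (h2.comp h1) using 1
    funext χ
    simp only [Function.comp_apply, t, Functor.map_comp, Category.assoc]
    exact congrArg (_ ≫ ·) (p.hom.naturality χ).symm
  let adj := Scheme.Modules.pullbackPushforwardAdjunction i₀
  let ψ : (Scheme.Modules.pullback i₀).obj P ⟶ M₀ := (adj.homEquiv _ _).symm t
  have hψ : adj.unit.app P ≫ (Scheme.Modules.pushforward i₀).map ψ = t :=
    (adj.homEquiv_unit _ _ _).symm.trans (Equiv.apply_symm_apply _ _)
  obtain ⟨χ, hχ⟩ := (hb _).2 (adj.unit.app P)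
  have hq := H9Existence.isQuot_unit (q := q) sq hPq
  haveI : IsIso ψ := by
    refine ⟨χ, (adj.homEquiv _ _).injective ?_, (hb _).1 ?_⟩
    · rw [adj.homEquiv_unit, adj.homEquiv_unit, Functor.map_comp, ← Category.assoc, hψ, CategoryTheory.Functor.map_id]
      exact hχ.trans (Category.comp_id _).symm
    · change t ≫ _ = t ≫ _
      rw [Functor.map_comp, CategoryTheory.Functor.map_id, Category.comp_id, ← Category.assoc]
      exact (congrArg (· ≫ _) hχ).trans hψ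
  change Algz7.IsQuot K t
  haveI := hq.epi
  haveI : Epi t := by rw [← hψ]; infer_instance
  refine Algz7.IsQuot.mk' _ (H9Existence.killedBy_push sq hM₀) fun {T} φ hφ => ?_
  obtain ⟨w, hw⟩ := hq.desc φ hφ
  refine ⟨inv ((Scheme.Modules.pushforward i₀).map ψ) ≫ w, ?_⟩
  rw [← hψ, Category.assoc, IsIso.hom_inv_id_assoc]
  exact hw

/-- The direct image system of a coherent system is a system of reductions. -/
theorem isQuot_pushSys_map [X.Over (Spec (CommRingCat.of A))] {n : ℕ} {q} (sq : IsPullback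
      (FSch.completionToX X 𝓘 n) q (X ↘ Spec (CommRingCat.of A))
      (Spec.map (CommRingCat.ofHom (Ideal.Quotient.mk (J ^ (n + 1))))))
    {𝔐 : FSch.ModSys (FSch.completionAlong X 𝓘)} (h𝔐 : 𝔐.IsCoh) :
    Algz7.IsQuot (J ^ (n + 1)) ((pushSys 𝓘 𝔐).map (homOfLE (Nat.le_succ n)).op) := by
  haveI : ∀ k, IsClosedImmersion (FSch.completionToX X 𝓘 k) := fun k => inferInstance
  have e₁ : 𝔐.toPush n = (Scheme.Modules.pullbackPushforwardAdjunction ((FSch.completionAlong X 𝓘).ι n)).homEquiv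
      _ _ (𝔐.e n).hom := rfl
  have h : Algz7.IsQuot (J ^ (n + 1))
      ((Scheme.Modules.pushforward (FSch.completionToX X 𝓘 (n + 1))).map (𝔐.toPush n) ≫
        (pushStep 𝓘 n).hom.app (𝔐.F n)) := by
    rw [e₁]
    exact isQuot_step (FSch.completionToX X 𝓘 (n + 1)) (FSch.completionToX X 𝓘 n)
      ((FSch.completionAlong X 𝓘).ι n) (q := q) sq (pushStep 𝓘 n) (h𝔐 (n + 1)).1 (h𝔐 n).1 (𝔐.e n)
  rw [pushSys_map_succ]
  exact h

omit [IsNoetherianRing A] [IsAdicComplete J A] in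
theorem exists_pushSys_iso_completion [X.Over (Spec (CommRingCat.of A))]
    (sq : ∀ n, ∃ q, IsPullback (FSch.completionToX X 𝓘 n) q (X ↘ Spec (CommRingCat.of A))
      (Spec.map (CommRingCat.ofHom (Ideal.Quotient.mk (J ^ (n + 1))))))
    {M : X.Modules} (hM : Coh.IsCoh M) :
    Nonempty (pushSys 𝓘 (FSch.complMod 𝓘 M) ≅ Formal.completion J M) := by
  haveI : ∀ k, IsClosedImmersion (FSch.completionToX X 𝓘 k) := fun k => inferInstance
  choose q sq using sq
  let η : ∀ (n : ℕ), M ⟶ (pushSys 𝓘 (FSch.complMod 𝓘 M)).obj (op n) := fun n =>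
    (Scheme.Modules.pullbackPushforwardAdjunction (FSch.completionToX X 𝓘 n)).unit.app M
  let ρ : ∀ (n : ℕ), M ⟶ (Formal.completion J M).obj (op n) := fun n => Formal.modPowπ J (n + 1) M
  obtain ⟨e, -⟩ := exists_iso_of_isQuot J (P := pushSys 𝓘 (FSch.complMod 𝓘 M)) (Q := Formal.completion J M) η ρ
    (fun n => H9Existence.isQuot_unit (q := q n) (sq n) hM.1) (fun n => Algz7.isQuot_modPowπ J (n + 1) M)
    (unit_pushSys 𝓘 M) (fun n => by
      rw [Algz7.completion_map_succ J M n]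
      exact Formal.modPowπ_trans J (n + 1) M)
  exact ⟨e⟩

omit [IsNoetherianRing A] [IsAdicComplete J A] in
theorem step_cancel {Z₁ Z₀ : Scheme.{u}} (i₁ : Z₁ ⟶ X) (i₀ : Z₀ ⟶ X) {ι : Z₀ ⟶ Z₁}
    (p : Scheme.Modules.pushforward ι ⋙ Scheme.Modules.pushforward i₁ ≅ Scheme.Modules.pushforward i₀)
    {M₁ N₁ : Z₁.Modules} {M₀ N₀ : Z₀.Modules} (t : M₁ ⟶ (Scheme.Modules.pushforward ι).obj M₀)
    (t' : N₁ ⟶ (Scheme.Modules.pushforward ι).obj N₀) (φ₁ : M₁ ⟶ N₁) (φ₀ : M₀ ⟶ N₀)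
    (h : ((Scheme.Modules.pushforward i₁).map t ≫ p.hom.app M₀) ≫ (Scheme.Modules.pushforward i₀).map φ₀ =
      (Scheme.Modules.pushforward i₁).map φ₁ ≫ (Scheme.Modules.pushforward i₁).map t' ≫ p.hom.app N₀) :
    (Scheme.Modules.pushforward i₁).map (t ≫ (Scheme.Modules.pushforward ι).map φ₀) =
      (Scheme.Modules.pushforward i₁).map (φ₁ ≫ t') := by
  haveI : Mono (p.hom.app N₀) := inferInstance
  rw [Category.assoc, ← p.hom.naturality φ₀, ← Category.assoc, ← Category.assoc, cancel_mono] at h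
  rw [Functor.map_comp, Functor.map_comp]
  exact h

omit [IsNoetherianRing A] [IsAdicComplete J A] in
theorem exists_hom_of_pushSys {𝔐 𝔑 : FSch.ModSys (FSch.completionAlong X 𝓘)} (h𝔐 : 𝔐.IsCoh)
    (α : pushSys 𝓘 𝔐 ⟶ pushSys 𝓘 𝔑) :
    ∃ φ : 𝔐 ⟶ 𝔑, ∀ n, (Scheme.Modules.pushforward (FSch.completionToX X 𝓘 n)).map (φ.app n) = α.app (op n) := by
  haveI : ∀ k, IsClosedImmersion (FSch.completionToX X 𝓘 k) := fun k => inferInstance
  choose φ hφ using fun n => (bijective_pushforward_map (FSch.completionToX X 𝓘 n) (h𝔐 n).1 (𝔑.F n)).2 (α.app (op n))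
  refine ⟨⟨φ, fun n => ?_⟩, hφ⟩
  let adj := Scheme.Modules.pullbackPushforwardAdjunction ((FSch.completionAlong X 𝓘).ι n)
  refine (adj.homEquiv _ _).injective ?_
  rw [adj.homEquiv_naturality_left, adj.homEquiv_naturality_right]
  change φ (n + 1) ≫ 𝔑.toPush n = 𝔐.toPush n ≫ _
  refine (bijective_pushforward_map (FSch.completionToX X 𝓘 (n + 1)) (h𝔐 (n + 1)).1 _).1 ?_
  change (Scheme.Modules.pushforward _).map _ = (Scheme.Modules.pushforward _).map _
  have hn := α.naturality (homOfLE (Nat.le_succ n)).op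
  rw [pushSys_map_succ, pushSys_map_succ, ← hφ, ← hφ] at hn
  exact (step_cancel _ _ (pushStep 𝓘 n) _ _ (φ (n + 1)) (φ n) hn).symm

omit [IsNoetherianRing A] [IsAdicComplete J A] in
theorem nonempty_iso_of_pushSys {𝔐 𝔑 : FSch.ModSys (FSch.completionAlong X 𝓘)} (h𝔐 : 𝔐.IsCoh) (h𝔑 : 𝔑.IsCoh)
    (e : pushSys 𝓘 𝔐 ≅ pushSys 𝓘 𝔑) : Nonempty (𝔐 ≅ 𝔑) := by
  haveI : ∀ k, IsClosedImmersion (FSch.completionToX X 𝓘 k) := fun k => inferInstance
  obtain ⟨φ, hφ⟩ := exists_hom_of_pushSys 𝓘 h𝔐 e.hom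
  obtain ⟨ψ, hψ⟩ := exists_hom_of_pushSys 𝓘 h𝔑 e.inv
  refine ⟨⟨φ, ψ, FSch.ModSys.Hom.ext (funext fun n => ?_), FSch.ModSys.Hom.ext (funext fun n => ?_)⟩⟩
  · refine (bijective_pushforward_map (FSch.completionToX X 𝓘 n) (h𝔐 n).1 _).1 ?_
    change (Scheme.Modules.pushforward _).map (φ.app n ≫ ψ.app n) = (Scheme.Modules.pushforward _).map (𝟙 _)
    rw [Functor.map_comp, hφ, hψ, CategoryTheory.Functor.map_id]
    exact e.hom_inv_id_app _
  · refine (bijective_pushforward_map (FSch.completionToX X 𝓘 n) (h𝔑 n).1 _).1 ?_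
    change (Scheme.Modules.pushforward _).map (ψ.app n ≫ φ.app n) = (Scheme.Modules.pushforward _).map (𝟙 _)
    rw [Functor.map_comp, hφ, hψ, CategoryTheory.Functor.map_id]
    exact e.inv_hom_id_app _

variable [IsLocallyNoetherian X] (hX : (FSch.completionAlong X 𝓘).IsFormal)

/-- A coherent module on the completion with proper support is algebraizable. -/
theorem exists_algebraization [IsSeparated f] (h𝓘 : 𝓘 = (FSch.idealSpec A J).comap f)
    (𝔉 : FSch.ModF (FSch.completionAlong X 𝓘) hX) (h𝔉 : FSch.IsCohF _ hX 𝔉)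
    (hs : ClSub.IsProperOver f (CohB1.support ((Scheme.Modules.pushforward (FSch.completionToX X 𝓘 0)).obj
      ((FSch.levelMor (FSch.completionAlong X 𝓘) hX 0).pull.obj 𝔉)))) :
    ∃ G : X.Modules, Coh.IsCoh G ∧ ClSub.IsProperOver f (CohB1.support G) ∧
      Nonempty (𝔉 ≅ (FSch.complMod 𝓘 G).realMod hX) := by
  letI : X.Over (Spec (CommRingCat.of A)) := ⟨f⟩
  haveI : LocallyOfFiniteType (X ↘ Spec (CommRingCat.of A)) := inferInstanceAs (LocallyOfFiniteType f)
  haveI : QuasiCompact (X ↘ Spec (CommRingCat.of A)) := inferInstanceAs (QuasiCompact f)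
  haveI : IsSeparated (X ↘ Spec (CommRingCat.of A)) := inferInstanceAs (IsSeparated f)
  haveI : ∀ k, IsClosedImmersion (FSch.completionToX X 𝓘 k) := fun k => inferInstance
  have hN := FComplLib.isLocNoethFormal_completionAlong 𝓘
  have h𝔐 := isCoh_pullSys hN 𝔉 h𝔉
  choose q sq using exists_level_isPullback 𝓘 J f h𝓘
  obtain ⟨M, hM, hMs, ⟨e⟩⟩ := Groth.Agent.S0799.result A J X (pushSys 𝓘 (pullSys hN 𝔉))
    ⟨fun n => QCoh.isCoh_pushforward_finite (FSch.completionToX X 𝓘 n) (h𝔐 n),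
      fun n => H9Existence.killedBy_push (q := q n) (sq n) (h𝔐 n).1,
      fun n => isQuot_pushSys_map 𝓘 J (q := q n) (sq n) h𝔐⟩ hs
  obtain ⟨θ⟩ := exists_pushSys_iso_completion 𝓘 J (fun n => ⟨q n, sq n⟩) hM
  obtain ⟨ε⟩ := nonempty_iso_of_pushSys 𝓘 (isCoh_complMod 𝓘 hM) h𝔐 (θ ≪≫ e)
  haveI := isIso_toReal hN 𝔉 h𝔉
  exact ⟨M, hM, hMs, ⟨asIso (toReal hN 𝔉) ≪≫ (realModIso hX ε).symm⟩⟩

end Base

end Groth.Agent.H9FCoh
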