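import Groth.Agent.H9FCoh.AdicAffine
import Groth.Agent.H9FCoh.AlgzEss
/-!
Homomorphisms of completions of quasi-coherent modules on an affine scheme, without Noetherian hypotheses.
-/

set_option autoImplicit false
set_option backward.isDefEq.respectTransparency false
set_option backward.isDefEq.respectTransparency.types false
set_option linter.style.haveILetI false
universe u

open CategoryTheory CategoryTheory.Limits AlgebraicGeometry Opposite TopologicalSpace
open Groth.Agent.RngSp (pt gm mp fns)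

noncomputable section

namespace Groth.Agent.H9FCoh

open Groth.Agent

section Generic

theorem isQuot_comp_iso {A : Type u} [CommRing A] {X : Scheme.{u}} [X.Over (Spec (CommRingCat.of A))] {J : Ideal A}
    {M N N' : X.Modules} {g : M ⟶ N} (hg : Algz7.IsQuot J g) (c : N ⟶ N') [IsIso c] :
    Algz7.IsQuot J (g ≫ c) := by
  haveI := hg.epi
  refine Algz7.IsQuot.mk' _ (fun a ha => ?_) fun {T} φ hφ => ?_
  · rw [← cancel_epi c, ← Algz7.smulMod_naturality, Algz7.killedBy_of_isQuot hg a ha, zero_comp, comp_zero]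
  · obtain ⟨ψ, hψ⟩ := hg.desc φ hφ
    exact ⟨inv c ≫ ψ, by rw [Category.assoc, IsIso.hom_inv_id_assoc, hψ]⟩

theorem isQuot_iso_comp {A : Type u} [CommRing A] {X : Scheme.{u}} [X.Over (Spec (CommRingCat.of A))] {J : Ideal A}
    {M M' N : X.Modules} (e : M' ≅ M) {g : M ⟶ N} (hg : Algz7.IsQuot J g) {g' : M' ⟶ N} (h : e.hom ≫ g = g') :
    Algz7.IsQuot J g' := by
  subst h
  haveI := hg.epi
  refine Algz7.IsQuot.mk' _ (Algz7.killedBy_of_isQuot hg) fun {T} φ hφ => ?_
  obtain ⟨ψ, hψ⟩ := hg.desc (e.inv ≫ φ) (by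
    refine Sigma.hom_ext _ _ fun a => ?_
    rw [comp_zero, ← Category.assoc, Formal.smulFamily, Sigma.ι_desc, ← Category.assoc, Algz7.smulMod_naturality,
      Category.assoc, Algz7.smulMod_comp_eq_zero hφ a.2, comp_zero])
  exact ⟨ψ, by rw [Category.assoc, hψ, Iso.hom_inv_id_assoc]⟩

theorem isQuot_of_factor {A : Type u} [CommRing A] {X : Scheme.{u}} [X.Over (Spec (CommRingCat.of A))] {J : Ideal A}
    {M P Q : X.Modules} (η' : M ⟶ P) [Epi η'] (t : P ⟶ Q) {η : M ⟶ Q} (hη : Algz7.IsQuot J η) (h : η' ≫ t = η) :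
    Algz7.IsQuot J t := by
  subst h
  haveI := hη.epi
  haveI : Epi t := epi_of_epi η' t
  refine Algz7.IsQuot.mk' _ (Algz7.killedBy_of_isQuot hη) fun {T} φ hφ => ?_
  obtain ⟨ψ, hψ⟩ := hη.desc (η' ≫ φ) (by
    refine Sigma.hom_ext _ _ fun a => ?_
    rw [comp_zero, ← Category.assoc, Formal.smulFamily, Sigma.ι_desc, ← Category.assoc, Algz7.smulMod_naturality,
      Category.assoc, Algz7.smulMod_comp_eq_zero hφ a.2, comp_zero])
  exact ⟨ψ, by rw [← cancel_epi η', ← hψ, Category.assoc]⟩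

theorem exists_lift_of_isIso_map {C D : Type*} [Category C] [Category D] {L : C ⥤ D} {R : D ⥤ C} (adj : L ⊣ R)
    {F G P : D} [IsIso (adj.counit.app F)] (a : G ⟶ P) [IsIso (R.map a)] (g : F ⟶ P) : ∃ u : F ⟶ G, u ≫ a = g := by
  refine ⟨inv (adj.counit.app F) ≫ (adj.homEquiv _ _).symm (R.map g ≫ inv (R.map a)), ?_⟩
  rw [Category.assoc, ← adj.homEquiv_naturality_right_symm, Category.assoc, IsIso.inv_hom_id, Category.comp_id,
    Adjunction.homEquiv_counit, adj.counit_naturality, IsIso.inv_hom_id_assoc]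

end Generic

section Cone

variable {𝔛 : FSch.Sys.{u}} (h : 𝔛.IsFormal) {X : Scheme.{u}} (p : ∀ n, 𝔛.X n ⟶ X)
  (hp : ∀ n, 𝔛.ι n ≫ p (n + 1) = p n)

/-- Direct image to the scheme. -/
abbrev fPush : FSch.ModF 𝔛 h ⥤ X.Modules := (FSch.toSchemeMor 𝔛 h p hp).push

/-- The component of the comparison at a level. -/
def fCompC (F : X.Modules) (k : ℕ) :
    F ⟶ (fPush h p hp).obj ((FSch.levelMor 𝔛 h k).push.obj ((plMod p hp F).F k)) :=
  (Scheme.Modules.pullbackPushforwardAdjunction (p k)).unit.app F ≫ (FSch.schPushCompare 𝔛 h p hp k).app _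

theorem fCompC_app (F : X.Modules) (k : ℕ) (U : X.Opens) (z : Γ(F, U)) :
    mp (fCompC h p hp F k) U z = QCoh.pullSec (p k) F (FSch.lvU_p 𝔛 h p hp k U).ge z := by
  rfl

/-- The completion system on the scheme. -/
abbrev fSys (𝔐 : FSch.ModSys 𝔛) : ℕᵒᵖ ⥤ X.Modules :=
  FSch.levelSysOf 𝔛 h 𝔐.F 𝔐.toPush ⋙ fPush h p hp

theorem fCompC_map (F : X.Modules) (k : ℕ) :
    fCompC h p hp F (k + 1) ≫ (fSys h p hp (plMod p hp F)).map (homOfLE (Nat.le_succ k)).op =
      fCompC h p hp F k := by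
  refine SheafOfModules.hom_ext (PresheafOfModules.Hom.ext (funext fun U => ModuleCat.hom_ext
    (LinearMap.ext fun z => ?_)))
  refine Eq.trans ?_ (fstep_pullSec h p hp F k U.unop z)
  exact congrArg (fun t => mp ((fPush h p hp).map t) U.unop (mp (fCompC h p hp F (k + 1)) U.unop z))
    (FSch.levelSysOf_map_succ 𝔛 h (plMod p hp F).F (plMod p hp F).toPush k)

/-- The map from a module to the direct image of its completion. -/
def fHat (F : X.Modules) : F ⟶ (fPush h p hp).obj ((plMod p hp F).realMod h) :=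
  haveI : (fPush h p hp).IsRightAdjoint := (FSch.toSchemeMor 𝔛 h p hp).adj.isRightAdjoint
  limit.lift (fSys h p hp (plMod p hp F))
      { pt := F
        π := NatTrans.ofOpSequence (F := (Functor.const ℕᵒᵖ).obj F) (fCompC h p hp F) fun k =>
          (Category.id_comp _).trans (fCompC_map h p hp F k).symm } ≫
    (preservesLimitIso (fPush h p hp) (FSch.levelSysOf 𝔛 h (plMod p hp F).F (plMod p hp F).toPush)).inv

theorem fHat_proj (F : X.Modules) (k : ℕ) :
    fHat h p hp F ≫ (fPush h p hp).map (FSch.realProj 𝔛 h (plMod p hp F).F (plMod p hp F).toPush k) =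
      fCompC h p hp F k := by
  haveI : (fPush h p hp).IsRightAdjoint := (FSch.toSchemeMor 𝔛 h p hp).adj.isRightAdjoint
  refine (Category.assoc _ _ _).trans ?_
  refine (congrArg (_ ≫ ·) (preservesLimitIso_inv_π (fPush h p hp) _ (op k))).trans ?_
  exact limit.lift_π _ _

theorem fProj_ext {𝔐 : FSch.ModSys 𝔛} {T : X.Modules} {s t : T ⟶ (fPush h p hp).obj (𝔐.realMod h)}
    (hst : ∀ k, s ≫ (fPush h p hp).map (FSch.realProj 𝔛 h 𝔐.F 𝔐.toPush k) =
      t ≫ (fPush h p hp).map (FSch.realProj 𝔛 h 𝔐.F 𝔐.toPush k)) : s = t := by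
  haveI : (fPush h p hp).IsRightAdjoint := (FSch.toSchemeMor 𝔛 h p hp).adj.isRightAdjoint
  exact (isLimitOfPreserves (fPush h p hp) (limit.isLimit (FSch.levelSysOf 𝔛 h 𝔐.F 𝔐.toPush))).hom_ext
    fun j => hst j.unop

theorem fHat_natural {F G : X.Modules} (f : F ⟶ G) (φ : plMod p hp F ⟶ plMod p hp G)
    (hφ : ∀ k, φ.app k = (Scheme.Modules.pullback (p k)).map f) :
    f ≫ fHat h p hp G = fHat h p hp F ≫ (fPush h p hp).map (FSch.ModSys.realModMap h φ) := by
  refine fProj_ext h p hp fun k => ?_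
  rw [Category.assoc, Category.assoc, fHat_proj, ← Functor.map_comp,
    show FSch.ModSys.realModMap h φ ≫ FSch.realProj 𝔛 h (plMod p hp G).F (plMod p hp G).toPush k =
      FSch.realProj 𝔛 h (plMod p hp F).F (plMod p hp F).toPush k ≫ (FSch.levelMor 𝔛 h k).push.map (φ.app k) from
        FSch.realLimMap_realProj 𝔛 h φ.app (FSch.ModSys.Hom.toPush_comm φ) k,
    Functor.map_comp, ← Category.assoc, fHat_proj, hφ k]
  refine Eq.trans ?_ (Category.assoc _ _ _).symm
  refine Eq.trans ?_ (congrArg (_ ≫ ·) ((FSch.schPushCompare 𝔛 h p hp k).naturality _))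
  change f ≫ _ ≫ _ = _
  rw [← Category.assoc, ← Category.assoc]
  exact congrArg (· ≫ _) ((Scheme.Modules.pullbackPushforwardAdjunction (p k)).unit.naturality f)

theorem fprM_hat (F : X.Modules) (k : ℕ) (U : X.Opens) (z : Γ(F, U)) :
    fprM h (plMod p hp F) k (cU p U) (mp (fHat h p hp F) U z) =
      QCoh.pullSec (p k) F (FSch.lvU_p 𝔛 h p hp k U).ge z :=
  (congrArg (fun t => mp t U z) (fHat_proj h p hp F k)).trans (fCompC_app h p hp F k U z)

theorem isQuot_proj_of_formal {A : Type u} [CommRing A] [X.Over (Spec (CommRingCat.of A))] {J : Ideal A} (hJ : J.FG)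
    {𝔐 : FSch.ModSys 𝔛} (hG : Formal2.IsQCohFormal J (fSys h p hp 𝔐)) (k : ℕ) :
    Algz7.IsQuot (J ^ (k + 1)) ((fPush h p hp).map (FSch.realProj 𝔛 h 𝔐.F 𝔐.toPush k)) := by
  haveI : (fPush h p hp).IsRightAdjoint := (FSch.toSchemeMor 𝔛 h p hp).adj.isRightAdjoint
  exact isQuot_iso_comp (preservesLimitIso (fPush h p hp) (FSch.levelSysOf 𝔛 h 𝔐.F 𝔐.toPush))
    (isQuot_limit_π hJ hG k) (preservesLimitIso_hom_π _ _ (op k))

theorem eq_of_fHat_comp {A : Type u} [CommRing A] [X.Over (Spec (CommRingCat.of A))] {J : Ideal A} {F G : X.Modules}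
    (hind : Topology.IsInducing (p 0).base)
    (he : ∀ k, Epi (fCompC h p hp F k))
    (hFq : ∀ k, Algz7.IsQuot (J ^ (k + 1)) ((fPush h p hp).map (FSch.realProj 𝔛 h (plMod p hp F).F (plMod p hp F).toPush k)))
    (hk : ∀ k, Formal.KilledBy (J ^ (k + 1)) ((fPush h p hp).obj ((FSch.levelMor 𝔛 h k).push.obj ((plMod p hp G).F k))))
    {Φ Ψ : (plMod p hp F).realMod h ⟶ (plMod p hp G).realMod h}
    (hΦ : fHat h p hp F ≫ (fPush h p hp).map Φ = fHat h p hp F ≫ (fPush h p hp).map Ψ) : Φ = Ψ := by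
  have he' : (fPush h p hp).map Φ = (fPush h p hp).map Ψ := by
    refine fProj_ext h p hp fun k => ?_
    let π := (fPush h p hp).map (FSch.realProj 𝔛 h (plMod p hp G).F (plMod p hp G).toPush k)
    obtain ⟨ψ, hψ⟩ := (hFq k).desc ((fPush h p hp).map Φ ≫ π) (Algz7.smulFamily_comp_eq_zero (hk k) _)
    obtain ⟨ψ', hψ'⟩ := (hFq k).desc ((fPush h p hp).map Ψ ≫ π) (Algz7.smulFamily_comp_eq_zero (hk k) _)
    haveI := he k
    have h0 : ψ = ψ' := by
      rw [← cancel_epi (fCompC h p hp F k), ← fHat_proj, Category.assoc, Category.assoc, hψ, hψ', ← Category.assoc,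
        ← Category.assoc, hΦ]
    exact hψ.symm.trans ((congrArg _ h0).trans hψ')
  let P : Opens (𝔛.X 0) → Prop := fun W => ∃ U : X.Opens, W = p 0 ⁻¹ᵁ U
  refine hom_ext_of_basisMP (P := P) (fun V x hx => ?_) ?_
  · obtain ⟨V', hV', hVV⟩ := hind.isOpen_iff.1 V.isOpen
    exact ⟨_, ⟨⟨V', hV'⟩, rfl⟩, (Set.ext_iff.1 hVV x).2 hx, fun y hy => (Set.ext_iff.1 hVV y).1 hy⟩
  · rintro W ⟨U, rfl⟩ z
    exact congrArg (fun t => mp t U z) he'

theorem bijective_fHat {A : Type u} [CommRing A] [X.Over (Spec (CommRingCat.of A))] {J : Ideal A} {F : X.Modules}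
    (U : X.Opens)
    (hs : ∀ k, Function.Surjective (fun z : Γ(F, U) => QCoh.pullSec (p k) F (FSch.lvU_p 𝔛 h p hp k U).ge z))
    (hker : letI := secMod (A := A) F U; ∀ k (z : Γ(F, U)),
      QCoh.pullSec (p k) F (FSch.lvU_p 𝔛 h p hp k U).ge z = 0 ↔ z ∈ J ^ (k + 1) • (⊤ : Submodule A Γ(F, U)))
    (hc : letI := secMod (A := A) F U; IsAdicComplete J Γ(F, U)) :
    Function.Bijective ((fHat h p hp F).app U) := by
  letI := secMod (A := A) F U
  haveI : IsAdicComplete J Γ(F, U) := hc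
  let σ : ∀ k, Γ(F, U) →+ Γ((plMod p hp F).F k, 𝔛.lvU h k (cU p U)) := fun k =>
    AddMonoidHom.mk' (fun z => QCoh.pullSec (p k) F (FSch.lvU_p 𝔛 h p hp k U).ge z) fun a b =>
      (congrArg (((Scheme.Modules.pullback (p k)).obj F).presheaf.map _) (map_add _ _ _)).trans (map_add _ _ _)
  refine ⟨(injective_iff_map_eq_zero _).2 fun z hz => IsHausdorff.haus (inferInstance : IsHausdorff J Γ(F, U)) z
    fun n => ?_, fun y => ?_⟩
  · rw [SModEq.zero]
    refine Submodule.smul_mono_left (Ideal.pow_le_pow_right (Nat.le_succ n)) ((hker n z).1 ?_)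
    refine (fprM_hat h p hp F n U z).symm.trans ?_
    rw [show mp (fHat h p hp F) U z = 0 from hz]
    exact map_zero (mp (FSch.realProj _ h _ _ n) _)
  · choose w hw using fun k => hs k (fprM h (plMod p hp F) k (cU p U) y)
    have hd := tower_descend σ (fun k => fstep h _ k _) (fun k z => fstep_pullSec h p hp F k U z) (z := w) hw
      (fun k => fprM_step h (plMod p hp F) k _ y)
    obtain ⟨z, hz⟩ := IsPrecomplete.prec (I := J) (M := Γ(F, U)) inferInstance (f := w) fun {m n} hmn => by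
      rw [SModEq.sub_mem]
      refine Submodule.smul_mono_left (Ideal.pow_le_pow_right (Nat.le_succ m)) ((hker m _).1 ?_)
      change σ m (w m - w n) = 0
      rw [map_sub, hd m m le_rfl, hd m n hmn, sub_self]
    refine ⟨z, fprM_ext h (plMod p hp F) fun k => ?_⟩
    refine (fprM_hat h p hp F k U z).trans ?_
    have h1 : σ k (w (k + 1) - z) = 0 := (hker k _).2 (SModEq.sub_mem.1 (hz (k + 1)))
    rw [map_sub, sub_eq_zero, hd k (k + 1) (Nat.le_succ k)] at h1
    exact h1.symm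

end Cone

section SpecBase

variable {A : Type u} [CommRing A] {J : Ideal A} (hJ : J.FG) {𝔛 : FSch.Sys.{u}} (h : 𝔛.IsFormal)
  (p : ∀ n, 𝔛.X n ⟶ Spec (CommRingCat.of A)) (hp : ∀ n, 𝔛.ι n ≫ p (n + 1) = p n)

/-- The levels are the quotients by the powers of the ideal. -/
def QuotLevels (J : Ideal A) : Prop :=
  ∀ (F : (Spec (CommRingCat.of A)).Modules), Coh.IsQCoh F → ∀ k,
    letI : (Spec (CommRingCat.of A)).Over (Spec (CommRingCat.of A)) := ⟨𝟙 _⟩
    Coh.IsQCoh ((fSys h p hp (plMod p hp F)).obj (op k)) ∧ Algz7.IsQuot (J ^ (k + 1)) (fCompC h p hp F k)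

variable (hind : Topology.IsInducing (p 0).base) (hq : QuotLevels h p hp J)

include hq in
theorem isQCohFormal_fSys {F : (Spec (CommRingCat.of A)).Modules} (hF : Coh.IsQCoh F) :
    @Formal2.IsQCohFormal A _ (Spec (CommRingCat.of A)) ⟨𝟙 _⟩ J (fSys h p hp (plMod p hp F)) := by
  letI : (Spec (CommRingCat.of A)).Over (Spec (CommRingCat.of A)) := ⟨𝟙 _⟩
  have hc := hq F hF
  refine ⟨fun n => (hc n).1, fun n => Algz7.killedBy_of_isQuot (hc n).2, fun n => ?_⟩
  haveI := (hc (n + 1)).2.epi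
  exact isQuot_of_factor _ _ (hc n).2 (fCompC_map h p hp F n)

include hJ hind hq in
theorem eq_of_hat_comp {F G : (Spec (CommRingCat.of A)).Modules} (hF : Coh.IsQCoh F) (hG : Coh.IsQCoh G)
    {Φ Ψ : (plMod p hp F).realMod h ⟶ (plMod p hp G).realMod h}
    (hΦ : fHat h p hp F ≫ (fPush h p hp).map Φ = fHat h p hp F ≫ (fPush h p hp).map Ψ) : Φ = Ψ := by
  letI : (Spec (CommRingCat.of A)).Over (Spec (CommRingCat.of A)) := ⟨𝟙 _⟩
  exact eq_of_fHat_comp (J := J) h p hp hind (fun k => (hq F hF k).2.epi)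
    (fun k => isQuot_proj_of_formal h p hp hJ (isQCohFormal_fSys h p hp hq hF) k)
    (fun k => Algz7.killedBy_of_isQuot (hq G hG k).2) hΦ

include hJ hq in
theorem bijective_Γ_hat {F : (Spec (CommRingCat.of A)).Modules} (hF : Coh.IsQCoh F)
    [IsAdicComplete J ((moduleSpecΓFunctor (R := CommRingCat.of A)).obj F)] :
    Function.Bijective ((moduleSpecΓFunctor (R := CommRingCat.of A)).map (fHat h p hp F)) := by
  letI : (Spec (CommRingCat.of A)).Over (Spec (CommRingCat.of A)) := ⟨𝟙 _⟩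
  letI := secMod (A := A) F (⊤ : (Spec (CommRingCat.of A)).Opens)
  refine bijective_fHat h p hp (J := J) (F := F) ⊤ (fun k y => ?_) (fun k z => ⟨fun hz => ?_, fun hz => ?_⟩)
    (inferInstance : IsAdicComplete J ((moduleSpecΓFunctor (R := CommRingCat.of A)).obj F))
  all_goals haveI := (hq F hF k).2.epi
  · exact QCoh.app_surjective_of_epi hF (hq F hF k).1 (fCompC h p hp F k) (isAffineOpen_top _) y
  · exact ker_app_le_of_isQuot hJ.pow hF (hq F hF k).1 (hq F hF k).2 (isAffineOpen_top _) z hz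
  · exact isQuot_mem_ker (hq F hF k).2 ⊤ z hz

include hJ hind hq in
theorem bijective_hom_of_quotLevels {F G : (Spec (CommRingCat.of A)).Modules} (hF : Coh.IsQCoh F) (hG : Coh.IsQCoh G)
    [IsAdicComplete J ((moduleSpecΓFunctor (R := CommRingCat.of A)).obj G)]
    (φ : (F ⟶ G) → (plMod p hp F ⟶ plMod p hp G))
    (hφ : ∀ u k, (φ u).app k = (Scheme.Modules.pullback (p k)).map u) :
    Function.Bijective fun u : F ⟶ G => FSch.ModSys.realModMap h (φ u) := by
  have hb := bijective_Γ_hat hJ h p hp hq hG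
  haveI : Mono ((moduleSpecΓFunctor (R := CommRingCat.of A)).map (fHat h p hp G)) := (ModuleCat.mono_iff_injective _).2 hb.1
  haveI : Epi ((moduleSpecΓFunctor (R := CommRingCat.of A)).map (fHat h p hp G)) := (ModuleCat.epi_iff_surjective _).2 hb.2
  haveI : IsIso ((moduleSpecΓFunctor (R := CommRingCat.of A)).map (fHat h p hp G)) := isIso_of_mono_of_epi _
  have nat := fun u : F ⟶ G => fHat_natural h p hp u (φ u) (hφ u)
  refine ⟨fun u v huv => ?_, fun Φ => ?_⟩
  · refine Algz7.hom_ext_of_Γ hF ?_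
    have huv' : FSch.ModSys.realModMap h (φ u) = FSch.ModSys.realModMap h (φ v) := huv
    have h1 : u ≫ fHat h p hp G = v ≫ fHat h p hp G :=
      (nat u).trans ((congrArg (fun t => fHat h p hp F ≫ (fPush h p hp).map t) huv').trans (nat v).symm)
    rw [← cancel_mono ((moduleSpecΓFunctor (R := CommRingCat.of A)).map (fHat h p hp G)), ← Functor.map_comp,
      ← Functor.map_comp, h1]
  · haveI := Algz7.isIso_counit hF
    obtain ⟨u, hu⟩ := exists_lift_of_isIso_map (tilde.adjunction (R := CommRingCat.of A)) (F := F)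
      (fHat h p hp G) (fHat h p hp F ≫ (fPush h p hp).map Φ)
    exact ⟨u, eq_of_hat_comp hJ h p hp hind hq hF hG ((nat u).symm.trans hu)⟩

include hJ hind hq in
/-- An exact sequence of completions comes from an exact sequence of modules. -/
theorem exact_of_completion {F₁ F₂ F₃ : (Spec (CommRingCat.of A)).Modules}
    (h₁ : Coh.IsQCoh F₁) (h₂ : Coh.IsQCoh F₂) (h₃ : Coh.IsQCoh F₃)
    [IsAdicComplete J ((moduleSpecΓFunctor (R := CommRingCat.of A)).obj F₁)]
    [IsAdicComplete J ((moduleSpecΓFunctor (R := CommRingCat.of A)).obj F₂)]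
    [IsAdicComplete J ((moduleSpecΓFunctor (R := CommRingCat.of A)).obj F₃)]
    (u : F₁ ⟶ F₂) (v : F₂ ⟶ F₃) (φ : plMod p hp F₁ ⟶ plMod p hp F₂) (ψ : plMod p hp F₂ ⟶ plMod p hp F₃)
    (hφ : ∀ k, φ.app k = (Scheme.Modules.pullback (p k)).map u) (hψ : ∀ k, ψ.app k = (Scheme.Modules.pullback (p k)).map v)
    (w : FSch.ModSys.realModMap h φ ≫ FSch.ModSys.realModMap h ψ = 0)
    (hS : (ShortComplex.mk _ _ w).ShortExact) :
    Function.Injective ((moduleSpecΓFunctor (R := CommRingCat.of A)).map u) ∧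
      (∀ x, (moduleSpecΓFunctor (R := CommRingCat.of A)).map v ((moduleSpecΓFunctor (R := CommRingCat.of A)).map u x) = 0) ∧
      ∀ y, (moduleSpecΓFunctor (R := CommRingCat.of A)).map v y = 0 →
        ∃ x, (moduleSpecΓFunctor (R := CommRingCat.of A)).map u x = y := by
  have b₁ := bijective_Γ_hat hJ h p hp hq h₁
  have b₂ := bijective_Γ_hat hJ h p hp hq h₂
  have b₃ := bijective_Γ_hat hJ h p hp hq h₃
  haveI := hS.mono_f
  have n₁ : ∀ x : Γ(F₁, ⊤), mp (FSch.ModSys.realModMap h φ) (cU p ⊤) ((fHat h p hp F₁).app ⊤ x) =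
      (fHat h p hp F₂).app ⊤ (u.app ⊤ x) := fun x =>
    congr(($(fHat_natural h p hp u φ hφ)).app ⊤ x).symm
  have n₂ : ∀ x : Γ(F₂, ⊤), mp (FSch.ModSys.realModMap h ψ) (cU p ⊤) ((fHat h p hp F₂).app ⊤ x) =
      (fHat h p hp F₃).app ⊤ (v.app ⊤ x) := fun x =>
    congr(($(fHat_natural h p hp v ψ hψ)).app ⊤ x).symm
  refine ⟨fun x x' hxx => b₁.1 ?_, fun x => b₃.1 ?_, fun y hy => ?_⟩
  · exact mp_injective_of_mono (FSch.ModSys.realModMap h φ) (cU p ⊤)
      ((n₁ x).trans ((congrArg ((fHat h p hp F₂).app ⊤) hxx).trans (n₁ x').symm))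
  · refine (n₂ (u.app ⊤ x)).symm.trans ((congrArg (mp (FSch.ModSys.realModMap h ψ) (cU p ⊤)) (n₁ x).symm).trans ?_)
    exact (congrArg (fun t => mp t (cU p ⊤) ((fHat h p hp F₁).app ⊤ x)) w).trans (map_zero ((fHat h p hp F₃).app ⊤).hom).symm
  · obtain ⟨a, ha⟩ := RngSp.exists_of_shortExact hS (U := cU p ⊤) ((fHat h p hp F₂).app ⊤ y)
      ((n₂ y).trans ((congrArg ((fHat h p hp F₃).app ⊤) hy).trans (map_zero ((fHat h p hp F₃).app ⊤).hom)))
    obtain ⟨x, hx⟩ := b₁.2 a
    exact ⟨x, b₂.1 ((n₁ x).symm.trans ((congrArg (mp (FSch.ModSys.realModMap h φ) (cU p ⊤)) hx).trans ha))⟩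

end SpecBase

section Affine

variable {A : Type u} [CommRing A] (J : Ideal A)

variable (hJ : J.FG) (hX : (FSch.completionAlong (Spec (CommRingCat.of A)) (FSch.idealSpec A J)).IsFormal)

theorem quotLevels_completion :
    QuotLevels hX (FSch.completionToX (Spec (CommRingCat.of A)) (FSch.idealSpec A J))
      (FSch.completionToX_comm (Spec (CommRingCat.of A)) (FSch.idealSpec A J)) J := by
  intro F hF k
  letI : ((Spec (CommRingCat.of A))).Over (Spec (CommRingCat.of A)) := ⟨𝟙 _⟩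
  have h𝓘 : FSch.idealSpec A J = (FSch.idealSpec A J).comap (((Spec (CommRingCat.of A))) ↘ (Spec (CommRingCat.of A))) := (Scheme.IdealSheafData.comap_id _).symm
  obtain ⟨q, sq⟩ := exists_level_isPullback (FSch.idealSpec A J) J (((Spec (CommRingCat.of A))) ↘ (Spec (CommRingCat.of A))) h𝓘 k
  haveI : IsClosedImmersion ((FSch.completionToX (Spec (CommRingCat.of A)) (FSch.idealSpec A J)) k) := inferInstance
  have hq : Coh.IsQCoh ((Scheme.Modules.pushforward ((FSch.completionToX (Spec (CommRingCat.of A)) (FSch.idealSpec A J)) k)).obj ((plMod (FSch.completionToX (Spec (CommRingCat.of A)) (FSch.idealSpec A J)) (FSch.completionToX_comm (Spec (CommRingCat.of A)) (FSch.idealSpec A J)) F).F k)) :=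
    QCoh.isQCoh_pushforward ((FSch.completionToX (Spec (CommRingCat.of A)) (FSch.idealSpec A J)) k) (QCoh.isQCoh_pullback _ hF)
  let cmp : (Scheme.Modules.pushforward ((FSch.completionToX (Spec (CommRingCat.of A)) (FSch.idealSpec A J)) k)).obj ((plMod (FSch.completionToX (Spec (CommRingCat.of A)) (FSch.idealSpec A J)) (FSch.completionToX_comm (Spec (CommRingCat.of A)) (FSch.idealSpec A J)) F).F k) ⟶
      (fSys hX (FSch.completionToX (Spec (CommRingCat.of A)) (FSch.idealSpec A J)) (FSch.completionToX_comm (Spec (CommRingCat.of A)) (FSch.idealSpec A J)) (plMod (FSch.completionToX (Spec (CommRingCat.of A)) (FSch.idealSpec A J)) (FSch.completionToX_comm (Spec (CommRingCat.of A)) (FSch.idealSpec A J)) F)).obj (op k) :=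
    (FSch.schPushCompare (FSch.completionAlong (Spec (CommRingCat.of A)) (FSch.idealSpec A J)) hX (FSch.completionToX (Spec (CommRingCat.of A)) (FSch.idealSpec A J)) (FSch.completionToX_comm (Spec (CommRingCat.of A)) (FSch.idealSpec A J)) k).app _
  haveI : IsIso cmp := Scheme.Modules.Hom.isIso_iff_isIso_app.mpr fun U =>
    (ConcreteCategory.isIso_iff_bijective _).2
      (res_bijective_of_eq _ (FSch.lvU_p (FSch.completionAlong (Spec (CommRingCat.of A)) (FSch.idealSpec A J)) hX (FSch.completionToX (Spec (CommRingCat.of A)) (FSch.idealSpec A J)) (FSch.completionToX_comm (Spec (CommRingCat.of A)) (FSch.idealSpec A J)) k U))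
  have hη : Algz7.IsQuot (J ^ (k + 1)) ((Scheme.Modules.pullbackPushforwardAdjunction ((FSch.completionToX (Spec (CommRingCat.of A)) (FSch.idealSpec A J)) k)).unit.app F) :=
    H9Existence.isQuot_unit (q := q) sq hF
  refine ⟨(QCoh.isQCoh_iff_iso (asIso cmp).symm).2 hq, ?_⟩
  exact isQuot_comp_iso hη cmp

include hJ in
/-- Completion is fully faithful on modules with complete sections. -/
theorem bijective_adic_hom {F G : (Spec (CommRingCat.of A)).Modules} (hF : Coh.IsQCoh F) (hG : Coh.IsQCoh G)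
    [IsAdicComplete J ((moduleSpecΓFunctor (R := CommRingCat.of A)).obj G)] :
    Function.Bijective fun u : F ⟶ G =>
      FSch.ModSys.realModMap hX (FSch.complModMap (FSch.idealSpec A J) u) :=
  bijective_hom_of_quotLevels hJ hX _ _
    (FSch.completionToX (Spec (CommRingCat.of A)) (FSch.idealSpec A J) 0).isClosedEmbedding.isInducing
    (quotLevels_completion J hX) hF hG (fun u => FSch.complModMap (FSch.idealSpec A J) u) (fun _ _ => rfl)

end Affine

end Groth.Agent.H9FCoh
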