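import Groth.Agent.S4473
import Groth.Agent.S13337
import Groth.Agent.S3862
import Groth.Agent.H9Existence.Quot
import Groth.Agent.H9Existence.Completion
import Groth.Agent.H9FCoh.Compl

/-!
# Homomorphisms of completions of coherent modules
-/

set_option autoImplicit false
set_option backward.isDefEq.respectTransparency false
set_option backward.isDefEq.respectTransparency.types false
set_option linter.style.haveILetI false

universe u

open CategoryTheory CategoryTheory.Limits AlgebraicGeometry Opposite TopologicalSpace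

noncomputable section

namespace Groth.Agent.H9FCoh

open Groth.Agent

variable {X : Scheme.{u}} (𝓘 : X.IdealSheafData)

/-- The direct images from two consecutive levels. -/
def pushStep (n : ℕ) :
    Scheme.Modules.pushforward ((FSch.completionAlong X 𝓘).ι n) ⋙
        Scheme.Modules.pushforward (FSch.completionToX X 𝓘 (n + 1)) ≅
      Scheme.Modules.pushforward (FSch.completionToX X 𝓘 n) :=
  Scheme.Modules.pushforwardComp ((FSch.completionAlong X 𝓘).ι n) (FSch.completionToX X 𝓘 (n + 1)) ≪≫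
    Scheme.Modules.pushforwardCongr (FSch.completionToX_comm X 𝓘 n)

/-- A system of modules on the levels as an inverse system of modules on the scheme. -/
def pushSys (𝔐 : FSch.ModSys (FSch.completionAlong X 𝓘)) : ℕᵒᵖ ⥤ X.Modules :=
  Functor.ofOpSequence (X := fun n => (Scheme.Modules.pushforward (FSch.completionToX X 𝓘 n)).obj (𝔐.F n))
    fun n => (Scheme.Modules.pushforward (FSch.completionToX X 𝓘 (n + 1))).map (𝔐.toPush n) ≫
      (pushStep 𝓘 n).hom.app (𝔐.F n)

theorem pushSys_map_succ (𝔐 : FSch.ModSys (FSch.completionAlong X 𝓘)) (n : ℕ) :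
    (pushSys 𝓘 𝔐).map (homOfLE (Nat.le_succ n)).op =
      (Scheme.Modules.pushforward (FSch.completionToX X 𝓘 (n + 1))).map (𝔐.toPush n) ≫
        (pushStep 𝓘 n).hom.app (𝔐.F n) :=
  Functor.ofOpSequence_map_homOfLE_succ _ n

/-- A morphism of systems gives a morphism of the direct images. -/
def pushSysMap {𝔐 𝔑 : FSch.ModSys (FSch.completionAlong X 𝓘)} (φ : 𝔐 ⟶ 𝔑) :
    pushSys 𝓘 𝔐 ⟶ pushSys 𝓘 𝔑 :=
  NatTrans.ofOpSequence (fun n => (Scheme.Modules.pushforward (FSch.completionToX X 𝓘 n)).map (φ.app n))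
    fun n => by
      rw [pushSys_map_succ, pushSys_map_succ, Category.assoc,
        ← (pushStep 𝓘 n).hom.naturality (φ.app n), ← Category.assoc, ← Category.assoc]
      refine congrArg (· ≫ _) ?_
      rw [Functor.comp_map, ← Functor.map_comp, ← Functor.map_comp, ← FSch.ModSys.Hom.toPush_comm φ n]

theorem unit_comp_pushforward {W Z : Scheme.{u}} (ι : W ⟶ Z) (i : Z ⟶ X) (k : W ⟶ X) (hc : ι ≫ i = k)
    (F : X.Modules) :
    (Scheme.Modules.pullbackPushforwardAdjunction i).unit.app F ≫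
      (Scheme.Modules.pushforward i).map
        ((Scheme.Modules.pullbackPushforwardAdjunction ι).unit.app ((Scheme.Modules.pullback i).obj F) ≫
          (Scheme.Modules.pushforward ι).map
            (((Scheme.Modules.pullbackComp ι i).hom ≫ (Scheme.Modules.pullbackCongr hc).hom).app F)) ≫
      ((Scheme.Modules.pushforwardComp ι i).hom ≫ (Scheme.Modules.pushforwardCongr hc).hom).app
        ((Scheme.Modules.pullback k).obj F) =
    (Scheme.Modules.pullbackPushforwardAdjunction k).unit.app F := by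
  subst hc
  refine Scheme.Modules.hom_ext _ _ fun U => AddCommGrpCat.ext fun z => ?_
  let W₀ := ι ⁻¹ᵁ (i ⁻¹ᵁ U)
  let P := (Scheme.Modules.pullback i).obj F
  let z₁ : Γ(P, i ⁻¹ᵁ U) := ((Scheme.Modules.pullbackPushforwardAdjunction i).unit.app F).app U z
  have h1 : QCoh.pullSec i F (le_refl (i ⁻¹ᵁ U)) z = z₁ := QCoh.map_id' _ _
  have h2 : QCoh.pullSec ι P (le_refl W₀) z₁ =
      ((Scheme.Modules.pullbackPushforwardAdjunction ι).unit.app P).app (i ⁻¹ᵁ U) z₁ := QCoh.map_id' _ _
  have key := ExistEasy.pullSec_comp ι i F (le_refl (i ⁻¹ᵁ U)) (le_refl W₀) z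
  rw [h1, h2] at key
  simp only [Functor.id_obj, Functor.map_comp, Category.assoc, Scheme.Modules.pullbackCongr, eqToIso_refl, Iso.refl_hom, NatTrans.id_app, CategoryTheory.Functor.map_id, Category.id_comp, NatTrans.comp_app, Functor.comp_obj, Scheme.Modules.Hom.comp_app, Scheme.Modules.pushforward_map_app, Scheme.Modules.pushforwardComp_hom_app_app, Scheme.Modules.pushforwardCongr_hom_app_app, eqToHom_refl, op_id]
  exact key.trans (QCoh.map_id' _ _)

theorem unit_comp_pushforward' {W Z : Scheme.{u}} (ι : W ⟶ Z) (i : Z ⟶ X) (k : W ⟶ X) (hc : ι ≫ i = k)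
    (c : Scheme.Modules.pullback i ⋙ Scheme.Modules.pullback ι ≅ Scheme.Modules.pullback k)
    (p : Scheme.Modules.pushforward ι ⋙ Scheme.Modules.pushforward i ≅ Scheme.Modules.pushforward k)
    (hc₁ : c = Scheme.Modules.pullbackComp ι i ≪≫ Scheme.Modules.pullbackCongr hc)
    (hp : p = Scheme.Modules.pushforwardComp ι i ≪≫ Scheme.Modules.pushforwardCongr hc) (F : X.Modules) :
    (Scheme.Modules.pullbackPushforwardAdjunction i).unit.app F ≫
      (Scheme.Modules.pushforward i).map
        ((Scheme.Modules.pullbackPushforwardAdjunction ι).homEquiv _ _ (c.app F).hom) ≫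
      p.hom.app ((Scheme.Modules.pullback k).obj F) =
    (Scheme.Modules.pullbackPushforwardAdjunction k).unit.app F := by
  rw [hc₁, hp, Adjunction.homEquiv_unit]
  exact unit_comp_pushforward ι i k hc F

theorem complTransIso_eq (n : ℕ) :
    FSch.complTransIso 𝓘 n = Scheme.Modules.pullbackComp ((FSch.completionAlong X 𝓘).ι n)
      (FSch.completionToX X 𝓘 (n + 1)) ≪≫ Scheme.Modules.pullbackCongr (FSch.completionToX_comm X 𝓘 n) := rfl

theorem unit_pushStep (F : X.Modules) (n : ℕ) :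
    (Scheme.Modules.pullbackPushforwardAdjunction (FSch.completionToX X 𝓘 (n + 1))).unit.app F ≫
      (Scheme.Modules.pushforward (FSch.completionToX X 𝓘 (n + 1))).map ((FSch.complMod 𝓘 F).toPush n) ≫
        (pushStep 𝓘 n).hom.app ((Scheme.Modules.pullback (FSch.completionToX X 𝓘 n)).obj F) =
      (Scheme.Modules.pullbackPushforwardAdjunction (FSch.completionToX X 𝓘 n)).unit.app F := by
  exact unit_comp_pushforward' ((FSch.completionAlong X 𝓘).ι n) (FSch.completionToX X 𝓘 (n + 1))
    (FSch.completionToX X 𝓘 n) (FSch.completionToX_comm X 𝓘 n) (FSch.complTransIso 𝓘 n) (pushStep 𝓘 n)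
    (complTransIso_eq 𝓘 n) rfl F

theorem unit_pushSys (F : X.Modules) (n : ℕ) :
    (Scheme.Modules.pullbackPushforwardAdjunction (FSch.completionToX X 𝓘 (n + 1))).unit.app F ≫
        (pushSys 𝓘 (FSch.complMod 𝓘 F)).map (homOfLE (Nat.le_succ n)).op =
      (Scheme.Modules.pullbackPushforwardAdjunction (FSch.completionToX X 𝓘 n)).unit.app F :=
  (congrArg ((Scheme.Modules.pullbackPushforwardAdjunction (FSch.completionToX X 𝓘 (n + 1))).unit.app F ≫ ·)
    (pushSys_map_succ 𝓘 (FSch.complMod 𝓘 F) n)).trans (unit_pushStep 𝓘 F n)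


section Base

variable {A : Type u} [CommRing A] (J : Ideal A) (f : X ⟶ Spec (CommRingCat.of A))

theorem exists_level_isPullback (h𝓘 : 𝓘 = (FSch.idealSpec A J).comap f) (n : ℕ) :
    ∃ q : (FSch.completionAlong X 𝓘).X n ⟶ Spec (CommRingCat.of (A ⧸ J ^ (n + 1))),
      IsPullback (FSch.completionToX X 𝓘 n) q f
        (Spec.map (CommRingCat.ofHom (Ideal.Quotient.mk (J ^ (n + 1))))) := by
  subst h𝓘
  have hpc : FSch.PowCompat f ((FSch.idealSpec A J).comap f) (FSch.idealSpec A J) :=
    fun m => FComplLib.powCompat f _ (m + 1)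
  have h2 : IsPullback (FSch.completionToX (Spec (CommRingCat.of A)) (FSch.idealSpec A J) n)
      (H9Existence.specLevel J n).hom (𝟙 (Spec (CommRingCat.of A))) (CohB1.specQuot J n) :=
    IsPullback.of_vert_isIso ⟨(Category.comp_id _).trans (H9Existence.specLevel_specQuot J n).symm⟩
  have h3 := (FComplLib.isPullback_completionMap_app f (FSch.idealSpec A J) hpc n).paste_vert h2
  rw [Category.comp_id] at h3
  exact ⟨_, h3⟩

/-- Two systems of quotients of a module are isomorphic under it. -/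
theorem exists_iso_of_isQuot [X.Over (Spec (CommRingCat.of A))] {M : X.Modules} {P Q : ℕᵒᵖ ⥤ X.Modules}
    (p : ∀ n, M ⟶ P.obj (op n)) (q : ∀ n, M ⟶ Q.obj (op n))
    (hp : ∀ n, Algz7.IsQuot (J ^ (n + 1)) (p n)) (hq : ∀ n, Algz7.IsQuot (J ^ (n + 1)) (q n))
    (hp' : ∀ n, p (n + 1) ≫ P.map (homOfLE (Nat.le_succ n)).op = p n)
    (hq' : ∀ n, q (n + 1) ≫ Q.map (homOfLE (Nat.le_succ n)).op = q n) :
    ∃ e : P ≅ Q, ∀ n, p n ≫ e.hom.app (op n) = q n := by
  have mk : ∀ {P Q : X.Modules} {K : Ideal A} (p : M ⟶ P) (q : M ⟶ Q),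
      Algz7.IsQuot K p → Algz7.IsQuot K q → ∃ ψ : P ⟶ Q, p ≫ ψ = q := fun {P Q K} p q hp hq =>
    hp.desc _ (Algz7.smulFamily_comp_eq_zero (Algz7.killedBy_of_isQuot hq) _)
  choose ψ hψ using fun n => mk (p n) (q n) (hp n) (hq n)
  choose χ hχ using fun n => mk (q n) (p n) (hq n) (hp n)
  let η : P ⟶ Q := NatTrans.ofOpSequence ψ fun n => by
    haveI := (hp (n + 1)).epi
    rw [← cancel_epi (p (n + 1)), ← Category.assoc, hp', hψ, ← Category.assoc, hψ, hq']
  haveI : ∀ x, IsIso (η.app x) := fun x => by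
    haveI := (hp x.unop).epi
    haveI := (hq x.unop).epi
    refine ⟨χ x.unop, ?_, ?_⟩
    · rw [← cancel_epi (p x.unop)]
      change p x.unop ≫ ψ x.unop ≫ χ x.unop = _
      rw [← Category.assoc, hψ, hχ, Category.comp_id]
    · rw [← cancel_epi (q x.unop)]
      change q x.unop ≫ χ x.unop ≫ ψ x.unop = _
      rw [← Category.assoc, hχ, hψ, Category.comp_id]
  haveI : IsIso η := NatIso.isIso_of_isIso_app η
  exact ⟨asIso η, hψ⟩

/-- Maps of completions of coherent modules with proper common support are completions of maps. -/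
theorem bijective_complModMap [IsNoetherianRing A] [IsAdicComplete J A] [LocallyOfFiniteType f] [QuasiCompact f]
    (h𝓘 : 𝓘 = (FSch.idealSpec A J).comap f) {F G : X.Modules} (hF : Coh.IsCoh F) (hG : Coh.IsCoh G)
    (hs : ClSub.IsProperOver f (CohB1.support F ∩ CohB1.support G)) :
    Function.Bijective fun φ : F ⟶ G => FSch.complModMap 𝓘 φ := by
  letI : X.Over (Spec (CommRingCat.of A)) := ⟨f⟩
  haveI : ∀ n, IsClosedImmersion (FSch.completionToX X 𝓘 n) := fun n => inferInstance
  haveI : LocallyOfFiniteType (X ↘ Spec (CommRingCat.of A)) := inferInstanceAs (LocallyOfFiniteType f)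
  haveI : QuasiCompact (X ↘ Spec (CommRingCat.of A)) := inferInstanceAs (QuasiCompact f)
  choose q sq using exists_level_isPullback 𝓘 J f h𝓘
  let η : ∀ (F : X.Modules) (n : ℕ), F ⟶ (pushSys 𝓘 (FSch.complMod 𝓘 F)).obj (op n) := fun F n =>
    (Scheme.Modules.pullbackPushforwardAdjunction (FSch.completionToX X 𝓘 n)).unit.app F
  have hq : ∀ (F : X.Modules), Coh.IsCoh F → ∀ n, Algz7.IsQuot (J ^ (n + 1)) (η F n) := fun F hF n =>
    H9Existence.isQuot_unit (q := q n) (sq n) hF.1
  let ρ : ∀ (F : X.Modules) (n : ℕ), F ⟶ (Formal.completion J F).obj (op n) := fun F n =>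
    Formal.modPowπ J (n + 1) F
  have hρ : ∀ (F : X.Modules) (n : ℕ), ρ F (n + 1) ≫ (Formal.completion J F).map (homOfLE (Nat.le_succ n)).op =
      ρ F n := fun F n => by
    rw [Algz7.completion_map_succ J F n]
    exact Formal.modPowπ_trans J (n + 1) F
  have hθ : ∀ (F : X.Modules), Coh.IsCoh F → ∃ e : pushSys 𝓘 (FSch.complMod 𝓘 F) ≅ Formal.completion J F,
      ∀ n, η F n ≫ e.hom.app (op n) = ρ F n := fun F hF =>
    exists_iso_of_isQuot J (P := pushSys 𝓘 (FSch.complMod 𝓘 F)) (Q := Formal.completion J F) (η F) (ρ F)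
      (hq F hF) (fun n => Algz7.isQuot_modPowπ J (n + 1) F) (unit_pushSys 𝓘 F) (hρ F)
  obtain ⟨θF, hθF⟩ := hθ F hF
  obtain ⟨θG, hθG⟩ := hθ G hG
  refine Function.bijective_iff_existsUnique _ |>.2 fun Φ => ?_
  have key : ∀ φ : F ⟶ G, (∀ n, ρ F n ≫ (θF.inv ≫ pushSysMap 𝓘 Φ ≫ θG.hom).app (op n) =
      φ ≫ ρ G n) ↔ FSch.complModMap 𝓘 φ = Φ := fun φ => by
    rw [FSch.ModSys.Hom.ext_iff, funext_iff]
    refine forall_congr' fun n => ?_
    rw [← hθF n, ← hθG n, NatTrans.comp_app, NatTrans.comp_app]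
    change (η F n ≫ θF.hom.app (op n)) ≫ θF.inv.app (op n) ≫
      (Scheme.Modules.pushforward (FSch.completionToX X 𝓘 n)).map (Φ.app n) ≫ θG.hom.app (op n) =
      φ ≫ η G n ≫ θG.hom.app (op n) ↔ _
    rw [Category.assoc, Iso.hom_inv_id_app_assoc, ← Category.assoc (η F n), ← Category.assoc φ, cancel_mono,
      ← Adjunction.homEquiv_unit,
      show φ ≫ η G n = (Scheme.Modules.pullbackPushforwardAdjunction (FSch.completionToX X 𝓘 n)).homEquiv _ _
          ((Scheme.Modules.pullback (FSch.completionToX X 𝓘 n)).map φ) from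
        ((Adjunction.homEquiv_unit _ _ _ _).trans ((Scheme.Modules.pullbackPushforwardAdjunction
          (FSch.completionToX X 𝓘 n)).unit.naturality φ).symm).symm,
      eq_comm]
    exact Equiv.apply_eq_iff_eq _
  obtain ⟨φ, hφ, huniq⟩ := Groth.Agent.S4473.result A J X F G hF hG hs (θF.inv ≫ pushSysMap 𝓘 Φ ≫ θG.hom)
  exact ⟨φ, (key φ).1 hφ, fun φ' h => huniq φ' ((key φ').2 h)⟩

end Base

end Groth.Agent.H9FCoh
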