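import Groth.Agent.RngSp.Maps
/-!
Short exactness of modules on a ringed space from sections over a basis of opens.
-/

set_option autoImplicit false
set_option backward.isDefEq.respectTransparency false
set_option backward.isDefEq.respectTransparency.types false
set_option linter.style.haveILetI false
universe u

open CategoryTheory CategoryTheory.Limits Opposite TopologicalSpace
open Groth.Agent.RngSp (mp fns mp_res epi_of_surjective)
open Groth.Agent.ClosedRinged

noncomputable section

namespace Groth.Agent.H9FCoh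

variable {X : TopCat.{u}} {O : TopCat.Sheaf CommRingCat.{u} X} {M N L : ModSite.Mod O}

theorem mp_injective_of_mono (f : M ⟶ N) [Mono f] (U : Opens X) : Function.Injective (mp f U) := by
  haveI : PreservesLimit (cospan f f) (SheafOfModules.evaluation (ModSite.ringSh O) (op U)) := inferInstance
  haveI : Mono ((SheafOfModules.evaluation (ModSite.ringSh O) (op U)).map f) :=
    preserves_mono_of_preservesLimit (SheafOfModules.evaluation (ModSite.ringSh O) (op U)) f
  exact (ModuleCat.mono_iff_injective ((SheafOfModules.evaluation (ModSite.ringSh O) (op U)).map f)).1 this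

variable {P : Opens X → Prop} (hP : ∀ (V : Opens X) (x : X), x ∈ V → ∃ W, P W ∧ x ∈ W ∧ W ≤ V)

include hP in
theorem hom_ext_of_basisMP {Z : ModSite.Mod O} {a b : Z ⟶ M}
    (h : ∀ W, P W → ∀ z, mp a W z = mp b W z) : a = b := by
  refine SheafOfModules.hom_ext (PresheafOfModules.Hom.ext (funext fun U =>
    ModuleCat.hom_ext (LinearMap.ext fun z => ext_locally M _ _ fun x hx => ?_)))
  obtain ⟨W, hW, hxW, hWU⟩ := hP U.unop x hx
  exact ⟨W, hWU, hxW, (mp_res a hWU z).symm.trans ((h W hW _).trans (mp_res b hWU z))⟩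

include hP in
theorem mono_of_injective_basis (f : M ⟶ N) (hf : ∀ W, P W → Function.Injective (mp f W)) : Mono f :=
  ⟨fun {Z} a b e => hom_ext_of_basisMP hP fun W hW z => hf W hW (congrArg (fun k : Z ⟶ N => mp k W z) e)⟩

include hP in
theorem epi_of_surjective_basis (f : M ⟶ N) (hf : ∀ W, P W → Function.Surjective (mp f W)) : Epi f :=
  epi_of_surjective f fun U z x hx => by
    obtain ⟨W, hW, hxW, hWU⟩ := hP U x hx
    exact ⟨W, hWU, hxW, hf W hW _⟩

include hP in
theorem exact_of_basis (f : M ⟶ N) (g : N ⟶ L) (w : f ≫ g = 0)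
    (hex : ∀ W, P W → ∀ y, mp g W y = 0 → ∃ x, mp f W x = y) : (ShortComplex.mk f g w).Exact := by
  rw [ShortComplex.exact_iff_epi_kernel_lift]
  refine epi_of_surjective_basis hP _ fun W hW z => ?_
  obtain ⟨x, hx⟩ := hex W hW (mp (kernel.ι g) W z)
    (congrArg (fun k : kernel g ⟶ L => mp k W z) (kernel.condition g))
  exact ⟨x, mp_injective_of_mono (kernel.ι g) W
    (Eq.trans (congrArg (fun k : M ⟶ N => mp k W x) (kernel.lift_ι g f w)) hx)⟩

include hP in
theorem shortExact_of_basis (f : M ⟶ N) (g : N ⟶ L)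
    (hw : ∀ W, P W → ∀ x, mp g W (mp f W x) = 0)
    (hi : ∀ W, P W → Function.Injective (mp f W))
    (hs : ∀ W, P W → Function.Surjective (mp g W))
    (hex : ∀ W, P W → ∀ y, mp g W y = 0 → ∃ x, mp f W x = y) :
    ∃ w : f ≫ g = 0, (ShortComplex.mk f g w).ShortExact := by
  have w : f ≫ g = 0 := hom_ext_of_basisMP hP fun W hW x => hw W hW x
  exact ⟨w, .mk' (exact_of_basis hP f g w hex) (mono_of_injective_basis hP f hi) (epi_of_surjective_basis hP g hs)⟩

end Groth.Agent.H9FCoh
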