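import Groth.Agent.H9FCoh.AffSec
import Groth.Agent.H9FCoh.BasisExact
import Groth.Agent.H9FCoh.AlgzHom
/-!
Sections of completions of quasi-coherent modules along a finitely generated ideal of the base,
without Noetherian hypotheses.
-/

set_option autoImplicit false
set_option backward.isDefEq.respectTransparency false
set_option backward.isDefEq.respectTransparency.types false
set_option linter.style.haveILetI false
universe u

open CategoryTheory CategoryTheory.Limits AlgebraicGeometry Opposite TopologicalSpace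
open Groth.Agent.RngSp (pt gm mp fns)

noncomputable section

namespace Groth.Agent.H9FCoh

open Groth.Agent

variable {𝔛 : FSch.Sys.{u}} (h : 𝔛.IsFormal) (𝔐 : FSch.ModSys 𝔛)

/-- The projection to a level. -/
def fprM (k : ℕ) (V : (𝔛.X 0).Opens) (x : (𝔐.realMod h).val.obj (op V)) : Γ(𝔐.F k, 𝔛.lvU h k V) :=
  mp (FSch.realProj 𝔛 h 𝔐.F 𝔐.toPush k) V x

/-- The transition of levels. -/
def fstep (k : ℕ) (V : (𝔛.X 0).Opens) (x : Γ(𝔐.F (k + 1), 𝔛.lvU h (k + 1) V)) : Γ(𝔐.F k, 𝔛.lvU h k V) :=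
  mp ((FSch.levelMor 𝔛 h (k + 1)).push.map (𝔐.toPush k) ≫ (FSch.pushCompare 𝔛 h k).app (𝔐.F k)) V x

theorem fstep_eq (k : ℕ) (V : (𝔛.X 0).Opens) (x : Γ(𝔐.F (k + 1), 𝔛.lvU h (k + 1) V)) :
    fstep h 𝔐 k V x = (𝔐.F k).presheaf.map (homOfLE (𝔛.lvU_le h k V)).op
      ((𝔐.e k).hom.app _ (((Scheme.Modules.pullbackPushforwardAdjunction (𝔛.ι k)).unit.app (𝔐.F (k + 1))).app _ x)) := by
  rw [fstep, FSch.ModSys.toPush, Adjunction.homEquiv_unit]
  rfl

theorem fstep_sub (k : ℕ) (V : (𝔛.X 0).Opens) (x y : Γ(𝔐.F (k + 1), 𝔛.lvU h (k + 1) V)) :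
    fstep h 𝔐 k V (x - y) = fstep h 𝔐 k V x - fstep h 𝔐 k V y :=
  map_sub (mp ((FSch.levelMor 𝔛 h (k + 1)).push.map (𝔐.toPush k) ≫ (FSch.pushCompare 𝔛 h k).app (𝔐.F k)) V) x y

theorem fprM_step (k : ℕ) (V : (𝔛.X 0).Opens) (x : (𝔐.realMod h).val.obj (op V)) :
    fstep h 𝔐 k V (fprM h 𝔐 (k + 1) V x) = fprM h 𝔐 k V x :=
  congrArg (fun q => mp q V x) (FSch.realProj_map 𝔛 h 𝔐.F 𝔐.toPush k)

theorem fprM_ext {V : (𝔛.X 0).Opens} {x y : (𝔐.realMod h).val.obj (op V)}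
    (hxy : ∀ k, fprM h 𝔐 k V x = fprM h 𝔐 k V y) : x = y := by
  let G : FSch.ModF 𝔛 h ⥤ Type u :=
    SheafOfModules.evaluation (ModSite.ringSh (𝔛.Osh h)) (op V) ⋙ CategoryTheory.forget _
  have hlim : IsLimit (G.mapCone (limit.cone (FSch.levelSysOf 𝔛 h 𝔐.F 𝔐.toPush))) :=
    isLimitOfPreserves G (limit.isLimit _)
  exact (Types.isLimitEquivSections hlim).injective (Subtype.ext (funext fun ⟨k⟩ => hxy k))

theorem fprM_lift {V : (𝔛.X 0).Opens} (y : ∀ k, Γ(𝔐.F k, 𝔛.lvU h k V))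
    (hy : ∀ k, fstep h 𝔐 k V (y (k + 1)) = y k) :
    ∃ x, ∀ k, fprM h 𝔐 k V x = y k := by
  let G : FSch.ModF 𝔛 h ⥤ Type u :=
    SheafOfModules.evaluation (ModSite.ringSh (𝔛.Osh h)) (op V) ⋙ CategoryTheory.forget _
  have hlim : IsLimit (G.mapCone (limit.cone (FSch.levelSysOf 𝔛 h 𝔐.F 𝔐.toPush))) :=
    isLimitOfPreserves G (limit.isLimit _)
  have hr : ∀ a b (hab : a ≤ b), (FSch.levelSysOf 𝔛 h 𝔐.F 𝔐.toPush ⋙ G).map (homOfLE hab).op (y b) = y a := by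
    intro a b hab
    induction b, hab using Nat.le_induction with
    | base =>
      exact ConcreteCategory.congr_hom ((FSch.levelSysOf 𝔛 h 𝔐.F 𝔐.toPush ⋙ G).map_id (op a)) (y a)
    | succ b hab ih =>
      rw [show (homOfLE (hab.trans b.le_succ)).op =
        (homOfLE (Nat.le_add_right b 1)).op ≫ (homOfLE hab).op from Subsingleton.elim _ _, Functor.map_comp]
      change (FSch.levelSysOf 𝔛 h 𝔐.F 𝔐.toPush ⋙ G).map (homOfLE hab).op _ = _
      rw [← ih]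
      refine congrArg _ (Eq.trans ?_ (hy b))
      rw [Functor.comp_map, FSch.levelSysOf_map_succ]
      rfl
  let sec : (FSch.levelSysOf 𝔛 h 𝔐.F 𝔐.toPush ⋙ G).sections := ⟨fun k => y k.unop, fun {a b} g => by
    rw [show g = (homOfLE (leOfHom g.unop)).op from Subsingleton.elim _ _]
    exact hr _ _ _⟩
  exact ⟨(Types.isLimitEquivSections hlim).symm sec, fun k =>
    Types.isLimitEquivSections_symm_apply hlim sec (op k)⟩

variable {𝔐} {𝔑 : FSch.ModSys 𝔛}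

theorem fprM_realModMap (φ : 𝔐 ⟶ 𝔑) (k : ℕ) (V : (𝔛.X 0).Opens) (x : (𝔐.realMod h).val.obj (op V)) :
    fprM h 𝔑 k V (mp (FSch.ModSys.realModMap h φ) V x) = (φ.app k).app (𝔛.lvU h k V) (fprM h 𝔐 k V x) :=
  congrArg (fun q => mp q V x) (FSch.realLimMap_realProj 𝔛 h φ.app (FSch.ModSys.Hom.toPush_comm φ) k)

theorem fstep_natural (φ : 𝔐 ⟶ 𝔑) (k : ℕ) (V : (𝔛.X 0).Opens) (x : Γ(𝔐.F (k + 1), 𝔛.lvU h (k + 1) V)) :
    fstep h 𝔑 k V ((φ.app (k + 1)).app (𝔛.lvU h (k + 1) V) x) = (φ.app k).app (𝔛.lvU h k V) (fstep h 𝔐 k V x) := by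
  have hc := congr(($(FSch.ModSys.Hom.toPush_comm φ k)).app (𝔛.lvU h (k + 1) V) x)
  refine (congrArg ((𝔑.F k).presheaf.map (homOfLE (𝔛.lvU_le h k V)).op) hc.symm).trans ?_
  exact (QCoh.map_app_comm (φ.app k) (homOfLE (𝔛.lvU_le h k V)) _).symm

theorem fstep_pullSec {X : Scheme.{u}} (p : ∀ n, 𝔛.X n ⟶ X) (hp : ∀ n, 𝔛.ι n ≫ p (n + 1) = p n)
    (F : X.Modules) (k : ℕ) (U : X.Opens) (z : Γ(F, U)) :
    fstep h (plMod p hp F) k (cU p U) (QCoh.pullSec (p (k + 1)) F (FSch.lvU_p 𝔛 h p hp (k + 1) U).ge z) =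
      QCoh.pullSec (p k) F (FSch.lvU_p 𝔛 h p hp k U).ge z := by
  rw [fstep_eq]
  refine (QCoh.map_app_comm ((plMod p hp F).e k).hom (homOfLE (FSch.Sys.lvU_le 𝔛 h k (cU p U))) _).symm.trans ?_
  change ((Scheme.Modules.pullbackCongr (hp k)).hom.app F).app _
    (((Scheme.Modules.pullbackComp (𝔛.ι k) (p (k + 1))).hom.app F).app _
      (QCoh.pullSec (𝔛.ι k) _ (FSch.Sys.lvU_le 𝔛 h k (cU p U)) _)) = _
  rw [ExistEasy.pullSec_comp]
  exact ExistEasy.pullSec_congr (hp k) F _ z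

section Completion

variable {A : Type u} [CommRing A] {X : Scheme.{u}} [X.Over (Spec (CommRingCat.of A))]
variable (𝓘 : X.IdealSheafData) (hX : (FSch.completionAlong X 𝓘).IsFormal)

/-- The reduction of a section to a level. -/
def cSec (F : X.Modules) (k : ℕ) (U : X.Opens) (z : Γ(F, U)) :
    Γ((FSch.complMod 𝓘 F).F k, (FSch.completionAlong X 𝓘).lvU hX k (FSch.completionToX X 𝓘 0 ⁻¹ᵁ U)) :=
  QCoh.pullSec (FSch.completionToX X 𝓘 k) F
    (FSch.lvU_p (FSch.completionAlong X 𝓘) hX (FSch.completionToX X 𝓘) (FSch.completionToX_comm X 𝓘) k U).ge z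

theorem cSec_sub (F : X.Modules) (k : ℕ) (U : X.Opens) (z z' : Γ(F, U)) :
    cSec 𝓘 hX F k U (z - z') = cSec 𝓘 hX F k U z - cSec 𝓘 hX F k U z' := by
  exact (congrArg (((Scheme.Modules.pullback (FSch.completionToX X 𝓘 k)).obj F).presheaf.map _) (map_sub _ _ _)).trans
    (map_sub _ _ _)

theorem cSec_add (F : X.Modules) (k : ℕ) (U : X.Opens) (z z' : Γ(F, U)) :
    cSec 𝓘 hX F k U (z + z') = cSec 𝓘 hX F k U z + cSec 𝓘 hX F k U z' := by
  exact (congrArg (((Scheme.Modules.pullback (FSch.completionToX X 𝓘 k)).obj F).presheaf.map _) (map_add _ _ _)).trans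
    (map_add _ _ _)

theorem fstep_cSec (F : X.Modules) (k : ℕ) (U : X.Opens) (z : Γ(F, U)) :
    fstep hX (FSch.complMod 𝓘 F) k (FSch.completionToX X 𝓘 0 ⁻¹ᵁ U) (cSec 𝓘 hX F (k + 1) U z) =
      cSec 𝓘 hX F k U z :=
  fstep_pullSec hX (FSch.completionToX X 𝓘) (FSch.completionToX_comm X 𝓘) F k U z

theorem cSec_natural {F G : X.Modules} (f : F ⟶ G) (k : ℕ) (U : X.Opens) (z : Γ(F, U)) :
    ((FSch.complModMap 𝓘 f).app k).app _ (cSec 𝓘 hX F k U z) = cSec 𝓘 hX G k U (f.app U z) := by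
  have hn := congr(($((Scheme.Modules.pullbackPushforwardAdjunction (FSch.completionToX X 𝓘 k)).unit.naturality f)).app U z)
  exact (QCoh.map_app_comm _ _ _).trans (congrArg _ hn.symm)

theorem cSec_surjective (J : Ideal A) (hJ : J.FG) (h𝓘 : 𝓘 = (FSch.idealSpec A J).comap (X ↘ Spec (CommRingCat.of A)))
    {F : X.Modules} (hF : Coh.IsQCoh F) (k : ℕ) {U : X.Opens} (hU : IsAffineOpen U) :
    letI := secMod (A := A) F U
    Function.Surjective (cSec 𝓘 hX F k U) ∧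
      ∀ z, cSec 𝓘 hX F k U z = 0 ↔ z ∈ J ^ (k + 1) • (⊤ : Submodule A Γ(F, U)) := by
  letI := secMod (A := A) F U
  obtain ⟨q, sq⟩ := exists_level_isPullback 𝓘 J (X ↘ Spec (CommRingCat.of A)) h𝓘 k
  haveI : IsClosedImmersion (FSch.completionToX X 𝓘 k) := inferInstance
  let η := (Scheme.Modules.pullbackPushforwardAdjunction (FSch.completionToX X 𝓘 k)).unit.app F
  have hη : Algz7.IsQuot (J ^ (k + 1)) η := H9Existence.isQuot_unit (q := q) sq hF
  have hP : Coh.IsQCoh ((Scheme.Modules.pushforward (FSch.completionToX X 𝓘 k)).obj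
      ((Scheme.Modules.pullback (FSch.completionToX X 𝓘 k)).obj F)) :=
    QCoh.isQCoh_pushforward (FSch.completionToX X 𝓘 k) (QCoh.isQCoh_pullback _ hF)
  haveI := hη.epi
  have hb := res_bijective_of_eq ((Scheme.Modules.pullback (FSch.completionToX X 𝓘 k)).obj F)
    (FSch.lvU_p (FSch.completionAlong X 𝓘) hX (FSch.completionToX X 𝓘) (FSch.completionToX_comm X 𝓘) k U)
  refine ⟨fun y => ?_, fun z => ⟨fun hz => ?_, fun hz => ?_⟩⟩
  · obtain ⟨w, hw⟩ := hb.2 y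
    obtain ⟨z, hz⟩ := QCoh.app_surjective_of_epi hF hP η hU w
    exact ⟨z, (congrArg _ hz).trans hw⟩
  · exact ker_app_le_of_isQuot hJ.pow hF hP hη hU z (hb.1 (hz.trans (map_zero _).symm))
  · have h0 : η.app U z = 0 := by
      obtain ⟨h0, -⟩ := id hη
      refine Submodule.smul_induction_on hz (fun a ha z _ => ?_) fun x y hx hy => by rw [map_add, hx, hy, add_zero]
      exact (congr(($(Algz7.smulMod_comp_eq_zero h0 ha)).app U z) : _)
    exact (congrArg _ h0).trans (map_zero _)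

end Completion

end Groth.Agent.H9FCoh
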