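import Groth.Agent.H9FCoh.AdicHom
/-!
Completion of finite modules over algebras topologically of finite type is fully faithful and reflects exactness.
-/

set_option autoImplicit false
set_option backward.isDefEq.respectTransparency false
set_option backward.isDefEq.respectTransparency.types false
set_option linter.style.haveILetI false
universe u

open CategoryTheory CategoryTheory.Limits AlgebraicGeometry Opposite

noncomputable section

namespace Groth.Agent.H9FCoh

open Groth.Agent

variable {R : Type u} [CommRing R] {I : Ideal R} {A : Type u} [CommRing A] [Algebra R A]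
  (hR : AdicRing.IsBase R I) (hA : AdicRing.TopFiniteType R I A)

include hR hA in
theorem isAdicComplete_Γ_tilde (M : ModuleCat.{u} A) [Module.Finite A M] :
    IsAdicComplete (I.map (algebraMap R A))
      ((moduleSpecΓFunctor (R := CommRingCat.of A)).obj ((tilde.functor (CommRingCat.of A)).obj M)) := by
  let N := (moduleSpecΓFunctor (R := CommRingCat.of A)).obj ((tilde.functor (CommRingCat.of A)).obj M)
  let e := (tilde.toTildeΓNatIso (R := CommRingCat.of A)).app M
  haveI : Module.Finite A N := Module.Finite.of_surjective (M := M) e.hom.hom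
    (ConcreteCategory.bijective_of_isIso e.hom).2
  letI : Module R N := Module.compHom N (algebraMap R A)
  haveI : IsScalarTower R A N := IsScalarTower.of_algebraMap_smul fun _ _ => rfl
  exact (IsAdicComplete.map_algebraMap_iff I N).mpr (Frg7.isAdicComplete hR hA N)

variable (h : (FSch.completionAlong (Spec (CommRingCat.of A)) (FSch.idealSpec A (I.map (algebraMap R A)))).IsFormal)

/-- The completion of a map of modules. -/
abbrev tHat {M N : ModuleCat.{u} A} (u : M ⟶ N) :=
  FSch.ModSys.realModMap h (FSch.complModMap (FSch.idealSpec A (I.map (algebraMap R A)))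
    ((tilde.functor (CommRingCat.of A)).map u))

include hR hA in
theorem bijective_tilde_hom (M N : ModuleCat.{u} A) [Module.Finite A N] :
    Function.Bijective fun u : M ⟶ N => tHat h u :=
  haveI := isAdicComplete_Γ_tilde hR hA N
  (bijective_adic_hom (I.map (algebraMap R A)) ((Frg7.IsBase.fg hR).map _) h (isQCoh_tilde M) (isQCoh_tilde N)).comp
    ((tilde.fullyFaithfulFunctor (R := CommRingCat.of A)).map_bijective M N)

theorem complModMap_comp' {X : Scheme.{u}} (𝓘 : X.IdealSheafData) {F G H : X.Modules} (φ : F ⟶ G) (ψ : G ⟶ H) :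
    FSch.complModMap 𝓘 (φ ≫ ψ) = FSch.complModMap 𝓘 φ ≫ FSch.complModMap 𝓘 ψ :=
  FSch.ModSys.Hom.ext (funext fun _ => Functor.map_comp _ _ _)

include hR hA in
theorem surjective_of_epi_tHat {M N : ModuleCat.{u} A} [Module.Finite A N] (v : M ⟶ N) [Epi (tHat h v)] :
    Function.Surjective v := by
  let C := ModuleCat.of A (N ⧸ LinearMap.range v.hom)
  let π : N ⟶ C := ModuleCat.ofHom (Submodule.mkQ _)
  have hvπ : v ≫ π = v ≫ (0 : N ⟶ C) := by
    rw [comp_zero]
    exact ModuleCat.hom_ext (LinearMap.ext fun x => (Submodule.Quotient.mk_eq_zero _).2 ⟨x, rfl⟩)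
  have hcomp : ∀ q : N ⟶ C, tHat h v ≫ tHat h q = tHat h (v ≫ q) := fun q => by
    rw [tHat, tHat, tHat, ← realModMap_comp, ← complModMap_comp', ← Functor.map_comp]
  have hπ : π = 0 := (bijective_tilde_hom hR hA h N C).1
    ((cancel_epi (tHat h v)).1 (by rw [hcomp, hcomp, hvπ]))
  intro y
  exact (Submodule.Quotient.mk_eq_zero _).1 (congr($hπ y) : (π y : C) = 0)

include hR hA in
theorem shortExact_of_tHat (M₁ M₂ M₃ : ModuleCat.{u} A) [Module.Finite A M₁] [Module.Finite A M₂]
    [Module.Finite A M₃] (u : M₁ ⟶ M₂) (v : M₂ ⟶ M₃)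
    (hΔ : ∃ w : tHat h u ≫ tHat h v = 0, (ShortComplex.mk _ _ w).ShortExact) :
    ∃ w : u ≫ v = 0, (ShortComplex.mk u v w).ShortExact := by
  obtain ⟨w, hS⟩ := hΔ
  haveI := isAdicComplete_Γ_tilde hR hA M₁
  haveI := isAdicComplete_Γ_tilde hR hA M₂
  haveI := isAdicComplete_Γ_tilde hR hA M₃
  obtain ⟨hinj, h0, hex⟩ := exact_of_completion ((Frg7.IsBase.fg hR).map (algebraMap R A)) h _ _
    (FSch.completionToX (Spec (CommRingCat.of A)) (FSch.idealSpec A (I.map (algebraMap R A))) 0).isClosedEmbedding.isInducing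
    (quotLevels_completion (I.map (algebraMap R A)) h) (isQCoh_tilde M₁) (isQCoh_tilde M₂) (isQCoh_tilde M₃)
    ((tilde.functor (CommRingCat.of A)).map u) ((tilde.functor (CommRingCat.of A)).map v)
    (FSch.complModMap (FSch.idealSpec A (I.map (algebraMap R A))) ((tilde.functor (CommRingCat.of A)).map u))
    (FSch.complModMap (FSch.idealSpec A (I.map (algebraMap R A))) ((tilde.functor (CommRingCat.of A)).map v))
    (fun _ => rfl) (fun _ => rfl) w hS
  let e := fun M : ModuleCat.{u} A => (tilde.toTildeΓNatIso (R := CommRingCat.of A)).app M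
  have hb := fun M : ModuleCat.{u} A => ConcreteCategory.bijective_of_isIso (e M).hom
  have nu : ∀ x, (moduleSpecΓFunctor (R := CommRingCat.of A)).map ((tilde.functor (CommRingCat.of A)).map u)
      ((e M₁).hom x) = (e M₂).hom (u x) := fun x =>
    congr($((tilde.toTildeΓNatIso (R := CommRingCat.of A)).hom.naturality u) x).symm
  have nv : ∀ x, (moduleSpecΓFunctor (R := CommRingCat.of A)).map ((tilde.functor (CommRingCat.of A)).map v)
      ((e M₂).hom x) = (e M₃).hom (v x) := fun x =>
    congr($((tilde.toTildeΓNatIso (R := CommRingCat.of A)).hom.naturality v) x).symm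
  have w' : u ≫ v = 0 := ModuleCat.hom_ext (LinearMap.ext fun x => (hb M₃).1
    (((nv (u x)).symm.trans ((congrArg _ (nu x).symm).trans (h0 _))).trans (map_zero (e M₃).hom.hom).symm))
  refine ⟨w', .mk' ((ShortComplex.moduleCat_exact_iff _).2 fun y hy => ?_) ?_ ?_⟩
  · obtain ⟨a, ha⟩ := hex ((e M₂).hom y) ((nv y).trans ((congrArg _ hy).trans (map_zero (e M₃).hom.hom)))
    obtain ⟨x, rfl⟩ := (hb M₁).2 a
    exact ⟨x, (hb M₂).1 ((nu x).symm.trans ha)⟩
  · exact (ModuleCat.mono_iff_injective u).2 fun x x' hxx => (hb M₁).1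
      (hinj ((nu x).trans ((congrArg _ hxx).trans (nu x').symm)))
  · haveI := hS.epi_g
    haveI : Epi (tHat h v) := hS.epi_g
    exact (ModuleCat.epi_iff_surjective v).2 (surjective_of_epi_tHat hR hA h v)

end Groth.Agent.H9FCoh
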