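import Groth.Agent.LocalCrit.Flatness
import Mathlib

/-!
# Flatness of a map of adic rings from its levels
-/

set_option linter.style.haveILetI false
universe u

open TensorProduct

namespace Groth.Agent.H9FCoh

variable {A B : Type u} [CommRing A] [CommRing B]

theorem keepsInjective_of_level [Algebra A B] (I : Ideal A) {P Q : Type u} [CommRing P] [CommRing Q]
    (p : A →+* P) (q : B →+* Q) (ψ : P →+* Q) (hc : ψ.comp p = q.comp (algebraMap A B))
    (hp : Function.Surjective p) (hkp : RingHom.ker p = I) (hq : Function.Surjective q)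
    (hkq : RingHom.ker q = I.map (algebraMap A B)) (hψ : ψ.Flat) :
    LocalCrit.KeepsInjective I B := by
  let e : A ⧸ I ≃+* P := (Ideal.quotEquivOfEq hkp.symm).trans (RingHom.quotientKerEquivOfSurjective hp)
  have he : ∀ a, e (Ideal.Quotient.mk I a) = p a := fun a => rfl
  letI : Algebra (A ⧸ I) Q := (ψ.comp e.toRingHom).toAlgebra
  letI : Algebra A Q := (q.comp (algebraMap A B)).toAlgebra
  haveI : IsScalarTower A (A ⧸ I) Q := IsScalarTower.of_algebraMap_eq fun a => by
    change q (algebraMap A B a) = ψ (e (Ideal.Quotient.mk I a))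
    rw [he]
    exact (RingHom.congr_fun hc a).symm
  haveI : Module.Flat (A ⧸ I) Q := hψ |> fun h => (RingHom.Flat.of_bijective e.bijective).comp h
  let q' : B →ₗ[A] Q :=
    ({ q with commutes' := fun _ => rfl } : B →ₐ[A] Q).toLinearMap
  let f : (A ⧸ I) ⊗[A] B →ₗ[A ⧸ I] Q := q'.liftBaseChange (A ⧸ I)
  have hf1 : ∀ b, f (1 ⊗ₜ b) = q b := fun b => by simp [f, q']
  have hform : ∀ t : (A ⧸ I) ⊗[A] B, ∃ b, t = 1 ⊗ₜ b := fun t => by
    induction t using TensorProduct.induction_on with
    | zero => exact ⟨0, by simp⟩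
    | tmul c b =>
      obtain ⟨c, rfl⟩ := Ideal.Quotient.mk_surjective c
      refine ⟨c • b, ?_⟩
      rw [← TensorProduct.smul_tmul, Algebra.smul_def, mul_one]
      rfl
    | add s t hs ht =>
      obtain ⟨b, rfl⟩ := hs
      obtain ⟨b', rfl⟩ := ht
      exact ⟨b + b', (tmul_add _ _ _).symm⟩
  have hinj : Function.Injective f := by
    rw [injective_iff_map_eq_zero]
    intro t ht
    obtain ⟨b, rfl⟩ := hform t
    rw [hf1] at ht
    have hb : b ∈ I.map (algebraMap A B) := hkq ▸ ht
    have hb' : b ∈ I • (⊤ : Submodule A B) := by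
      rw [Ideal.smul_top_eq_map]
      exact hb
    clear ht hb
    induction hb' using Submodule.smul_induction_on' with
    | smul a ha y _ =>
      rw [← TensorProduct.smul_tmul, Algebra.smul_def, mul_one]
      rw [show algebraMap A (A ⧸ I) a = 0 from Ideal.Quotient.eq_zero_iff_mem.2 ha, zero_tmul]
    | add x _ y _ hx hy => rw [tmul_add, hx, hy, add_zero]
  have hsurj : Function.Surjective f := fun z => by
    obtain ⟨b, rfl⟩ := hq z
    exact ⟨1 ⊗ₜ b, hf1 b⟩
  haveI : Module.Flat (A ⧸ I) ((A ⧸ I) ⊗[A] B) :=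
    Module.Flat.of_linearEquiv (LinearEquiv.ofBijective f ⟨hinj, hsurj⟩)
  exact LocalCrit.keepsInjective_of_flat I B

/-- A map to an adic Noetherian ring is flat if it is flat on all levels. -/
theorem flat_of_levels [IsNoetherianRing A] [IsNoetherianRing B] (φ : A →+* B) (J : Ideal A)
    (hJ : J.map φ ≤ Ideal.jacobson ⊥)
    (h : ∀ n : ℕ, ∃ (P Q : Type u) (_ : CommRing P) (_ : CommRing Q) (p : A →+* P) (q : B →+* Q)
      (ψ : P →+* Q), ψ.comp p = q.comp φ ∧ Function.Surjective p ∧ RingHom.ker p = J ^ (n + 1) ∧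
        Function.Surjective q ∧ RingHom.ker q = (J ^ (n + 1)).map φ ∧ ψ.Flat) : φ.Flat := by
  letI : Algebra A B := φ.toAlgebra
  change Module.Flat A B
  refine LocalCrit.flat_of_forall_quotient_pow (B := B) J hJ fun n => ?_
  cases n with
  | zero =>
    intro N N' _ _ _ _ g hN _ _
    haveI : Subsingleton N := ⟨fun x y => by
      have h1 : ∀ z : N, z = 0 := fun z => by
        have := @hN z ⟨1, by simp⟩
        simpa using this
      rw [h1 x, h1 y]⟩
    haveI : Subsingleton (N ⊗[A] B) := inferInstance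
    exact Function.injective_of_subsingleton _
  | succ n =>
    obtain ⟨P, Q, _, _, p, q, ψ, hc, hp, hkp, hq, hkq, hψ⟩ := h n
    exact keepsInjective_of_level (J ^ (n + 1)) p q ψ hc hp hkp hq hkq hψ

end Groth.Agent.H9FCoh
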