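import Groth.Agent.H9FCoh.RingSys
import Groth.Agent.H9FCoh.FlatCrit
import Groth.Agent.FComplLib.OshSurj
import Groth.Agent.RngSp.StalkRing

/-!
# Functions on affine opens of locally Noetherian formal schemes
-/

set_option autoImplicit false
set_option backward.isDefEq.respectTransparency false
set_option backward.isDefEq.respectTransparency.types false
set_option linter.style.haveILetI false

universe u

open CategoryTheory CategoryTheory.Limits AlgebraicGeometry Opposite TopologicalSpace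

noncomputable section

namespace Groth.Agent.H9FCoh

variable {𝔛 : FSch.Sys.{u}} (h : 𝔛.IsLocNoethFormal)

/-- Functions on an open of the formal scheme. -/
abbrev Ox (U : (𝔛.X 0).Opens) : Type u := ((𝔛.Osh h.1).obj.obj (op U) : CommRingCat.{u})

/-- Functions on an open of a level. -/
abbrev On (n : ℕ) (U : (𝔛.X 0).Opens) : Type u := Γ(𝔛.X n, 𝔛.lvU h.1 n U)

/-- Restriction of functions. -/
abbrev rO {U V : (𝔛.X 0).Opens} (hVU : V ≤ U) : Ox h U →+* Ox h V :=
  ((𝔛.Osh h.1).obj.map (homOfLE hVU).op).hom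

/-- Restriction on a level. -/
abbrev rn (n : ℕ) {U V : (𝔛.X 0).Opens} (hVU : V ≤ U) : On h n U →+* On h n V :=
  ((𝔛.levelObj h.1 n).obj.map (homOfLE hVU).op).hom

/-- The transition map of levels. -/
abbrev tr (n : ℕ) (U : (𝔛.X 0).Opens) : On h (n + 1) U →+* On h n U :=
  ((𝔛.levelMap h.1 n).hom.app (op U)).hom

/-- The projection to a level. -/
def pr (n : ℕ) (U : (𝔛.X 0).Opens) : Ox h U →+* On h n U := ((𝔛.OshProj h.1 n).hom.app (op U)).hom

theorem tr_pr (n : ℕ) (U : (𝔛.X 0).Opens) (s : Ox h U) : tr h n U (pr h (n + 1) U s) = pr h n U s :=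
  congrArg (fun q => (q.hom.app (op U)).hom s) (𝔛.OshProj_levelMap h.1 n)

theorem rn_pr (n : ℕ) {U V : (𝔛.X 0).Opens} (hVU : V ≤ U) (s : Ox h U) :
    rn h n hVU (pr h n U s) = pr h n V (rO h hVU s) :=
  (congrArg (fun q => q.hom s) ((𝔛.OshProj h.1 n).hom.naturality (homOfLE hVU).op)).symm

/-- The ideal of definition on an open. -/
def J (U : (𝔛.X 0).Opens) : Ideal (Ox h U) := RingHom.ker (pr h 0 U)

theorem pr_ext {U : (𝔛.X 0).Opens} {s t : Ox h U} (hst : ∀ n, pr h n U s = pr h n U t) : s = t := by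
  let G : Sheaf (Opens.grothendieckTopology (𝔛.X 0)) CommRingCat.{u} ⥤ Type u :=
    sheafToPresheaf _ _ ⋙ (evaluation _ _).obj (op U) ⋙ CategoryTheory.forget CommRingCat.{u}
  have hlim : IsLimit (G.mapCone (limit.cone (𝔛.levelRing h.1))) :=
    isLimitOfPreserves G (limit.isLimit _)
  exact (Types.isLimitEquivSections hlim).injective (Subtype.ext (funext fun ⟨n⟩ => hst n))

theorem pr_lift {U : (𝔛.X 0).Opens} (y : ∀ n, On h n U) (hy : ∀ n, tr h n U (y (n + 1)) = y n) :
    ∃ s : Ox h U, ∀ n, pr h n U s = y n := by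
  let G : Sheaf (Opens.grothendieckTopology (𝔛.X 0)) CommRingCat.{u} ⥤ Type u :=
    sheafToPresheaf _ _ ⋙ (evaluation _ _).obj (op U) ⋙ CategoryTheory.forget CommRingCat.{u}
  have hlim : IsLimit (G.mapCone (limit.cone (𝔛.levelRing h.1))) :=
    isLimitOfPreserves G (limit.isLimit _)
  have hr : ∀ a b (hab : a ≤ b), (𝔛.levelRing h.1 ⋙ G).map (homOfLE hab).op (y b) = y a := by
    intro a b hab
    induction b, hab using Nat.le_induction with
    | base =>
      exact ConcreteCategory.congr_hom ((𝔛.levelRing h.1 ⋙ G).map_id (op a)) (y a)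
    | succ b hab ih =>
      rw [show (homOfLE (hab.trans b.le_succ)).op =
        (homOfLE (Nat.le_add_right b 1)).op ≫ (homOfLE hab).op from Subsingleton.elim _ _, Functor.map_comp]
      change (𝔛.levelRing h.1 ⋙ G).map (homOfLE hab).op _ = _
      rw [← ih]
      refine congrArg _ (Eq.trans ?_ (hy b))
      rw [Functor.comp_map, FSch.Sys.levelRing_map_succ]
      rfl
  let sec : ((𝔛.levelRing h.1) ⋙ G).sections := ⟨fun n => y n.unop, fun {a b} g => by
    rw [show g = (homOfLE (leOfHom g.unop)).op from Subsingleton.elim _ _]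
    exact hr _ _ _⟩
  exact ⟨(Types.isLimitEquivSections hlim).symm sec, fun n =>
    Types.isLimitEquivSections_symm_apply hlim sec (op n)⟩

variable {U V : (𝔛.X 0).Opens}

theorem affine_lvU (hU : IsAffineOpen U) (n : ℕ) : IsAffineOpen (𝔛.lvU h.1 n U) := by
  have := FComplLib.isClosedImmersion_toX h.1 n
  refine MorLib.Thick.isAffineOpen_of_preimage (𝔛.toX n) (FComplLib.surjective_toX h.1 n).surj ?_
  convert hU using 1
  change (TopologicalSpace.Opens.map ((𝔛.toX n).base ≫ 𝔛.gInv h.1 n)).obj U = U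
  rw [FSch.Sys.toX_base_gInv]
  rfl

theorem lvU_mono (n : ℕ) (hVU : V ≤ U) : 𝔛.lvU h.1 n V ≤ 𝔛.lvU h.1 n U :=
  ((Opens.map (𝔛.gInv h.1 n)).map (homOfLE hVU)).le

/-- The ideal of the smallest level in a level. -/
def N (hU : IsAffineOpen U) (n : ℕ) : Ideal (On h n U) :=
  (𝔛.toX n).ker.ideal ⟨_, affine_lvU h hU n⟩

theorem tr_surjective (hU : IsAffineOpen U) (n : ℕ) : Function.Surjective (tr h n U) := by
  haveI := (h.1 n).1
  have hbij : ∀ (W : (𝔛.X n).Opens) (e : W = (𝔛.ι n) ⁻¹ᵁ 𝔛.lvU h.1 (n + 1) U),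
      Function.Surjective ((𝔛.ι n).appLE (𝔛.lvU h.1 (n + 1) U) W e.le) := by
    rintro W rfl
    rw [← Scheme.Hom.app_eq_appLE]
    exact (𝔛.ι n).app_surjective _ (affine_lvU h hU (n + 1))
  exact hbij _ (𝔛.lvU_succ h.1 n U).symm

theorem ker_tr (hU : IsAffineOpen U) (n : ℕ) : RingHom.ker (tr h n U) = N h hU (n + 1) ^ (n + 1) := by
  haveI := (h.1 n).1
  have hbij : ∀ (W : (𝔛.X n).Opens) (e : W = (𝔛.ι n) ⁻¹ᵁ 𝔛.lvU h.1 (n + 1) U),
      RingHom.ker ((𝔛.ι n).appLE (𝔛.lvU h.1 (n + 1) U) W e.le).hom =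
        (𝔛.ι n).ker.ideal ⟨_, affine_lvU h hU (n + 1)⟩ := by
    rintro W rfl
    rw [← Scheme.Hom.app_eq_appLE]
    exact (FComplLib.ideal_ker (𝔛.ι n) ⟨_, affine_lvU h hU (n + 1)⟩).symm
  refine (hbij _ (𝔛.lvU_succ h.1 n U).symm).trans ?_
  rw [h.2.1 n, Scheme.IdealSheafData.ideal_pow]
  rfl

theorem map_tr_N (hU : IsAffineOpen U) (n : ℕ) : (N h hU (n + 1)).map (tr h n U) = N h hU n := by
  unfold N
  rw [← FComplLib.comap_ker_toX h.1 n]
  exact (ModPairLib.ideal_comap _ (𝔛.ι n) ⟨_, affine_lvU h hU (n + 1)⟩ ⟨_, affine_lvU h hU n⟩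
    (𝔛.lvU_le h.1 n U)).symm

theorem N_pow (hU : IsAffineOpen U) (n : ℕ) : N h hU n ^ (n + 1) = ⊥ :=
  congrFun (congrArg Scheme.IdealSheafData.ideal (FComplLib.pow_ker_toX h.1 h.2.1 n)) ⟨_, affine_lvU h hU n⟩

theorem structure_Ox (hU : IsAffineOpen U) :
    IsNoetherianRing (Ox h U) ∧ IsAdicComplete (J h U) (Ox h U) ∧
      ∀ n, Function.Surjective (pr h n U) ∧ RingHom.ker (pr h n U) = J h U ^ (n + 1) ∧
        (J h U).map (pr h n U) = N h hU n :=
  limit_rings (fun n => On h n U)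
    (fun n => haveI := h.2.2 n; IsLocallyNoetherian.component_noetherian ⟨_, affine_lvU h hU n⟩)
    (fun n => tr h n U) (tr_surjective h hU) (N h hU) (N_pow h hU) (ker_tr h hU) (map_tr_N h hU)
    (Ox h U) (fun n => pr h n U) (fun n s => tr_pr h n U s)
    (fun s hs => pr_ext h fun n => (hs n).trans (map_zero _).symm) (fun y hy => pr_lift h y hy)

theorem isNoetherianRing_Ox (hU : IsAffineOpen U) : IsNoetherianRing (Ox h U) := (structure_Ox h hU).1

theorem isAdicComplete_Ox (hU : IsAffineOpen U) : IsAdicComplete (J h U) (Ox h U) := (structure_Ox h hU).2.1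

theorem pr_surjective (hU : IsAffineOpen U) (n : ℕ) : Function.Surjective (pr h n U) :=
  ((structure_Ox h hU).2.2 n).1

theorem ker_pr (hU : IsAffineOpen U) (n : ℕ) : RingHom.ker (pr h n U) = J h U ^ (n + 1) :=
  ((structure_Ox h hU).2.2 n).2.1

theorem map_rn_N (hU : IsAffineOpen U) (hV : IsAffineOpen V) (hVU : V ≤ U) (n : ℕ) :
    (N h hU n).map (rn h n hVU) = N h hV n :=
  (𝔛.toX n).ker.map_ideal' (U := ⟨_, affine_lvU h hV n⟩) (V := ⟨_, affine_lvU h hU n⟩)
    ((Opens.map (𝔛.gInv h.1 n)).map (homOfLE hVU)).op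

theorem map_rO_J (hU : IsAffineOpen U) (hV : IsAffineOpen V) (hVU : V ≤ U) :
    (J h U).map (rO h hVU) = J h V := by
  have hle : (J h U).map (rO h hVU) ≤ J h V := by
    rw [Ideal.map_le_iff_le_comap]
    intro s hs
    change pr h 0 V (rO h hVU s) = 0
    rw [← rn_pr, RingHom.mem_ker.1 hs, map_zero]
  haveI := isNoetherianRing_Ox h hV
  haveI := isAdicComplete_Ox h hV
  refine le_antisymm hle ?_
  have h1 : ((J h U).map (rO h hVU)).map (pr h 1 V) = (J h V).map (pr h 1 V) := by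
    rw [Ideal.map_map, show (pr h 1 V).comp (rO h hVU) = (rn h 1 hVU).comp (pr h 1 U) from
      RingHom.ext fun s => (rn_pr h 1 hVU s).symm, ← Ideal.map_map,
      ((structure_Ox h hU).2.2 1).2.2, map_rn_N h hU hV hVU, ((structure_Ox h hV).2.2 1).2.2]
  have h2 : J h V ≤ (J h U).map (rO h hVU) ⊔ J h V ^ 2 := by
    intro s hs
    have h3 : pr h 1 V s ∈ ((J h U).map (rO h hVU)).map (pr h 1 V) :=
      h1.symm ▸ Ideal.mem_map_of_mem _ hs
    rw [← Ideal.mem_comap, Ideal.comap_map_of_surjective' _ (pr_surjective h hV 1), ker_pr h hV] at h3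
    exact h3
  refine Submodule.le_of_le_smul_of_le_jacobson_bot (IsNoetherian.noetherian (J h V))
    (IsAdicComplete.le_jacobson_bot (J h V)) ?_
  rwa [smul_eq_mul, ← pow_two]

theorem flat_rO (hU : IsAffineOpen U) (hV : IsAffineOpen V) (hVU : V ≤ U) : (rO h hVU).Flat := by
  haveI := isNoetherianRing_Ox h hU
  haveI := isNoetherianRing_Ox h hV
  haveI := isAdicComplete_Ox h hV
  refine flat_of_levels _ (J h U) ?_ fun n => ⟨On h n U, On h n V, inferInstance, inferInstance, pr h n U,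
    pr h n V, rn h n hVU, RingHom.ext fun s => rn_pr h n hVU s, pr_surjective h hU n, ker_pr h hU n,
    pr_surjective h hV n, ?_, ?_⟩
  · rw [map_rO_J h hU hV hVU]
    exact IsAdicComplete.le_jacobson_bot _
  · rw [Ideal.map_pow, map_rO_J h hU hV hVU]
    exact ker_pr h hV n
  · have := Scheme.Hom.flat_appLE (𝟙 (𝔛.X n)) (affine_lvU h hU n) (affine_lvU h hV n) (lvU_mono h n hVU)
    rw [Scheme.Hom.appLE, Scheme.Hom.id_app, Category.id_comp] at this
    exact this

end Groth.Agent.H9FCoh
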