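import Groth.Agent.Algz7.Restrict
import Groth.Agent.QCoh.DevissageIdeal
import Groth.Agent.LimMod.Glue
import Groth.Agent.Adic7.Limit
import Groth.Prelude.Def_Formal2
/-!
Sections on affine opens of the quotient by a finitely generated ideal of the base, and of the
limit of a system of such quotients.
-/

set_option autoImplicit false
set_option backward.isDefEq.respectTransparency false
universe u

open CategoryTheory CategoryTheory.Limits AlgebraicGeometry Opposite TopologicalSpace

noncomputable section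

namespace Groth.Agent.H9FCoh

attribute [local instance] Groth.Agent.QCoh.hasFiniteBiproducts

variable {A : Type u} [CommRing A] {X : Scheme.{u}} [X.Over (Spec (CommRingCat.of A))]

/-- The action of the base on sections. -/
def secRing (U : X.Opens) : A →+* Γ(X, U) :=
  (X.presheaf.map (homOfLE (le_top : U ≤ ⊤)).op).hom.comp (Coh.toGlobal (X ↘ Spec (CommRingCat.of A)))

/-- Sections over an open as a module over the base. -/
@[implicit_reducible]
def secMod (M : X.Modules) (U : X.Opens) : Module A Γ(M, U) := Module.compHom _ (secRing (A := A) U)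

theorem smulMod_app (M : X.Modules) (a : A) (U : X.Opens) (z : Γ(M, U)) :
    (Formal.smulMod A M a).app U z = secRing (A := A) U a • z := rfl

theorem app_secRing_smul {M N : X.Modules} (φ : M ⟶ N) (U : X.Opens) (a : A) (z : Γ(M, U)) :
    φ.app U (secRing (A := A) U a • z) = secRing (A := A) U a • φ.app U z :=
  Scheme.Modules.Hom.app_smul φ _ _

theorem smulMod_comp_eq_zero_of_span {M P : X.Modules} {σ : Type u} (a : σ → A) (φ : M ⟶ P)
    (h : ∀ i, Formal.smulMod A M (a i) ≫ φ = 0) :
    Formal.smulFamily (Ideal.span (Set.range a)) M ≫ φ = 0 := by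
  refine Sigma.hom_ext _ _ fun ⟨b, hb⟩ => ?_
  rw [comp_zero, ← Category.assoc, Formal.smulFamily, Sigma.ι_desc]
  have key : ∀ (U : X.Opens) (z : Γ(M, U)), secRing (A := A) U b • φ.app U z = 0 := by
    intro U z
    induction hb using Submodule.span_induction with
    | mem c hc =>
      obtain ⟨i, rfl⟩ := hc
      rw [← app_secRing_smul, ← smulMod_app]
      exact congr(($(h i)).app U z)
    | zero => rw [map_zero, zero_smul]
    | add c d _ _ hc hd => rw [map_add, add_smul, hc, hd, add_zero]
    | smul r c _ hc => rw [smul_eq_mul, map_mul, mul_smul, hc, smul_zero]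
  refine Scheme.Modules.hom_ext _ _ fun U => ?_
  ext z
  exact (app_secRing_smul φ U b z).trans (key U z)

theorem ker_app_le_of_isQuot {J : Ideal A} (hJ : J.FG) {M N : X.Modules} (hM : Coh.IsQCoh M) (hN : Coh.IsQCoh N)
    {g : M ⟶ N} (hg : Algz7.IsQuot J g) {U : X.Opens} (hU : IsAffineOpen U) (z : Γ(M, U)) (hz : g.app U z = 0) :
    letI := secMod (A := A) M U; z ∈ J • (⊤ : Submodule A Γ(M, U)) := by
  letI := secMod (A := A) M U
  obtain ⟨n, a, ha⟩ := Submodule.fg_iff_exists_fin_generating_family.1 hJ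
  haveI := hg.epi
  let T : ULift.{u} (Fin n) → X.Modules := fun _ => M
  let Φ : (⨁ T) ⟶ M := biproduct.desc fun i => Formal.smulMod A M (a i.down)
  have hmem : ∀ i : ULift.{u} (Fin n), a i.down ∈ J := fun i => by
    rw [← ha]; exact Submodule.subset_span ⟨_, rfl⟩
  obtain ⟨h0, -⟩ := id hg
  have hΦ : Φ ≫ g = 0 := biproduct.hom_ext' _ _ fun i => by
    rw [biproduct.ι_desc_assoc, Algz7.smulMod_comp_eq_zero h0 (hmem i)]; simp
  have hJe : J = Ideal.span (Set.range fun i : ULift.{u} (Fin n) => a i.down) := by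
    rw [← ha]
    refine congrArg _ (Set.ext fun x => ⟨?_, ?_⟩)
    · rintro ⟨i, rfl⟩; exact ⟨⟨i⟩, rfl⟩
    · rintro ⟨i, rfl⟩; exact ⟨_, rfl⟩
  have hex : (ShortComplex.mk Φ g hΦ).Exact := by
    refine ShortComplex.exact_of_g_is_cokernel _ (CokernelCofork.IsColimit.ofπ' g hΦ fun {P} φ hφ =>
      ⟨(hg.desc φ ?_).choose, (hg.desc φ ?_).choose_spec⟩)
    all_goals
      subst hJe
      refine smulMod_comp_eq_zero_of_span _ φ fun i => ?_
      have := biproduct.ι T i ≫= hφ
      rwa [biproduct.ι_desc_assoc, comp_zero] at this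
  haveI : Epi (kernel.lift g Φ hΦ) := by
    simpa using hex.epi_kernelLift
  have hz' : ∃ w : Γ(kernel g, U), (kernel.ι g).app U w = z := QCoh.exists_kernel_lift g U z hz
  obtain ⟨w, hw⟩ := hz'
  obtain ⟨y, hy⟩ := QCoh.app_surjective_of_epi (QCoh.isQCoh_biproduct T fun _ => hM) (QCoh.isQCoh_kernel hM hN g)
    (kernel.lift g Φ hΦ) hU w
  have hzy : z = ∑ i, (Formal.smulMod A M (a i.down)).app U ((biproduct.π T i).app U y) := by
    rw [← hw, ← hy, ← QCoh.biproduct_desc_app T]
    exact congr(($(kernel.lift_ι g Φ hΦ)).app U y)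
  rw [hzy]
  exact Submodule.sum_mem _ fun i _ => Submodule.smul_mem_smul (hmem i) (Submodule.mem_top (x := _))

theorem limit_sec_ext (G : ℕᵒᵖ ⥤ X.Modules) (U : X.Opens) {x y : Γ(limit G, U)}
    (h : ∀ n, (limit.π G (op n)).app U x = (limit.π G (op n)).app U y) : x = y := by
  let E : X.Modules ⥤ Type u :=
    SheafOfModules.evaluation X.ringCatSheaf (op U) ⋙ CategoryTheory.forget _
  haveI : PreservesLimit (C := SheafOfModules X.ringCatSheaf) G E := by infer_instance
  have hlim : IsLimit (E.mapCone (limit.cone G)) := isLimitOfPreserves E (limit.isLimit _)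
  exact (Types.isLimitEquivSections hlim).injective (Subtype.ext (funext fun ⟨k⟩ => h k))

theorem limit_sec_lift (G : ℕᵒᵖ ⥤ X.Modules) (U : X.Opens) (y : ∀ n, Γ(G.obj (op n), U))
    (hy : ∀ n, (G.map (homOfLE (Nat.le_succ n)).op).app U (y (n + 1)) = y n) :
    ∃ x : Γ(limit G, U), ∀ n, (limit.π G (op n)).app U x = y n := by
  let E : X.Modules ⥤ Type u :=
    SheafOfModules.evaluation X.ringCatSheaf (op U) ⋙ CategoryTheory.forget _
  haveI : PreservesLimit (C := SheafOfModules X.ringCatSheaf) G E := by infer_instance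
  have hlim : IsLimit (E.mapCone (limit.cone G)) := isLimitOfPreserves E (limit.isLimit _)
  have hr : ∀ a b (hab : a ≤ b), (G ⋙ E).map (homOfLE hab).op (y b) = y a := by
    intro a b hab
    induction b, hab using Nat.le_induction with
    | base => exact ConcreteCategory.congr_hom ((G ⋙ E).map_id (op a)) (y a)
    | succ b hab ih =>
      rw [show (homOfLE (hab.trans b.le_succ)).op = (homOfLE (Nat.le_succ b)).op ≫ (homOfLE hab).op from
        Subsingleton.elim _ _, Functor.map_comp]
      change (G ⋙ E).map (homOfLE hab).op _ = _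
      rw [← ih]
      exact congrArg _ (hy b)
  let sec : (G ⋙ E).sections := ⟨fun k => y k.unop, fun {a b} g => by
    rw [show g = (homOfLE (leOfHom g.unop)).op from Subsingleton.elim _ _]
    exact hr _ _ _⟩
  exact ⟨(Types.isLimitEquivSections hlim).symm sec, fun k =>
    Types.isLimitEquivSections_symm_apply hlim sec (op k)⟩

/-- A map on sections as a linear map over the base. -/
def secMap {M N : X.Modules} (φ : M ⟶ N) (U : X.Opens) :
    letI := secMod (A := A) M U; letI := secMod (A := A) N U
    Γ(M, U) →ₗ[A] Γ(N, U) :=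
  letI := secMod (A := A) M U
  letI := secMod (A := A) N U
  { toFun := φ.app U
    map_add' := map_add (φ.app U).hom
    map_smul' := fun a z => app_secRing_smul φ U a z }

theorem limit_sections {I : Ideal A} (hI : I.FG) {G : ℕᵒᵖ ⥤ X.Modules} (hG : Formal2.IsQCohFormal I G)
    {U : X.Opens} (hU : IsAffineOpen U) (n : ℕ) :
    Function.Surjective ((limit.π G (op n)).app U) ∧
      ∀ z, (limit.π G (op n)).app U z = 0 →
        letI := secMod (A := A) (limit G) U
        z ∈ I ^ (n + 1) • (⊤ : Submodule A Γ(limit G, U)) := by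
  letI : ∀ n, Module A Γ(G.obj (op n), U) := fun n => secMod (G.obj (op n)) U
  letI := secMod (A := A) (limit G) U
  haveI : ∀ n, Epi (G.map (homOfLE (Nat.le_succ n)).op) := fun n => Algz7.IsQuot.epi (hG.2.2 n)
  obtain ⟨-, h, -⟩ := Adic7.limit_quotient_system A I hI (fun m => Γ(G.obj (op m), U))
    (fun m => secMap (G.map (homOfLE (Nat.le_succ m)).op) U)
    (fun m => QCoh.app_surjective_of_epi (hG.1 (m + 1)) (hG.1 m) (G.map (homOfLE (Nat.le_succ m)).op) hU)
    (fun m => le_antisymm
      (fun z hz => ker_app_le_of_isQuot (hI.pow) (hG.1 (m + 1)) (hG.1 m) (hG.2.2 m) hU z hz)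
      (Submodule.smul_le.mpr fun a ha z _ => by
        rw [LinearMap.mem_ker, map_smul]
        exact congr(($(hG.2.1 m a ha)).app U _)))
    Γ(limit G, U) (fun m => secMap (limit.π G (op m)) U)
    (fun m => LinearMap.ext fun z => congr(($(limit.w G (homOfLE (Nat.le_succ m)).op)).app U z))
    (fun z hz => limit_sec_ext G U fun m => (hz m).trans (map_zero _).symm)
    (fun y hy => limit_sec_lift G U y hy)
  exact ⟨(h n).1, fun z hz => (h n).2.le hz⟩

/-- The limit modulo a power is the corresponding level. -/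
theorem isQuot_limit_π {I : Ideal A} (hI : I.FG) {G : ℕᵒᵖ ⥤ X.Modules} (hG : Formal2.IsQCohFormal I G) (n : ℕ) :
    Algz7.IsQuot (I ^ (n + 1)) (limit.π G (op n)) := by
  have hP : ∀ (V : X.Opens) (x : X), x ∈ V → ∃ W : X.Opens, IsAffineOpen W ∧ x ∈ W ∧ W ≤ V := fun V x hx =>
    Opens.isBasis_iff_nbhd.mp X.isBasis_affineOpens hx
  haveI : Epi (limit.π G (op n)) := ⟨fun s t hst => LimMod.hom_ext_basis IsAffineOpen hP s t fun W hW z => by
    obtain ⟨y, rfl⟩ := (limit_sections hI hG hW n).1 z
    exact congr(($hst).app W y)⟩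
  refine Algz7.IsQuot.mk' _ (hG.2.1 n) fun {T} φ hφ => ?_
  have hk : kernel.ι (limit.π G (op n)) ≫ φ = 0 := LimMod.hom_ext_basis IsAffineOpen hP _ _ fun W hW w => by
    letI := secMod (A := A) (limit G) W
    have hz := (limit_sections hI hG hW n).2 ((kernel.ι (limit.π G (op n))).app W w)
      (congr(($(kernel.condition (limit.π G (op n)))).app W w) : _)
    change φ.app W ((kernel.ι (limit.π G (op n))).app W w) = 0
    refine Submodule.smul_induction_on hz (fun a ha z _ => ?_) fun x y hx hy => by rw [map_add, hx, hy, add_zero]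
    exact (congr(($(Algz7.smulMod_comp_eq_zero hφ ha)).app W z) : _)
  exact ⟨Abelian.epiDesc (limit.π G (op n)) φ hk, Abelian.comp_epiDesc _ _ hk⟩

end Groth.Agent.H9FCoh
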