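import Groth.Agent.H9FCoh.Rebuild

/-!
# Surjectivity after restriction to the first level
-/

set_option autoImplicit false
set_option backward.isDefEq.respectTransparency false
set_option backward.isDefEq.respectTransparency.types false
set_option linter.style.haveILetI false

universe u

open CategoryTheory CategoryTheory.Limits AlgebraicGeometry Opposite TopologicalSpace
open Groth.Agent.ClosedRinged
open Groth.Agent.RngSp (pt gm mp fns)

noncomputable section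

namespace Groth.Agent.H9FCoh

variable {X Y : TopCat.{u}} {OX : TopCat.Sheaf CommRingCat.{u} X} {OY : TopCat.Sheaf CommRingCat.{u} Y}
  (g : Y ⟶ X)
  (sharp : OX ⟶ ((Opens.map g).sheafPushforwardContinuous CommRingCat.{u}
    (Opens.grothendieckTopology X) (Opens.grothendieckTopology Y)).obj OY)

theorem puSec_map {M N : ModSite.Mod OX} (f : M ⟶ N) {U : Opens X} (z : M.val.obj (op U)) :
    mp ((rmor g sharp).pull.map f) ((Opens.map g).obj U) (puSec g sharp M z) = puSec g sharp N (mp f U z) :=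
  (congrArg (fun q => mp q U z) ((rmor g sharp).adj.unit.naturality f)).symm

variable {𝔛 : FSch.Sys.{u}} (h : 𝔛.IsLocNoethFormal)

theorem puL_eq_zero_of_epi {𝔉 𝔊 ℭ : FSch.ModF 𝔛 h.1} (θ : 𝔉 ⟶ 𝔊) (π : 𝔊 ⟶ ℭ) [Epi π] (w : θ ≫ π = 0)
    [Epi ((FSch.levelMor 𝔛 h.1 0).pull.map θ)] {U : (𝔛.X 0).Opens} (z : ℭ.val.obj (op U)) :
    puL h 0 ℭ z = 0 := by
  have hπ : (FSch.levelMor 𝔛 h.1 0).pull.map π = (FSch.levelMor 𝔛 h.1 0).pull.map (0 : 𝔊 ⟶ ℭ) := by
    refine (cancel_epi ((FSch.levelMor 𝔛 h.1 0).pull.map θ)).1 ?_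
    rw [← Functor.map_comp, ← Functor.map_comp, w, comp_zero]
  refine eq_of_gm (O := (𝔛.X 0).sheaf) fun y hy => ?_
  obtain ⟨W, hW, hyW, m, hm⟩ := RngSp.exists_mp_eq π z (𝔛.gInv h.1 0 y) hy
  have h1 : puSec (𝔛.gInv h.1 0) (𝔛.OshProj h.1 0) ℭ (res ℭ hW z) = 0 := by
    rw [← hm, ← puSec_map]
    refine (congrArg (fun q => mp q _ (puSec (𝔛.gInv h.1 0) (𝔛.OshProj h.1 0) 𝔊 m)) hπ).trans ?_
    refine (puSec_map (𝔛.gInv h.1 0) (𝔛.OshProj h.1 0) (0 : 𝔊 ⟶ ℭ) m).trans ?_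
    exact ModPull.pu_zero _ _
  rw [puSec_res] at h1
  have h2 := congrArg (gm ((rmor (𝔛.gInv h.1 0) (𝔛.OshProj h.1 0)).pull.obj ℭ)
    (show y ∈ (Opens.map (𝔛.gInv h.1 0)).obj W from hyW)) h1
  simp only [RngSp.gm_res, RngSp.gm_zero] at h2
  rw [RngSp.gm_zero]
  exact h2

theorem epi_of_epi_pull (𝔉 𝔊 : FSch.ModF 𝔛 h.1) (h𝔉 : FSch.IsCohF 𝔛 h.1 𝔉) (h𝔊 : FSch.IsCohF 𝔛 h.1 𝔊)
    (θ : 𝔉 ⟶ 𝔊) [Epi ((FSch.levelMor 𝔛 h.1 0).pull.map θ)] : Epi θ := by
  have hC : IsFP (cokernel θ) :=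
    isFP_of_epi (good h) h𝔊 (isQC_cokernel (good h) (isQC_of_isFP h𝔉) (isQC_of_isFP h𝔊) θ) (cokernel.π θ)
  refine Abelian.epi_of_cokernel_π_eq_zero θ (SheafOfModules.hom_ext (PresheafOfModules.Hom.ext (funext fun A =>
    ModuleCat.hom_ext (LinearMap.ext fun z => eq_of_gm fun x hx => ?_))))
  obtain ⟨U, hU, -, ι, hι, t, N, hxU, hm⟩ := exists_finite_model (good h) (isQC_of_isFP hC) (isFT_of_isFP hC)
    (show x ∈ (⊤ : (𝔛.X 0).Opens) from trivial)
  haveI := isNoetherianRing_Ox h hU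
  haveI := isAdicComplete_Ox h hU
  haveI : ∀ k, IsLocallyNoetherian (𝔛.X k) := h.2.2
  have hlev := isModel_lvP h 0 hm
  classical
  have hN : (⊤ : Submodule (Ox h U) (ι →₀ Ox h U)) ≤ N := by
    refine Submodule.le_of_le_smul_of_le_jacobson_bot (I := J h U) Module.Finite.fg_top
      (IsAdicComplete.le_jacobson_bot (J h U)) ?_
    have hker := ker_pr h hU 0
    rw [pow_one] at hker
    intro v _
    rw [← v.sum_single]
    refine Submodule.sum_mem _ fun i _ => ?_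
    rw [← mul_one (v i), ← smul_eq_mul, ← Finsupp.smul_single]
    refine Submodule.smul_mem _ _ ?_
    rw [← hker]
    refine mem_pN_of_surjective _ (pr_surjective h hU 0) ?_
    refine (hlev.cmb_eq_zero_iff (schGood (𝔛.X 0)) (affine_lvU h hU 0)).1 ?_
    rw [pv, Finsupp.mapRange_single, map_one, cmb]
    refine (Finsupp.sum_single_index ?_).trans ?_
    · exact zero_smul (fns (𝔛.X 0).sheaf (𝔛.lvU h.1 0 U))
        (show (lvP h 0 (cokernel θ)).val.obj (op (𝔛.lvU h.1 0 U)) from puL h 0 (cokernel θ) (t i))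
    · exact (one_smul (fns (𝔛.X 0).sheaf (𝔛.lvU h.1 0 U))
        (show (lvP h 0 (cokernel θ)).val.obj (op (𝔛.lvU h.1 0 U)) from puL h 0 (cokernel θ) (t i))).trans
        (puL_eq_zero_of_epi h θ (cokernel.π θ) (cokernel.condition θ) (t i))
  change gm (cokernel θ) hx (mp (cokernel.π θ) A.unop z) = gm (cokernel θ) hx (0 : (cokernel θ).val.obj A)
  obtain ⟨w, hw⟩ := hm.gen x hxU (gm (cokernel θ) hx (mp (cokernel.π θ) A.unop z))
  rw [RngSp.gm_zero, ← hw, hm.rel x hxU]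
  have h1 : ∀ i, Finsupp.single i (1 : St (𝔛.Osh h.1) x) ∈ pN (gH (𝔛.Osh h.1) hxU) N := fun i => by
    have := pv_mem_pN (gH (𝔛.Osh h.1) hxU) (hN (Submodule.mem_top (x := Finsupp.single i 1)))
    rwa [pv, Finsupp.mapRange_single, map_one] at this
  rw [← w.sum_single]
  refine Submodule.sum_mem _ fun i _ => ?_
  rw [← mul_one (w i), ← smul_eq_mul, ← Finsupp.smul_single]
  exact Submodule.smul_mem _ _ (h1 i)

end Groth.Agent.H9FCoh
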