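import Groth.Agent.H9FCoh.Compl
import Groth.Agent.H9FCoh.PullEpi
import Groth.Agent.H9ComplFlat.Basic
import Groth.Agent.H9FCoh.Lin2

/-!
# Exactness of completion on coherent modules
-/

set_option autoImplicit false
set_option backward.isDefEq.respectTransparency false
set_option backward.isDefEq.respectTransparency.types false
set_option linter.style.haveILetI false

universe u

open CategoryTheory CategoryTheory.Limits AlgebraicGeometry Opposite TopologicalSpace
open Groth.Agent.ClosedRinged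
open Groth.Agent.RngSp (pt gm mp fns)

noncomputable section

namespace Groth.Agent.H9FCoh

theorem colMap_comp {A B C : Type u} [CommRing A] [CommRing B] [CommRing C] (φ : A →+* B) (ψ : B →+* C)
    {ι κ : Type u} (col : ι → κ →₀ A) :
    colMap ψ (fun i => pv φ (col i)) = colMap (ψ.comp φ) col := by
  simp only [colMap, pv_comp]

variable {𝔛 : FSch.Sys.{u}} (h : 𝔛.IsLocNoethFormal) {X : Scheme.{u}} (p : ∀ n, 𝔛.X n ⟶ X)
  (hp : ∀ n, 𝔛.ι n ≫ p (n + 1) = p n) [IsLocallyNoetherian X] [IsAffineHom (p 0)]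

theorem mono_cMor_pull_map (hflat : ∀ V : X.Opens, IsAffineOpen V → (shC h p hp V).Flat)
    {F F' : X.Modules} (f : F ⟶ F') [Mono f] (hc : Coh.IsCoh F) (hc' : Coh.IsCoh F') :
    Mono ((cMor h p hp).pull.map f) := by
  haveI : Mono (C := ModSite.Mod (X.sheaf)) f := inferInstanceAs (Mono f)
  refine ModPull.mono_of_app_eq_zero _ fun W z hz => eq_of_gm fun x hx => ?_
  obtain ⟨U₁, hU₁, -, ι, hι, t, N, hxU₁, hm⟩ := exists_finite_model (schGood X) hc.1 hc.2
    (show p 0 x ∈ (⊤ : X.Opens) from trivial)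
  obtain ⟨U, hU, hUU₁, κ, hκ, t', N', hxU, hm'⟩ := exists_finite_model (schGood X) hc'.1 hc'.2 hxU₁
  have hmU := hm.mono hUU₁
  choose col hcol using fun i => hm'.exists_cmb (schGood X) hU (mp f U (res F hUU₁ (t i)))
  have hker : N'.comap (Finsupp.linearCombination (Fn X.sheaf U) col) ≤ pN (rr X.sheaf hUU₁) N := by
    intro v hv
    refine (hmU.cmb_eq_zero_iff (schGood X) hU).1 (eq_of_gm fun y hy => fx_injective (M := F) (M' := F') f y ?_)
    rw [fx_gm, fx_gm, mp_cmb, map_zero, gm_cmb, RngSp.gm_zero]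
    simp only [← hcol]
    rw [gcmb_cmb, colMap_pv]
    exact (hm'.rel y hy _).2 (pv_mem_pN _ hv)
  have hP : IsModel ((cMor h p hp).pull.obj F) (cU p U) (fun i => puC h p hp F (res F hUU₁ (t i)))
      (pN (shC h p hp U) (pN (rr X.sheaf hUU₁) N)) :=
    isModel_pull (p 0).base (FSch.schSharp 𝔛 h.1 p hp) hmU
  have hP' : IsModel ((cMor h p hp).pull.obj F') (cU p U) (fun k => puC h p hp F' (t' k))
      (pN (shC h p hp U) N') :=
    isModel_pull (p 0).base (FSch.schSharp 𝔛 h.1 p hp) hm'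
  have hxU' : x ∈ cU p U := hxU
  obtain ⟨w, hw⟩ := hP.gen x hxU' (gm _ hx z)
  have hcol' : ∀ i, mp ((cMor h p hp).pull.map f) (cU p U) (puC h p hp F (res F hUU₁ (t i))) =
      cmb (O := 𝔛.Osh h.1) (fun k => puC h p hp F' (t' k)) (pv (shC h p hp U) (col i)) := fun i => by
    refine (puSec_map (p 0).base (FSch.schSharp 𝔛 h.1 p hp) f _).trans ?_
    rw [← hcol i]
    exact puSec_cmb (p 0).base (FSch.schSharp 𝔛 h.1 p hp) F' t' (col i)
  have h0 : fx ((cMor h p hp).pull.map f) x (gm _ hx z) = 0 := by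
    rw [fx_gm]
    exact (congrArg (gm _ hx) hz).trans (RngSp.gm_zero hx)
  rw [← hw, fx_model _ hcol' hxU' w, colMap_comp] at h0
  have h1 := (hP'.rel x hxU' _).1 h0
  have h2 := mem_pN_comap_col _
    ((hflat U hU).comp ((good h).flat (cU p U) (hU.preimage _) x hxU')) col (pN_pN_le _ _ _ h1)
  rw [RngSp.gm_zero, ← hw, hP.rel x hxU']
  refine pN_pN _ _ _ ((Submodule.span_mono (Set.image_mono hker) :
    pN ((gH (𝔛.Osh h.1) hxU').comp (shC h p hp U)) _ ≤ _) h2)

theorem toCompl_natural {F F' : X.Modules} (f : F ⟶ F') (φ : plMod p hp F ⟶ plMod p hp F')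
    (hφ : ∀ k, φ.app k = (Scheme.Modules.pullback (p k)).map f) :
    toCompl h p hp F ≫ FSch.ModSys.realModMap h.1 φ = (cMor h p hp).pull.map f ≫ toCompl h p hp F' := by
  refine limit.hom_ext fun j => ((cMor h p hp).adj.homEquiv _ _).injective ?_
  have e1 : FSch.ModSys.realModMap h.1 φ ≫ FSch.realProj 𝔛 h.1 _ _ j.unop =
      FSch.realProj 𝔛 h.1 _ _ j.unop ≫ (FSch.levelMor 𝔛 h.1 j.unop).push.map (φ.app j.unop) :=
    FSch.realLimMap_realProj 𝔛 h.1 φ.app (FSch.ModSys.Hom.toPush_comm φ) j.unop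
  change (cMor h p hp).adj.homEquiv _ _ ((toCompl h p hp F ≫ FSch.ModSys.realModMap h.1 φ) ≫
      FSch.realProj 𝔛 h.1 _ _ j.unop) =
    (cMor h p hp).adj.homEquiv _ _ (((cMor h p hp).pull.map f ≫ toCompl h p hp F') ≫
      FSch.realProj 𝔛 h.1 _ _ j.unop)
  rw [Category.assoc, Category.assoc, e1, ← Category.assoc, Adjunction.homEquiv_naturality_right,
    Adjunction.homEquiv_naturality_left, Adjunction.homEquiv_naturality_right,
    Adjunction.homEquiv_naturality_right, toCompl_realProj, toCompl_realProj, hφ]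
  have n1 := (Scheme.Modules.pullbackPushforwardAdjunction (p j.unop)).unit.naturality f
  have n2 := (FSch.schPushCompare 𝔛 h.1 p hp j.unop).naturality ((Scheme.Modules.pullback (p j.unop)).map f)
  simp only [compC, Category.assoc]
  refine (congrArg (_ ≫ ·) n2.symm).trans ?_
  exact ((Category.assoc _ _ _).symm.trans (congrArg (· ≫ _) n1.symm)).trans (Category.assoc _ _ _)

theorem exists_shortExact_realModMap (hflat : ∀ V : X.Opens, IsAffineOpen V → (shC h p hp V).Flat)
    (S : ShortComplex X.Modules) (hS : S.ShortExact) (h1 : Coh.IsCoh S.X₁) (h2 : Coh.IsCoh S.X₂)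
    (h3 : Coh.IsCoh S.X₃) (φ : plMod p hp S.X₁ ⟶ plMod p hp S.X₂) (ψ : plMod p hp S.X₂ ⟶ plMod p hp S.X₃)
    (hφ : ∀ k, φ.app k = (Scheme.Modules.pullback (p k)).map S.f)
    (hψ : ∀ k, ψ.app k = (Scheme.Modules.pullback (p k)).map S.g) :
    ∃ w : FSch.ModSys.realModMap h.1 φ ≫ FSch.ModSys.realModMap h.1 ψ = 0,
      (ShortComplex.mk _ _ w).ShortExact := by
  haveI := hS.mono_f
  haveI := hS.epi_g
  haveI := isIso_toCompl h p hp S.X₁ h1
  haveI := isIso_toCompl h p hp S.X₂ h2
  haveI := isIso_toCompl h p hp S.X₃ h3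
  haveI : ((cMor h p hp).pull).Additive := ModPull.additive_pull (cMor h p hp)
  let S' := S.map (cMor h p hp).pull
  haveI : Mono S'.f := mono_cMor_pull_map h p hp hflat S.f h1 h2
  haveI : Epi (C := ModSite.Mod (X.sheaf)) S.g := inferInstanceAs (Epi S.g)
  haveI : Functor.PreservesEpimorphisms (cMor h p hp).pull :=
    Functor.preservesEpimorphisms_of_adjunction (cMor h p hp).adj
  haveI : Epi S'.g := (cMor h p hp).pull.map_epi S.g
  haveI : PreservesColimitsOfSize.{0, 0} (cMor h p hp).pull := (cMor h p hp).adj.leftAdjoint_preservesColimits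
  haveI : PreservesColimit (parallelPair S.f 0) (cMor h p hp).pull := inferInstance
  have hS' : S'.ShortExact := ShortComplex.ShortExact.mk'
    (hS.exact.map_of_epi_of_preservesCokernel (cMor h p hp).pull inferInstance inferInstance) inferInstance
      inferInstance
  have n1 := toCompl_natural h p hp S.f φ hφ
  have n2 := toCompl_natural h p hp S.g ψ hψ
  have w : FSch.ModSys.realModMap h.1 φ ≫ FSch.ModSys.realModMap h.1 ψ = 0 := by
    rw [← cancel_epi (toCompl h p hp S.X₁), comp_zero, ← Category.assoc, n1, Category.assoc, n2,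
      ← Category.assoc]
    exact (congrArg (· ≫ _) S'.zero).trans zero_comp
  exact ⟨w, ShortComplex.shortExact_of_iso (ShortComplex.isoMk (S₁ := S') (S₂ := ShortComplex.mk _ _ w)
    (asIso (toCompl h p hp S.X₁)) (asIso (toCompl h p hp S.X₂)) (asIso (toCompl h p hp S.X₃)) n1 n2) hS'⟩

end Groth.Agent.H9FCoh
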