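import Groth.Agent.H9FCoh.AlgzHom
import Groth.Agent.H9FCoh.ComplExact
import Groth.Agent.QCoh.DevissageP
import Groth.Agent.QCoh.SupportFT

/-!
# Completion as an exact functor on coherent modules
-/

set_option autoImplicit false
set_option backward.isDefEq.respectTransparency false
set_option backward.isDefEq.respectTransparency.types false
set_option linter.style.haveILetI false

universe u

open CategoryTheory CategoryTheory.Limits AlgebraicGeometry Opposite TopologicalSpace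

noncomputable section

namespace Groth.Agent.H9FCoh

open Groth.Agent

variable {X : Scheme.{u}} (𝓘 : X.IdealSheafData) (hX : (FSch.completionAlong X 𝓘).IsFormal)

/-- Inverse image to the completion. -/
abbrev toHatF : X.Modules ⥤ FSch.ModF (FSch.completionAlong X 𝓘) hX :=
  (FSch.toSchemeMor (FSch.completionAlong X 𝓘) hX (FSch.completionToX X 𝓘)
    (FSch.completionToX_comm X 𝓘)).pull

instance isLeftAdjoint_toHatF : (toHatF 𝓘 hX).IsLeftAdjoint :=
  (FSch.toSchemeMor (FSch.completionAlong X 𝓘) hX (FSch.completionToX X 𝓘)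
    (FSch.completionToX_comm X 𝓘)).adj.isLeftAdjoint

variable [IsLocallyNoetherian X]

/-- The completion of a coherent module is its inverse image. -/
def hatIso (F : X.Modules) (hF : Coh.IsCoh F) :
    (toHatF 𝓘 hX).obj F ≅ (FSch.complMod 𝓘 F).realMod hX :=
  haveI := FComplLib.isLocNoethFormal_completionAlong 𝓘
  @asIso _ _ _ _ _ (isIso_toCompl (FComplLib.isLocNoethFormal_completionAlong 𝓘) (FSch.completionToX X 𝓘)
    (FSch.completionToX_comm X 𝓘) F hF)

theorem hatIso_natural {F G : X.Modules} (hF : Coh.IsCoh F) (hG : Coh.IsCoh G) (u : F ⟶ G) :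
    (toHatF 𝓘 hX).map u ≫ (hatIso 𝓘 hX G hG).hom =
      (hatIso 𝓘 hX F hF).hom ≫ FSch.ModSys.realModMap hX (FSch.complModMap 𝓘 u) :=
  (toCompl_natural (FComplLib.isLocNoethFormal_completionAlong 𝓘) (FSch.completionToX X 𝓘)
    (FSch.completionToX_comm X 𝓘) u (FSch.complModMap 𝓘 u) fun _ => rfl).symm

theorem isCoh_complMod {F : X.Modules} (hF : Coh.IsCoh F) : (FSch.complMod 𝓘 F).IsCoh := fun n =>
  ⟨QCoh.isQCoh_pullback (FSch.completionToX X 𝓘 n) hF.1, QCoh.isFT_pullback (FSch.completionToX X 𝓘 n) hF.1 hF.2⟩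

theorem mono_toHatF {F G : X.Modules} (hF : Coh.IsCoh F) (hG : Coh.IsCoh G) (u : F ⟶ G) [Mono u] :
    Mono ((toHatF 𝓘 hX).map u) := by
  haveI : IsAffineHom (FSch.completionToX X 𝓘 0) := inferInstance
  exact mono_cMor_pull_map (FComplLib.isLocNoethFormal_completionAlong 𝓘) (FSch.completionToX X 𝓘)
    (FSch.completionToX_comm X 𝓘) (fun V hV => H9ComplFlat.flat_app X 𝓘 hX ⟨V, hV⟩) u hF hG

theorem isCoh_kernel {F G : X.Modules} (hF : Coh.IsCoh F) (hG : Coh.IsCoh G) (u : F ⟶ G) :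
    Coh.IsCoh (kernel u) := QCoh.isCoh_kernel hF hG u

theorem isCoh_cokernel {F G : X.Modules} (hF : Coh.IsCoh F) (hG : Coh.IsCoh G) (u : F ⟶ G) :
    Coh.IsCoh (cokernel u) := QCoh.isCoh_cokernel hF.1 hG u

theorem isCoh_image {F G : X.Modules} (hF : Coh.IsCoh F) (hG : Coh.IsCoh G) (u : F ⟶ G) :
    Coh.IsCoh (Abelian.image u) := isCoh_kernel hG (isCoh_cokernel hF hG u) _

/-- Kernel, image and cokernel of an inverse image to the completion. -/
theorem toHatF_pieces {F G : X.Modules} (hF : Coh.IsCoh F) (hG : Coh.IsCoh G) (u : F ⟶ G) :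
    Nonempty (kernel ((toHatF 𝓘 hX).map u) ≅ (toHatF 𝓘 hX).obj (kernel u)) ∧
    Nonempty (Abelian.image ((toHatF 𝓘 hX).map u) ≅ (toHatF 𝓘 hX).obj (Abelian.image u)) ∧
    Nonempty (cokernel ((toHatF 𝓘 hX).map u) ≅ (toHatF 𝓘 hX).obj (cokernel u)) := by
  let P := toHatF 𝓘 hX
  let p := Abelian.factorThruImage u
  let m := Abelian.image.ι u
  have hI := isCoh_image hF hG u
  haveI : Mono (P.map m) := mono_toHatF 𝓘 hX hI hG m
  haveI : Epi (P.map p) := inferInstance
  haveI : StrongEpi (P.map p) := strongEpi_of_epi _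
  haveI : Mono (P.map (kernel.ι u)) := mono_toHatF 𝓘 hX (isCoh_kernel hF hG u) hF _
  have hw : kernel.ι u ≫ p = 0 := by
    rw [← cancel_mono m, Category.assoc, Abelian.image.fac, kernel.condition, zero_comp]
  have hS : (ShortComplex.mk (kernel.ι u) p hw).Exact := by
    refine ShortComplex.exact_of_f_is_kernel _ ?_
    refine KernelFork.IsLimit.ofι _ _ (fun {W} k hk => kernel.lift u k (by
        rw [← Abelian.image.fac u, ← Category.assoc, hk, zero_comp]))
      (fun {W} k hk => kernel.lift_ι _ _ _) fun {W} k hk l hl => ?_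
    rw [← cancel_mono (kernel.ι u), hl, kernel.lift_ι]
  haveI : Epi (ShortComplex.mk (kernel.ι u) p hw).g := inferInstanceAs (Epi p)
  have hPS : ((ShortComplex.mk (kernel.ι u) p hw).map P).Exact :=
    ShortComplex.exact_of_g_is_cokernel _ (CokernelCofork.mapIsColimit _ hS.gIsCokernel P)
  haveI : Mono ((ShortComplex.mk (kernel.ι u) p hw).map P).f := inferInstanceAs (Mono (P.map (kernel.ι u)))
  exact ⟨⟨(kernelIsoOfEq (by rw [← P.map_comp, Abelian.image.fac] : P.map u = P.map p ≫ P.map m)) ≪≫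
        kernelCompMono _ _ ≪≫ ((kernelIsKernel _).conePointUniqueUpToIso hPS.fIsKernel)⟩,
    ⟨(Abelian.imageIsoImage _).trans ((image.isoStrongEpiMono (P.map p) (P.map m)
      (by rw [← P.map_comp, Abelian.image.fac])).symm)⟩,
    ⟨(PreservesCokernel.iso P u).symm⟩⟩

section Base

variable {A : Type u} [CommRing A] [IsNoetherianRing A] (J : Ideal A) [IsAdicComplete J A]
  (f : X ⟶ Spec (CommRingCat.of A)) [LocallyOfFiniteType f] [QuasiCompact f]

/-- Maps between completions of coherent modules with proper common support come from unique maps. -/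
theorem bijective_toHatF_map (h𝓘 : 𝓘 = (FSch.idealSpec A J).comap f) {F G : X.Modules} (hF : Coh.IsCoh F)
    (hG : Coh.IsCoh G) (hs : ClSub.IsProperOver f (CohB1.support F ∩ CohB1.support G)) :
    Function.Bijective fun φ : F ⟶ G => (toHatF 𝓘 hX).map φ := by
  have h1 := Groth.Agent.S13337.result (FSch.completionAlong X 𝓘) (FComplLib.isLocNoethFormal_completionAlong 𝓘)
    _ _ (isCoh_complMod 𝓘 hF) (isCoh_complMod 𝓘 hG)
  have h2 := h1.comp (bijective_complModMap 𝓘 J f h𝓘 hF hG hs)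
  let e := Iso.homCongr (hatIso 𝓘 hX F hF) (hatIso 𝓘 hX G hG)
  refine (Function.Bijective.of_comp_iff' e.bijective _).1 ?_
  convert h2 using 1
  funext φ
  simp only [Function.comp_apply, e, Iso.homCongr_apply]
  rw [hatIso_natural 𝓘 hX hF hG, Iso.inv_hom_id_assoc]

theorem isProperOver_closed_subset {C D : Set X} (hD : ClSub.IsProperOver f D) (hC : IsClosed C) (h : C ⊆ D) :
    ClSub.IsProperOver f C := by
  obtain ⟨hD', hP⟩ := hD
  haveI := hP
  exact QCoh.isProperOver_of_subset _ hC (h.trans (QCoh.range_vanishing hD').ge)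

theorem isProperOver_support {F : X.Modules} (hF : Coh.IsCoh F) {D : Set X} (hD : ClSub.IsProperOver f D)
    (h : CohB1.support F ⊆ D) : ClSub.IsProperOver f (CohB1.support F) :=
  isProperOver_closed_subset f hD (QCoh.isClosed_support_of_isFT hF.1 hF.2) h

/-- Kernel, image and cokernel of a morphism of algebraizable modules. -/
theorem algebraizable_pieces (h𝓘 : 𝓘 = (FSch.idealSpec A J).comap f)
    {𝔉 𝔊 : FSch.ModF (FSch.completionAlong X 𝓘) hX}
    (h𝔉 : ∃ G : X.Modules, Coh.IsCoh G ∧ ClSub.IsProperOver f (CohB1.support G) ∧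
        Nonempty (𝔉 ≅ (FSch.complMod 𝓘 G).realMod hX))
    (h𝔊 : ∃ G : X.Modules, Coh.IsCoh G ∧ ClSub.IsProperOver f (CohB1.support G) ∧
        Nonempty (𝔊 ≅ (FSch.complMod 𝓘 G).realMod hX)) (u : 𝔉 ⟶ 𝔊) :
    (∃ G : X.Modules, Coh.IsCoh G ∧ ClSub.IsProperOver f (CohB1.support G) ∧
        Nonempty (kernel u ≅ (FSch.complMod 𝓘 G).realMod hX)) ∧
    (∃ G : X.Modules, Coh.IsCoh G ∧ ClSub.IsProperOver f (CohB1.support G) ∧
        Nonempty (Abelian.image u ≅ (FSch.complMod 𝓘 G).realMod hX)) ∧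
    (∃ G : X.Modules, Coh.IsCoh G ∧ ClSub.IsProperOver f (CohB1.support G) ∧
        Nonempty (cokernel u ≅ (FSch.complMod 𝓘 G).realMod hX)) := by
  obtain ⟨F, hF, hFp, ⟨a⟩⟩ := h𝔉
  obtain ⟨G, hG, hGp, ⟨b⟩⟩ := h𝔊
  let a' := a ≪≫ (hatIso 𝓘 hX F hF).symm
  let b' := b ≪≫ (hatIso 𝓘 hX G hG).symm
  obtain ⟨φ, hφ⟩ := (bijective_toHatF_map 𝓘 hX J f h𝓘 hF hG
    (isProperOver_closed_subset f hFp ((QCoh.isClosed_support_of_isFT hF.1 hF.2).inter
      (QCoh.isClosed_support_of_isFT hG.1 hG.2)) Set.inter_subset_left)).2 (a'.inv ≫ u ≫ b'.hom)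
  have hu : u ≫ b'.hom = a'.hom ≫ (toHatF 𝓘 hX).map φ := by
    change _ = a'.hom ≫ _
    rw [show (toHatF 𝓘 hX).map φ = a'.inv ≫ u ≫ b'.hom from hφ, Iso.hom_inv_id_assoc]
  obtain ⟨⟨k⟩, ⟨i⟩, ⟨c⟩⟩ := toHatF_pieces 𝓘 hX hF hG φ
  have hK := isCoh_kernel hF hG φ
  have hC := isCoh_cokernel hF hG φ
  have hI := isCoh_image hF hG φ
  let kk := kernel.mapIso u ((toHatF 𝓘 hX).map φ) a' b' hu
  let cc := cokernel.mapIso u ((toHatF 𝓘 hX).map φ) a' b' hu
  let ii : Abelian.image u ≅ Abelian.image ((toHatF 𝓘 hX).map φ) :=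
    kernel.mapIso _ _ b' cc (by simp [cc])
  refine ⟨⟨_, hK, isProperOver_support f hK hFp (QCoh.mem_support_of_mono hK.1 hF.1 (kernel.ι φ)),
      ⟨kk ≪≫ k ≪≫ hatIso 𝓘 hX _ hK⟩⟩,
    ⟨_, hI, isProperOver_support f hI hGp (QCoh.mem_support_of_mono hI.1 hG.1 (Abelian.image.ι φ)),
      ⟨ii ≪≫ i ≪≫ hatIso 𝓘 hX _ hI⟩⟩,
    ⟨_, hC, isProperOver_support f hC hGp (QCoh.support_of_epi hG.1 hC.1 (cokernel.π φ)),
      ⟨cc ≪≫ c ≪≫ hatIso 𝓘 hX _ hC⟩⟩⟩

end Base

end Groth.Agent.H9FCoh
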