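import Groth.Agent.H9FCoh.AlgzEss
import Groth.Agent.QCoh.ProperOver2

/-!
# Extensions of algebraizable modules
-/

set_option autoImplicit false
set_option backward.isDefEq.respectTransparency false
set_option backward.isDefEq.respectTransparency.types false
set_option linter.style.haveILetI false

universe u

open CategoryTheory CategoryTheory.Limits AlgebraicGeometry Opposite TopologicalSpace

noncomputable section

namespace Groth.Agent.H9FCoh

open Groth.Agent

theorem kernel_image_shortExact {C : Type*} [Category C] [Abelian C] {M N : C} (u : M ⟶ N) :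
    ∃ w : kernel.ι u ≫ Abelian.factorThruImage u = 0,
      (ShortComplex.mk (kernel.ι u) (Abelian.factorThruImage u) w).ShortExact := by
  have hw : kernel.ι u ≫ Abelian.factorThruImage u = 0 := by
    rw [← cancel_mono (Abelian.image.ι u), Category.assoc, Abelian.image.fac, kernel.condition, zero_comp]
  refine ⟨hw, { exact := ShortComplex.exact_of_f_is_kernel _ (KernelFork.IsLimit.ofι _ _
    (fun {W} k hk => kernel.lift u k (by rw [← Abelian.image.fac u, ← Category.assoc, hk, zero_comp]))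
    (fun {W} k hk => kernel.lift_ι _ _ _) fun {W} k hk l hl => by
      rw [← cancel_mono (kernel.ι u), hl, kernel.lift_ι]) }⟩

variable {X : Scheme.{u}} (𝓘 : X.IdealSheafData) [IsLocallyNoetherian X]
  (hX : (FSch.completionAlong X 𝓘).IsFormal)

/-- The level zero of the inverse image. -/
abbrev levelZero : FSch.ModF (FSch.completionAlong X 𝓘) hX ⥤ ((FSch.completionAlong X 𝓘).X 0).Modules :=
  (FSch.levelMor (FSch.completionAlong X 𝓘) hX 0).pull

instance isLeftAdjoint_levelZero : (levelZero 𝓘 hX).IsLeftAdjoint :=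
  (FSch.levelMor (FSch.completionAlong X 𝓘) hX 0).adj.isLeftAdjoint

theorem support_levelZero {𝔉 : FSch.ModF (FSch.completionAlong X 𝓘) hX} {G : X.Modules} (hG : Coh.IsCoh G)
    (e : 𝔉 ≅ (FSch.complMod 𝓘 G).realMod hX) :
    CohB1.support ((levelZero 𝓘 hX).obj 𝔉) = (FSch.completionToX X 𝓘 0).base ⁻¹' CohB1.support G := by
  have hi := Groth.Agent.S13336.result (FSch.completionAlong X 𝓘) (FComplLib.isLocNoethFormal_completionAlong 𝓘)
    (FSch.complMod 𝓘 G) (isCoh_complMod 𝓘 hG) 0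
  let c : (levelZero 𝓘 hX).obj 𝔉 ≅ (Scheme.Modules.pullback (FSch.completionToX X 𝓘 0)).obj G :=
    (levelZero 𝓘 hX).mapIso e ≪≫ @asIso _ _ _ _ (((FSch.levelMor (FSch.completionAlong X 𝓘)
      (FComplLib.isLocNoethFormal_completionAlong 𝓘).1 0).adj.homEquiv _ _).symm
      (FSch.realProj (FSch.completionAlong X 𝓘) (FComplLib.isLocNoethFormal_completionAlong 𝓘).1
        (FSch.complMod 𝓘 G).F (FSch.complMod 𝓘 G).toPush 0)) hi
  rw [← QCoh.support_pullback _ hG.1 hG.2]
  exact QCoh.support_iso c ((QCoh.isQCoh_iff_iso c).2 (QCoh.isQCoh_pullback _ hG.1))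

theorem support_levelZero_subset_union (S : ShortComplex (FSch.ModF (FSch.completionAlong X 𝓘) hX))
    (hS : S.ShortExact) (h₁ : FSch.IsCohF _ hX S.X₁) (h₂ : FSch.IsCohF _ hX S.X₂) (h₃ : FSch.IsCohF _ hX S.X₃) :
    CohB1.support ((levelZero 𝓘 hX).obj S.X₂) ⊆
      CohB1.support ((levelZero 𝓘 hX).obj S.X₁) ∪ CohB1.support ((levelZero 𝓘 hX).obj S.X₃) := by
  have hN := FComplLib.isLocNoethFormal_completionAlong 𝓘
  haveI := hN.2.2 0
  have q1 : Coh.IsCoh ((levelZero 𝓘 hX).obj S.X₁) := isCoh_pullSys hN S.X₁ h₁ 0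
  have q2 : Coh.IsCoh ((levelZero 𝓘 hX).obj S.X₂) := isCoh_pullSys hN S.X₂ h₂ 0
  have q3 : Coh.IsCoh ((levelZero 𝓘 hX).obj S.X₃) := isCoh_pullSys hN S.X₃ h₃ 0
  let a := (levelZero 𝓘 hX).map S.f
  let b := (levelZero 𝓘 hX).map S.g
  haveI : Epi S.g := hS.epi_g
  haveI : Epi b := inferInstance
  have hab : (S.map (levelZero 𝓘 hX)).Exact :=
    ShortComplex.exact_of_g_is_cokernel _ (CokernelCofork.mapIsColimit _ hS.exact.gIsCokernel (levelZero 𝓘 hX))
  have hw : Abelian.image.ι a ≫ b = 0 := by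
    rw [← cancel_epi (Abelian.factorThruImage a), ← Category.assoc, Abelian.image.fac, comp_zero]
    exact (S.map (levelZero 𝓘 hX)).zero
  have hT : (ShortComplex.mk (Abelian.image.ι a) b hw).ShortExact := by
    haveI : Epi (ShortComplex.mk (Abelian.image.ι a) b hw).g := inferInstanceAs (Epi b)
    haveI : Mono (ShortComplex.mk (Abelian.image.ι a) b hw).f := inferInstanceAs (Mono (Abelian.image.ι a))
    refine { exact := ?_ }
    let φ : S.map (levelZero 𝓘 hX) ⟶ ShortComplex.mk (Abelian.image.ι a) b hw :=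
      { τ₁ := Abelian.factorThruImage a
        τ₂ := 𝟙 _
        τ₃ := 𝟙 _
        comm₁₂ := (Abelian.image.fac a).trans (Category.comp_id _).symm
        comm₂₃ := (Category.id_comp _).trans (Category.comp_id _).symm }
    haveI : Epi φ.τ₁ := inferInstanceAs (Epi (Abelian.factorThruImage a))
    haveI : IsIso φ.τ₂ := inferInstanceAs (IsIso (𝟙 _))
    haveI : Mono φ.τ₃ := inferInstanceAs (Mono (𝟙 _))
    exact (ShortComplex.exact_iff_of_epi_of_isIso_of_mono φ).1 hab
  have hI := isCoh_image q1 q2 a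
  refine (QCoh.support_subset_union hT hI.1 q2.1 q3.1).trans (Set.union_subset_union_left _ ?_)
  exact QCoh.support_of_epi q1.1 hI.1 (Abelian.factorThruImage a)

section Base

variable {A : Type u} [CommRing A] [IsNoetherianRing A] (J : Ideal A) [IsAdicComplete J A]
  (f : X ⟶ Spec (CommRingCat.of A)) [LocallyOfFiniteType f] [QuasiCompact f] [IsSeparated f]

theorem algebraizable_extension (h𝓘 : 𝓘 = (FSch.idealSpec A J).comap f)
    (S : ShortComplex (FSch.ModF (FSch.completionAlong X 𝓘) hX)) (hS : S.ShortExact)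
    (h₁ : FSch.IsCohF _ hX S.X₁) (h₂ : FSch.IsCohF _ hX S.X₂) (h₃ : FSch.IsCohF _ hX S.X₃)
    (a₁ : ∃ G : X.Modules, Coh.IsCoh G ∧ ClSub.IsProperOver f (CohB1.support G) ∧
        Nonempty (S.X₁ ≅ (FSch.complMod 𝓘 G).realMod hX))
    (a₃ : ∃ G : X.Modules, Coh.IsCoh G ∧ ClSub.IsProperOver f (CohB1.support G) ∧
        Nonempty (S.X₃ ≅ (FSch.complMod 𝓘 G).realMod hX)) :
    ∃ G : X.Modules, Coh.IsCoh G ∧ ClSub.IsProperOver f (CohB1.support G) ∧
        Nonempty (S.X₂ ≅ (FSch.complMod 𝓘 G).realMod hX) := by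
  obtain ⟨G₁, hG₁, hs₁, ⟨e₁⟩⟩ := a₁
  obtain ⟨G₃, hG₃, hs₃, ⟨e₃⟩⟩ := a₃
  refine exists_algebraization 𝓘 J f hX h𝓘 S.X₂ h₂ ?_
  have hsub := support_levelZero_subset_union 𝓘 hX S hS h₁ h₂ h₃
  rw [support_levelZero 𝓘 hX hG₁ e₁, support_levelZero 𝓘 hX hG₃ e₃, ← Set.preimage_union] at hsub
  haveI : IsClosedImmersion (FSch.completionToX X 𝓘 0) := inferInstance
  haveI := (FComplLib.isLocNoethFormal_completionAlong 𝓘).2.2 0
  have hP : Coh.IsCoh ((levelZero 𝓘 hX).obj S.X₂) :=
    isCoh_pullSys (FComplLib.isLocNoethFormal_completionAlong 𝓘) S.X₂ h₂ 0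
  have hQ := QCoh.isCoh_pushforward_finite (FSch.completionToX X 𝓘 0) hP
  refine isProperOver_support f hQ (QCoh.IsProperOver.union hs₁ hs₃) fun x hx => ?_
  obtain ⟨z, rfl⟩ := support_pushforward_subset (FSch.completionToX X 𝓘 0) hP.1 hx
  refine hsub ?_
  haveI := AmpleVan.isIso_counit (FSch.completionToX X 𝓘 0) hP.1
  have hc : CohB1.support ((Scheme.Modules.pullback (FSch.completionToX X 𝓘 0)).obj
      ((Scheme.Modules.pushforward (FSch.completionToX X 𝓘 0)).obj ((levelZero 𝓘 hX).obj S.X₂))) =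
      CohB1.support ((levelZero 𝓘 hX).obj S.X₂) :=
    QCoh.support_iso (asIso ((Scheme.Modules.pullbackPushforwardAdjunction
      (FSch.completionToX X 𝓘 0)).counit.app _)) (QCoh.isQCoh_pullback _ hQ.1)
  rw [← hc]
  rw [QCoh.support_pullback _ hQ.1 hQ.2]
  exact hx

end Base

end Groth.Agent.H9FCoh
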