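import Groth.Agent.H9FCoh.AlgzExact
import Groth.Agent.S13336
import Groth.Agent.QCoh.AnnIdeal

/-!
# A coherent module with vanishing completion is zero
-/

set_option autoImplicit false
set_option backward.isDefEq.respectTransparency false
set_option backward.isDefEq.respectTransparency.types false
set_option linter.style.haveILetI false

universe u

open CategoryTheory CategoryTheory.Limits AlgebraicGeometry Opposite TopologicalSpace

noncomputable section

namespace Groth.Agent.H9FCoh

open Groth.Agent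

variable {X : Scheme.{u}} [IsLocallyNoetherian X] (𝓘 : X.IdealSheafData)
  (hX : (FSch.completionAlong X 𝓘).IsFormal)

theorem range_completionToX_zero {A : Type u} [CommRing A] (J : Ideal A) (f : X ⟶ Spec (CommRingCat.of A))
    (h𝓘 : 𝓘 = (FSch.idealSpec A J).comap f) :
    Set.range (FSch.completionToX X 𝓘 0) = f ⁻¹' (PrimeSpectrum.zeroLocus (J : Set A)) := by
  subst h𝓘
  rw [show Set.range (FSch.completionToX X ((FSch.idealSpec A J).comap f) 0) =
      (((FSch.idealSpec A J).comap f ^ (0 + 1)).support : Set X) from Scheme.IdealSheafData.range_subschemeι _,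
    zero_add, pow_one, Scheme.IdealSheafData.support_comap]
  change f ⁻¹' ((FSch.idealSpec A J).support : Set _) = _
  refine congrArg (f ⁻¹' ·) ?_
  haveI : IsClosedImmersion (Spec.map (CommRingCat.ofHom (Ideal.Quotient.mk J))) :=
    IsClosedImmersion.spec_of_surjective _ Ideal.Quotient.mk_surjective
  rw [show FSch.idealSpec A J = (Spec.map (CommRingCat.ofHom (Ideal.Quotient.mk J))).ker from rfl,
    Scheme.Hom.support_ker, (Scheme.Hom.isClosedEmbedding _).isClosed_range.closure_eq]
  refine (range_comap_of_surjective _ (Ideal.Quotient.mk J) Ideal.Quotient.mk_surjective).trans ?_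
  rw [Ideal.mk_ker]

theorem isZero_of_isZero_toHatF {A : Type u} [CommRing A] (J : Ideal A) [IsAdicComplete J A]
    (f : X ⟶ Spec (CommRingCat.of A)) (hf : IsClosedMap f.base) (h𝓘 : 𝓘 = (FSch.idealSpec A J).comap f)
    {K : X.Modules} (hK : Coh.IsCoh K) (h : IsZero ((toHatF 𝓘 hX).obj K)) : IsZero K := by
  have hN := FComplLib.isLocNoethFormal_completionAlong 𝓘
  have h1 : IsZero ((FSch.complMod 𝓘 K).realMod hX) := h.of_iso (hatIso 𝓘 hX K hK).symm
  haveI := (FSch.levelMor (FSch.completionAlong X 𝓘) hX 0).adj.isLeftAdjoint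
  have h2 : IsZero ((FSch.levelMor (FSch.completionAlong X 𝓘) hX 0).pull.obj ((FSch.complMod 𝓘 K).realMod hX)) :=
    Functor.map_isZero _ h1
  haveI := Groth.Agent.S13336.result (FSch.completionAlong X 𝓘) hN (FSch.complMod 𝓘 K) (isCoh_complMod 𝓘 hK) 0
  have h3 : IsZero ((Scheme.Modules.pullback (FSch.completionToX X 𝓘 0)).obj K) :=
    h2.of_iso (asIso (((FSch.levelMor (FSch.completionAlong X 𝓘) hN.1 0).adj.homEquiv _ _).symm
      (FSch.realProj (FSch.completionAlong X 𝓘) hN.1 (FSch.complMod 𝓘 K).F (FSch.complMod 𝓘 K).toPush 0))).symm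
  have h4 := QCoh.support_eq_empty_of_isZero h3 (QCoh.isQCoh_pullback _ hK.1)
  rw [QCoh.support_pullback _ hK.1 hK.2] at h4
  have h5 : CohB1.support K = ∅ := by
    by_contra hne
    obtain ⟨x, hx⟩ := Set.nonempty_iff_ne_empty.2 hne
    obtain ⟨m, hm, hxm⟩ := Ideal.exists_le_maximal _ (show (f.base x).asIdeal ≠ ⊤ from (f.base x).2.ne_top)
    let q : PrimeSpectrum A := ⟨m, hm.isPrime⟩
    have hsp : f.base x ⤳ q := (PrimeSpectrum.le_iff_specializes _ _).1 hxm
    obtain ⟨y, hy, hyq⟩ := hsp.mem_closed (hf _ (QCoh.isClosed_support_of_isFT hK.1 hK.2)) ⟨x, hx, rfl⟩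
    have hyr : y ∈ Set.range (FSch.completionToX X 𝓘 0) := by
      rw [range_completionToX_zero 𝓘 J f h𝓘, Set.mem_preimage]
      change (J : Set A) ⊆ (f.base y).asIdeal
      rw [hyq]
      exact fun a ha => Ideal.mem_sInf.1 ((IsAdicComplete.le_jacobson_bot J) ha) ⟨bot_le, hm⟩
    obtain ⟨z, rfl⟩ := hyr
    exact Set.eq_empty_iff_forall_notMem.1 h4 z hy
  exact QCoh.isZero_of_app_eq_zero hK.1 fun W s =>
    TopCat.Presheaf.section_ext ⟨K.presheaf, K.isSheaf⟩ _ _ _ fun y _ => by
      haveI : Subsingleton (K.presheaf.stalk y) := not_not.1 fun hy' => h5.le hy'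
      exact Subsingleton.elim _ _

end Groth.Agent.H9FCoh
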