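import Groth.Agent.H9FCoh.RBound
import Groth.Agent.QCoh.Bound
import Groth.Agent.TriCat.RightDerivedBridge

/-!
# Uniform bounds for the cohomology of modules with models on all affine opens
-/

set_option autoImplicit false
set_option backward.isDefEq.respectTransparency false
set_option backward.isDefEq.respectTransparency.types false
set_option linter.style.haveILetI false

universe u

open CategoryTheory CategoryTheory.Limits AlgebraicGeometry TopologicalSpace Opposite DerivedCategory Pretriangulated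

attribute [local instance] HasDerivedCategory.standard

noncomputable section

namespace Groth.Agent.H9FCoh

section Scheme

variable {X : Scheme.{u}}

/-- Abelian sheaves without higher cohomology on affine opens. -/
def AffVan (F : CohTop.Ab X.toPresheafedSpace.carrier) : Prop :=
  ∀ V : X.Opens, IsAffineOpen V → ∀ n : ℕ, Subsingleton (CohTop.HU F (n + 1) V)

/-- Vanishing on a union of `t` members of a family of affines stable under intersection. -/
theorem subsingleton_HU_iSup {F : CohTop.Ab X.toPresheafedSpace.carrier} (hF : AffVan F) (Q : X.Opens → Prop)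
    (hQa : ∀ V, Q V → IsAffineOpen V) (hQi : ∀ V W, Q V → Q W → Q (V ⊓ W)) :
    ∀ (t : ℕ) (U : Fin t → X.Opens), (∀ i, Q (U i)) → ∀ n : ℕ, t ≤ n →
      Subsingleton (CohTop.HU F n (⨆ i, U i)) := by
  intro t
  induction t with
  | zero =>
    intro U _ n _
    rw [show (⨆ i, U i) = ⊥ by simp]
    match n with
    | 0 => exact QCoh.Ab.subsingleton_HU_zero_bot _
    | n + 1 => exact hF _ (isAffineOpen_bot X) n
  | succ t ih =>
    intro U hU n hn
    obtain ⟨m, rfl⟩ := Nat.exists_eq_add_of_le (show 1 ≤ n by omega)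
    rw [Nat.add_comm, show (⨆ i, U i) = U 0 ⊔ ⨆ i : Fin t, U i.succ from
      le_antisymm (iSup_le fun i => Fin.cases le_sup_left
        (fun j => le_sup_of_le_right (le_iSup (fun i : Fin t => U i.succ) j)) i)
        (sup_le (le_iSup _ _) (iSup_le fun i => le_iSup _ _))]
    refine QCoh.Ab.subsingleton_HU_sup _ _ _ m (hF _ (hQa _ (hU 0)) m)
      (ih _ (fun i => hU i.succ) (m + 1) (by omega)) ?_
    rw [inf_iSup_eq]
    exact ih _ (fun i => hQi _ _ (hU 0) (hU i.succ)) m (by omega)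

/-- A quasi-compact quasi-separated open has cohomological dimension bounded uniformly on its
basic opens. -/
theorem exists_bound (T : X.Opens) (hT : IsCompact (T : Set X))
    (hT' : IsQuasiSeparated (T : Set X)) :
    ∃ d : ℕ, ∀ g : Γ(X, T), ∀ F : CohTop.Ab X.toPresheafedSpace.carrier, AffVan F → ∀ p, d ≤ p →
      Subsingleton (CohTop.HU F p (X.basicOpen g)) := by
  obtain ⟨s, hs, hsT⟩ := isCompact_iff_finite_and_eq_biUnion_affineOpens.mp hT
  have hle : ∀ U ∈ s, (U : X.affineOpens).1 ≤ T := fun U hU => by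
    rw [hsT]; exact le_iSup₂ (f := fun (i : X.affineOpens) (_ : i ∈ s) => (i : X.Opens)) U hU
  suffices h : ∀ s' : Set X.affineOpens, s'.Finite → s' ⊆ s → ∃ d : ℕ, ∀ g : Γ(X, T),
      ∀ F : CohTop.Ab X.toPresheafedSpace.carrier, AffVan F → ∀ p, d ≤ p →
      Subsingleton (CohTop.HU F p
        ((⨆ U ∈ s', (U : X.Opens)) ⊓ X.basicOpen g)) by
    obtain ⟨d, hd⟩ := h s hs subset_rfl
    refine ⟨d, fun g F hF p hp => ?_⟩
    have := hd g F hF p hp
    rwa [← hsT, inf_eq_right.2 (X.basicOpen_le g)] at this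
  intro s' hs'
  induction s', hs' using Set.Finite.induction_on with
  | empty =>
    refine fun _ => ⟨0, fun g F hF p _ => ?_⟩
    have h := subsingleton_HU_iSup hF (fun _ => False) (fun _ h => h.elim)
      (fun _ _ h _ => h.elim) 0 Fin.elim0 (fun i => i.elim0) p (Nat.zero_le p)
    rw [iSup_of_empty] at h
    simpa using h
  | @insert U₀ s' _ hs' ih =>
    intro hsub
    obtain ⟨d, hd⟩ := ih ((Set.subset_insert _ _).trans hsub)
    obtain ⟨U, hU⟩ := U₀
    have hUT : U ≤ T := hle ⟨U, hU⟩ (hsub (Set.mem_insert _ _))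
    let S : X.Opens := ⨆ V ∈ s', (V : X.Opens)
    have hST : S ≤ T := iSup₂_le fun V hV => hle V (hsub (Set.mem_insert_of_mem _ hV))
    have hS : IsCompact (S : Set X) :=
      isCompact_iff_finite_and_eq_biUnion_affineOpens.mpr ⟨s', hs', rfl⟩
    let K : X.Opens := S ⊓ U
    choose f hf hxf using fun x : (K : Set X) => hU.exists_basicOpen_le (V := K) ⟨x.1, x.2⟩ x.2.2
    obtain ⟨t, ht⟩ := (hT' _ _ hST S.isOpen hS hUT U.isOpen hU.isCompact :
        IsCompact (K : Set X)).elim_finite_subcover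
      (fun x => (X.basicOpen (f x) : Set X)) (fun x => (X.basicOpen (f x)).isOpen)
      (fun x hx => Set.mem_iUnion.2 ⟨⟨x, hx⟩, hxf ⟨x, hx⟩⟩)
    refine ⟨max (d + 1) (t.card + 1), fun g F hF p hp => ?_⟩
    let gU : Γ(X, U) := X.presheaf.map (homOfLE hUT).op g
    have hgU : X.basicOpen gU = U ⊓ X.basicOpen g := Scheme.basicOpen_res _ _ _
    let V : Fin t.card → X.Opens := fun i => X.basicOpen (f (t.equivFin.symm i).1 * gU)
    have hK : K ⊓ X.basicOpen g = ⨆ i, V i := by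
      refine le_antisymm (fun x hx => ?_) (iSup_le fun i => ?_)
      · obtain ⟨y, hy, hxy⟩ := Set.mem_iUnion₂.1 (ht hx.1)
        refine (le_iSup V (t.equivFin ⟨y, hy⟩)) ?_
        simp only [V, Equiv.symm_apply_apply, Scheme.basicOpen_mul, hgU]
        exact ⟨hxy, hx.1.2, hx.2⟩
      · simp only [V, Scheme.basicOpen_mul, hgU]
        exact inf_le_inf (hf _) inf_le_right
    obtain ⟨m, rfl⟩ := Nat.exists_eq_add_of_le (show 1 ≤ p by omega)
    rw [Nat.add_comm, iSup_insert, inf_sup_right]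
    refine QCoh.Ab.subsingleton_HU_sup _ _ _ m ?_ (hd g F hF _ (by omega)) ?_
    · rw [← hgU]
      exact hF _ (hU.basicOpen gU) m
    · rw [show (U ⊓ X.basicOpen g) ⊓ (S ⊓ X.basicOpen g) = ⨆ i, V i from by
        rw [← hK]
        exact le_antisymm (le_inf (le_inf (inf_le_right.trans inf_le_left)
          (inf_le_left.trans inf_le_left)) (inf_le_left.trans inf_le_right))
          (le_inf (inf_le_inf_right _ inf_le_right) (inf_le_inf_right _ inf_le_left))]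
      refine subsingleton_HU_iSup hF (fun W => ∃ g : Γ(X, U), W = X.basicOpen g) ?_ ?_ _ V
        (fun i => ⟨_, rfl⟩) m (by omega)
      · rintro _ ⟨g, rfl⟩; exact hU.basicOpen g
      · rintro _ _ ⟨g, rfl⟩ ⟨g', rfl⟩; exact ⟨g * g', (X.basicOpen_mul g g').symm⟩

end Scheme

section Modules

/-- All open coverings. -/
def allCovers (T : TopCat.{u}) : QCoh.Ab.CoverSystem T where
  Good _ := True
  Cov V _ U := (∀ i, U i ≤ V) ∧ V ≤ ⨆ i, U i
  le h := h.1
  covers h := h.2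
  inter _ _ _ := trivial
  exists_refinement {V} _ N hN := ⟨V, fun x => N x ⊓ V,
    ⟨fun _ => inf_le_right, fun x hx =>
      Opens.mem_iSup.2 ⟨⟨x, hx⟩, hN ⟨x, hx⟩, hx⟩⟩, fun x => ⟨x, inf_le_left⟩⟩

variable {T : TopCat.{u}} {O : Sheaf (Opens.grothendieckTopology T) CommRingCat.{u}}

/-- Injective modules have no higher cohomology on any open. -/
theorem subsingleton_HU_injective_mod (M : ModSite.Mod O) [Injective M] (U : Opens T) (n : ℕ) :
    Subsingleton (ModSite.HU O M (n + 1) U) :=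
  SiteBase.subsingleton_HU_of_class (fun G => (allCovers T).Acyclic G) (fun _ => True)
    (fun E hE h₁ h₂ => QCoh.Ab.Acyclic_X₃ (allCovers T) hE h₁
      fun _ _ _ U _ => @QCoh.Ab.acyclic_of_injective _ E.X₂ h₂ _ U)
    (fun _ hE h₁ _ _ _ => QCoh.Ab.sections_surjective (allCovers T) hE h₁ trivial)
    (fun _ _ _ U _ => acyclic_of_injective_mod M U) trivial n

end Modules

section Shift

variable {A B : Type (u + 1)} [Category.{u} A] [Abelian A] [EnoughInjectives A]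
  [Category.{u} B] [Abelian B] (R : A ⥤ B) [R.Additive] [PreservesFiniteLimits R]

/-- Dimension shifting for right derived functors. -/
theorem isZero_rightDerived_shift {S : ShortComplex A} (hS : S.ShortExact) [Injective S.X₂] (n : ℕ)
    (h : IsZero ((R.rightDerived (n + 1)).obj S.X₃)) : IsZero ((R.rightDerived (n + 2)).obj S.X₁) := by
  obtain ⟨δ, w₁, w₂, w₃, -, -, h₃⟩ := TriCat.exists_rightDerived_ses R hS (n + 1)
  exact h₃.isZero_X₂ (h.eq_of_src _ _)
    ((Functor.isZero_rightDerived_obj_injective_succ R (n + 1) S.X₂).eq_of_tgt _ _)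

end Shift

variable {𝔛 𝔜 : FSch.Sys.{u}} (h𝔛 : 𝔛.IsLocNoethFormal) (h𝔜 : 𝔜.IsFormal) (g : 𝔛 ⟶ 𝔜)

/-- Vanishing on preimages of small opens bounds the higher direct images of modules. -/
theorem isZero_RpushF_of_bound [HasInjectiveResolutions (FSch.ModF 𝔛 h𝔛.1)]
    (B : (𝔜.X 0).Opens → Prop) (hB : ∀ (U : (𝔜.X 0).Opens) (y : 𝔜.X 0), y ∈ U → ∃ W, W ≤ U ∧ y ∈ W ∧ B W) :
    ∀ (k : ℕ) (M : FSch.ModF 𝔛 h𝔛.1),
      (∀ W, B W → ∀ q, k + 1 ≤ q →
        Subsingleton (ModSite.HU (𝔛.Osh h𝔛.1) M q (((g : FSch.Hom 𝔛 𝔜).app 0) ⁻¹ᵁ W))) →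
      ∀ q, k + 1 ≤ q → IsZero ((FSch.RpushF g h𝔛.1 h𝔜 q).obj M) := by
  haveI := enoughInjectives_of_hasInjectiveResolutions (C := FSch.ModF 𝔛 h𝔛.1)
  haveI : (FSch.pushF g h𝔛.1 h𝔜).IsRightAdjoint := (FSch.homMor g h𝔛.1 h𝔜).adj.isRightAdjoint
  haveI : PreservesFiniteLimits (FSch.pushF g h𝔛.1 h𝔜) := inferInstance
  intro k
  induction k with
  | zero =>
    intro M hM q hq
    obtain ⟨i, rfl⟩ := Nat.exists_eq_add_of_le hq
    rw [Nat.add_comm]
    refine SitePullUnit.isZero_rightDerived_of_class (FSch.pushF g h𝔛.1 h𝔜)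
      (fun G => ∀ W, B W → ∀ q, Subsingleton (ModSite.HU (𝔛.Osh h𝔛.1) G (q + 1) (((g : FSch.Hom 𝔛 𝔜).app 0) ⁻¹ᵁ W)))
      (fun S hS h₁ h₂ W hW q => ?_) (fun S hS h₁ _ => ?_) (fun W hW q => hM W hW (q + 1) (by omega)) i
    · haveI := h₂
      exact SiteBase.subsingleton_HU_X₃ (shortExact_abF h𝔛 hS) _ (q + 1) (h₁ W hW (q + 1))
        (subsingleton_HU_injective_mod S.X₂ _ q)
    · have he : Epi ((SheafOfModules.toSheaf _).map ((FSch.pushF g h𝔛.1 h𝔜).map S.g)) := by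
        refine (TopCat.Sheaf.isLocallySurjective_iff_epi _).1
          ((TopCat.Presheaf.isLocallySurjective_iff _).2 fun U t y hy => ?_)
        obtain ⟨W, hWU, hyW, hW⟩ := hB U y hy
        exact ⟨W, hWU, SiteBase.surjective_sections_of_HU_one (shortExact_abF h𝔛 hS) _ (h₁ W hW 0) _, hyW⟩
      exact (SheafOfModules.toSheaf _).epi_of_epi_map he
  | succ k ih =>
    intro M hM q hq
    obtain ⟨i, rfl⟩ := Nat.exists_eq_add_of_le (show 2 ≤ q by omega)
    rw [Nat.add_comm]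
    let P := Classical.arbitrary (InjectivePresentation M)
    have hS := P.shortExact_shortComplex
    haveI : Injective P.shortComplex.X₂ := P.injective
    exact isZero_rightDerived_shift (FSch.pushF g h𝔛.1 h𝔜) hS i
      (ih _ (fun W hW r hr => by
        obtain ⟨r, rfl⟩ := Nat.exists_eq_add_of_le (show 1 ≤ r by omega)
        rw [Nat.add_comm]
        exact SiteBase.subsingleton_HU_X₃ (shortExact_abF h𝔛 hS) _ (r + 1)
          (hM W hW (r + 2) (by omega)) (subsingleton_HU_injective_mod _ _ r)) (i + 1) (by omega))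

include h𝔛 in
/-- Every open of a compact locally Noetherian formal scheme is compact and quasi-separated. -/
theorem isCompact_opens [CompactSpace (𝔛.X 0)] (U : (𝔛.X 0).Opens) :
    IsCompact (U : Set (𝔛.X 0)) ∧ IsQuasiSeparated (U : Set (𝔛.X 0)) := by
  haveI := h𝔛.2.2 0
  haveI : AlgebraicGeometry.IsNoetherian (𝔛.X 0) := {}
  exact ⟨NoetherianSpace.isCompact _, fun _ _ _ _ _ _ _ _ => NoetherianSpace.isCompact _⟩

theorem affVan_of_lqP (M : FSch.ModF 𝔛 h𝔛.1) (hM : lqP h𝔛 M) : AffVan (X := 𝔛.X 0) (ModSite.toAb M) :=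
  fun _ hV n => subsingleton_HU_of_lqP h𝔛 M hM hV n

/-- A bound on preimages of basic opens of an affine open. -/
theorem exists_bound_preimage [CompactSpace (𝔛.X 0)] (W : (𝔜.X 0).Opens) :
    ∃ d : ℕ, ∀ s : Γ(𝔜.X 0, W), ∀ M : FSch.ModF 𝔛 h𝔛.1, lqP h𝔛 M → ∀ p, d ≤ p →
      Subsingleton (ModSite.HU (𝔛.Osh h𝔛.1) M p (((g : FSch.Hom 𝔛 𝔜).app 0) ⁻¹ᵁ (𝔜.X 0).basicOpen s)) := by
  obtain ⟨hc, hs⟩ := isCompact_opens h𝔛 (((g : FSch.Hom 𝔛 𝔜).app 0) ⁻¹ᵁ W)
  obtain ⟨d, hd⟩ := exists_bound _ hc hs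
  refine ⟨d, fun s M hM p hp => ?_⟩
  have := hd ((((g : FSch.Hom 𝔛 𝔜).app 0)).app W s) (ModSite.toAb M) (affVan_of_lqP h𝔛 M hM) p hp
  rwa [← Scheme.preimage_basicOpen] at this

theorem exists_RpushF_bound [CompactSpace (𝔛.X 0)] [CompactSpace (𝔜.X 0)]
    [HasInjectiveResolutions (FSch.ModF 𝔛 h𝔛.1)] :
    ∃ n : ℕ, ∀ M : FSch.ModF 𝔛 h𝔛.1, lqP h𝔛 M → ∀ p : ℕ, n < p →
      IsZero ((FSch.RpushF g h𝔛.1 h𝔜 p).obj M) := by
  obtain ⟨s, hs, hsT⟩ := isCompact_iff_finite_and_eq_biUnion_affineOpens.mp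
    (show IsCompact ((⊤ : (𝔜.X 0).Opens) : Set (𝔜.X 0)) by simpa using isCompact_univ)
  choose d hd using fun W : (𝔜.X 0).Opens => exists_bound_preimage h𝔛 g W
  let N := hs.toFinset.sup fun W => d W.1
  refine ⟨N, fun M hM p hp => isZero_RpushF_of_bound h𝔛 h𝔜 g
    (fun W => ∃ U ∈ s, ∃ t : Γ(𝔜.X 0, (U : (𝔜.X 0).affineOpens).1), W = (𝔜.X 0).basicOpen t) ?_ N M ?_ p (by omega)⟩
  · intro U y hy
    have hy' : y ∈ (⊤ : (𝔜.X 0).Opens) := trivial
    rw [hsT] at hy'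
    obtain ⟨V, hVs, hyV⟩ : ∃ V ∈ s, y ∈ (V : (𝔜.X 0).affineOpens).1 := by simpa using hy'
    obtain ⟨t, ht, hyt⟩ := V.2.exists_basicOpen_le (V := U) ⟨y, hy⟩ hyV
    exact ⟨_, ht, hyt, V, hVs, t, rfl⟩
  · rintro W ⟨U, hU, t, rfl⟩ q hq
    exact hd U.1 t M hM q (le_trans (Finset.le_sup (f := fun W => d W.1) (hs.mem_toFinset.2 hU)) (by omega))

/-- A bound for the derived direct image of complexes with cohomology in `lqP`. -/
theorem exists_bound_RpushD [CompactSpace (𝔛.X 0)] [CompactSpace (𝔜.X 0)]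
    [SiteCmp.HasRpushD (FSch.homMor g h𝔛.1 h𝔜)] :
    ∃ e : ℕ, ∀ (G : DerivedCategory (FSch.ModF 𝔛 h𝔛.1)), (∀ i : ℤ, lqP h𝔛 (SiteCmp.HMod G i)) →
      ∀ b : ℤ, (∀ i : ℤ, b < i → IsZero (SiteCmp.HMod G i)) → ∀ i : ℤ, b + e < i →
        IsZero (SiteCmp.HMod ((SiteCmp.RpushD (FSch.homMor g h𝔛.1 h𝔜)).obj G) i) := by
  haveI : IsGrothendieckAbelian.{u} (FSch.ModF 𝔛 h𝔛.1) :=
    S0484.result (Opens.grothendieckTopology (𝔛.X 0).toPresheafedSpace.carrier) (ModSite.ringSh (𝔛.Osh h𝔛.1))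
  haveI : HasInjectiveResolutions (FSch.ModF 𝔛 h𝔛.1) := inferInstance
  obtain ⟨N, hN⟩ := exists_RpushF_bound h𝔛 h𝔜 g
  refine ⟨N, fun X hX b hb i hi => ?_⟩
  have hcov : ∀ {𝔖 : FSch.Sys.{u}} (U : (𝔖.X 0).Opens), ∃ (ι : Type u) (Y : ι → (𝔖.X 0).Opens) (g : ∀ i, Y i ⟶ U),
      Sieve.ofArrows Y g ∈ Opens.grothendieckTopology (𝔖.X 0).toPresheafedSpace.carrier U ∧
        ∀ i, Y i ∈ {W : (𝔖.X 0).Opens | IsAffineOpen W} := fun U => by
    obtain ⟨ι, Y, g, -, h2, h3⟩ := exists_affine_refinement U ⊤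
      ((Opens.grothendieckTopology _).top_mem U)
    exact ⟨ι, Y, g, h2, h3⟩
  let n : ℕ := (N - i).toNat
  have h3 : ∀ F, lqP h𝔛 F → ∀ p : ℕ, (N : ℤ) < (p : ℤ) →
      IsZero (((FSch.homMor g h𝔛.1 h𝔜).Rpush p).obj F) := fun F hF p hp => hN F hF p (by omega)
  have := S9066.result (FSch.homMor g h𝔛.1 h𝔜) (lqP h𝔛) {W | IsAffineOpen W} {W | IsAffineOpen W}
    hcov (fun V hV => ⟨0, fun T hT => by
      obtain ⟨ι, Y, r, h1, h2, h3⟩ := exists_affine_refinement V T hT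
      refine ⟨ι, Y, r, h1, h2, fun a F hF k hk => ?_⟩
      obtain ⟨q, rfl⟩ := Nat.exists_eq_succ_of_ne_zero hk.ne'
      exact subsingleton_HU_of_lqP h𝔛 F hF (h3 a) q⟩)
    hcov (fun V hV => by
      obtain ⟨d, hd⟩ := exists_bound_preimage h𝔛 g V
      refine ⟨d, fun T hT => ?_⟩
      have hx : ∀ x : V, ∃ (t : Γ(𝔜.X 0, V)) (i : (𝔜.X 0).basicOpen t ⟶ V),
          T.arrows i ∧ x.1 ∈ (𝔜.X 0).basicOpen t := fun x => by
        obtain ⟨U, r, hr, hxU⟩ := hT x.1 x.2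
        obtain ⟨t, ht, hxt⟩ := hV.exists_basicOpen_le (V := U) ⟨x.1, hxU⟩ x.2
        exact ⟨t, homOfLE ht ≫ r, T.downward_closed hr _, hxt⟩
      choose t r hr hxt using hx
      exact ⟨V, fun x => (𝔜.X 0).basicOpen (t x), r, hr,
        fun x hx => ⟨_, r ⟨x, hx⟩, Sieve.ofArrows_mk _ r ⟨x, hx⟩, hxt ⟨x, hx⟩⟩,
        fun a F hF k hk => hd (t a) F hF k hk.le⟩)
    N h3 X hX n i (by omega)
  let X' := (TStructure.t.truncGE (-(n : ℤ))).obj X
  have hGE : X'.IsGE (-(n : ℤ)) := inferInstanceAs (TStructure.t.IsGE _ _)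
  have hLE : X'.IsLE b := by
    rw [isLE_iff]
    intro j hj
    rcases lt_or_ge j (-(n : ℤ)) with h | h
    · exact isZero_of_isGE _ _ j h
    · have := H9Misc.WayOut.isIso_H_truncGE X (-(n : ℤ)) j h
      exact (hb j hj).of_iso
        (asIso ((homologyFunctor _ j).map ((TStructure.t.truncGEπ (-(n : ℤ))).app X))).symm
  have hP : ∀ Z : FSch.ModF 𝔛 h𝔛.1, IsZero Z → lqP h𝔛 Z := fun Z hZ => lqP_zero h𝔛 hZ
  exact (isZero_homology_RG_of_bdd (FSch.homMor g h𝔛.1 h𝔜).push (lqP h𝔛) N h3 (b + n).toNat X' (-(n : ℤ)) b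
    (by omega) hGE hLE (H9Misc.WayOut.P_truncGE (lqP h𝔛) (hP := hP) hX _) i (by omega)).of_iso
    (@asIso _ _ _ _ _ this)

end Groth.Agent.H9FCoh
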