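import Groth.Agent.H9FCoh.Good
import Groth.Agent.H9FCoh.Back
import Groth.Agent.H9FCoh.SchQ
import Groth.Agent.Adic7.Limit
import Groth.Agent.QCoh.ClosedPush

/-!
# Limits of coherent systems
-/

set_option autoImplicit false
set_option backward.isDefEq.respectTransparency false
set_option backward.isDefEq.respectTransparency.types false
set_option linter.style.haveILetI false

universe u

open CategoryTheory CategoryTheory.Limits AlgebraicGeometry Opposite TopologicalSpace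
open Groth.Agent.ClosedRinged
open Groth.Agent.RngSp (pt gm mp fns)

noncomputable section

namespace Groth.Agent.H9FCoh

variable {𝔛 : FSch.Sys.{u}} (h : 𝔛.IsLocNoethFormal) (𝔐 : FSch.ModSys 𝔛)

/-- Sections of a level of a system. -/
abbrev Mk (k : ℕ) (V : (𝔛.X 0).Opens) : Type u := Γ(𝔐.F k, 𝔛.lvU h.1 k V)

/-- Sections of the limit. -/
abbrev Lm (V : (𝔛.X 0).Opens) : Type u := ((𝔐.realMod h.1).val.obj (op V) : Type u)

/-- The projection to a level. -/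
def prM (k : ℕ) (V : (𝔛.X 0).Opens) (x : Lm h 𝔐 V) : Mk h 𝔐 k V :=
  mp (FSch.realProj 𝔛 h.1 𝔐.F 𝔐.toPush k) V x

/-- The transition of levels. -/
def step (k : ℕ) (V : (𝔛.X 0).Opens) (x : Mk h 𝔐 (k + 1) V) : Mk h 𝔐 k V :=
  mp ((FSch.levelMor 𝔛 h.1 (k + 1)).push.map (𝔐.toPush k) ≫ (FSch.pushCompare 𝔛 h.1 k).app (𝔐.F k)) V x

theorem step_eq (k : ℕ) (V : (𝔛.X 0).Opens) (x : Mk h 𝔐 (k + 1) V) :
    step h 𝔐 k V x = (𝔐.F k).presheaf.map (homOfLE (𝔛.lvU_le h.1 k V)).op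
      ((𝔐.e k).hom.app _ (((Scheme.Modules.pullbackPushforwardAdjunction (𝔛.ι k)).unit.app (𝔐.F (k + 1))).app _ x)) := by
  rw [step, FSch.ModSys.toPush, Adjunction.homEquiv_unit]
  rfl

theorem step_prM (k : ℕ) (V : (𝔛.X 0).Opens) (x : Lm h 𝔐 V) :
    step h 𝔐 k V (prM h 𝔐 (k + 1) V x) = prM h 𝔐 k V x :=
  congrArg (fun q => mp q V x) (FSch.realProj_map 𝔛 h.1 𝔐.F 𝔐.toPush k)

theorem prM_smul (k : ℕ) (V : (𝔛.X 0).Opens) (a : Ox h V) (x : Lm h 𝔐 V) :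
    prM h 𝔐 k V ((show fns (𝔛.Osh h.1) V from a) • x) = pr h k V a • prM h 𝔐 k V x :=
  (map_smul (mp (FSch.realProj 𝔛 h.1 𝔐.F 𝔐.toPush k) V) _ x).trans rfl

theorem prM_add (k : ℕ) (V : (𝔛.X 0).Opens) (x y : Lm h 𝔐 V) :
    prM h 𝔐 k V (x + y) = prM h 𝔐 k V x + prM h 𝔐 k V y :=
  map_add (mp (FSch.realProj 𝔛 h.1 𝔐.F 𝔐.toPush k) V) x y

theorem prM_res (k : ℕ) {U V : (𝔛.X 0).Opens} (hVU : V ≤ U) (x : Lm h 𝔐 U) :
    prM h 𝔐 k V (res (𝔐.realMod h.1) hVU x) =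
      res (O := (𝔛.X k).sheaf) (𝔐.F k) (lvU_mono h k hVU) (prM h 𝔐 k U x) :=
  RngSp.mp_res (FSch.realProj 𝔛 h.1 𝔐.F 𝔐.toPush k) hVU x

theorem step_smul (k : ℕ) (V : (𝔛.X 0).Opens) (a : Ox h V) (x : Mk h 𝔐 (k + 1) V) :
    step h 𝔐 k V (pr h (k + 1) V a • x) = pr h k V a • step h 𝔐 k V x :=
  (map_smul (mp ((FSch.levelMor 𝔛 h.1 (k + 1)).push.map (𝔐.toPush k) ≫
    (FSch.pushCompare 𝔛 h.1 k).app (𝔐.F k)) V) (show fns (𝔛.Osh h.1) V from a)
    (show (((FSch.levelMor 𝔛 h.1 (k + 1)).push.obj (𝔐.F (k + 1))).val.obj (op V) : Type u) from x)).trans rfl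

theorem prM_ext {V : (𝔛.X 0).Opens} {x y : Lm h 𝔐 V} (hxy : ∀ k, prM h 𝔐 k V x = prM h 𝔐 k V y) : x = y := by
  let G : FSch.ModF 𝔛 h.1 ⥤ Type u :=
    SheafOfModules.evaluation (ModSite.ringSh (𝔛.Osh h.1)) (op V) ⋙ CategoryTheory.forget _
  have hlim : IsLimit (G.mapCone (limit.cone (FSch.levelSysOf 𝔛 h.1 𝔐.F 𝔐.toPush))) :=
    isLimitOfPreserves G (limit.isLimit _)
  exact (Types.isLimitEquivSections hlim).injective (Subtype.ext (funext fun ⟨k⟩ => hxy k))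

theorem prM_lift {V : (𝔛.X 0).Opens} (y : ∀ k, Mk h 𝔐 k V) (hy : ∀ k, step h 𝔐 k V (y (k + 1)) = y k) :
    ∃ x : Lm h 𝔐 V, ∀ k, prM h 𝔐 k V x = y k := by
  let G : FSch.ModF 𝔛 h.1 ⥤ Type u :=
    SheafOfModules.evaluation (ModSite.ringSh (𝔛.Osh h.1)) (op V) ⋙ CategoryTheory.forget _
  have hlim : IsLimit (G.mapCone (limit.cone (FSch.levelSysOf 𝔛 h.1 𝔐.F 𝔐.toPush))) :=
    isLimitOfPreserves G (limit.isLimit _)
  have hr : ∀ a b (hab : a ≤ b), (FSch.levelSysOf 𝔛 h.1 𝔐.F 𝔐.toPush ⋙ G).map (homOfLE hab).op (y b) = y a := by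
    intro a b hab
    induction b, hab using Nat.le_induction with
    | base =>
      exact ConcreteCategory.congr_hom ((FSch.levelSysOf 𝔛 h.1 𝔐.F 𝔐.toPush ⋙ G).map_id (op a)) (y a)
    | succ b hab ih =>
      rw [show (homOfLE (hab.trans b.le_succ)).op =
        (homOfLE (Nat.le_add_right b 1)).op ≫ (homOfLE hab).op from Subsingleton.elim _ _, Functor.map_comp]
      change (FSch.levelSysOf 𝔛 h.1 𝔐.F 𝔐.toPush ⋙ G).map (homOfLE hab).op _ = _
      rw [← ih]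
      refine congrArg _ (Eq.trans ?_ (hy b))
      rw [Functor.comp_map, FSch.levelSysOf_map_succ]
      rfl
  let sec : (FSch.levelSysOf 𝔛 h.1 𝔐.F 𝔐.toPush ⋙ G).sections := ⟨fun k => y k.unop, fun {a b} g => by
    rw [show g = (homOfLE (leOfHom g.unop)).op from Subsingleton.elim _ _]
    exact hr _ _ _⟩
  exact ⟨(Types.isLimitEquivSections hlim).symm sec, fun k =>
    Types.isLimitEquivSections_symm_apply hlim sec (op k)⟩

theorem res_bijective_of_eq {Y : Scheme.{u}} (F : Y.Modules) {A B : Y.Opens} (e : A = B) :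
    Function.Bijective (F.presheaf.map (homOfLE e.ge : B ⟶ A).op) := by
  subst e
  rw [Subsingleton.elim (homOfLE _) (𝟙 A), op_id, CategoryTheory.Functor.map_id]
  exact Function.bijective_id

theorem bijective_e (k : ℕ) (O : (𝔛.X k).Opens) : Function.Bijective ((𝔐.e k).hom.app O) :=
  haveI : IsIso ((𝔐.e k).hom.app O) := Scheme.Modules.Hom.isIso_iff_isIso_app.mp inferInstance O
  ConcreteCategory.bijective_of_isIso _

theorem ker_ι_ideal {U : (𝔛.X 0).Opens} (hU : IsAffineOpen U) (k : ℕ) :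
    (𝔛.ι k).ker.ideal ⟨_, affine_lvU h hU (k + 1)⟩ = RingHom.ker (tr h k U) := by
  rw [ker_tr h hU k, h.2.1 k, Scheme.IdealSheafData.ideal_pow]
  rfl

theorem step_surjective (h𝔐 : 𝔐.IsCoh) {U : (𝔛.X 0).Opens} (hU : IsAffineOpen U) (k : ℕ) :
    Function.Surjective (step h 𝔐 k U) := by
  haveI := (h.1 k).1
  intro y
  obtain ⟨y₁, rfl⟩ := (res_bijective_of_eq (𝔐.F k) (𝔛.lvU_succ h.1 k U)).2 y
  obtain ⟨y₂, rfl⟩ := (bijective_e 𝔐 k _).2 y₁
  obtain ⟨x, rfl⟩ := (QCoh.unit_app_closed (𝔛.ι k) (h𝔐 (k + 1)).1 (affine_lvU h hU (k + 1))).1 y₂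
  exact ⟨x, step_eq h 𝔐 k U x⟩

theorem step_eq_zero_iff (h𝔐 : 𝔐.IsCoh) {U : (𝔛.X 0).Opens} (hU : IsAffineOpen U) (k : ℕ)
    (x : Mk h 𝔐 (k + 1) U) : step h 𝔐 k U x = 0 ↔
      x ∈ RingHom.ker (tr h k U) • (⊤ : Submodule (On h (k + 1) U) (Mk h 𝔐 (k + 1) U)) := by
  haveI := (h.1 k).1
  rw [step_eq, ← ker_ι_ideal h hU k, ← (QCoh.unit_app_closed (𝔛.ι k) (h𝔐 (k + 1)).1 (affine_lvU h hU (k + 1))).2]
  constructor
  · intro h0
    have h1 := (res_bijective_of_eq (𝔐.F k) (𝔛.lvU_succ h.1 k U)).1 (h0.trans (map_zero _).symm)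
    exact (bijective_e 𝔐 k _).1 (h1.trans (map_zero _).symm)
  · intro h0
    rw [h0, map_zero, map_zero]

theorem exists_preimage_pN {A B : Type u} [CommRing A] [CommRing B] (φ : A →+* B) (hφ : Function.Surjective φ)
    {ι : Type*} {N : Submodule A (ι →₀ A)} {w : ι →₀ B} (hw : w ∈ pN φ N) : ∃ n ∈ N, pv φ n = w := by
  induction hw using Submodule.span_induction with
  | mem w hw => obtain ⟨n, hn, rfl⟩ := hw; exact ⟨n, hn, rfl⟩
  | zero => exact ⟨0, zero_mem _, pv_zero φ⟩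
  | add a b _ _ ha hb =>
    obtain ⟨na, hna, rfl⟩ := ha
    obtain ⟨nb, hnb, rfl⟩ := hb
    exact ⟨na + nb, add_mem hna hnb, pv_add φ _ _⟩
  | smul c a _ ha =>
    obtain ⟨na, hna, rfl⟩ := ha
    obtain ⟨c, rfl⟩ := hφ c
    exact ⟨c • na, N.smul_mem _ hna, pv_smul φ _ _⟩

theorem map_smul_top {A B : Type u} [CommRing A] [CommRing B] (φ : A →+* B) (hφ : Function.Surjective φ)
    (I : Ideal A) (Q : Type u) [AddCommGroup Q] [Module B Q] (x : Q) :
    letI := Module.compHom Q φ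
    x ∈ I • (⊤ : Submodule A Q) ↔ x ∈ I.map φ • (⊤ : Submodule B Q) := by
  letI := Module.compHom Q φ
  constructor
  · intro hx
    refine Submodule.smul_induction_on hx (fun r hr z _ => ?_) fun a b ha hb => add_mem ha hb
    exact Submodule.smul_mem_smul (Ideal.mem_map_of_mem φ hr) trivial
  · intro hx
    refine Submodule.smul_induction_on hx (fun r hr z _ => ?_) fun a b ha hb => add_mem ha hb
    obtain ⟨a, ha, rfl⟩ := (Ideal.mem_map_iff_of_surjective φ hφ).1 hr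
    exact Submodule.smul_mem_smul (N := (⊤ : Submodule A Q)) ha trivial

/-- The module structure of a level over the functions of the formal scheme. -/
@[reducible] def mkModule (k : ℕ) (V : (𝔛.X 0).Opens) : Module (Ox h V) (Mk h 𝔐 k V) :=
  Module.compHom _ (pr h k V)

/-- The module structure of the limit over the functions of the formal scheme. -/
@[reducible] def lmModule (V : (𝔛.X 0).Opens) : Module (Ox h V) (Lm h 𝔐 V) :=
  inferInstanceAs (Module (fns (𝔛.Osh h.1) V) (Lm h 𝔐 V))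

theorem tr_comp_pr (k : ℕ) (V : (𝔛.X 0).Opens) : (tr h k V).comp (pr h (k + 1) V) = pr h k V :=
  RingHom.ext (tr_pr h k V)

theorem map_pr_J_pow {U : (𝔛.X 0).Opens} (hU : IsAffineOpen U) (k : ℕ) :
    (J h U ^ (k + 1)).map (pr h (k + 1) U) = RingHom.ker (tr h k U) := by
  rw [← ker_pr h hU k, show RingHom.ker (pr h k U) = (RingHom.ker (tr h k U)).comap (pr h (k + 1) U) by
    rw [RingHom.comap_ker, tr_comp_pr], Ideal.map_comap_of_surjective _ (pr_surjective h hU (k + 1))]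

theorem limit_affine (h𝔐 : 𝔐.IsCoh) {U : (𝔛.X 0).Opens} (hU : IsAffineOpen U) :
    (∀ k, Function.Surjective (prM h 𝔐 k U)) ∧
    (∀ k (x : Lm h 𝔐 U), prM h 𝔐 k U x = 0 ↔
      letI := lmModule h 𝔐 U; x ∈ J h U ^ (k + 1) • (⊤ : Submodule (Ox h U) (Lm h 𝔐 U))) ∧
    (letI := lmModule h 𝔐 U; Module.Finite (Ox h U) (Lm h 𝔐 U)) := by
  letI := lmModule h 𝔐 U
  letI : ∀ k, Module (Ox h U) (Mk h 𝔐 k U) := fun k => mkModule h 𝔐 k U
  haveI := isNoetherianRing_Ox h hU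
  haveI := isAdicComplete_Ox h hU
  let f : ∀ k, Mk h 𝔐 (k + 1) U →ₗ[Ox h U] Mk h 𝔐 k U := fun k =>
    { toFun := step h 𝔐 k U
      map_add' := fun a b => map_add (mp ((FSch.levelMor 𝔛 h.1 (k + 1)).push.map (𝔐.toPush k) ≫
        (FSch.pushCompare 𝔛 h.1 k).app (𝔐.F k)) U) a b
      map_smul' := step_smul h 𝔐 k U }
  let π : ∀ k, Lm h 𝔐 U →ₗ[Ox h U] Mk h 𝔐 k U := fun k =>
    { toFun := prM h 𝔐 k U
      map_add' := prM_add h 𝔐 k U
      map_smul' := prM_smul h 𝔐 k U }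
  obtain ⟨-, hπ, hfin⟩ := Adic7.limit_quotient_system (Ox h U) (J h U) (IsNoetherian.noetherian _)
    (fun k => Mk h 𝔐 k U) f (step_surjective h 𝔐 h𝔐 hU) (fun k => SetLike.ext fun x => by
      refine Iff.trans (step_eq_zero_iff h 𝔐 h𝔐 hU k x) ?_
      rw [← map_pr_J_pow h hU k]
      exact (map_smul_top (pr h (k + 1) U) (pr_surjective h hU (k + 1)) _ _ x).symm)
    (Lm h 𝔐 U) π (fun k => LinearMap.ext fun x => step_prM h 𝔐 k U x)
    (fun x hx => prM_ext h 𝔐 fun k => (hx k).trans (map_zero (π k)).symm) (prM_lift h 𝔐)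
  refine ⟨fun k => (hπ k).1, fun k x => SetLike.ext_iff.1 (hπ k).2 x, hfin inferInstance ?_⟩
  haveI := QCoh.finite_sections (h𝔐 0) (affine_lvU h hU 0)
  obtain ⟨s, hs⟩ := this.fg_top
  refine ⟨⟨s, eq_top_iff.2 fun x hx' => ?_⟩⟩
  clear hx'
  have hx : x ∈ Submodule.span (On h 0 U) (s : Set (Mk h 𝔐 0 U)) := hs ▸ trivial
  induction hx using Submodule.span_induction with
  | mem y hy => exact Submodule.subset_span hy
  | zero => exact zero_mem _
  | add a b _ _ ha hb => exact add_mem ha hb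
  | smul c a _ ha =>
    obtain ⟨c', rfl⟩ := pr_surjective h hU 0 c
    exact Submodule.smul_mem _ c' ha

variable {ι : Type u} {U : (𝔛.X 0).Opens}

theorem prM_cmb (k : ℕ) (t : ι → Lm h 𝔐 U) (v : ι →₀ Ox h U) :
    prM h 𝔐 k U (cmb (O := 𝔛.Osh h.1) t v) =
      cmb (O := (𝔛.X k).sheaf) (M := 𝔐.F k) (fun i => prM h 𝔐 k U (t i)) (pv (pr h k U) v) := by
  rw [cmb, cmb, pv, Finsupp.sum]
  refine Eq.trans ?_ (Finsupp.sum_of_support_subset (Finsupp.mapRange _ (map_zero _) v) Finsupp.support_mapRange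
    (fun i a => (show fns (𝔛.X k).sheaf (𝔛.lvU h.1 k U) from a) • (show (𝔐.F k).val.obj (op (𝔛.lvU h.1 k U)) from prM h 𝔐 k U (t i)))
    (fun i _ => zero_smul (fns (𝔛.X k).sheaf (𝔛.lvU h.1 k U)) _)).symm
  refine (map_sum (mp (FSch.realProj 𝔛 h.1 𝔐.F 𝔐.toPush k) U) _ _).trans (Finset.sum_congr rfl fun i _ => ?_)
  exact prM_smul h 𝔐 k U _ _

/-- The levels of a generating family of the limit give models with the projected relations. -/
theorem isModel_level (h𝔐 : 𝔐.IsCoh) (hU : IsAffineOpen U) (t : ι → Lm h 𝔐 U)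
    (hgen : ∀ z, ∃ v, cmb (O := 𝔛.Osh h.1) t v = z) (N : Submodule (Ox h U) (ι →₀ Ox h U))
    (hN : ∀ v, cmb (O := 𝔛.Osh h.1) t v = 0 ↔ v ∈ N) (k : ℕ) :
    IsModel (O := (𝔛.X k).sheaf) (𝔐.F k) (𝔛.lvU h.1 k U) (fun i => prM h 𝔐 k U (t i)) (pN (pr h k U) N) := by
  obtain ⟨hsurj, hker, -⟩ := limit_affine h 𝔐 h𝔐 hU
  refine isModel_of_span (h𝔐 k).1 (affine_lvU h hU k) _ (fun z => ?_) _ fun w => ⟨fun hw => ?_, fun hw => ?_⟩
  · obtain ⟨x, rfl⟩ := hsurj k z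
    obtain ⟨v, rfl⟩ := hgen x
    exact ⟨_, (prM_cmb h 𝔐 k t v).symm⟩
  · obtain ⟨v, rfl⟩ := Finsupp.mapRange_surjective (pr h k U) (map_zero _) (pr_surjective h hU k) w
    change cmb (O := (𝔛.X k).sheaf) (M := 𝔐.F k) _ (pv (pr h k U) v) = 0 at hw
    rw [← prM_cmb, hker] at hw
    -- write the element with coefficients in the ideal
    obtain ⟨j, hj, hje⟩ : ∃ j : ι →₀ Ox h U, (∀ i, j i ∈ J h U ^ (k + 1)) ∧
        cmb (O := 𝔛.Osh h.1) t j = cmb (O := 𝔛.Osh h.1) t v := by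
      letI := lmModule h 𝔐 U
      refine Submodule.smul_induction_on (p := fun z => ∃ j : ι →₀ Ox h U, (∀ i, j i ∈ J h U ^ (k + 1)) ∧
        cmb (O := 𝔛.Osh h.1) t j = z) hw (fun r hr z _ => ?_) ?_
      · obtain ⟨u, rfl⟩ := hgen z
        refine ⟨r • u, fun i => ?_, eq_of_gm fun x hx => ?_⟩
        · rw [Finsupp.smul_apply, smul_eq_mul]; exact Ideal.mul_mem_right _ _ hr
        · change _ = gm _ hx ((show fns (𝔛.Osh h.1) U from r) • cmb (O := 𝔛.Osh h.1) t u)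
          rw [gm_cmb, RngSp.gm_smul, gm_cmb, pv_smul, map_smul]
          rfl
      · rintro a b ⟨ja, hja, rfl⟩ ⟨jb, hjb, rfl⟩
        refine ⟨ja + jb, fun i => by rw [Finsupp.add_apply]; exact add_mem (hja i) (hjb i), eq_of_gm fun x hx => ?_⟩
        rw [RngSp.gm_add, gm_cmb, gm_cmb, gm_cmb, pv_add, map_add]
    have hmem : v - j ∈ N := (hN _).1 (eq_of_gm fun x hx => by
      rw [gm_cmb, pv_sub, map_sub, ← gm_cmb, ← gm_cmb, hje, sub_self, RngSp.gm_zero])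
    have := pv_mem_pN (pr h k U) hmem
    rw [pv_sub] at this
    have hj0 : pv (pr h k U) j = 0 := Finsupp.ext fun i => by
      rw [pv_apply, Finsupp.zero_apply, ← RingHom.mem_ker, ker_pr h hU k]; exact hj i
    rwa [hj0, sub_zero] at this
  · obtain ⟨n, hn, rfl⟩ := exists_preimage_pN (pr h k U) (pr_surjective h hU k) hw
    rw [← prM_cmb, (hN n).2 hn]
    exact map_zero (mp (FSch.realProj 𝔛 h.1 𝔐.F 𝔐.toPush k) U)

/-- Generating sections of the limit on an affine open give a model. -/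
theorem isModel_realMod (h𝔐 : 𝔐.IsCoh) (hU : IsAffineOpen U) [Finite ι] (t : ι → Lm h 𝔐 U)
    (hgen : ∀ z, ∃ v, cmb (O := 𝔛.Osh h.1) t v = z) (N : Submodule (Ox h U) (ι →₀ Ox h U))
    (hN : ∀ v, cmb (O := 𝔛.Osh h.1) t v = 0 ↔ v ∈ N) : IsModel (𝔐.realMod h.1) U t N := by
  have hlev := isModel_level h 𝔐 h𝔐 hU t hgen N hN
  -- generation and relations on smaller affine opens
  have hsub : ∀ (W : (𝔛.X 0).Opens) (hW : IsAffineOpen W) (hWU : W ≤ U),
      (∀ z : Lm h 𝔐 W, ∃ v, cmb (O := 𝔛.Osh h.1) (fun i => res (𝔐.realMod h.1) hWU (t i)) v = z) ∧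
      ∀ v, cmb (O := 𝔛.Osh h.1) (fun i => res (𝔐.realMod h.1) hWU (t i)) v = 0 → v ∈ pN (rO h hWU) N := by
    intro W hW hWU
    haveI := isNoetherianRing_Ox h hW
    haveI := isAdicComplete_Ox h hW
    have hm : ∀ k, IsModel (O := (𝔛.X k).sheaf) (𝔐.F k) (𝔛.lvU h.1 k W)
        (fun i => prM h 𝔐 k W (res (𝔐.realMod h.1) hWU (t i)))
        (pN (rn h k hWU) (pN (pr h k U) N)) := fun k => by
      simp only [prM_res]
      exact (hlev k).mono (lvU_mono h k hWU)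
    haveI : ∀ k, IsLocallyNoetherian (𝔛.X k) := h.2.2
    obtain ⟨hsW, hkW, hfW⟩ := limit_affine h 𝔐 h𝔐 hW
    refine ⟨?_, fun v hv => ?_⟩
    · letI := lmModule h 𝔐 W
      let P : Submodule (Ox h W) (Lm h 𝔐 W) :=
        LinearMap.range (Finsupp.linearCombination (Ox h W) fun i => res (𝔐.realMod h.1) hWU (t i))
      have hP : (⊤ : Submodule (Ox h W) (Lm h 𝔐 W)) ≤ P ⊔ J h W • ⊤ := by
        intro z _
        obtain ⟨w, hw⟩ := (hm 0).exists_cmb (schGood (𝔛.X 0)) (affine_lvU h hW 0) (prM h 𝔐 0 W z)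
        obtain ⟨v, rfl⟩ := Finsupp.mapRange_surjective (pr h 0 W) (map_zero _) (pr_surjective h hW 0) w
        change cmb (O := (𝔛.X 0).sheaf) (M := 𝔐.F 0) _ (pv (pr h 0 W) v) = _ at hw
        rw [← prM_cmb] at hw
        refine Submodule.mem_sup.2 ⟨_, ⟨v, rfl⟩, z - cmb (O := 𝔛.Osh h.1) (fun i => res (𝔐.realMod h.1) hWU (t i)) v,
          ?_, add_sub_cancel _ z⟩
        have h0 : prM h 𝔐 0 W (z - cmb (O := 𝔛.Osh h.1) (fun i => res (𝔐.realMod h.1) hWU (t i)) v) = 0 :=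
          (map_sub (mp (FSch.realProj 𝔛 h.1 𝔐.F 𝔐.toPush 0) W) _ _).trans (sub_eq_zero.2 hw.symm)
        have := (hkW 0 _).1 h0
        rwa [pow_one] at this
      intro z
      obtain ⟨v, hv⟩ := Submodule.le_of_le_smul_of_le_jacobson_bot hfW.fg_top
        (IsAdicComplete.le_jacobson_bot (J h W)) hP (show z ∈ ⊤ from trivial)
      exact ⟨v, hv⟩
    · refine mem_of_forall_mem_sup (J h W) (IsAdicComplete.le_jacobson_bot _) _ _ fun k => ?_
      rw [← ker_pr h hW k]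
      refine mem_pN_of_surjective _ (pr_surjective h hW k) ?_
      have h1 : cmb (O := (𝔛.X k).sheaf) (M := 𝔐.F k)
          (fun i => prM h 𝔐 k W (res (𝔐.realMod h.1) hWU (t i))) (pv (pr h k W) v) = 0 := by
        rw [← prM_cmb, hv]
        exact map_zero (mp (FSch.realProj 𝔛 h.1 𝔐.F 𝔐.toPush k) W)
      have h2 := ((hm k).cmb_eq_zero_iff (schGood (𝔛.X k)) (affine_lvU h hW k)).1 h1
      refine pN_pN _ _ _ ?_
      rw [show (pr h k W).comp (rO h hWU) = (rn h k hWU).comp (pr h k U) from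
        RingHom.ext fun s => (rn_pr h k hWU s).symm]
      exact pN_pN_le _ _ _ h2
  refine ⟨fun x hx z => ?_, fun x hx w => ⟨fun hw => ?_, fun hw => ?_⟩⟩
  · obtain ⟨V, hV, z', rfl⟩ := RngSp.exists_gm z
    obtain ⟨W, hW, hxW, hWle⟩ := Opens.isBasis_iff_nbhd.1 (𝔛.X 0).isBasis_affineOpens (show x ∈ U ⊓ V from ⟨hx, hV⟩)
    obtain ⟨v, hv⟩ := (hsub W hW (hWle.trans inf_le_left)).1 (res _ (hWle.trans inf_le_right) z')
    refine ⟨pv (gH (𝔛.Osh h.1) hxW) v, ?_⟩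
    have := congrArg (fun q => gm (𝔐.realMod h.1) hxW q) hv
    simp only [RngSp.gm_res, gm_cmb_res] at this
    exact this
  · obtain ⟨V, hV, hxV, v, rfl⟩ := exists_pv_eq hx w
    rw [← gm_cmb_res hV v hxV, ← RngSp.gm_zero hxV] at hw
    obtain ⟨V', hV', hxV', he⟩ := (RngSp.gm_eq_iff hxV _ _).1 hw
    obtain ⟨W, hW, hxW, hWle⟩ := Opens.isBasis_iff_nbhd.1 (𝔛.X 0).isBasis_affineOpens hxV'
    have hWU : W ≤ U := hWle.trans (hV'.trans hV)
    have h1 : cmb (O := 𝔛.Osh h.1) (fun i => res (𝔐.realMod h.1) hWU (t i))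
        (pv (rr (𝔛.Osh h.1) (hWle.trans hV')) v) = 0 := eq_of_gm fun y hy => by
      have h2 := congrArg (fun q => gm (𝔐.realMod h.1) (hWle hy) q) he
      simp only [RngSp.gm_res, gm_cmb_res, RngSp.gm_zero] at h2
      rw [gm_cmb_res, pv_gH_rr, RngSp.gm_zero]
      exact h2
    have h2 := pv_gH_mem (O := 𝔛.Osh h.1) hWU hxW ((hsub W hW hWU).2 _ h1)
    rw [pv_gH_rr] at h2
    exact h2
  · refine LinearMap.mem_ker.1 ((Submodule.span_le.2 ?_ : pN (gH (𝔛.Osh h.1) hx) N ≤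
      LinearMap.ker (gcmb fun i => gm (𝔐.realMod h.1) hx (t i))) hw)
    rintro _ ⟨n, hn, rfl⟩
    rw [SetLike.mem_coe, LinearMap.mem_ker, ← gm_cmb, (hN n).2 hn, RngSp.gm_zero]

theorem exists_model_realMod (h𝔐 : 𝔐.IsCoh) (hU : IsAffineOpen U) :
    ∃ (σ : Type u) (_ : Finite σ) (t : σ → Lm h 𝔐 U) (N : Submodule (Ox h U) (σ →₀ Ox h U)),
      N.FG ∧ IsModel (𝔐.realMod h.1) U t N ∧
        ∀ k, IsModel (O := (𝔛.X k).sheaf) (𝔐.F k) (𝔛.lvU h.1 k U) (fun i => prM h 𝔐 k U (t i))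
          (pN (pr h k U) N) := by
  letI := lmModule h 𝔐 U
  haveI := isNoetherianRing_Ox h hU
  haveI := (limit_affine h 𝔐 h𝔐 hU).2.2
  obtain ⟨n, f, hf⟩ := Module.Finite.exists_fin' (Ox h U) (Lm h 𝔐 U)
  let b : ULift.{u} (Fin n) → Lm h 𝔐 U := fun j => f (Pi.single j.down 1)
  have hgen : ∀ z, ∃ v, cmb (O := 𝔛.Osh h.1) b v = z := fun z => by
    obtain ⟨c, rfl⟩ := hf z
    refine ⟨Finsupp.equivFunOnFinite.symm fun j => c j.down, ?_⟩
    change Finsupp.linearCombination (Ox h U) b _ = _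
    rw [Finsupp.linearCombination_apply]
    refine (Finsupp.sum_fintype _ _ (fun i => zero_smul (Ox h U) (b i))).trans ?_
    simp only [b, Finsupp.coe_equivFunOnFinite_symm, ← map_smul, ← map_sum]
    congr 1
    exact (Fintype.sum_equiv Equiv.ulift _ (fun j => c j • Pi.single j (1 : Ox h U)) fun _ => rfl).trans
      (pi_eq_sum_univ' c).symm
  exact ⟨ULift.{u} (Fin n), inferInstance, b, LinearMap.ker (Finsupp.linearCombination (Ox h U) b),
    IsNoetherian.noetherian _, isModel_realMod h 𝔐 h𝔐 hU b hgen _ (fun v => Iff.rfl),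
    isModel_level h 𝔐 h𝔐 hU b hgen _ fun v => Iff.rfl⟩

end Groth.Agent.H9FCoh
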