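import Groth.Agent.H9FCoh.AlgzEss
import Groth.Agent.H9FCoh.IndExt
import Groth.Agent.QcqsColim.FTSub
import Groth.Agent.QCoh.Tilde
import Groth.Agent.PushAmp.Adjoint
import Groth.Agent.S13334

/-!
# Quasi-coherent modules and ind-coherent modules on a completion
-/

set_option autoImplicit false
set_option backward.isDefEq.respectTransparency false
set_option backward.isDefEq.respectTransparency.types false
set_option linter.style.haveILetI false

universe u

open CategoryTheory CategoryTheory.Limits AlgebraicGeometry Opposite TopologicalSpace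
open Groth.Agent.QCoh

noncomputable section

namespace Groth.Agent.H9FCoh.QcPull

/-- Maps from finitely presented modules to a directed colimit factor, on a Noetherian space. -/
theorem exists_factor_noeth {X : TopCat.{u}} [NoetherianSpace X] {O : TopCat.Sheaf CommRingCat.{u} X}
    {I : Type u} [Preorder I] [Nonempty I] [IsDirectedOrder I] {D : I ⥤ ModSite.Mod O} {c : Cocone D}
    (hc : IsColimit c) {G : ModSite.Mod O} (hG : IsFP G) (φ : G ⟶ c.pt) :
    ∃ (i : I) (f : G ⟶ D.obj i), f ≫ c.ι.app i = φ :=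
  @RngSp.exists_factor X O I _ _ _ D c G hG hc
    (fun ι V hV => by
      obtain ⟨T, hT⟩ := isCompact_univ.elim_finite_subcover (fun i => (V i : Set X)) (fun i => (V i).2)
        (fun x _ => Set.mem_iUnion.2 (Opens.mem_iSup.1 (hV.ge (Set.mem_univ x))))
      refine ⟨T, inferInstance, fun i => V i, eq_top_iff.2 fun x _ => ?_, fun i => ⟨i.1, le_rfl⟩,
        fun _ _ => NoetherianSpace.isCompact _⟩
      obtain ⟨i, hi, hx⟩ := Set.mem_iUnion₂.1 (hT (Set.mem_univ x))
      exact Opens.mem_iSup.2 ⟨⟨i, hi⟩, hx⟩)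
    φ

section Union

variable {X : Scheme.{u}} (F : X.Modules)

/-- The submodules of finite type, as a diagram of modules. -/
def ftD : QcqsColim.FTIndex F ⥤ X.Modules where
  obj N := N.1.toModules
  map {a b} h := QcqsColim.incl (leOfHom h)
  map_id a := (cancel_mono a.1.ι).1 (by simp)
  map_comp {a b c} h h' := (cancel_mono c.1.ι).1 (by simp)

/-- The inclusions of the submodules of finite type. -/
def ftC : Cocone (ftD F) where
  pt := F
  ι :=
    { app := fun N => N.1.ι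
      naturality := fun a b h => (QcqsColim.incl_ι (leOfHom h)).trans (Category.comp_id _).symm }

variable {F}

theorem isCoh_ftD (hF : Coh.IsQCoh F) (N : QcqsColim.FTIndex F) : Coh.IsCoh ((ftD F).obj N) :=
  ⟨isQCoh_of_ftOn hF N.2, isFT_of_ftOn hF N.2⟩

theorem nonempty_isColimit_ftC [CompactSpace X] [QuasiSeparatedSpace X] (hF : Coh.IsQCoh F) :
    Nonempty (IsColimit (ftC F)) := by
  haveI : IsGrothendieckAbelian.{u} X.Modules :=
    inferInstanceAs (IsGrothendieckAbelian.{u} (SheafOfModules.{u} X.ringCatSheaf))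
  haveI : CategoryTheory.IsConnected (QcqsColim.FTIndex F) := IsFiltered.isConnected _
  haveI : Mono (colimit.desc (ftD F) (ftC F)) := by
    let η : ftD F ⟶ (Functor.const _).obj F := (ftC F).ι
    haveI : Mono η := by
      haveI : ∀ N, Mono (η.app N) := fun N => inferInstanceAs (Mono N.1.ι)
      exact NatTrans.mono_of_mono_app η
    exact colim.map_mono' η (colimit.isColimit _) (isColimitConstCocone _ F) _ fun j => by simp [η, ftC]
  haveI : Epi (colimit.desc (ftD F) (ftC F)) := by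
    haveI := QcqsColim.isIso_desc hF
    haveI : (toAbFunctor X).Faithful := inferInstanceAs (SheafOfModules.toSheaf X.ringCatSheaf).Faithful
    refine ⟨fun {Z} g h e => (toAbFunctor X).map_injective ?_⟩
    rw [← cancel_epi (colimit.desc (QcqsColim.ftDiagram F) (QcqsColim.ftCocone F))]
    refine colimit.hom_ext fun N => ?_
    rw [colimit.ι_desc_assoc, colimit.ι_desc_assoc]
    have := congrArg (fun q => (toAbFunctor X).map (colimit.ι (ftD F) N ≫ q)) e
    simp only [colimit.ι_desc_assoc, Functor.map_comp] at this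
    exact this
  have : IsIso (colimit.desc (ftD F) (ftC F)) := isIso_of_mono_of_epi _
  haveI : IsIso ((colimit.isColimit (ftD F)).desc (ftC F)) := this
  exact ⟨IsColimit.ofPointIso (colimit.isColimit (ftD F))⟩

end Union

variable {X : Scheme.{u}} [IsNoetherian X] (𝓘 : X.IdealSheafData) (hX : (FSch.completionAlong X 𝓘).IsFormal)

def good_hat : Good ((FSch.completionAlong X 𝓘).Osh hX) :=
  good (FComplLib.isLocNoethFormal_completionAlong 𝓘)

theorem isCohF_iso {A B : FSch.ModF (FSch.completionAlong X 𝓘) hX} (e : A ≅ B) (hA : IsFP A) : IsFP B :=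
  isFP_of_mono (good_hat 𝓘 hX) hA
    (isQC_ind (FComplLib.isLocNoethFormal_completionAlong 𝓘) B
      ((ObjectProperty.ind.{u} (fpP _)).prop_of_iso e (ObjectProperty.le_ind (fpP _) A hA))) e.inv

theorem isFP_toHatF {F : X.Modules} (hF : Coh.IsCoh F) : IsFP ((toHatF 𝓘 hX).obj F) :=
  isCohF_iso 𝓘 hX (hatIso 𝓘 hX F hF).symm
    (S13334.result _ (FComplLib.isLocNoethFormal_completionAlong 𝓘) _ (isCoh_complMod 𝓘 hF))

theorem isNoetherianSpace_level : NoetherianSpace ((FSch.completionAlong X 𝓘).X 0) :=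
  (FSch.completionToX X 𝓘 0).isClosedEmbedding.isInducing.noetherianSpace

theorem exists_factor_hat {I : Type u} [Preorder I] [Nonempty I] [IsDirectedOrder I]
    {D : I ⥤ FSch.ModF (FSch.completionAlong X 𝓘) hX} {c : Cocone D} (hc : IsColimit c)
    {G : FSch.ModF (FSch.completionAlong X 𝓘) hX} (hG : IsFP G) (φ : G ⟶ c.pt) :
    ∃ (i : I) (f : G ⟶ D.obj i), f ≫ c.ι.app i = φ := by
  haveI := isNoetherianSpace_level 𝓘
  exact exists_factor_noeth hc hG φ

section Proper

variable {A : Type u} [CommRing A] [IsNoetherianRing A] (J : Ideal A) [IsAdicComplete J A]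
  (f : X ⟶ Spec (CommRingCat.of A)) [IsProper f] (h𝓘 : 𝓘 = (FSch.idealSpec A J).comap f)

theorem isProperOver_support_of_isProper {F : X.Modules} (hF : Coh.IsCoh F) :
    ClSub.IsProperOver f (CohB1.support F) :=
  PushAmp.isProperOver_of_isProper f (QCoh.isClosed_support_of_isFT hF.1 hF.2)

include h𝓘 in
theorem bijective_map_coh {F G : X.Modules} (hF : Coh.IsCoh F) (hG : Coh.IsCoh G) :
    Function.Bijective fun φ : F ⟶ G => (toHatF 𝓘 hX).map φ :=
  bijective_toHatF_map 𝓘 hX J f h𝓘 hF hG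
    (PushAmp.isProperOver_of_isProper f ((QCoh.isClosed_support_of_isFT hF.1 hF.2).inter
      (QCoh.isClosed_support_of_isFT hG.1 hG.2)))

include h𝓘 in
/-- A map of quasi-coherent modules with zero completion is zero. -/
theorem eq_zero_of_map_eq_zero {G H : X.Modules} (hG : Coh.IsQCoh G) (hH : Coh.IsQCoh H) (δ : G ⟶ H)
    (hδ : (toHatF 𝓘 hX).map δ = 0) : δ = 0 := by
  haveI : IsGrothendieckAbelian.{u} (FSch.ModF (FSch.completionAlong X 𝓘) hX) :=
    S0484.result (Opens.grothendieckTopology ((FSch.completionAlong X 𝓘).X 0).toPresheafedSpace.carrier)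
      (ModSite.ringSh ((FSch.completionAlong X 𝓘).Osh hX))
  obtain ⟨hcG⟩ := nonempty_isColimit_ftC hG
  obtain ⟨hcH⟩ := nonempty_isColimit_ftC hH
  refine hcG.hom_ext fun i => ?_
  rw [comp_zero]
  obtain ⟨j, s, hs⟩ := exists_factor_noeth (X := X.toPresheafedSpace.carrier) (O := X.sheaf) hcH
    (isFP_of_isQC_of_isFT (schGood X) (isCoh_ftD hG i).1 (isCoh_ftD hG i).2) ((ftC G).ι.app i ≫ δ)
  have hc' := isColimitOfPreserves (toHatF 𝓘 hX) hcH
  haveI : ∀ a b (t : a ⟶ b), Mono ((ftD H ⋙ toHatF 𝓘 hX).map t) := fun a b t => by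
    haveI : Mono ((ftC H).ι.app a) := inferInstanceAs (Mono a.1.ι)
    haveI : Mono ((ftD H).map t) := mono_of_mono_fac ((ftC H).w t)
    exact mono_toHatF 𝓘 hX (isCoh_ftD hH a) (isCoh_ftD hH b) _
  haveI : Mono (((toHatF 𝓘 hX).mapCocone (ftC H)).ι.app j) := IsColimit.mono_ι_app_of_isFiltered hc' j
  have h0 : (toHatF 𝓘 hX).map s = 0 := by
    rw [← cancel_mono (((toHatF 𝓘 hX).mapCocone (ftC H)).ι.app j), zero_comp]
    refine ((toHatF 𝓘 hX).map_comp _ _).symm.trans ((congrArg _ hs).trans ?_)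
    rw [Functor.map_comp, hδ, comp_zero]
  have : s = 0 := (bijective_map_coh 𝓘 hX J f h𝓘 (isCoh_ftD hG i) (isCoh_ftD hH j)).1
    (h0.trans ((toHatF 𝓘 hX).map_zero _ _).symm)
  rw [← hs, this, zero_comp]

include h𝓘 in
/-- Completion is fully faithful on quasi-coherent modules over a proper scheme. -/
theorem bijective_map_qcoh {G H : X.Modules} (hG : Coh.IsQCoh G) (hH : Coh.IsQCoh H) :
    Function.Bijective fun φ : G ⟶ H => (toHatF 𝓘 hX).map φ := by
  haveI : (toHatF 𝓘 hX).rightAdjoint.Additive := Functor.additive_of_preserves_binary_products _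
  haveI : (toHatF 𝓘 hX).Additive := (Adjunction.ofIsLeftAdjoint (toHatF 𝓘 hX)).left_adjoint_additive
  refine ⟨fun φ ψ e => sub_eq_zero.1 (eq_zero_of_map_eq_zero 𝓘 hX J f h𝓘 hG hH (φ - ψ)
    (by rw [Functor.map_sub]; exact sub_eq_zero.2 e)), fun Φ => ?_⟩
  obtain ⟨hcG⟩ := nonempty_isColimit_ftC hG
  obtain ⟨hcH⟩ := nonempty_isColimit_ftC hH
  have hθ : ∀ i, ∃ θ : (ftD G).obj i ⟶ H, (toHatF 𝓘 hX).map θ = (toHatF 𝓘 hX).map ((ftC G).ι.app i) ≫ Φ :=
      fun i => by
    obtain ⟨j, g, hg⟩ := exists_factor_hat 𝓘 hX (isColimitOfPreserves (toHatF 𝓘 hX) hcH)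
      (isFP_toHatF 𝓘 hX (isCoh_ftD hG i)) ((toHatF 𝓘 hX).map ((ftC G).ι.app i) ≫ Φ)
    obtain ⟨s, hs⟩ := (bijective_map_coh 𝓘 hX J f h𝓘 (isCoh_ftD hG i) (isCoh_ftD hH j)).2 g
    refine ⟨s ≫ (ftC H).ι.app j, ?_⟩
    rw [Functor.map_comp]
    exact (congrArg (· ≫ _) hs).trans hg
  choose θ hθ using hθ
  have hw : ∀ {a b : QcqsColim.FTIndex G} (t : a ⟶ b), (ftD G).map t ≫ θ b = θ a := fun {a b} t => by
    refine sub_eq_zero.1 (eq_zero_of_map_eq_zero 𝓘 hX J f h𝓘 (isCoh_ftD hG a).1 hH _ ?_)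
    rw [Functor.map_sub, Functor.map_comp, hθ, hθ, ← Category.assoc, ← Functor.map_comp, (ftC G).w t, sub_self]
  let c : Cocone (ftD G) := Cocone.mk H
    { app := θ, naturality := fun a b t => (hw t).trans (Category.comp_id _).symm }
  refine ⟨hcG.desc c, (isColimitOfPreserves (toHatF 𝓘 hX) hcG).hom_ext fun i => ?_⟩
  change (toHatF 𝓘 hX).map ((ftC G).ι.app i) ≫ (toHatF 𝓘 hX).map (hcG.desc c) =
    (toHatF 𝓘 hX).map ((ftC G).ι.app i) ≫ Φ
  rw [← Functor.map_comp, hcG.fac c i, ← hθ i]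

/-- The completion of a quasi-coherent module is ind-coherent. -/
theorem ind_toHatF {G : X.Modules} (hG : Coh.IsQCoh G) :
    ObjectProperty.ind.{u} (fpP ((FSch.completionAlong X 𝓘).Osh hX)) ((toHatF 𝓘 hX).obj G) := by
  obtain ⟨hc⟩ := nonempty_isColimit_ftC hG
  exact ⟨QcqsColim.FTIndex G, inferInstance, inferInstance,
    { diag := ftD G ⋙ toHatF 𝓘 hX, ι := ((toHatF 𝓘 hX).mapCocone (ftC G)).ι,
      isColimit := isColimitOfPreserves (toHatF 𝓘 hX) hc },
    fun i => isFP_toHatF 𝓘 hX (isCoh_ftD hG i)⟩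

include h𝓘 in
/-- An ind-coherent module on the completion comes from a quasi-coherent module. -/
theorem exists_iso_toHatF {K : FSch.ModF (FSch.completionAlong X 𝓘) hX}
    (hK : ObjectProperty.ind.{u} (fpP ((FSch.completionAlong X 𝓘).Osh hX)) K) :
    ∃ G : X.Modules, Coh.IsQCoh G ∧ Nonempty ((toHatF 𝓘 hX).obj G ≅ K) := by
  obtain ⟨I, _, _, _, D, c, hc, ⟨e⟩, hD, -⟩ :=
    exists_directed_union (FComplLib.isLocNoethFormal_completionAlong 𝓘) hK
  have hG : ∀ i, ∃ G : X.Modules, Coh.IsCoh G ∧ Nonempty ((toHatF 𝓘 hX).obj G ≅ D.obj i) := fun i => by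
    haveI : ∀ k, IsClosedImmersion (FSch.completionToX X 𝓘 k) := fun k => inferInstance
    have hl := QCoh.isCoh_pushforward_finite (FSch.completionToX X 𝓘 0)
      (isCoh_pullSys (FComplLib.isLocNoethFormal_completionAlong 𝓘) _ (hD i) 0)
    obtain ⟨G, hG, -, ⟨ε⟩⟩ := exists_algebraization 𝓘 (f := f) J hX h𝓘 (D.obj i) (hD i)
      (isProperOver_support_of_isProper f hl)
    exact ⟨G, hG, ⟨hatIso 𝓘 hX G hG ≪≫ ε.symm⟩⟩
  choose G hG ε using hG
  let ε := fun i => (ε i).some
  have hs : ∀ {i j : I} (t : i ⟶ j), ∃ s : G i ⟶ G j,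
      (toHatF 𝓘 hX).map s = (ε i).hom ≫ D.map t ≫ (ε j).inv := fun {i j} t =>
    (bijective_map_coh 𝓘 hX J f h𝓘 (hG i) (hG j)).2 _
  choose s hs using @hs
  let F : I ⥤ X.Modules :=
    { obj := G
      map := fun t => s t
      map_id := fun i => (bijective_map_coh 𝓘 hX J f h𝓘 (hG i) (hG i)).1 (by simp [hs])
      map_comp := fun {i j k} t t' => (bijective_map_coh 𝓘 hX J f h𝓘 (hG i) (hG k)).1 (by simp [hs]) }
  refine ⟨colimit F, QCoh.isQCoh_colimit F fun i => (hG i).1, ⟨?_⟩⟩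
  exact (isColimitOfPreserves (toHatF 𝓘 hX) (colimit.isColimit F)).coconePointsIsoOfNatIso hc
    (NatIso.ofComponents ε fun {i j} t => by
      change (toHatF 𝓘 hX).map (s t) ≫ (ε j).hom = (ε i).hom ≫ D.map t
      simp [hs]) ≪≫ e

end Proper

end Groth.Agent.H9FCoh.QcPull
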