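import Groth.Agent.H9FCoh.AlgzEss
import Groth.Agent.H9FCoh.QcPull
import Groth.Agent.S13335
import Mathlib.CategoryTheory.Preadditive.Basic

/-!
# Coherent formal modules as coherent modules on the completion
-/

set_option autoImplicit false
set_option backward.isDefEq.respectTransparency false
set_option backward.isDefEq.respectTransparency.types false
set_option linter.style.haveILetI false

universe u

open CategoryTheory CategoryTheory.Limits AlgebraicGeometry Opposite

noncomputable section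

namespace Groth.Agent.H9FCoh.CFE

variable {A : Type u} [CommRing A] (I : Ideal A) {X : Scheme.{u}} [X.Over (Spec (CommRingCat.of A))]

theorem step_eq {C : Type*} {D : Type*} {E : Type*} [Category C] [Category D] [Category E] (P : D ⥤ C) (P' : E ⥤ C)
    (Q : D ⥤ E) (s : Q ⋙ P' ⟶ P) {T : C} {M' M : D} {N : E} (u' : T ⟶ P'.obj N) (t : N ⟶ Q.obj M')
    (u : T ⟶ P.obj M') (hu : u' ≫ P'.map t ≫ s.app M' = u) {T' : C} (g' : M' ⟶ M) (u'' : T' ⟶ P.obj M)
    {g : T ⟶ T'} (hg : g ≫ u'' = u ≫ P.map g') :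
    g ≫ u'' = u' ≫ P'.map (t ≫ Q.map g') ≫ s.app M := by
  rw [hg, ← hu, Category.assoc, Category.assoc, Functor.map_comp, Category.assoc]
  exact congrArg (fun q => u' ≫ P'.map t ≫ q) (s.naturality g').symm

section Idl

/-- The ideal sheaf cutting out the levels. -/
abbrev idl : X.IdealSheafData := (FSch.idealSpec A I).comap (X ↘ Spec (CommRingCat.of A))

variable {𝓘 : X.IdealSheafData} (h𝓘 : 𝓘 = idl (X := X) I)
include h𝓘

/-- The levels are cut out by powers. -/
theorem exists_sq (n : ℕ) : ∃ q, IsPullback (FSch.completionToX X 𝓘 n) q (X ↘ Spec (CommRingCat.of A))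
    (Spec.map (CommRingCat.ofHom (Ideal.Quotient.mk (I ^ (n + 1))))) :=
  exists_level_isPullback 𝓘 I _ h𝓘 n

theorem killedBy_level {n : ℕ} {N : ((FSch.completionAlong X 𝓘).X n).Modules} (hN : Coh.IsQCoh N) :
    Formal.KilledBy (I ^ (n + 1)) ((Scheme.Modules.pushforward (FSch.completionToX X 𝓘 n)).obj N) := by
  haveI : IsClosedImmersion (FSch.completionToX X 𝓘 n) := inferInstance
  obtain ⟨q, sq⟩ := exists_sq I h𝓘 n
  exact H9Existence.killedBy_push (q := q) sq hN

theorem isQuot_pushSys {𝔐 : FSch.ModSys (FSch.completionAlong X 𝓘)} (h : 𝔐.IsCoh) (n : ℕ) :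
    Algz7.IsQuot (I ^ (n + 1)) ((pushSys 𝓘 𝔐).map (homOfLE (Nat.le_succ n)).op) := by
  haveI : ∀ k, IsClosedImmersion (FSch.completionToX X 𝓘 k) := fun k => inferInstance
  obtain ⟨q, sq⟩ := exists_sq I h𝓘 n
  have e₁ : 𝔐.toPush n = (Scheme.Modules.pullbackPushforwardAdjunction ((FSch.completionAlong X 𝓘).ι n)).homEquiv
      _ _ (𝔐.e n).hom := rfl
  have h' : Algz7.IsQuot (I ^ (n + 1))
      ((Scheme.Modules.pushforward (FSch.completionToX X 𝓘 (n + 1))).map (𝔐.toPush n) ≫
        (pushStep 𝓘 n).hom.app (𝔐.F n)) := by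
    rw [e₁]
    exact isQuot_step (FSch.completionToX X 𝓘 (n + 1)) (FSch.completionToX X 𝓘 n)
      ((FSch.completionAlong X 𝓘).ι n) (q := q) sq (pushStep 𝓘 n) (h (n + 1)).1 (h n).1 (𝔐.e n)
  rw [pushSys_map_succ]
  exact h'

theorem isCohFormal_pushSys [IsLocallyNoetherian X] {𝔐 : FSch.ModSys (FSch.completionAlong X 𝓘)}
    (h : 𝔐.IsCoh) : Formal.IsCohFormal I (pushSys 𝓘 𝔐) :=
  haveI : ∀ k, IsClosedImmersion (FSch.completionToX X 𝓘 k) := fun k => inferInstance
  ⟨fun n => QCoh.isCoh_pushforward_finite (FSch.completionToX X 𝓘 n) (h n),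
    fun n => killedBy_level I h𝓘 (h n).1, fun n => isQuot_pushSys I h𝓘 h n⟩

omit h𝓘 in
/-- Coherent systems. -/
abbrev MS (X : Scheme.{u}) (𝓘 : X.IdealSheafData) :=
  ObjectProperty.FullSubcategory fun 𝔐 : FSch.ModSys (FSch.completionAlong X 𝓘) => 𝔐.IsCoh

/-- Direct images of coherent systems. -/
def pushF [IsLocallyNoetherian X] : MS X 𝓘 ⥤ Formal2.CohFormalCat I X where
  obj 𝔐 := ⟨pushSys 𝓘 𝔐.obj, isCohFormal_pushSys I h𝓘 𝔐.property⟩
  map φ := ObjectProperty.homMk (pushSysMap 𝓘 φ.hom)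
  map_id 𝔐 := ObjectProperty.hom_ext _ (NatTrans.ext (funext fun n =>
    (Scheme.Modules.pushforward (FSch.completionToX X 𝓘 n.unop)).map_id (𝔐.obj.F n.unop)))
  map_comp φ ψ := ObjectProperty.hom_ext _ (NatTrans.ext (funext fun n =>
    (Scheme.Modules.pushforward (FSch.completionToX X 𝓘 n.unop)).map_comp (φ.hom.app n.unop) (ψ.hom.app n.unop)))

theorem faithful_pushF [IsLocallyNoetherian X] : (pushF I h𝓘).Faithful where
  map_injective {𝔐 𝔑} φ ψ e := ObjectProperty.hom_ext _ (FSch.ModSys.Hom.ext (funext fun n =>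
    haveI : IsClosedImmersion (FSch.completionToX X 𝓘 n) := inferInstance
    (bijective_pushforward_map (FSch.completionToX X 𝓘 n) (𝔐.property n).1 (𝔑.obj.F n)).1
      (congrArg (fun q => q.hom.app (op n)) e)))

theorem full_pushF [IsLocallyNoetherian X] : (pushF I h𝓘).Full where
  map_surjective {𝔐 𝔑} α := by
    obtain ⟨φ, hφ⟩ := exists_hom_of_pushSys 𝓘 𝔐.property α.hom
    exact ⟨ObjectProperty.homMk φ, ObjectProperty.hom_ext _ (NatTrans.ext (funext fun n => hφ n.unop))⟩

/-- Inverse images carry reductions to isomorphisms. -/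
theorem isIso_pull_of_isQuot (n : ℕ) {M N : X.Modules} {g : M ⟶ N} (hg : Algz7.IsQuot (I ^ (n + 1)) g)
    (hM : Coh.IsQCoh M) : IsIso ((Scheme.Modules.pullback (FSch.completionToX X 𝓘 n)).map g) := by
  haveI := hg.epi
  let i := FSch.completionToX X 𝓘 n
  let adj := Scheme.Modules.pullbackPushforwardAdjunction i
  obtain ⟨ψ, hψ⟩ := hg.desc (adj.unit.app M)
    (Algz7.smulFamily_comp_eq_zero (killedBy_level I h𝓘 (QCoh.isQCoh_pullback i hM)) _)
  have h1 : (Scheme.Modules.pullback i).map g ≫ (adj.homEquiv _ _).symm ψ = 𝟙 _ := by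
    rw [← adj.homEquiv_naturality_left_symm, hψ, ← adj.homEquiv_id]
    exact Equiv.symm_apply_apply _ _
  refine ⟨(adj.homEquiv _ _).symm ψ, h1, ?_⟩
  haveI : Epi ((Scheme.Modules.pullback i).map g) :=
    haveI : (Scheme.Modules.pullback i).IsLeftAdjoint := adj.isLeftAdjoint
    inferInstance
  rw [← cancel_epi ((Scheme.Modules.pullback i).map g), ← Category.assoc, h1, Category.id_comp, Category.comp_id]

variable [IsNoetherian X] {G : ℕᵒᵖ ⥤ X.Modules} (hG : Formal.IsCohFormal I G)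

/-- The system of restrictions to the levels. -/
def levels : FSch.ModSys (FSch.completionAlong X 𝓘) where
  F n := (Scheme.Modules.pullback (FSch.completionToX X 𝓘 n)).obj (G.obj (op n))
  e n := (FSch.complMod 𝓘 (G.obj (op (n + 1)))).e n ≪≫
    @asIso _ _ _ _ _ (isIso_pull_of_isQuot I h𝓘 n (g := G.map (homOfLE (Nat.le_succ n)).op) (hG.2.2 n) (hG.1 (n + 1)).1)

theorem isCoh_levels : (levels I h𝓘 hG).IsCoh := fun n =>
  ⟨QCoh.isQCoh_pullback _ (hG.1 n).1, QCoh.isFT_pullback _ (hG.1 n).1 (hG.1 n).2⟩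

theorem toPush_levels (n : ℕ) : (levels I h𝓘 hG).toPush n =
    (FSch.complMod 𝓘 (G.obj (op (n + 1)))).toPush n ≫
      (Scheme.Modules.pushforward ((FSch.completionAlong X 𝓘).ι n)).map
        ((Scheme.Modules.pullback (FSch.completionToX X 𝓘 n)).map (G.map (homOfLE (Nat.le_succ n)).op)) := by
  change (Scheme.Modules.pullbackPushforwardAdjunction _).homEquiv _ _ (_ ≫ _) = _
  exact (Scheme.Modules.pullbackPushforwardAdjunction _).homEquiv_naturality_right _ _

theorem nonempty_iso_levels : Nonempty (pushSys 𝓘 (levels I h𝓘 hG) ≅ G) := by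
  let η : G ⟶ pushSys 𝓘 (levels I h𝓘 hG) := NatTrans.ofOpSequence
    (fun n => (Scheme.Modules.pullbackPushforwardAdjunction (FSch.completionToX X 𝓘 n)).unit.app (G.obj (op n)))
    fun n => by
      rw [pushSys_map_succ, toPush_levels I h𝓘 hG]
      exact step_eq _ _ _ ((pushStep 𝓘 n).hom) _ _ _ (unit_pushStep 𝓘 (G.obj (op (n + 1))) n) _ _
        ((Scheme.Modules.pullbackPushforwardAdjunction (FSch.completionToX X 𝓘 n)).unit.naturality
          (G.map (homOfLE (Nat.le_succ n)).op))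
  haveI : ∀ n, IsIso (η.app n) := fun ⟨n⟩ => by
    haveI : IsClosedImmersion (FSch.completionToX X 𝓘 n) := inferInstance
    obtain ⟨q, sq⟩ := exists_sq I h𝓘 n
    exact H9LiftLF.isIso_unit_of_killed _ (hG.1 n).1 (H9Existence.killed_of_killedBy (q := q) sq (hG.2.1 n))
  haveI := NatIso.isIso_of_isIso_app η
  exact ⟨(asIso η).symm⟩

theorem essSurj_pushF : (pushF I h𝓘).EssSurj :=
  ⟨fun G => ⟨⟨levels I h𝓘 G.property, isCoh_levels I h𝓘 G.property⟩,
    (nonempty_iso_levels I h𝓘 G.property).map fun e => ObjectProperty.isoMk _ e⟩⟩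

end Idl

section Real

variable [IsNoetherian X] (𝓘 : X.IdealSheafData)

/-- The finitely presented modules on the completion. -/
abbrev FC := ObjectProperty.FullSubcategory (fpP ((FSch.completionAlong X 𝓘).Osh
  (FComplLib.isLocNoethFormal_completionAlong 𝓘).1))

/-- Coherent systems give finitely presented modules. -/
def realF : MS X 𝓘 ⥤ FC 𝓘 where
  obj 𝔐 := ⟨𝔐.obj.realMod _, S13334.result _ (FComplLib.isLocNoethFormal_completionAlong 𝓘) _ 𝔐.property⟩
  map φ := ObjectProperty.homMk (FSch.ModSys.realModMap _ φ.hom)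
  map_id 𝔐 := ObjectProperty.hom_ext _ (realModMap_id _ 𝔐.obj)
  map_comp φ ψ := ObjectProperty.hom_ext _ (realModMap_comp _ φ.hom ψ.hom)

instance : (realF 𝓘).Faithful where
  map_injective {𝔐 𝔑} φ ψ e := ObjectProperty.hom_ext _
    ((S13337.result _ (FComplLib.isLocNoethFormal_completionAlong 𝓘) _ _ 𝔐.property 𝔑.property).1
      (congrArg (fun q => q.hom) e))

instance : (realF 𝓘).Full where
  map_surjective {𝔐 𝔑} α := by
    obtain ⟨φ, hφ⟩ := (S13337.result _ (FComplLib.isLocNoethFormal_completionAlong 𝓘) _ _ 𝔐.property 𝔑.property).2 α.hom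
    exact ⟨ObjectProperty.homMk φ, ObjectProperty.hom_ext _ hφ⟩

instance : (realF 𝓘).EssSurj :=
  ⟨fun F => by
    obtain ⟨𝔐, h, ⟨e⟩⟩ := S13335.result _ (FComplLib.isLocNoethFormal_completionAlong 𝓘) F.obj F.property
    exact ⟨⟨𝔐, h⟩, ⟨ObjectProperty.isoMk _ e.symm⟩⟩⟩

instance : (realF 𝓘).IsEquivalence where

theorem hasKernels_FC : HasKernels (FC 𝓘) := by
  haveI : (fpP ((FSch.completionAlong X 𝓘).Osh (FComplLib.isLocNoethFormal_completionAlong 𝓘).1)).IsClosedUnderKernels :=
    ⟨by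
      rintro _ ⟨f, k, hk, hX, hY⟩
      let G := good (FComplLib.isLocNoethFormal_completionAlong 𝓘)
      haveI := mono_of_isLimit_fork hk
      exact isFP_of_mono G hX (isQC_of_isFP (QcPull.isCohF_iso 𝓘 _ ((kernelIsKernel f).conePointUniqueUpToIso hk)
        (isFP_of_mono G hX (isQC_kernel G (isQC_of_isFP hX) (isQC_of_isFP hY) f) (kernel.ι f)))) k.ι⟩
  infer_instance

end Real

section Transfer

variable [IsNoetherian X] {𝓘 : X.IdealSheafData} (h𝓘 : 𝓘 = idl (X := X) I)

include h𝓘 in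
/-- Coherent formal modules have kernels. -/
theorem hasKernels_cohFormal : HasKernels (Formal2.CohFormalCat I X) := by
  haveI := faithful_pushF I h𝓘
  haveI := full_pushF I h𝓘
  haveI := essSurj_pushF I h𝓘
  haveI : (pushF I h𝓘).IsEquivalence := {}
  haveI := hasKernels_FC 𝓘
  haveI : HasEqualizers (FC 𝓘) := Preadditive.hasEqualizers_of_hasKernels
  haveI : HasLimitsOfShape WalkingParallelPair (MS X 𝓘) :=
    Adjunction.hasLimitsOfShape_of_equivalence (realF 𝓘)
  haveI : HasLimitsOfShape WalkingParallelPair (Formal2.CohFormalCat I X) :=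
    Adjunction.hasLimitsOfShape_of_equivalence (pushF I h𝓘).inv
  infer_instance

end Transfer

end Groth.Agent.H9FCoh.CFE
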