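import Groth.Agent.H9FCoh.Coh

/-!
# Free modules are finitely presented
-/

set_option autoImplicit false
set_option backward.isDefEq.respectTransparency false
set_option backward.isDefEq.respectTransparency.types false
set_option linter.style.haveILetI false

universe u

open CategoryTheory CategoryTheory.Limits Opposite TopologicalSpace
open Groth.Agent.RngSp (fns Nearby)
open Groth.Agent.ClosedRinged Groth.Agent.ModPull

noncomputable section

namespace Groth.Agent.H9FCoh

variable {X : TopCat.{u}} {O : TopCat.Sheaf CommRingCat.{u} X}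

theorem isFP_free (ι : Type u) [Finite ι] : IsFP (SheafOfModules.free (R := ModSite.ringSh O) ι) := by
  classical
  haveI := Fintype.ofFinite ι
  rw [IsFP, RngSp.isFinitePresentation_iff]
  intro x
  let e : ∀ (i : ι) (V : Opens X), (RngSp.freeM O ι).val.obj (op V) := fun i V =>
    (SheafOfModules.freeSection (R := ModSite.ringSh O) i).eval (op V)
  have hres : ∀ (i : ι) {V W : Opens X} (h : W ≤ V), res (RngSp.freeM O ι) h (e i V) = e i W :=
    fun i _ _ h => RngSp.rsM_eval (O := O) (homOfLE h) _
  refine ⟨⊤, ι, PEmpty.{u + 1}, inferInstance, inferInstance, fun i => e i ⊤, fun l => l.elim, trivial,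
    fun V hV z y hy => ⟨V, le_rfl, hy, ?_⟩, ⟨fun l => l.elim, fun V hV c hc y hy => ⟨V, le_rfl, hy, ?_⟩⟩⟩
  · show res (RngSp.freeM O ι) le_rfl z ∈ _
    rw [res_self, RngSp.expand z]
    refine Submodule.sum_mem _ fun i _ => Submodule.smul_mem _ _ (Submodule.subset_span ⟨i, ?_⟩)
    exact hres i _
  · have hc0 : c = 0 := funext fun i => by
      have h1 := congrArg (RngSp.coord (O := O) i) hc
      rw [map_sum, map_zero] at h1
      refine Eq.trans (Eq.symm ?_) h1
      rw [Finset.sum_eq_single i, map_smul, hres, RngSp.coord_freeSection, if_pos rfl]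
      · exact mul_one _
      · intro j _ hj
        rw [map_smul, hres, RngSp.coord_freeSection, if_neg hj, smul_zero]
      · simp
    show (fun i => resO O le_rfl (c i)) ∈ _
    have : (fun i => resO O (le_rfl : V ≤ V) (c i)) = 0 := funext fun i => by
      rw [hc0]; exact map_zero ((ModSite.ringSh O).obj.map _).hom
    rw [this]
    exact zero_mem _

theorem isFP_unit : IsFP (SheafOfModules.unit (ModSite.ringSh O)) := by
  rw [IsFP, RngSp.isFinitePresentation_iff]
  intro x
  refine ⟨⊤, PUnit.{u + 1}, PEmpty.{u + 1}, inferInstance, inferInstance, fun _ => (1 : fns O ⊤), fun l => l.elim,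
    trivial, fun V hV z y hy => ⟨V, le_rfl, hy, ?_⟩, ⟨fun l => l.elim, fun V hV c hc y hy => ⟨V, le_rfl, hy, ?_⟩⟩⟩
  · show res (SheafOfModules.unit (ModSite.ringSh O)) le_rfl z ∈ _
    rw [res_self]
    have h1 : res (SheafOfModules.unit (ModSite.ringSh O)) (le_rfl.trans hV) (1 : fns O ⊤) = (1 : fns O V) :=
      map_one ((ModSite.ringSh O).obj.map _).hom
    have : (z : fns O V) = (z : fns O V) •
        res (SheafOfModules.unit (ModSite.ringSh O)) (le_rfl.trans hV) (1 : fns O ⊤) := by
      rw [h1]; exact (@mul_one (fns O V) _ z).symm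
    rw [this]
    exact Submodule.smul_mem _ _ (Submodule.subset_span ⟨PUnit.unit, rfl⟩)
  · have hc0 : c = 0 := funext fun i => by
      rw [Fintype.sum_unique] at hc
      refine Eq.trans ?_ hc
      have h1 : res (SheafOfModules.unit (ModSite.ringSh O)) hV (1 : fns O ⊤) = (1 : fns O V) :=
        map_one ((ModSite.ringSh O).obj.map _).hom
      rw [h1]
      exact (mul_one _).symm
    show (fun i => resO O le_rfl (c i)) ∈ _
    have : (fun i => resO O (le_rfl : V ≤ V) (c i)) = 0 := funext fun i => by
      rw [hc0]; exact map_zero ((ModSite.ringSh O).obj.map _).hom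
    rw [this]
    exact zero_mem _

end Groth.Agent.H9FCoh
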