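import Groth.Agent.H9FCoh.Coh
import Groth.Agent.H9FCoh.Free
import Groth.Agent.RngSp.Opens
import Groth.Agent.ModTensor.FreeOn
import Groth.Agent.S0484
import Mathlib.CategoryTheory.Abelian.GrothendieckCategory.Subobject
import Mathlib.CategoryTheory.ObjectProperty.Small

/-!
# Modules of finite type form an essentially small class; finite sums of coherent modules
-/

set_option autoImplicit false
set_option backward.isDefEq.respectTransparency false
set_option backward.isDefEq.respectTransparency.types false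
set_option linter.style.haveILetI false

universe u

open CategoryTheory CategoryTheory.Limits Opposite TopologicalSpace
open Groth.Agent.RngSp (pt gm fns mp gm_res gm_add gm_zero)
open Groth.Agent.ClosedRinged

noncomputable section

namespace Groth.Agent.H9FCoh

variable {X : TopCat.{u}} (O : TopCat.Sheaf CommRingCat.{u} X)

/-- The module corepresenting sections over an open. -/
abbrev genYon (U : Opens X) : ModSite.Mod O :=
  ModTensor.freeYon (C := Opens X) (J := Opens.grothendieckTopology X) O U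

variable {O}

theorem exists_genYon_hit (M : ModSite.Mod O) (U : Opens X) (s : M.val.obj (op U)) :
    ∃ (a : genYon O U ⟶ M) (t : (genYon O U).val.obj (op U)), mp a U t = s := by
  let e := ModTensor.freeYonCorepr (C := Opens X) (J := Opens.grothendieckTopology X) O U
  refine ⟨e.homEquiv.symm s, e.homEquiv (𝟙 _), ?_⟩
  have := e.homEquiv_comp (e.homEquiv.symm s) (𝟙 (genYon O U))
  rw [Category.id_comp, Equiv.apply_symm_apply] at this
  exact this.symm

/-- The free module with prescribed numbers of generators on all opens. -/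
def bigYon (O : TopCat.Sheaf CommRingCat.{u} X) (ν : Opens X → ℕ) : ModSite.Mod O :=
  ∐ fun p : Σ U : Opens X, ULift.{u} (Fin (ν U)) => genYon O p.1

theorem exists_epi_bigYon (M : ModSite.Mod O) (hM : IsFT M) :
    ∃ (ν : Opens X → ℕ) (π : bigYon O ν ⟶ M), Epi π := by
  classical
  let Has : Opens X → Prop := fun U => ∃ (n : ℕ) (t : ULift.{u} (Fin n) → M.val.obj (op U)), RngSp.GenOn M U t
  have h : ∀ U : Opens X, ∃ (n : ℕ) (t : ULift.{u} (Fin n) → M.val.obj (op U)), Has U → RngSp.GenOn M U t := fun U => by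
    by_cases hU : Has U
    · obtain ⟨n, t, ht⟩ := hU
      exact ⟨n, t, fun _ => ht⟩
    · exact ⟨0, fun i => i.down.elim0, fun h => absurd h hU⟩
  choose ν t ht using h
  choose a b hb using fun p : Σ U : Opens X, ULift.{u} (Fin (ν U)) => exists_genYon_hit M p.1 (t p.1 p.2)
  refine ⟨ν, Sigma.desc a, RngSp.epi_of_surjective _ fun W z x hx => ?_⟩
  obtain ⟨U, ι, hι, s, hxU, hs⟩ := RngSp.isFiniteType_iff.1 hM x
  haveI := Fintype.ofFinite ι
  have hHas : Has U := ⟨Fintype.card ι, fun i => s ((Fintype.equivFin ι).symm i.down), fun V hV z y hy => by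
    obtain ⟨V', hV', hyV', hz⟩ := hs V hV z y hy
    refine ⟨V', hV', hyV', Submodule.span_mono ?_ hz⟩
    rintro _ ⟨i, rfl⟩
    exact ⟨⟨Fintype.equivFin ι i⟩, by simp⟩⟩
  obtain ⟨V, hV, hxV, hz⟩ := (ht U hHas) (W ⊓ U) inf_le_right (res M inf_le_left z) x ⟨hx, hxU⟩
  refine ⟨V, hV.trans inf_le_left, hxV, ?_⟩
  have hle : ∀ y ∈ Submodule.span (fns O V) (Set.range fun i => res M (hV.trans inf_le_right) (t U i)),
      y ∈ LinearMap.range (mp (Sigma.desc a : bigYon O ν ⟶ M) V) := fun y hy => by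
    refine (Submodule.span_le.2 ?_ : _ ≤ LinearMap.range _) hy
    rintro _ ⟨i, rfl⟩
    refine ⟨res _ (hV.trans inf_le_right)
      (mp (Sigma.ι (fun p : Σ U : Opens X, ULift.{u} (Fin (ν U)) => genYon O p.1) ⟨U, i⟩) U (b ⟨U, i⟩)), ?_⟩
    refine (RngSp.mp_res (Sigma.desc a) (hV.trans inf_le_right) _).trans (congrArg _ ?_)
    exact (congrArg (fun q => mp q U (b ⟨U, i⟩)) (Sigma.ι_desc a ⟨U, i⟩)).trans (hb ⟨U, i⟩)
  obtain ⟨m, hm⟩ := hle _ hz
  exact ⟨m, hm.trans (res_res M inf_le_left hV z)⟩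

theorem essentiallySmall_isFT :
    ObjectProperty.EssentiallySmall.{u} (fun M : ModSite.Mod O => IsFT M) := by
  haveI : IsGrothendieckAbelian.{u} (ModSite.Mod O) :=
    S0484.result (Opens.grothendieckTopology X) (ModSite.ringSh O)
  haveI : WellPowered.{u} (ModSite.Mod O) := IsGrothendieckAbelian.wellPowered.{u} _
  let obj : (Σ ν : Opens X → ℕ, Shrink.{u} (Subobject (bigYon O ν))) → ModSite.Mod O :=
    fun p => cokernel ((equivShrink (Subobject (bigYon O p.1))).symm p.2).arrow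
  refine ⟨ObjectProperty.ofObj obj, inferInstance, fun P hP => ?_⟩
  obtain ⟨ν, π, hπ⟩ := exists_epi_bigYon P hP
  refine ⟨_, ObjectProperty.ofObj_apply obj ⟨ν, equivShrink _ (Subobject.mk (kernel.ι π))⟩, ⟨?_⟩⟩
  show P ≅ cokernel ((equivShrink (Subobject (bigYon O ν))).symm (equivShrink _ (Subobject.mk (kernel.ι π)))).arrow
  rw [Equiv.symm_apply_apply]
  exact ((Abelian.epiIsCokernelOfKernel _ (kernelIsKernel π)).coconePointUniqueUpToIso (cokernelIsCokernel _)) ≪≫
    (cokernelEpiComp (Subobject.underlyingIso (kernel.ι π)).hom (kernel.ι π)).symm ≪≫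
    cokernelIsoOfEq (Subobject.underlyingIso_hom_comp_eq_mk (kernel.ι π))

variable (G : Good O) {M M' : ModSite.Mod O}

theorem isFP_cokernel (hG : Good O) (hM : IsFP M) (hM' : IsFP M') (f : M ⟶ M') : IsFP (cokernel f) :=
  isFP_of_epi hG hM' (isQC_cokernel hG (isQC_of_isFP hM) (isQC_of_isFP hM') f) (cokernel.π f)

theorem fx_comp {M'' : ModSite.Mod O} (f : M ⟶ M') (g : M' ⟶ M'') (x : X) (z : ModSite.stalkAb (pt x) M) :
    fx g x (fx f x z) = fx (f ≫ g) x z :=
  (ConcreteCategory.congr_hom ((RngSp.stalkF O x).map_comp f g) z).symm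

theorem fx_add (f g : M ⟶ M') (x : X) (z : ModSite.stalkAb (pt x) M) :
    fx (f + g) x z = fx f x z + fx g x z := by
  obtain ⟨U, hx, y, rfl⟩ := RngSp.exists_gm z
  rw [fx_gm, fx_gm, fx_gm, ← gm_add]
  rfl

/-- The relations of a binary sum. -/
def sumN {U : Opens X} {ι κ : Type u} (N : Submodule (Fn O U) (ι →₀ Fn O U))
    (N' : Submodule (Fn O U) (κ →₀ Fn O U)) : Submodule (Fn O U) (ι ⊕ κ →₀ Fn O U) :=
  N.map (Finsupp.lmapDomain (Fn O U) (Fn O U) Sum.inl) ⊔ N'.map (Finsupp.lmapDomain (Fn O U) (Fn O U) Sum.inr)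

theorem isModel_biprod {U : Opens X} {ι κ : Type u} {t : ι → M.val.obj (op U)} {t' : κ → M'.val.obj (op U)}
    {N : Submodule (Fn O U) (ι →₀ Fn O U)} {N' : Submodule (Fn O U) (κ →₀ Fn O U)}
    (hm : IsModel M U t N) (hm' : IsModel M' U t' N') :
    IsModel (M ⊞ M') U (Sum.elim (fun i => mp (biprod.inl : M ⟶ M ⊞ M') U (t i))
      (fun j => mp (biprod.inr : M' ⟶ M ⊞ M') U (t' j))) (sumN N N') := by
  classical
  let T : ι ⊕ κ → (M ⊞ M').val.obj (op U) := Sum.elim (fun i => mp (biprod.inl : M ⟶ M ⊞ M') U (t i))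
      (fun j => mp (biprod.inr : M' ⟶ M ⊞ M') U (t' j))
  have htot : ∀ (x : X) (z : ModSite.stalkAb (pt x) (M ⊞ M')),
      fx biprod.inl x (fx biprod.fst x z) + fx biprod.inr x (fx biprod.snd x z) = z := fun x z => by
    rw [fx_comp, fx_comp, ← fx_add, biprod.total]
    exact ConcreteCategory.congr_hom ((RngSp.stalkF O x).map_id _) z
  have hl : ∀ (x : X) (hx : x ∈ U) (w : ι →₀ St O x), gcmb (fun p => gm (M ⊞ M') hx (T p)) (w.mapDomain Sum.inl) =
      fx biprod.inl x (gcmb (fun i => gm M hx (t i)) w) := fun x hx w => by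
    rw [gcmb, Finsupp.linearCombination_mapDomain, fx_gcmb]
    rfl
  have hr : ∀ (x : X) (hx : x ∈ U) (w : κ →₀ St O x), gcmb (fun p => gm (M ⊞ M') hx (T p)) (w.mapDomain Sum.inr) =
      fx biprod.inr x (gcmb (fun i => gm M' hx (t' i)) w) := fun x hx w => by
    rw [gcmb, Finsupp.linearCombination_mapDomain, fx_gcmb]
    rfl
  refine ⟨fun x hx z => ?_, fun x hx w => ⟨fun hw => ?_, fun hw => ?_⟩⟩
  · obtain ⟨a, ha⟩ := hm.gen x hx (fx biprod.fst x z)
    obtain ⟨b, hb⟩ := hm'.gen x hx (fx biprod.snd x z)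
    exact ⟨a.mapDomain Sum.inl + b.mapDomain Sum.inr, by rw [map_add, hl, hr, ha, hb, htot]⟩
  · obtain ⟨⟨a, b⟩, rfl⟩ := (Finsupp.sumFinsuppEquivProdFinsupp).symm.surjective w
    have e : Finsupp.sumFinsuppEquivProdFinsupp.symm (a, b) = a.mapDomain Sum.inl + b.mapDomain Sum.inr := by
      ext (i | j) <;> simp [Finsupp.mapDomain_notin_range, Finsupp.mapDomain_apply Sum.inl_injective,
        Finsupp.mapDomain_apply Sum.inr_injective]
    rw [e, map_add, hl, hr] at hw
    have ha := congrArg (fx (biprod.fst : M ⊞ M' ⟶ M) x) hw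
    have hb := congrArg (fx (biprod.snd : M ⊞ M' ⟶ M') x) hw
    simp only [map_add, map_zero, fx_comp, biprod.inl_fst, biprod.inr_fst, biprod.inl_snd, biprod.inr_snd] at ha hb
    have hid : ∀ (N₀ : ModSite.Mod O) (z : ModSite.stalkAb (pt x) N₀), fx (𝟙 N₀) x z = z := fun N₀ z =>
      ConcreteCategory.congr_hom ((RngSp.stalkF O x).map_id N₀) z
    have hz0 : ∀ (N₀ N₁ : ModSite.Mod O) (z : ModSite.stalkAb (pt x) N₀), fx (0 : N₀ ⟶ N₁) x z = 0 := fun N₀ N₁ z => by
      have := fx_add (0 : N₀ ⟶ N₁) 0 x z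
      rw [add_zero] at this
      exact add_left_cancel (this.symm.trans (add_zero _).symm)
    rw [hid, hz0, add_zero] at ha
    rw [hid, hz0, zero_add] at hb
    rw [e]
    exact add_mem (Submodule.span_mono (Set.image_mono fun v hv => SetLike.le_def.1 le_sup_left hv)
        (mapDomain_mem_pN (gH O hx) Sum.inl ((Submodule.span_mono (Set.image_mono
          (Submodule.le_comap_map _ _)) : pN (gH O hx) N ≤ _) ((hm.rel x hx a).1 ha))))
      (Submodule.span_mono (Set.image_mono fun v hv => SetLike.le_def.1 le_sup_right hv)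
        (mapDomain_mem_pN (gH O hx) Sum.inr ((Submodule.span_mono (Set.image_mono
          (Submodule.le_comap_map _ _)) : pN (gH O hx) N' ≤ _) ((hm'.rel x hx b).1 hb))))
  · refine LinearMap.mem_ker.1 ((Submodule.span_le.2 ?_ : pN (gH O hx) (sumN N N') ≤ LinearMap.ker _) hw)
    rintro _ ⟨v, hv, rfl⟩
    obtain ⟨_, ⟨a, ha, rfl⟩, _, ⟨b, hb, rfl⟩, rfl⟩ := Submodule.mem_sup.1 hv
    refine LinearMap.mem_ker.2 ?_
    rw [pv_add, map_add, Finsupp.lmapDomain_apply, Finsupp.lmapDomain_apply, pv_mapDomain, pv_mapDomain, hl, hr,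
      (hm.rel x hx _).2 (pv_mem_pN _ ha), (hm'.rel x hx _).2 (pv_mem_pN _ hb), map_zero, map_zero, add_zero]

include G in
theorem isFP_biprod (hM : IsFP M) (hM' : IsFP M') : IsFP (M ⊞ M') := by
  refine isFinitePresentation_of_models fun x => ?_
  obtain ⟨U₁, hU₁, -, ι, hι, t, N, hxU₁, hm⟩ :=
    exists_finite_model G (isQC_of_isFP hM) (isFT_of_isFP hM) (show x ∈ (⊤ : Opens X) from trivial)
  obtain ⟨U, hU, hUU, κ, hκ, t', N', hxU, hm'⟩ :=
    exists_finite_model G (isQC_of_isFP hM') (isFT_of_isFP hM') hxU₁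
  haveI := G.noeth U hU
  exact ⟨U, ι ⊕ κ, inferInstance, _, _, hxU, IsNoetherian.noetherian _,
    isModel_biprod (hm.mono hUU) hm'⟩

end Groth.Agent.H9FCoh
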