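import Groth.Agent.H9FCoh.ModelAcyclic

/-!
# Extensions of quasi-coherent modules on formal schemes
-/

set_option autoImplicit false
set_option backward.isDefEq.respectTransparency false
set_option backward.isDefEq.respectTransparency.types false
set_option linter.style.haveILetI false

universe u

open CategoryTheory CategoryTheory.Limits TopologicalSpace Opposite
open Groth.Agent.ClosedRinged Groth.Agent.ModPull
open Groth.Agent.RngSp (pt gm mp fns gm_zero)

noncomputable section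

namespace Groth.Agent.H9FCoh

section generic

variable {X : TopCat.{u}} {O : TopCat.Sheaf CommRingCat.{u} X} {S : ShortComplex (ModSite.Mod O)}

theorem g_f_fx (x : X) (z : ModSite.stalkAb (pt x) S.X₁) : fx S.g x (fx S.f x z) = 0 := by
  obtain ⟨U, hx, y, rfl⟩ := RngSp.exists_gm z
  rw [fx_gm, fx_gm, show mp S.g U (mp S.f U y) = mp (S.f ≫ S.g) U y from rfl, S.zero]
  exact gm_zero hx

theorem exists_fx_eq_of_exact (hS : S.ShortExact) {x : X} (z : ModSite.stalkAb (pt x) S.X₂)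
    (hz : fx S.g x z = 0) : ∃ a, fx S.f x a = z := by
  obtain ⟨U, hx, y, rfl⟩ := RngSp.exists_gm z
  rw [fx_gm, ← gm_zero (M := S.X₃) hx] at hz
  obtain ⟨V, hV, hxV, he⟩ := (RngSp.gm_eq_iff hx _ _).1 hz
  obtain ⟨a, ha⟩ := exists_app_eq_of_exact hS (U := V) (res S.X₂ hV y)
    ((RngSp.mp_res S.g hV y).trans (he.trans (map_zero _)))
  refine ⟨gm S.X₁ hxV a, ?_⟩
  rw [fx_gm]
  exact (congrArg (gm S.X₂ hxV) ha).trans (RngSp.gm_res hV hxV y)

theorem gm_cmb_sum {M : ModSite.Mod O} {U : Opens X} {ι κ : Type u} (tA : ι → M.val.obj (op U))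
    (tB : κ → M.val.obj (op U)) (a : ι →₀ Fn O U) (b : κ →₀ Fn O U) :
    cmb (Sum.elim tA tB) (a.mapDomain Sum.inl + b.mapDomain Sum.inr) = cmb tA a + cmb tB b := by
  refine (map_add (Finsupp.linearCombination (fns O U) (Sum.elim tA tB))
    (show ι ⊕ κ →₀ fns O U from a.mapDomain Sum.inl) (show ι ⊕ κ →₀ fns O U from b.mapDomain Sum.inr)).trans
    (congrArg₂ (· + ·) ?_ ?_)
  · exact Finsupp.linearCombination_mapDomain (fns O U) (Sum.inl : ι → ι ⊕ κ) (show ι →₀ fns O U from a)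
  · exact Finsupp.linearCombination_mapDomain (fns O U) (Sum.inr : κ → ι ⊕ κ) (show κ →₀ fns O U from b)

theorem isModel_extension (G : Good O) (hS : S.ShortExact) {U : Opens X} (hU : G.P U) {ι κ : Type u}
    {tA : ι → S.X₁.val.obj (op U)} {NA : Submodule (Fn O U) (ι →₀ Fn O U)} (hA : IsModel S.X₁ U tA NA)
    {tB : κ → S.X₃.val.obj (op U)} {NB : Submodule (Fn O U) (κ →₀ Fn O U)} (hB : IsModel S.X₃ U tB NB)
    (l : κ → S.X₂.val.obj (op U)) (hl : ∀ k, mp S.g U (l k) = tB k) :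
    IsModel S.X₂ U (Sum.elim (fun i => mp S.f U (tA i)) l)
      (relN (Sum.elim (fun i => mp S.f U (tA i)) l)) := by
  classical
  let T := Sum.elim (fun i => mp S.f U (tA i)) l
  have := hS.mono_f
  have hsplit : ∀ (x : X) (hx : x ∈ U) (a : ι →₀ St O x) (b : κ →₀ St O x),
      gcmb (fun p => gm S.X₂ hx (T p)) (a.mapDomain Sum.inl + b.mapDomain Sum.inr) =
        fx S.f x (gcmb (fun i => gm S.X₁ hx (tA i)) a) + gcmb (fun k => gm S.X₂ hx (l k)) b := fun x hx a b => by
    rw [map_add, gcmb, Finsupp.linearCombination_mapDomain, Finsupp.linearCombination_mapDomain, fx_gcmb]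
    rfl
  have hg : ∀ (x : X) (hx : x ∈ U) (b : κ →₀ St O x),
      fx S.g x (gcmb (fun k => gm S.X₂ hx (l k)) b) = gcmb (fun k => gm S.X₃ hx (tB k)) b := fun x hx b => by
    rw [fx_gcmb]; simp only [hl]
  refine ⟨fun x hx z => ?_, fun x hx w => ⟨fun hw => ?_, gcmb_of_mem_relN hx⟩⟩
  · obtain ⟨b, hb⟩ := hB.gen x hx (fx S.g x z)
    obtain ⟨a₀, ha₀⟩ := exists_fx_eq_of_exact hS (z - gcmb (fun k => gm S.X₂ hx (l k)) b)
      (by rw [map_sub, hg, hb, sub_self])
    obtain ⟨a, ha⟩ := hA.gen x hx a₀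
    exact ⟨a.mapDomain Sum.inl + b.mapDomain Sum.inr, by rw [hsplit, ha, ha₀, sub_add_cancel]⟩
  · obtain ⟨⟨a, b⟩, rfl⟩ := (Finsupp.sumFinsuppEquivProdFinsupp).symm.surjective w
    have e : Finsupp.sumFinsuppEquivProdFinsupp.symm (a, b) = a.mapDomain Sum.inl + b.mapDomain Sum.inr := by
      ext (i | j) <;> simp [Finsupp.mapDomain_notin_range, Finsupp.mapDomain_apply Sum.inl_injective,
        Finsupp.mapDomain_apply Sum.inr_injective]
    rw [e] at hw ⊢
    rw [hsplit] at hw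
    have hb : b ∈ pN (gH O hx) NB := (hB.rel x hx b).1 (by
      have := congrArg (fx S.g x) hw
      rwa [map_add, map_zero, hg, g_f_fx, zero_add] at this)
    obtain ⟨m, c, n, hn, hsum⟩ := exists_sum_of_mem_pN _ hb
    have hlift : ∀ j, ∃ v : ι →₀ Fn O U, mp S.f U (cmb tA v) = cmb l (n j) := fun j => by
      obtain ⟨a₀, ha₀⟩ := exists_app_eq_of_exact hS (U := U) (cmb l (n j))
        ((mp_cmb S.g l (n j)).trans (by simp only [hl]; exact hB.cmb_eq_zero (hn j)))
      obtain ⟨v, hv⟩ := hA.exists_cmb G hU a₀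
      exact ⟨v, by rw [hv]; exact ha₀⟩
    choose v hv using hlift
    let r : Fin m → (ι ⊕ κ →₀ Fn O U) := fun j => (-v j).mapDomain Sum.inl + (n j).mapDomain Sum.inr
    have hr : ∀ j, r j ∈ relN T := fun j => by
      refine mem_relN.2 ((gm_cmb_sum _ _ _ _).trans (eq_of_gm fun y hy => ?_))
      rw [RngSp.gm_add, ← mp_cmb, gm_zero, ← hv, ← fx_gm, ← fx_gm, gm_cmb, gm_cmb, pv, pv, ← map_add, ← map_add]
      rw [show Finsupp.mapRange (gH O hy) _ (-v j) + Finsupp.mapRange (gH O hy) _ (v j) = 0 by ext i; simp,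
        map_zero, map_zero]
    let a' : ι →₀ St O x := a + ∑ j, c j • pv (gH O hx) (v j)
    have e2 : a.mapDomain Sum.inl + b.mapDomain Sum.inr =
        a'.mapDomain Sum.inl + ∑ j, c j • pv (gH O hx) (r j) := by
      rw [← hsum]
      simp only [a', r, pv_add, pv_mapDomain, Finsupp.mapDomain_add, Finsupp.mapDomain_finset_sum,
        Finsupp.mapDomain_smul, smul_add, Finset.sum_add_distrib]
      have : ∀ j, pv (gH O hx) (-v j) = -pv (gH O hx) (v j) := fun j => by ext i; simp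
      simp only [this, ← Finsupp.mapDomain.addMonoidHom_apply, map_neg, smul_neg, Finset.sum_neg_distrib]
      abel
    have hsum0 : gcmb (fun p => gm S.X₂ hx (T p)) (∑ j, c j • pv (gH O hx) (r j)) = 0 :=
      gcmb_of_mem_relN hx (Submodule.sum_mem _ fun j _ => Submodule.smul_mem _ _ (pv_mem_pN _ (hr j)))
    have ha' : a' ∈ pN (gH O hx) NA := by
      refine (hA.rel x hx a').1 (fx_injective S.f x ?_)
      have h0 := hsplit x hx a b
      rw [e2, map_add, hsum0, add_zero, hw] at h0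
      have h1 := hsplit x hx a' 0
      rw [Finsupp.mapDomain_zero, add_zero, map_zero, add_zero, h0] at h1
      rw [← h1, map_zero]
    rw [e2]
    refine add_mem (mapDomain_mem_pN (gH O hx) Sum.inl ((Submodule.span_mono (Set.image_mono ?_) :
      pN (gH O hx) NA ≤ _) ha')) (Submodule.sum_mem _ fun j _ => Submodule.smul_mem _ _ (pv_mem_pN _ (hr j)))
    intro u hu
    refine mem_relN.2 ?_
    have := gm_cmb_sum (fun i => mp S.f U (tA i)) l u (0 : κ →₀ Fn O U)
    rw [Finsupp.mapDomain_zero, add_zero, ← mp_cmb, hA.cmb_eq_zero hu, map_zero, zero_add] at this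
    exact this.trans Finsupp.sum_zero_index

end generic

open AlgebraicGeometry

variable {𝔛 : FSch.Sys.{u}} (h : 𝔛.IsLocNoethFormal)

/-- Standard covers inside an open. -/
def stdIn (V : (𝔛.X 0).Opens) : QCoh.Ab.CoverSystem (𝔛.X 0).toPresheafedSpace.carrier where
  Good W := IsAffineOpen W ∧ W ≤ V
  Cov W {ι} U := (QCoh.stdCovers (𝔛.X 0)).Cov W U ∧ W ≤ V
  le {V' ι U} hU i := (QCoh.stdCovers (𝔛.X 0)).le hU.1 i
  covers {V' ι U} hU := (QCoh.stdCovers (𝔛.X 0)).covers hU.1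
  inter {V' ι U} hU {p} σ := ⟨(QCoh.stdCovers (𝔛.X 0)).inter hU.1 σ,
    (iInf_le _ 0).trans (((QCoh.stdCovers (𝔛.X 0)).le hU.1 (σ 0)).trans hU.2)⟩
  exists_refinement {W} hW N hN := by
    obtain ⟨ι, U, hU, h'⟩ := (QCoh.stdCovers (𝔛.X 0)).exists_refinement hW.1 N hN
    exact ⟨ι, U, ⟨hU, hW.2⟩, h'⟩

theorem sections_surjective_of_isModel {S : ShortComplex (FSch.ModF 𝔛 h.1)} (hS : S.ShortExact)
    {V : (𝔛.X 0).Opens} (hV : IsAffineOpen V) {ι : Type u} {t : ι → S.X₁.val.obj (op V)}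
    {N : Submodule (Ox h V) (ι →₀ Ox h V)} (hm : IsModel S.X₁ V t N) :
    Function.Surjective (mp S.g V) := by
  haveI := ModTensor.preservesColimits_toSheaf (𝔛.Osh h.1)
  exact QCoh.Ab.sections_surjective (stdIn V) (hS.map_of_exact (SheafOfModules.toSheaf _))
    (fun W hW ι U hU => acyclic_of_isModel h V S.X₁ hV hm hW.2 hU.1) ⟨hV, le_rfl⟩

theorem isQC_extension {S : ShortComplex (FSch.ModF 𝔛 h.1)} (hS : S.ShortExact) (h₁ : IsQC S.X₁)
    (h₃ : IsQC S.X₃) : IsQC S.X₂ := by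
  refine isQuasicoherent_of_models (M := S.X₂) fun x => ?_
  haveI := h₁
  obtain ⟨V₁, hV₁, -, ι, tA, NA, hxV₁, hA⟩ :=
    exists_isModel (M := S.X₁) (good h) (show x ∈ (⊤ : (𝔛.X 0).Opens) from trivial)
  haveI := h₃
  obtain ⟨V, hV, hVV, κ, tB, NB, hxV, hB⟩ := exists_isModel (M := S.X₃) (good h) hxV₁
  choose l hl using fun k => sections_surjective_of_isModel h hS hV (hA.mono hVV) (tB k)
  exact ⟨V, _, _, _, hxV, isModel_extension (good h) hS hV (hA.mono hVV) hB l hl⟩

theorem isQC_of_exact_five (S : ComposableArrows (FSch.ModF 𝔛 h.1) 4) (hS : S.Exact)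
    (h₀ : IsQC (S.obj 0)) (h₁ : IsQC (S.obj 1)) (h₃ : IsQC (S.obj 3)) (h₄ : IsQC (S.obj 4)) :
    IsQC (S.obj 2) := by
  have e₁ := hS.exact 0
  have e₂ := hS.exact 1
  have e₃ := hS.exact 2
  let a := cokernel.desc (S.map' 0 1) (S.map' 1 2) (hS.toIsComplex.zero 0)
  let b := kernel.lift (S.map' 3 4) (S.map' 2 3) (hS.toIsComplex.zero 2)
  have hab : a ≫ b = 0 := by
    rw [← cancel_epi (cokernel.π (S.map' 0 1)), ← cancel_mono (kernel.ι (S.map' 3 4))]
    simpa [a, b] using hS.toIsComplex.zero 1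
  haveI : Mono a := e₁.mono_cokernelDesc
  haveI : Epi b := e₃.epi_kernelLift
  have hT : (ShortComplex.mk a b hab).ShortExact :=
    { exact := by
        let φ : S.sc hS.toIsComplex 1 ⟶ ShortComplex.mk a (b ≫ kernel.ι (S.map' 3 4)) (by rw [← Category.assoc, hab, zero_comp]) :=
          { τ₁ := cokernel.π (S.map' 0 1)
            τ₂ := 𝟙 _
            τ₃ := 𝟙 _
            comm₁₂ := (cokernel.π_desc _ _ _).trans (Category.comp_id _).symm
            comm₂₃ := (Category.id_comp _).trans ((kernel.lift_ι _ _ _).trans (Category.comp_id _).symm) }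
        have h1 := (ShortComplex.exact_iff_of_epi_of_isIso_of_mono φ).1 e₂
        let ψ : ShortComplex.mk a b hab ⟶ ShortComplex.mk a (b ≫ kernel.ι (S.map' 3 4)) (by rw [← Category.assoc, hab, zero_comp]) :=
          { τ₁ := 𝟙 _, τ₂ := 𝟙 _, τ₃ := kernel.ι _
            comm₁₂ := (Category.id_comp _).trans (Category.comp_id _).symm
            comm₂₃ := Category.id_comp _ }
        exact (ShortComplex.exact_iff_of_epi_of_isIso_of_mono ψ).2 h1 }
  exact isQC_extension h hT (isQC_cokernel (good h) h₀ h₁ _) (isQC_kernel (good h) h₃ h₄ _)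

end Groth.Agent.H9FCoh
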