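import Groth.Agent.H9FCoh.AffSec
import Groth.Agent.ExistEasy.PP.FFSheaf
import Groth.Agent.ModPairLib.Basic
/-!
Formal functions in degree zero, on sections over the preimage of an affine open, along any ideal sheaf.
-/

set_option autoImplicit false
set_option backward.isDefEq.respectTransparency false
set_option backward.isDefEq.respectTransparency.types false
set_option linter.style.haveILetI false
universe u

open CategoryTheory CategoryTheory.Limits AlgebraicGeometry Opposite TopologicalSpace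
open Groth.Agent.PnCoh.Finite (mapLin)

noncomputable section

namespace Groth.Agent.H9FCoh

open Groth.Agent Groth.Agent.FFun

theorem mem_smul_map_iff {R S : Type*} [CommRing R] [CommRing S] {N : Type*} [AddCommGroup N] [Module S N]
    (φ : R →+* S) (I : Ideal R) (x : N) :
    letI := Module.compHom N φ
    x ∈ I • (⊤ : Submodule R N) ↔ x ∈ I.map φ • (⊤ : Submodule S N) := by
  letI := Module.compHom N φ
  letI := φ.toAlgebra
  haveI : IsScalarTower R S N := IsScalarTower.of_algebraMap_smul fun _ _ => rfl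
  rw [show I.map φ = I.map (algebraMap R S) from rfl, ← Submodule.restrictScalars_mem R (I.map (algebraMap R S) • ⊤),
    Ideal.smul_restrictScalars, Submodule.restrictScalars_top]

theorem lin_mem_smul_top {R : Type*} [CommRing R] {J : Ideal R} {M N : Type*} [AddCommGroup M] [Module R M]
    [AddCommGroup N] [Module R N] (f : M →ₗ[R] N) {x : M} (hx : x ∈ J • (⊤ : Submodule R M)) :
    f x ∈ J • (⊤ : Submodule R N) :=
  Submodule.smul_top_le_comap_smul_top J f hx

theorem isQuot_of_sections {A : Type u} [CommRing A] {X : Scheme.{u}} [X.Over (Spec (CommRingCat.of A))]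
    {J : Ideal A} {M N : X.Modules} (g : M ⟶ N)
    (h : ∀ U : X.Opens, IsAffineOpen U → letI := secMod (A := A) M U
      Function.Surjective (g.app U) ∧ ∀ z, g.app U z = 0 ↔ z ∈ J • (⊤ : Submodule A Γ(M, U))) :
    Algz7.IsQuot J g := by
  have hP : ∀ (V : X.Opens) (x : X), x ∈ V → ∃ W : X.Opens, IsAffineOpen W ∧ x ∈ W ∧ W ≤ V := fun V x hx =>
    Opens.isBasis_iff_nbhd.mp X.isBasis_affineOpens hx
  haveI : Epi g := ⟨fun s t hst => LimMod.hom_ext_basis IsAffineOpen hP s t fun W hW z => by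
    obtain ⟨y, rfl⟩ := (h W hW).1 z
    exact congr(($hst).app W y)⟩
  refine Algz7.IsQuot.mk' _ (fun a ha => ?_) fun {T} φ hφ => ?_
  · rw [← cancel_epi g, ← Algz7.smulMod_naturality, comp_zero]
    refine LimMod.hom_ext_basis IsAffineOpen hP _ _ fun W hW z => ?_
    letI := secMod (A := A) M W
    exact ((h W hW).2 _).2 (Submodule.smul_mem_smul (r := a) (n := z) ha Submodule.mem_top)
  · have hk : kernel.ι g ≫ φ = 0 := LimMod.hom_ext_basis IsAffineOpen hP _ _ fun W hW w => by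
      letI := secMod (A := A) M W
      have hz := ((h W hW).2 ((kernel.ι g).app W w)).1 (congr(($(kernel.condition g)).app W w) : _)
      change φ.app W ((kernel.ι g).app W w) = 0
      refine Submodule.smul_induction_on hz (fun a ha z _ => ?_) fun x y hx hy => by rw [map_add, hx, hy, add_zero]
      exact (congr(($(Algz7.smulMod_comp_eq_zero hφ ha)).app W z) : _)
    exact ⟨Abelian.epiDesc g φ hk, Abelian.comp_epiDesc _ _ hk⟩

/-- Formal functions for a system of quotients of a module on a scheme proper over a Noetherian ring. -/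
theorem ff_of_quot {R : Type u} [CommRing R] [IsNoetherianRing R] {Z : Scheme.{u}} [Z.Over (Spec (CommRingCat.of R))]
    [IsProper (Z ↘ Spec (CommRingCat.of R))] [AlgebraicGeometry.IsNoetherian Z] (K : Ideal R)
    {M : Z.Modules} (hM : Coh.IsCoh M) (G : ℕ → Z.Modules) (η : ∀ n, M ⟶ G n)
    (hη : ∀ n, Algz7.IsQuot (K ^ (n + 1)) (η n)) (n : ℕ) :
    (∃ m, n ≤ m ∧ ∀ y : Γ(M, ⊤), (η m).app ⊤ y = 0 →
      letI := secMod (A := R) M ⊤; y ∈ K ^ (n + 1) • (⊤ : Submodule R Γ(M, ⊤))) ∧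
    ∃ m, n ≤ m ∧ ∀ (t : G m ⟶ G n), η m ≫ t = η n → ∀ s : Γ(G m, ⊤), ∃ y : Γ(M, ⊤), (η n).app ⊤ y = t.app ⊤ s := by
  have hG : GoodM M K := goodM_of_finite hM (fun p => Groth.Agent.S0002.result R Z M hM p) K
  let e := fun P : Z.Modules => QCoh.secH (Coh.toGlobal (Z ↘ Spec (CommRingCat.of R))) P
  let c : ∀ m, modJ (K ^ (m + 1)) M ⟶ G m := fun m =>
    descJ (η m) (fun a ha => mem_killIdeal.2 (Algz7.killedBy_of_isQuot (hη m) a ha))
  have hc : ∀ m, modJπ (K ^ (m + 1)) M ≫ c m = η m := fun m => π_descJ _ _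
  choose d hd using fun m => (hη m).desc (modJπ (K ^ (m + 1)) M) (cokernel.condition _)
  constructor
  · obtain ⟨k, hk⟩ := (hG 0).1 (n + 1)
    refine ⟨max n k, le_max_left _ _, fun y hy => ?_⟩
    letI := secMod (A := R) M ⊤
    have h0 : mapLin R (modJπ (K ^ k) M) 0 (e M y) = 0 := by
      refine π_eq_zero_of_le (Ideal.pow_le_pow_right (show k ≤ max n k + 1 by omega)) ?_
      rw [ExistEasy.secH_natural, ← hd, Scheme.Modules.Hom.comp_app]
      change e _ ((d (max n k)).app ⊤ ((η (max n k)).app ⊤ y)) = 0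
      rw [hy, map_zero, map_zero]
    have h3 := lin_mem_smul_top (e M).symm.toLinearMap (hk _ h0)
    rw [LinearEquiv.coe_coe, LinearEquiv.symm_apply_apply] at h3
    exact h3
  · obtain ⟨k, hk, hy⟩ := (hG 0).2 (n + 1)
    obtain ⟨j, rfl⟩ := Nat.exists_eq_add_of_le' (show 1 ≤ k by omega)
    refine ⟨j, by omega, fun t ht s => ?_⟩
    obtain ⟨z, hz⟩ := hy (e _ ((d j).app ⊤ s))
    obtain ⟨y, rfl⟩ := (e M).surjective z
    rw [ExistEasy.secH_natural, ExistEasy.secH_natural] at hz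
    refine ⟨y, ?_⟩
    have h3 := congrArg ((c n).app ⊤) ((e _).injective hz)
    have e2 : d j ≫ trJ (Ideal.pow_le_pow_right hk) M ≫ c n = t := by
      haveI := (hη j).epi
      rw [← cancel_epi (η j), reassoc_of% (hd j), π_descJ_assoc, hc, ht]
    rw [← e2, ← hc n]
    exact h3

variable {X Y : Scheme.{u}} (f : X ⟶ Y) [IsProper f] [IsLocallyNoetherian Y] (𝓘 : Y.IdealSheafData)

/-- Formal functions over an affine open, for quotients of a coherent module along an ideal sheaf of the target. -/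
theorem ff_along {F : X.Modules} (hF : Coh.IsCoh F) (G : ℕ → X.Modules) (η : ∀ n, F ⟶ G n)
    (hη : ∀ (U : X.affineOpens) n, Function.Surjective ((η n).app U.1) ∧
      ∀ z, (η n).app U.1 z = 0 ↔ z ∈ ((𝓘.comap f).ideal U) ^ (n + 1) • (⊤ : Submodule Γ(X, U.1) Γ(F, U.1)))
    {V : Y.Opens} (hV : IsAffineOpen V) (n : ℕ) :
    (∃ m, n ≤ m ∧ ∀ y : Γ(F, f ⁻¹ᵁ V), (η m).app (f ⁻¹ᵁ V) y = 0 →
      (show Γ((Scheme.Modules.pushforward f).obj F, V) from y) ∈
        (𝓘.ideal ⟨V, hV⟩) ^ (n + 1) • (⊤ : Submodule Γ(Y, V) Γ((Scheme.Modules.pushforward f).obj F, V))) ∧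
    ∃ m, n ≤ m ∧ ∀ (t : G m ⟶ G n), η m ≫ t = η n → ∀ s : Γ(G m, f ⁻¹ᵁ V),
      ∃ y : Γ(F, f ⁻¹ᵁ V), (η n).app (f ⁻¹ᵁ V) y = t.app (f ⁻¹ᵁ V) s := by
  let Z : Scheme.{u} := (f ⁻¹ᵁ V : X.Opens)
  let ι : Z ⟶ X := (f ⁻¹ᵁ V).ι
  let q : Z ⟶ Spec (CommRingCat.of Γ(Y, V)) := QCoh.overSpec f hV
  letI : Z.Over (Spec (CommRingCat.of Γ(Y, V))) := ⟨q⟩
  haveI : IsProper (Z ↘ Spec (CommRingCat.of Γ(Y, V))) := by
    show IsProper ((f ∣_ V) ≫ hV.isoSpec.hom)
    infer_instance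
  haveI : IsNoetherianRing Γ(Y, V) := IsLocallyNoetherian.component_noetherian ⟨V, hV⟩
  haveI : CompactSpace Z := QuasiCompact.compactSpace_of_compactSpace (Z ↘ Spec (CommRingCat.of Γ(Y, V)))
  haveI : IsLocallyNoetherian Z :=
    LocallyOfFiniteType.isLocallyNoetherian (Z ↘ Spec (CommRingCat.of Γ(Y, V)))
  haveI : AlgebraicGeometry.IsNoetherian Z := { __ := ‹IsLocallyNoetherian Z›, __ := ‹CompactSpace Z› }
  have hI : f ⁻¹ᵁ V = ι ''ᵁ ⊤ := (Scheme.Opens.ι_image_top _).symm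
  have hle : ∀ U : Z.Opens, ι ''ᵁ U ≤ f ⁻¹ᵁ V := fun U =>
    hI.ge.trans' (ι.image_mono le_top)
  have hρ : ∀ (U : Z.Opens) (r : Γ(Y, V)),
      (ι.appIso U).inv (secRing (A := Γ(Y, V)) U r) = f.appLE V (ι ''ᵁ U) (hle U) r := by
    intro U r
    change (ι.appIso U).inv (Z.presheaf.map (homOfLE (le_top : U ≤ ⊤)).op (Coh.toGlobal q r)) = _
    rw [show Coh.toGlobal q = QCoh.rhoV f V from QCoh.toGlobal_overSpec f hV]
    change (ι.appIso U).inv (Z.presheaf.map (homOfLE (le_top : U ≤ ⊤)).op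
      (ι.appLE (f ⁻¹ᵁ V) ⊤ _ (f.app V r))) = _
    rw [← ConcreteCategory.comp_apply (ι.appLE _ _ _), Scheme.Hom.appLE_map, ← ConcreteCategory.comp_apply,
      Scheme.Hom.appLE_appIso_inv]
    rfl
  have hQ : ∀ m, Algz7.IsQuot ((𝓘.ideal ⟨V, hV⟩) ^ (m + 1)) ((Scheme.Modules.restrictFunctor ι).map (η m)) :=
    fun m => isQuot_of_sections _ fun U hU => by
      letI := secMod (A := Γ(Y, V)) (F.restrict ι) U
      obtain ⟨hs, hk⟩ := hη ⟨ι ''ᵁ U, hU.image_of_isOpenImmersion ι⟩ m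
      refine ⟨hs, fun z => (hk z).trans (Iff.symm ?_)⟩
      rw [ModPairLib.ideal_comap 𝓘 f ⟨V, hV⟩ ⟨_, hU.image_of_isOpenImmersion ι⟩ (hle U), ← Ideal.map_pow,
        ← mem_smul_map_iff (N := Γ(F, ι ''ᵁ U)) (f.appLE V (ι ''ᵁ U) (hle U)).hom]
      have hsm : ∀ (r : Γ(Y, V)) (w : Γ(F.restrict ι, U)),
          (show Γ(F, ι ''ᵁ U) from r • w) = f.appLE V (ι ''ᵁ U) (hle U) r • (show Γ(F, ι ''ᵁ U) from w) :=
        fun r w => congrArg (fun a => a • (show Γ(F, ι ''ᵁ U) from w)) (hρ U r)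
      letI : Module Γ(Y, V) Γ(F, ι ''ᵁ U) := Module.compHom _ (f.appLE V (ι ''ᵁ U) (hle U)).hom
      constructor
      · intro hz
        exact lin_mem_smul_top
          ({ toFun := fun w => w, map_add' := fun _ _ => rfl, map_smul' := hsm } :
            Γ(F.restrict ι, U) →ₗ[Γ(Y, V)] Γ(F, ι ''ᵁ U)) hz
      · intro hz
        exact lin_mem_smul_top
          ({ toFun := fun w => w, map_add' := fun _ _ => rfl, map_smul' := fun r w => (hsm r w).symm } :
            Γ(F, ι ''ᵁ U) →ₗ[Γ(Y, V)] Γ(F.restrict ι, U)) hz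
  obtain ⟨⟨m, hm, hinj⟩, m', hm', hsurj⟩ := ff_of_quot (R := Γ(Y, V)) (𝓘.ideal ⟨V, hV⟩)
    (M := F.restrict ι) (QCoh.isCoh_restrict_open hF) _ _ hQ n
  let to' : ∀ P : X.Modules, Γ(P, f ⁻¹ᵁ V) → Γ(P.restrict ι, ⊤) :=
    fun P s => (show Γ(P.restrict ι, ⊤) from P.presheaf.map (homOfLE hI.ge).op s)
  have hto : ∀ P : X.Modules, Function.Bijective (to' P) := fun P => by
    refine ⟨fun a b h => ?_, fun z => ⟨P.presheaf.map (homOfLE hI.le).op (show Γ(P, ι ''ᵁ ⊤) from z), ?_⟩⟩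
    · have := congrArg (fun t => P.presheaf.map (homOfLE hI.le).op (show Γ(P, ι ''ᵁ ⊤) from t)) h
      exact ((QCoh.map_map _ _ _).trans (QCoh.map_id' _ _)).symm.trans
        (this.trans ((QCoh.map_map _ _ _).trans (QCoh.map_id' _ _)))
    · exact (QCoh.map_map _ _ _).trans (QCoh.map_id' _ _)
  have hnat : ∀ {P Q : X.Modules} (φ : P ⟶ Q) (s : Γ(P, f ⁻¹ᵁ V)),
      ((Scheme.Modules.restrictFunctor ι).map φ).app ⊤ (to' P s) = to' Q (φ.app (f ⁻¹ᵁ V) s) :=
    fun φ s => ExistEasy.app_res_comm φ hI.ge s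
  constructor
  · refine ⟨m, hm, fun y hy => ?_⟩
    letI := secMod (A := Γ(Y, V)) (F.restrict ι) (⊤ : Z.Opens)
    have h1 := hinj (to' F y) ((hnat (η m) y).trans (by rw [hy]; exact map_zero _))
    let back : Γ(F.restrict ι, ⊤) →ₗ[Γ(Y, V)] Γ((Scheme.Modules.pushforward f).obj F, V) :=
      { toFun := fun w => F.presheaf.map (homOfLE hI.le).op (show Γ(F, ι ''ᵁ ⊤) from w)
        map_add' := fun a b => map_add (F.presheaf.map (homOfLE hI.le).op).hom _ _
        map_smul' := fun r w => by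
          refine (congrArg (F.presheaf.map (homOfLE hI.le).op)
            (congrArg (fun a => a • (show Γ(F, ι ''ᵁ ⊤) from w)) (hρ ⊤ r))).trans ?_
          refine (QCoh.map_smul' (homOfLE hI.le) _ _).trans ?_
          refine congrArg (fun a => a • F.presheaf.map (homOfLE hI.le).op (show Γ(F, ι ''ᵁ ⊤) from w)) ?_
          rw [← ConcreteCategory.comp_apply, Scheme.Hom.appLE_map, ← Scheme.Hom.app_eq_appLE]; rfl }
    have h2 := lin_mem_smul_top back h1
    have e : back (to' F y) = (show Γ((Scheme.Modules.pushforward f).obj F, V) from y) :=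
      (QCoh.map_map (M := F) _ _ y).trans (QCoh.map_id' _ _)
    rwa [e] at h2
  · refine ⟨m', hm', fun t ht s => ?_⟩
    obtain ⟨y', hy'⟩ := hsurj ((Scheme.Modules.restrictFunctor ι).map t)
      (by rw [← Functor.map_comp, ht]) (to' _ s)
    obtain ⟨y, rfl⟩ := (hto F).2 y'
    exact ⟨y, (hto _).1 ((hnat (η n) y).symm.trans (hy'.trans (hnat t s)))⟩

end Groth.Agent.H9FCoh
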