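import Groth.Agent.H9FCoh.SchBc
import Groth.Agent.H9FCoh.FFAlong
import Groth.Agent.ExistEasy.PP.HatLemmas
/-!
Formal functions for completions along an ideal sheaf: the base change map is an isomorphism.
-/

set_option autoImplicit false
set_option backward.isDefEq.respectTransparency false
set_option backward.isDefEq.respectTransparency.types false
set_option linter.style.haveILetI false
universe u

open CategoryTheory CategoryTheory.Limits AlgebraicGeometry Opposite TopologicalSpace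
open Groth.Agent.ClosedRinged
open Groth.Agent.RngSp (pt gm mp fns)

noncomputable section

namespace Groth.Agent.H9FCoh

open Groth.Agent

variable {𝔛 : FSch.Sys.{u}} (h : 𝔛.IsFormal) {X : Scheme.{u}} (p : ∀ n, 𝔛.X n ⟶ X)
  (hp : ∀ n, 𝔛.ι n ≫ p (n + 1) = p n)

theorem fCompC_map_le (F : X.Modules) {n m : ℕ} (hnm : n ≤ m) :
    fCompC h p hp F m ≫ (fSys h p hp (plMod p hp F)).map (homOfLE hnm).op = fCompC h p hp F n := by
  induction m, hnm using Nat.le_induction with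
  | base => exact (congrArg (_ ≫ ·) ((fSys h p hp (plMod p hp F)).map_id (op n))).trans (Category.comp_id _)
  | succ m hnm ih =>
    rw [show (homOfLE (hnm.trans m.le_succ)).op = (homOfLE (Nat.le_succ m)).op ≫ (homOfLE hnm).op from
      Subsingleton.elim _ _, Functor.map_comp, ← Category.assoc, fCompC_map, ih]

theorem fSys_map_compat (𝔐 : FSch.ModSys 𝔛) (U : X.Opens) (s : ∀ k, Γ(𝔐.F k, 𝔛.lvU h k (cU p U)))
    (hs : ∀ k, fstep h 𝔐 k _ (s (k + 1)) = s k) {n m : ℕ} (hnm : n ≤ m) :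
    mp ((fSys h p hp 𝔐).map (homOfLE hnm).op) U (s m) = s n := by
  induction m, hnm using Nat.le_induction with
  | base => exact congrArg (fun t => mp t U (s n)) ((fSys h p hp 𝔐).map_id (op n))
  | succ m hnm ih =>
    rw [show (homOfLE (hnm.trans m.le_succ)).op = (homOfLE (Nat.le_succ m)).op ≫ (homOfLE hnm).op from
      Subsingleton.elim _ _, Functor.map_comp]
    refine Eq.trans (congrArg (mp ((fSys h p hp 𝔐).map (homOfLE hnm).op) U) ?_) ih
    refine Eq.trans ?_ (hs m)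
    exact congrArg (fun t : (FSch.levelSysOf 𝔛 h 𝔐.F 𝔐.toPush).obj (op (m + 1)) ⟶ (FSch.levelSysOf 𝔛 h 𝔐.F 𝔐.toPush).obj (op m) => mp ((fPush h p hp).map t) U (s (m + 1)))
      (FSch.levelSysOf_map_succ 𝔛 h 𝔐.F 𝔐.toPush m)

theorem fCompC_sections {F : X.Modules} (hF : Coh.IsQCoh F) (n : ℕ) [IsClosedImmersion (p n)]
    {U : X.Opens} (hU : IsAffineOpen U) :
    Function.Surjective (fun z : Γ(F, U) => QCoh.pullSec (p n) F (FSch.lvU_p 𝔛 h p hp n U).ge z) ∧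
      ∀ z, QCoh.pullSec (p n) F (FSch.lvU_p 𝔛 h p hp n U).ge z = 0 ↔
        z ∈ (p n).ker.ideal ⟨U, hU⟩ • (⊤ : Submodule Γ(X, U) Γ(F, U)) := by
  obtain ⟨hs, hk⟩ := QCoh.unit_app_closed (p n) hF hU
  have hb := res_bijective_of_eq ((Scheme.Modules.pullback (p n)).obj F) (FSch.lvU_p 𝔛 h p hp n U)
  refine ⟨fun y => ?_, fun z => ⟨fun hz => (hk z).1 (hb.1 (hz.trans (map_zero _).symm)), fun hz => ?_⟩⟩
  · obtain ⟨w, hw⟩ := hb.2 y
    obtain ⟨z, hz⟩ := hs w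
    exact ⟨z, (congrArg _ hz).trans hw⟩
  · exact (congrArg _ ((hk z).2 hz)).trans (map_zero _)

theorem ff_levels {Y : Scheme.{u}} (f : X ⟶ Y) [IsProper f] [IsLocallyNoetherian Y] (𝓘 : Y.IdealSheafData)
    [∀ n, IsClosedImmersion (p n)] (hker : ∀ n, (p n).ker = (𝓘.comap f) ^ (n + 1))
    {F : X.Modules} (hF : Coh.IsCoh F) {V : Y.Opens} (hV : IsAffineOpen V) (n : ℕ)
    (W : (𝔛.X 0).Opens) (hW : cU p (f ⁻¹ᵁ V) = W) (hle : ∀ k, 𝔛.lvU h k W ≤ p k ⁻¹ᵁ (f ⁻¹ᵁ V)) :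
    (∃ m, n ≤ m ∧ ∀ y : Γ(F, f ⁻¹ᵁ V), QCoh.pullSec (p m) F (hle m) y = 0 →
      (show Γ((Scheme.Modules.pushforward f).obj F, V) from y) ∈
        (𝓘.ideal ⟨V, hV⟩) ^ (n + 1) • (⊤ : Submodule Γ(Y, V) Γ((Scheme.Modules.pushforward f).obj F, V))) ∧
    ∀ s : ∀ k, Γ((plMod p hp F).F k, 𝔛.lvU h k W), (∀ k, fstep h (plMod p hp F) k W (s (k + 1)) = s k) →
      ∃ y : Γ(F, f ⁻¹ᵁ V), QCoh.pullSec (p n) F (hle n) y = s n := by
  subst hW
  obtain ⟨⟨m, hm, hinj⟩, m', hm', hsurj⟩ := ff_along f 𝓘 hF (fun k => (fSys h p hp (plMod p hp F)).obj (op k))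
    (fun k => fCompC h p hp F k) (fun U k => by
      obtain ⟨hs, hk⟩ := fCompC_sections h p hp hF.1 k U.2
      refine ⟨hs, fun z => (hk z).trans ?_⟩
      rw [hker, Scheme.IdealSheafData.ideal_pow]
      rfl) hV n
  refine ⟨⟨m, hm, fun y hy => hinj y hy⟩, fun s hs => ?_⟩
  obtain ⟨y, hy⟩ := hsurj _ (fCompC_map_le h p hp F hm') (s m')
  exact ⟨y, hy.trans (fSys_map_compat h p hp (plMod p hp F) (f ⁻¹ᵁ V) s hs hm')⟩

/-- The completion of a direct image is the direct image of the completion. -/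
theorem isIso_schBcMap_completion {X Y : Scheme.{u}} [IsLocallyNoetherian X] [IsLocallyNoetherian Y]
    (f : X ⟶ Y) [IsProper f] (𝓘 : Y.IdealSheafData) (𝓚 : X.IdealSheafData) (h𝓚 : 𝓚 = 𝓘.comap f)
    (hpc : FSch.PowCompat f 𝓚 𝓘) (hX : (FSch.completionAlong X 𝓚).IsFormal)
    (hY : (FSch.completionAlong Y 𝓘).IsFormal) (F : X.Modules) (hF : Coh.IsCoh F) :
    IsIso (FSch.schBcMap (FSch.completionMap f 𝓚 𝓘 hpc) hX hY f
      (FSch.completionToX X 𝓚) (FSch.completionToX_comm X 𝓚)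
      (FSch.completionToX Y 𝓘) (FSch.completionToX_comm Y 𝓘)
      (FSch.completionMap_sq f 𝓚 𝓘 hpc) F) := by
  have h := FComplLib.isLocNoethFormal_completionAlong 𝓚
  have h' := FComplLib.isLocNoethFormal_completionAlong 𝓘
  haveI : ∀ n, IsClosedImmersion (FSch.completionToX X 𝓚 n) := fun n => inferInstance
  haveI : ∀ n, IsClosedImmersion (FSch.completionToX Y 𝓘 n) := fun n => inferInstance
  have hfF := ExistEasy.isCoh_pushforward_proper f hF
  have kY : ∀ n, (FSch.completionToX Y 𝓘 n).ker = 𝓘 ^ (n + 1) := fun n => Scheme.IdealSheafData.ker_subschemeι _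
  have kX : ∀ n, (FSch.completionToX X 𝓚 n).ker = (𝓘.comap f) ^ (n + 1) := fun n => by
    rw [← h𝓚]; exact Scheme.IdealSheafData.ker_subschemeι _
  refine isIso_schBcMap h (FSch.completionToX X 𝓚) (FSch.completionToX_comm X 𝓚) h' (FSch.completionToX Y 𝓘)
    (FSch.completionToX_comm Y 𝓘) (FSch.completionMap f 𝓚 𝓘 hpc) f (FSch.completionMap_sq f 𝓚 𝓘 hpc) F hF hfF
    (FSch.completionToX Y 𝓘 0).isClosedEmbedding.isInducing
    (fun V hV n => (fCompC_sections h'.1 _ (FSch.completionToX_comm Y 𝓘) hfF.1 n hV).1) (fun V hV n => ?_)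
    fun V hV n s hs => ?_
  all_goals
    have hff := ff_levels h.1 (FSch.completionToX X 𝓚) (FSch.completionToX_comm X 𝓚) f 𝓘 kX hF hV n
      ((FSch.completionMap f 𝓚 𝓘 hpc : FSch.Hom _ _).app 0 ⁻¹ᵁ (FSch.completionToX Y 𝓘 0 ⁻¹ᵁ V))
      (FSch.sch_sq_preimage (FSch.completionMap f 𝓚 𝓘 hpc) f (FSch.completionToX X 𝓚) (FSch.completionToX Y 𝓘)
        (FSch.completionMap_sq f 𝓚 𝓘 hpc) V)
      (le_level_preimage h _ (FSch.completionToX_comm X 𝓚) _ _ f (FSch.completionMap_sq f 𝓚 𝓘 hpc) V)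
  · obtain ⟨m, hm, hy⟩ := hff.1
    refine ⟨m, hm, fun y h0 => ((fCompC_sections h'.1 _ (FSch.completionToX_comm Y 𝓘) hfF.1 n hV).2 _).2 ?_⟩
    rw [kY, Scheme.IdealSheafData.ideal_pow]
    exact hy y h0
  · exact hff.2 s hs

end Groth.Agent.H9FCoh
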