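import Groth.Agent.H9FCoh.MilnorSeq
import Groth.Agent.SingleSch6
import Groth.Agent.Algz7.Restrict
import Groth.Agent.QCoh.Support
import Groth.Agent.SiteBase.ModColim

/-!
# Limits of quasi-coherent systems with surjective transition maps
-/

set_option autoImplicit false
set_option backward.isDefEq.respectTransparency false
set_option backward.isDefEq.respectTransparency.types false
set_option linter.style.haveILetI false

universe u

open CategoryTheory CategoryTheory.Limits AlgebraicGeometry TopologicalSpace Opposite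

noncomputable section

namespace Groth.Agent.H9FCoh

open Groth.Agent

variable {X : Scheme.{u}}

theorem epi_of_isQCohFormal {A : Type u} [CommRing A] [X.Over (Spec (CommRingCat.of A))] {I : Ideal A}
    {G : ℕᵒᵖ ⥤ X.Modules} (hG : Formal2.IsQCohFormal I G) (n : ℕ) :
    Epi (G.map (homOfLE (Nat.le_succ n)).op) :=
  Algz7.IsQuot.epi (hG.2.2 n)

/-- The affine opens as a family of opens. -/
abbrev IsAff (V : Opens X.toPresheafedSpace.carrier) : Prop := IsAffineOpen (X := X) V

theorem basisVan_abSheaf {M : X.Modules} (hM : Coh.IsQCoh M) :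
    BasisVan (IsAff (X := X)) (Coh.toAb M) := fun _ hV n =>
  QCoh.subsingleton_HU_of_isAffineOpen hM hV n

theorem isBasis_isAff : Opens.IsBasis {V : Opens X.toPresheafedSpace.carrier | IsAff (X := X) V} :=
  X.isBasis_affineOpens

theorem existsUnique_toAb_limit (G : ℕᵒᵖ ⥤ X.Modules) (W : CohTop.Ab X.toPresheafedSpace.carrier)
    (k : ∀ n, W ⟶ Coh.toAb (G.obj (op n)))
    (hk : ∀ n, k (n + 1) ≫ (SheafOfModules.toSheaf X.ringCatSheaf).map (G.map (homOfLE (Nat.le_succ n)).op) = k n) :
    ∃! l : W ⟶ Coh.toAb (limit G), ∀ n, l ≫ (SheafOfModules.toSheaf X.ringCatSheaf).map (limit.π G (op n)) = k n := by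
  haveI : PreservesLimitsOfSize.{u, u} (SheafOfModules.toSheaf.{u} X.ringCatSheaf) :=
    SiteBase.preservesLimitsOfSize_toSheaf X.ringCatSheaf
  haveI : PreservesLimitsOfSize.{0, 0} (SheafOfModules.toSheaf.{u} X.ringCatSheaf) :=
    preservesLimitsOfSize_shrink.{0, u, 0, u} _
  have hc := isLimitOfPreserves (SheafOfModules.toSheaf X.ringCatSheaf) (limit.isLimit G)
  let c : Cone (G ⋙ SheafOfModules.toSheaf X.ringCatSheaf) :=
    { pt := W
      π := NatTrans.ofOpSequence (F := (Functor.const ℕᵒᵖ).obj W) k fun n => (Category.id_comp _).trans (hk n).symm }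
  exact ⟨hc.lift c, fun n => hc.fac c (op n), fun l hl => hc.uniq c l fun j => hl j.unop⟩

/-- Milnor's sequence for a tower of quasi-coherent modules with surjective transition maps. -/
theorem milnor_qcoh (G : ℕᵒᵖ ⥤ X.Modules) (hG : ∀ n, Coh.IsQCoh (G.obj (op n)))
    (ht : ∀ n, Epi (G.map (homOfLE (Nat.le_succ n)).op)) (p : ℕ) :
    ∃ (α : Formal2.limOne (fun n => Coh.HH X (G.obj (op n)) p) (Formal2.HHsysMap G p) →+
        Coh.HH X (limit G) (p + 1))
      (β : Coh.HH X (limit G) (p + 1) →+
        Formal2.limZero (fun n => Coh.HH X (G.obj (op n)) (p + 1)) (Formal2.HHsysMap G (p + 1))),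
      Function.Injective α ∧ Function.Surjective β ∧ α.range = β.ker ∧
      ∀ (x : Coh.HH X (limit G) (p + 1)) (n : ℕ),
        (β x : ∀ n, Coh.HH X (G.obj (op n)) (p + 1)) n =
          Sheaf.H.map ((SheafOfModules.toSheaf _).map (limit.π G (op n))) (p + 1) x :=
  milnor_sequence (B := IsAff (X := X)) isBasis_isAff (fun n => Coh.toAb (G.obj (op n)))
    (fun n => (SheafOfModules.toSheaf X.ringCatSheaf).map (G.map (homOfLE (Nat.le_succ n)).op))
    (fun n => basisVan_abSheaf (hG n))
    (fun V hV n => haveI := ht n; QCoh.app_surjective_of_epi (hG (n + 1)) (hG n) (G.map (homOfLE (Nat.le_succ n)).op) hV)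
    (fun n => (SheafOfModules.toSheaf X.ringCatSheaf).map (limit.π G (op n)))
    (fun n => by rw [← Functor.map_comp, limit.w])
    (existsUnique_toAb_limit G) p

/-- The limit of such a tower has no cohomology on affine opens. -/
theorem subsingleton_HHon_limit (G : ℕᵒᵖ ⥤ X.Modules) (hG : ∀ n, Coh.IsQCoh (G.obj (op n)))
    (ht : ∀ n, Epi (G.map (homOfLE (Nat.le_succ n)).op)) (U : X.Opens) (hU : IsAffineOpen U) (p : ℕ) (hp : 0 < p) :
    Subsingleton (Coh.HHon X (limit G) U p) := by
  let t : ∀ n, G.obj (op (n + 1)) ⟶ G.obj (op n) := fun n => G.map (homOfLE (Nat.le_succ n)).op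
  let e : Functor.ofOpSequence (X := fun n => G.obj (op n)) t ≅ G :=
    NatIso.ofComponents (fun j => Iso.refl _) fun {i j} f => by
      have : ∀ (a : Functor.ofOpSequence (X := fun n => G.obj (op n)) t ⟶ G), (∀ j, a.app j = 𝟙 _) →
          (Functor.ofOpSequence (X := fun n => G.obj (op n)) t).map f = G.map f := fun a ha => by
        simpa [ha] using a.naturality f
      have h := this (NatTrans.ofOpSequence (fun n => 𝟙 _) fun n => by
        rw [Functor.ofOpSequence_map_homOfLE_succ]; exact (Category.comp_id _).trans (Category.id_comp _).symm)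
          fun j => rfl
      simp [h]
  haveI := SingleSch6.subsingleton_HHon_limit (fun n => G.obj (op n)) hG t (fun n _ => ht n) U hU p hp
  let g : Coh.toAb ((limit (Functor.ofOpSequence (X := fun n => G.obj (op n)) t)).restrict U.ι) ≅
      Coh.toAb ((limit G).restrict U.ι) :=
    (Scheme.Modules.restrictFunctor U.ι ⋙ SheafOfModules.toSheaf (U : Scheme.{u}).ringCatSheaf).mapIso (lim.mapIso e)
  refine Function.Surjective.subsingleton (f := Sheaf.H.map g.hom p) fun y => ⟨Sheaf.H.map g.inv p y, ?_⟩
  rw [← Sheaf.H.map_comp_apply, g.inv_hom_id]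
  simp [Sheaf.H.map_apply]

end Groth.Agent.H9FCoh
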