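import Groth.Agent.H9FCoh.GlobalPres
import Groth.Agent.H9FCoh.AcycLim
import Groth.Agent.QCoh.CechStd

/-!
# Vanishing of the cohomology of ind-coherent modules on affine formal schemes
-/

set_option autoImplicit false
set_option backward.isDefEq.respectTransparency false
set_option backward.isDefEq.respectTransparency.types false
set_option linter.style.haveILetI false

universe u

open CategoryTheory CategoryTheory.Limits AlgebraicGeometry TopologicalSpace Opposite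
open Groth.Agent.RngSp (pt gm mp fns gm_res gm_eq_iff gm_zero)
open Groth.Agent.ClosedRinged

noncomputable section

namespace Groth.Agent.H9FCoh

variable {𝔛 : FSch.Sys.{u}} (h : 𝔛.IsLocNoethFormal)

/-- The underlying abelian sheaf. -/
abbrev abF (𝔉 : FSch.ModF 𝔛 h.1) : TopCat.Sheaf AddCommGrpCat.{u} (𝔛.X 0).toPresheafedSpace.carrier :=
  ModSite.toAb 𝔉

/-- The underlying map of abelian sheaves. -/
abbrev abMap {𝔉 𝔊 : FSch.ModF 𝔛 h.1} (f : 𝔉 ⟶ 𝔊) : (abF h 𝔉).presheaf ⟶ (abF h 𝔊).presheaf :=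
  ((SheafOfModules.toSheaf _).map f).hom

theorem abMap_app {𝔉 𝔊 : FSch.ModF 𝔛 h.1} (f : 𝔉 ⟶ 𝔊) (W : (𝔛.X 0).Opens) (x : (abF h 𝔉).presheaf.obj (op W)) :
    (abMap h f).app (op W) x = mp f W x := rfl

theorem abMap_comp {𝔉 𝔊 ℌ : FSch.ModF 𝔛 h.1} (f : 𝔉 ⟶ 𝔊) (g : 𝔊 ⟶ ℌ) : abMap h (f ≫ g) = abMap h f ≫ abMap h g :=
  rfl

/-- The standard affine covers of a level. -/
theorem exists_std_level {V : (𝔛.X 0).Opens} (hV : IsAffineOpen V) {ι : Type u} (U : ι → (𝔛.X 0).Opens)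
    (f : ι → Γ(𝔛.X 0, V)) (hf : Ideal.span (Set.range f) = ⊤) (hU : ∀ i, U i = (𝔛.X 0).basicOpen (f i)) (k : ℕ) :
    ∃ g : ι → On h k V, Ideal.span (Set.range g) = ⊤ ∧
      ∀ i, (𝔛.X k).basicOpen (g i) = 𝔛.lvU h.1 k (U i) := by
  haveI := FSch.Sys.toX_isClosedImmersion 𝔛 h.1 k
  have hsurj := FSch.Sys.toX_surjective 𝔛 h.1 k
  have hpre : ∀ W : (𝔛.X 0).Opens, 𝔛.toX k ⁻¹ᵁ 𝔛.lvU h.1 k W = W := fun W => by
    change (Opens.map ((𝔛.toX k).base ≫ 𝔛.gInv h.1 k)).obj W = W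
    rw [𝔛.toX_base_gInv]
    rfl
  have hle : V ≤ 𝔛.toX k ⁻¹ᵁ 𝔛.lvU h.1 k V := (hpre V).ge
  have happ : Function.Surjective ((𝔛.toX k).appLE (𝔛.lvU h.1 k V) V hle) := by
    intro y
    obtain ⟨z, hz⟩ := (ConcreteCategory.bijective_of_isIso
      ((𝔛.X 0).presheaf.mapIso (eqToIso (congrArg op (hpre V)))).hom).2 y
    obtain ⟨w, hw⟩ := (𝔛.toX k).app_surjective _ (affine_lvU h hV k) z
    exact ⟨w, (congrArg _ hw).trans hz⟩
  choose g hg using fun i => happ (f i)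
  have hbo : ∀ i, (𝔛.X k).basicOpen (g i) = 𝔛.lvU h.1 k (U i) := fun i => by
    have e : 𝔛.toX k ⁻¹ᵁ (𝔛.X k).basicOpen (g i) = U i := by
      rw [hU i, ← hg i, Scheme.basicOpen_appLE]
      exact (inf_of_le_right ((Scheme.Hom.preimage_mono _ ((𝔛.X k).basicOpen_le _)).trans (hpre V).le)).symm
    ext y
    obtain ⟨x, rfl⟩ := hsurj y
    change x ∈ 𝔛.toX k ⁻¹ᵁ (𝔛.X k).basicOpen (g i) ↔ x ∈ 𝔛.toX k ⁻¹ᵁ 𝔛.lvU h.1 k (U i)
    rw [e, hpre]
  refine ⟨g, ?_, hbo⟩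
  rw [← (affine_lvU h hV k).self_le_iSup_basicOpen_iff]
  intro y hy
  obtain ⟨x, rfl⟩ := hsurj y
  have hxV : x ∈ V := by rw [← hpre V]; exact hy
  obtain ⟨⟨_, i, rfl⟩, hi⟩ := Opens.mem_iSup.1 (hV.self_le_iSup_basicOpen_iff.2 hf hxV)
  refine Opens.mem_iSup.2 ⟨⟨_, ⟨i, rfl⟩⟩, ?_⟩
  rw [hbo i]
  change x ∈ 𝔛.toX k ⁻¹ᵁ 𝔛.lvU h.1 k (U i)
  rw [hpre, hU i]
  exact hi

variable {V : (𝔛.X 0).Opens} {ι : Type u} {U : ι → (𝔛.X 0).Opens} (hU : (QCoh.stdCovers (𝔛.X 0)).Cov V U)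

include hU in
theorem acyclic_level (k : ℕ) (M : (𝔛.X k).Modules) (hM : Coh.IsQCoh M) :
    QCoh.Ab.Acyclic (abF h ((FSch.levelMor 𝔛 h.1 k).push.obj M)).presheaf U := by
  obtain ⟨hV, hι, f, hf, hUf⟩ := hU
  obtain ⟨g, hg, hbo⟩ := exists_std_level h hV U f hf hUf k
  refine acyclic_push (𝔛.gInv h.1 k) (QCoh.abSheaf M).presheaf ?_
  have := QCoh.acyclic_std hM (affine_lvU h hV k) g hg
  simp only [hbo] at this
  exact this

include hU in
theorem acyclic_realMod (𝔐 : FSch.ModSys 𝔛) (h𝔐 : 𝔐.IsCoh) :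
    QCoh.Ab.Acyclic (abF h (𝔐.realMod h.1)).presheaf U := by
  refine acyclic_limit ((QCoh.stdCovers (𝔛.X 0)).le hU) ((QCoh.stdCovers (𝔛.X 0)).covers hU)
    (fun W => IsAffineOpen W) hU.1 ((QCoh.stdCovers (𝔛.X 0)).inter hU)
    (fun k => abF h ((FSch.levelMor 𝔛 h.1 k).push.obj (𝔐.F k)))
    (fun k => abMap h ((FSch.levelMor 𝔛 h.1 (k + 1)).push.map (𝔐.toPush k) ≫
      (FSch.pushCompare 𝔛 h.1 k).app (𝔐.F k)))
    (fun k W hW => step_surjective h 𝔐 h𝔐 hW k)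
    (fun k => abMap h (FSch.realProj 𝔛 h.1 𝔐.F 𝔐.toPush k))
    (fun k => (abMap_comp h _ _).symm.trans (congrArg (abMap h) (FSch.realProj_map 𝔛 h.1 𝔐.F 𝔐.toPush k)))
    (fun W _ x y hxy => prM_ext h 𝔐 hxy) (fun W _ y hy => prM_lift h 𝔐 y hy) fun k =>
      acyclic_level h hU k (𝔐.F k) (h𝔐 k).1

include hU in
theorem acyclic_of_isFP (𝔊 : FSch.ModF 𝔛 h.1) (hG : FSch.IsCohF 𝔛 h.1 𝔊) :
    QCoh.Ab.Acyclic (abF h 𝔊).presheaf U := by
  haveI := isIso_toReal h 𝔊 hG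
  refine (acyclic_realMod h hU (pullSys h 𝔊) (isCoh_pullSys h 𝔊 hG)).of_retract (abMap h (toReal h 𝔊))
    (abMap h (inv (toReal h 𝔊))) ?_
  rw [← abMap_comp, IsIso.hom_inv_id]
  rfl

theorem cmb_zero_add_single {X : TopCat.{u}} {O : TopCat.Sheaf CommRingCat.{u} X} {M : ModSite.Mod O}
    {U : Opens X} {ι : Type u} (t : ι → M.val.obj (op U)) :
    cmb t 0 = 0 ∧ ∀ (p : ι) (r : Fn O U) (v : ι →₀ Fn O U),
      cmb t (Finsupp.single p r + v) = (show fns O U from r) • t p + cmb t v := by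
  classical
  refine ⟨Finsupp.sum_zero_index, fun p r v => ?_⟩
  refine (Finsupp.sum_add_index (fun i _ => zero_smul (fns O U) (t i))
    (fun i _ a b => add_smul (show fns O U from a) b (t i))).trans (congrArg (· + _) ?_)
  exact Finsupp.sum_single_index (zero_smul (fns O U) (t p))

variable {J : Type u} [SmallCategory J] [IsFiltered J] {D : J ⥤ FSch.ModF 𝔛 h.1} {c : Cocone D}

theorem exists_stage_zero (hc : IsColimit c) {W : (𝔛.X 0).Opens} (hW : IsAffineOpen W) {j : J}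
    (y : (D.obj j).val.obj (op W)) (hy : mp (c.ι.app j) W y = 0) :
    ∃ (l : J) (g : j ⟶ l), mp (D.map g) W y = 0 := by
  obtain ⟨κ, hκ, B, hB, hcov, hQ⟩ := (good h).exists_finite_cover hW
    (fun B => ∃ (hB : B ≤ W) (l : J) (g : j ⟶ l), res (D.obj l) hB (mp (D.map g) W y) = 0) fun x hx => by
      obtain ⟨l, g, hg⟩ := fx_cocone_eq_iff hc x (gm (D.obj j) hx y) (by rw [fx_gm, hy, gm_zero])
      rw [fx_gm, ← gm_zero (M := D.obj l) hx] at hg
      obtain ⟨B, hB, hxB, he⟩ := (gm_eq_iff hx _ _).1 hg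
      exact ⟨B, hB, hxB, hB, l, g, he.trans (map_zero _)⟩
  choose hB' l g hg using hQ
  obtain ⟨m, f, hf⟩ := exists_common_arrow l g
  refine ⟨m, f, eq_of_gm fun x hx => ?_⟩
  obtain ⟨a, ha⟩ := hcov x hx
  obtain ⟨r, hr⟩ := hf a
  rw [← hr, D.map_comp, gm_zero]
  refine (gm_res (M := D.obj m) (hB' a) ha _).symm.trans ?_
  refine (congrArg (gm (D.obj m) ha) ((RngSp.mp_res (D.map r) (hB' a) (mp (D.map (g a)) W y)).symm.trans
    ((congrArg _ (hg a)).trans (map_zero _)))).trans (gm_zero _)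

theorem exists_stage_lift (hc : IsColimit c) (hD : ∀ j, FSch.IsCohF 𝔛 h.1 (D.obj j)) {W : (𝔛.X 0).Opens}
    (hW : IsAffineOpen W) (z : c.pt.val.obj (op W)) : ∃ (j : J) (y : (D.obj j).val.obj (op W)),
      mp (c.ι.app j) W y = z := by
  classical
  choose σ hσ t N hN hm hml using fun j =>
    exists_model_realMod h (pullSys h (D.obj j)) (isCoh_pullSys h _ (hD j)) hW
  haveI := fun j => isIso_toReal h (D.obj j) (hD j)
  have hmod := isModel_colimit _ N (fun j => (hm j).map_iso (asIso (toReal h (D.obj j))).symm) (good h) hc hW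
  obtain ⟨v, rfl⟩ := hmod.exists_cmb (good h) hW z
  induction v using Finsupp.induction with
  | zero =>
    obtain ⟨j⟩ := IsFiltered.nonempty (C := J)
    exact ⟨j, 0, (map_zero _).trans (cmb_zero_add_single _).1.symm⟩
  | single_add p r v _ _ ih =>
    obtain ⟨j, y, hy⟩ := ih
    obtain ⟨k, f, g, -⟩ : ∃ (k : J) (_ : p.1 ⟶ k) (_ : j ⟶ k), True := ⟨_, IsFiltered.leftToMax _ _, IsFiltered.rightToMax _ _, trivial⟩
    refine ⟨k, (show fns (𝔛.Osh h.1) W from r) •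
      mp (D.map f) W (mp (asIso (toReal h (D.obj p.1))).symm.hom W (t p.1 p.2)) + mp (D.map g) W y, ?_⟩
    refine ((map_add _ _ _).trans (congrArg₂ (· + ·) ?_ ((mp_ι_comp g y).trans hy))).trans
      ((cmb_zero_add_single _).2 p r v).symm
    exact (map_smul _ _ _).trans (congrArg _ (mp_ι_comp f _))

include hU in
theorem acyclic_ind (hc : IsColimit c) (hD : ∀ j, FSch.IsCohF 𝔛 h.1 (D.obj j)) :
    QCoh.Ab.Acyclic (abF h c.pt).presheaf U := by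
  haveI : Finite ι := hU.2.1
  exact acyclic_colimit (fun W => IsAffineOpen W) ((QCoh.stdCovers (𝔛.X 0)).inter hU)
    (D ⋙ SheafOfModules.toSheaf _ ⋙ TopCat.Sheaf.forget _ _) (fun j => abMap h (c.ι.app j))
    (fun f => (abMap_comp h _ _).symm.trans (congrArg (abMap h) (c.w f)))
    (fun W hW z => exists_stage_lift h hc hD hW z) (fun W hW j y hy => exists_stage_zero h hc hW y hy)
    fun j => acyclic_of_isFP h hU (D.obj j) (hD j)

/-- The cohomology of an ind-coherent module on an affine formal scheme vanishes. -/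
theorem subsingleton_HF_of_ind (htop : IsAffineOpen (⊤ : (𝔛.X 0).Opens)) (𝔉 : FSch.ModF 𝔛 h.1)
    (h𝔉 : (ObjectProperty.ind.{u} fun 𝔊 : FSch.ModF 𝔛 h.1 => FSch.IsCohF 𝔛 h.1 𝔊) 𝔉) (n : ℕ) :
    Subsingleton (FSch.HF 𝔛 h.1 𝔉 (n + 1)) := by
  obtain ⟨J, hJ, hJf, pres, hP⟩ := h𝔉
  exact QCoh.Ab.H_subsingleton (QCoh.stdCovers (𝔛.X 0)) htop (abF h 𝔉)
    (fun V hV ι U hU => acyclic_ind h hU pres.isColimit hP) n

end Groth.Agent.H9FCoh
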