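import Groth.Agent.H9FCoh.PushRealMod
import Groth.Agent.H9FCoh.AlgzEss
import Groth.Agent.H9FCoh.FormalLim
import Groth.Agent.H9FCoh.Vanish
import Groth.Agent.QCoh.Ab.Push
import Groth.Agent.FFun.GoodM
import Groth.Agent.FFun.PropSupp

/-!
# Cohomology of completions as limits
-/

set_option autoImplicit false
set_option backward.isDefEq.respectTransparency false
set_option backward.isDefEq.respectTransparency.types false
set_option linter.style.haveILetI false

universe u

open CategoryTheory CategoryTheory.Limits AlgebraicGeometry Opposite TopologicalSpace CategoryTheory.Abelian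

noncomputable section

namespace Groth.Agent.H9FCoh

open Groth.Agent

/-- Cohomology of isomorphic sheaves. -/
def HequivOfIso {X : TopCat.{u}} {F G : CohTop.Ab X} (e : F ≅ G) (n : ℕ) : CohTop.H F n ≃+ CohTop.H G n where
  toFun := Sheaf.H.map e.hom n
  invFun := Sheaf.H.map e.inv n
  left_inv x := by rw [← Sheaf.H.map_comp_apply, e.hom_inv_id]; simp [Sheaf.H.map_apply]
  right_inv x := by rw [← Sheaf.H.map_comp_apply, e.inv_hom_id]; simp [Sheaf.H.map_apply]
  map_add' a b := map_add _ a b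

theorem nonempty_limZero_equiv_zero {X : TopCat.{u}} (F : ℕ → CohTop.Ab X) (t : ∀ n, F (n + 1) ⟶ F n)
    {L : CohTop.Ab X} (π : ∀ n, L ⟶ F n) (hπ : ∀ n, π (n + 1) ≫ t n = π n)
    (hlim : ∀ (W : CohTop.Ab X) (k : ∀ n, W ⟶ F n), (∀ n, k (n + 1) ≫ t n = k n) →
      ∃! l : W ⟶ L, ∀ n, l ≫ π n = k n) :
    Nonempty (CohTop.H L 0 ≃+ Formal2.limZero (fun n => CohTop.H (F n) 0) (fun n => Sheaf.H.map (t n) 0)) := by
  have hmem : ∀ x : CohTop.H L 0, Formal2.towerDiff (fun n => CohTop.H (F n) 0) (fun n => Sheaf.H.map (t n) 0)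
      (fun n => Sheaf.H.map (π n) 0 x) = 0 := fun x => funext fun n => by
    change Sheaf.H.map (π n) 0 x - Sheaf.H.map (t n) 0 (Sheaf.H.map (π (n + 1)) 0 x) = 0
    rw [← Sheaf.H.map_comp_apply, hπ, sub_self]
  let φ : CohTop.H L 0 →+ Formal2.limZero (fun n => CohTop.H (F n) 0) (fun n => Sheaf.H.map (t n) 0) :=
    AddMonoidHom.mk' (fun x => ⟨fun n => Sheaf.H.map (π n) 0 x, hmem x⟩)
      fun a b => Subtype.ext (funext fun n => map_add _ a b)
  refine ⟨AddEquiv.ofBijective φ ⟨fun a b hab => ?_, fun y => ?_⟩⟩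
  · obtain ⟨a, rfl⟩ := (Ext.mk₀_bijective _ _).2 a
    obtain ⟨b, rfl⟩ := (Ext.mk₀_bijective _ _).2 b
    have h : ∀ n, a ≫ π n = b ≫ π n := fun n => by
      have h0 := congrFun (congrArg Subtype.val hab) n
      simp only [φ, AddMonoidHom.mk'_apply, Sheaf.H.map_apply, Ext.mk₀_comp_mk₀] at h0
      exact (Ext.mk₀_bijective _ _).1 h0
    obtain ⟨l, -, hu⟩ := hlim _ (fun n => a ≫ π n) fun n => by rw [Category.assoc, hπ]
    rw [hu a fun n => rfl, hu b fun n => (h n).symm]
  · choose k hk using fun n => (Ext.mk₀_bijective _ _).2 (y.1 n)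
    have hc : ∀ n, k (n + 1) ≫ t n = k n := fun n => (Ext.mk₀_bijective _ _).1 (by
      have h0 := congrFun y.2 n
      change y.1 n - Sheaf.H.map (t n) 0 (y.1 (n + 1)) = 0 at h0
      rw [sub_eq_zero, ← hk, ← hk, Sheaf.H.map_apply, Ext.mk₀_comp_mk₀] at h0
      exact h0.symm)
    obtain ⟨l, hl, -⟩ := hlim _ k hc
    refine ⟨Ext.mk₀ l, Subtype.ext (funext fun n => ?_)⟩
    change Sheaf.H.map (π n) 0 (Ext.mk₀ l) = y.1 n
    rw [Sheaf.H.map_apply, Ext.mk₀_comp_mk₀, hl, hk]

theorem nonempty_HH_limit_equiv {X : Scheme.{u}} (G : ℕᵒᵖ ⥤ X.Modules) (hG : ∀ n, Coh.IsQCoh (G.obj (op n)))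
    (ht : ∀ n, Epi (G.map (homOfLE (Nat.le_succ n)).op))
    (h1 : ∀ p, Subsingleton (Formal2.limOne (fun n => Coh.HH X (G.obj (op n)) p) (Formal2.HHsysMap G p))) (p : ℕ) :
    Nonempty (Coh.HH X (limit G) p ≃+
      Formal2.limZero (fun n => Coh.HH X (G.obj (op n)) p) (Formal2.HHsysMap G p)) := by
  cases p with
  | zero =>
    exact nonempty_limZero_equiv_zero (fun n => Coh.toAb (G.obj (op n)))
      (fun n => (SheafOfModules.toSheaf X.ringCatSheaf).map (G.map (homOfLE (Nat.le_succ n)).op))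
      (fun n => (SheafOfModules.toSheaf X.ringCatSheaf).map (limit.π G (op n)))
      (fun n => by rw [← Functor.map_comp, limit.w]) (existsUnique_toAb_limit G)
  | succ q =>
    obtain ⟨α, β, -, hβ, hr, -⟩ := milnor_qcoh G hG ht q
    haveI := h1 q
    refine ⟨AddEquiv.ofBijective β ⟨(injective_iff_map_eq_zero β).2 fun x hx => ?_, hβ⟩⟩
    obtain ⟨v, rfl⟩ : x ∈ α.range := hr.symm ▸ hx
    rw [Subsingleton.elim v 0, map_zero]

variable {A : Type u} [CommRing A] [IsNoetherianRing A] (I : Ideal A) {X : Scheme.{u}}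
  [X.Over (Spec (CommRingCat.of A))] [IsProper (X ↘ Spec (CommRingCat.of A))] [IsNoetherian X]

theorem isProperOver_univ : ClSub.IsProperOver (X ↘ Spec (CommRingCat.of A)) (Set.univ : Set X) := by
  haveI : IsProper (𝟙 X ≫ (X ↘ Spec (CommRingCat.of A))) := by rwa [Category.id_comp]
  exact QCoh.isProperOver_of_subset (𝟙 X) isClosed_univ fun x _ => ⟨x, rfl⟩

theorem nonempty_HH_completion_equiv {F : X.Modules} (hF : Coh.IsCoh F) (p : ℕ) :
    Nonempty (Coh.HH X (limit (Formal.completion I F)) p ≃+ Formal.HHlim I F p) := by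
  have hC := Algz7.isCohFormal_completion I hF
  have ht : ∀ q n, Formal2.HHsysMap (Formal.completion I F) q n = Formal.HHmodPowTrans I F q n := fun q n =>
    congrArg (fun f => Sheaf.H.map ((SheafOfModules.toSheaf _).map f) q) (Algz7.completion_map_succ I F n)
  have hfin : ∀ q, Module.Finite A (Coh.HH X F q) := fun q =>
    FFun.finite_HH_of_properSupport A isProperOver_univ hF (Set.subset_univ _) q
  have h1 : ∀ q, Subsingleton (Formal2.limOne (fun n => Coh.HH X ((Formal.completion I F).obj (op n)) q)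
      (Formal2.HHsysMap (Formal.completion I F) q)) := fun q => by
    rw [show Formal2.HHsysMap (Formal.completion I F) q = Formal.HHmodPowTrans I F q from funext (ht q)]
    exact FFun.subsingleton_limOne_of_goodM (FFun.goodM_of_finite hF hfin I) q
  obtain ⟨e⟩ := nonempty_HH_limit_equiv (Formal.completion I F) (fun n => (hC.1 n).1)
    (fun n => Algz7.IsQuot.epi (hC.2.2 n)) h1 p
  refine ⟨e.trans
    { toFun := fun x => ⟨x.1, fun n => ?_⟩
      invFun := fun x => ⟨x.1, ?_⟩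
      left_inv := fun _ => rfl
      right_inv := fun _ => rfl
      map_add' := fun _ _ => rfl }⟩
  · have h0 := congrFun x.2 n
    change x.1 n - Formal2.HHsysMap (Formal.completion I F) p n (x.1 (n + 1)) = 0 at h0
    rw [ht, sub_eq_zero] at h0
    exact h0.symm
  · refine funext fun n => ?_
    change (show Coh.HH X ((Formal.completion I F).obj (op n)) p from x.1 n) -
      Formal2.HHsysMap (Formal.completion I F) p n (x.1 (n + 1)) = 0
    rw [ht, sub_eq_zero]
    exact (x.2 n).symm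

theorem nonempty_HF_toHat (𝓚 : X.IdealSheafData)
    (h𝓚 : 𝓚 = (FSch.idealSpec A I).comap (X ↘ Spec (CommRingCat.of A)))
    (hX : (FSch.completionAlong X 𝓚).IsFormal) {F : X.Modules} (hF : Coh.IsCoh F) (n : ℕ) :
    Nonempty (FSch.HF (FSch.completionAlong X 𝓚) hX ((toHatF 𝓚 hX).obj F) n ≃+ Formal.HHlim I F n) := by
  have hN := FComplLib.isLocNoethFormal_completionAlong 𝓚
  haveI : IsAffineHom (FSch.completionToX X 𝓚 0) := inferInstance
  let R := (FSch.complMod 𝓚 F).realMod hN.1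
  let e₁ := HequivOfIso ((SheafOfModules.toSheaf _).mapIso (hatIso 𝓚 hX F hF)) n
  let S := QCoh.stdCovers ((FSch.completionAlong X 𝓚).X 0)
  have hb : QCoh.Ab.PreimageBasis (FSch.completionToX X 𝓚 0).base S := fun U y hy => by
    obtain ⟨W, hW, hyW, hWU⟩ := Opens.isBasis_iff_nbhd.1 X.isBasis_affineOpens hy
    exact ⟨W, hWU, hyW, hW.preimage _⟩
  have hA : S.Acyclic (abF hN R) := fun V _ {ι} U hU => acyclic_realMod hN hU _ (isCoh_complMod 𝓚 hF)
  obtain ⟨e₂⟩ := QCoh.Ab.H_push_equiv (FSch.completionToX X 𝓚 0).base S hb (abF hN R) hA n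
  obtain ⟨c₁⟩ := nonempty_push_realMod 𝓚 hN (FSch.complMod 𝓚 F)
  obtain ⟨c₂⟩ := exists_pushSys_iso_completion 𝓚 I
    (fun k => exists_level_isPullback 𝓚 I (X ↘ Spec (CommRingCat.of A)) h𝓚 k) hF
  let e₃ := HequivOfIso ((SheafOfModules.toSheaf X.ringCatSheaf).mapIso (c₁ ≪≫ HasLimit.isoOfNatIso c₂)) n
  obtain ⟨e₄⟩ := nonempty_HH_completion_equiv I hF n
  exact ⟨((e₁.trans e₂).trans e₃).trans e₄⟩

end Groth.Agent.H9FCoh
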