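import Groth.Agent.H9FCoh.AlgzEss
import Groth.Agent.Algz7.PullbackFormal
import Groth.Agent.Algz7.Completion
import Groth.Agent.ThickFin.Scheme
import Groth.Agent.FComplLib.Spf
import Groth.Agent.GrpSchLib.ThickIso
import Groth.Agent.S1318

/-!
# Inverse image of coherent formal modules along a flat map which is an isomorphism at level zero
-/

set_option autoImplicit false
set_option backward.isDefEq.respectTransparency false
set_option backward.isDefEq.respectTransparency.types false
set_option linter.style.haveILetI false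

universe u

open CategoryTheory CategoryTheory.Limits AlgebraicGeometry Opposite

noncomputable section

namespace Groth.Agent.H9FCoh.FPE

theorem isFiniteOrderThickening_spec {A : Type u} [CommRing A] (I : Ideal A) (n : ℕ) :
    MoreMor.IsFiniteOrderThickening (Spec.map (CommRingCat.ofHom
      (Ideal.Quotient.factor (Ideal.pow_le_pow_right (Nat.le_add_left 1 n) : I ^ (n + 1) ≤ I ^ (0 + 1))))) := by
  let φ := Ideal.Quotient.factor (Ideal.pow_le_pow_right (Nat.le_add_left 1 n) : I ^ (n + 1) ≤ I ^ (0 + 1))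
  have hφ : Function.Surjective φ := Ideal.Quotient.factor_surjective _
  have hk : RingHom.ker φ ^ (n + 1) = ⊥ := by
    rw [show RingHom.ker φ = (I ^ (0 + 1)).map (Ideal.Quotient.mk (I ^ (n + 1))) from Ideal.Quotient.factor_ker _,
      ← Ideal.map_pow, ← pow_mul, eq_bot_iff, Ideal.map_le_iff_le_comap, ← RingHom.ker_eq_comap_bot, Ideal.mk_ker]
    exact Ideal.pow_le_pow_right (by omega)
  refine ⟨⟨IsClosedImmersion.spec_of_surjective (CommRingCat.ofHom φ) hφ, ⟨fun p => ?_⟩⟩, n + 1, ?_⟩
  · have hle : RingHom.ker φ ≤ (p : PrimeSpectrum (A ⧸ I ^ (n + 1))).asIdeal := fun x hx =>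
      (p : PrimeSpectrum (A ⧸ I ^ (n + 1))).isPrime.mem_of_pow_mem (n + 1) (by
        have := Ideal.pow_mem_pow hx (n + 1)
        rw [hk, Ideal.mem_bot] at this
        rw [this]; exact zero_mem _)
    haveI := (p : PrimeSpectrum (A ⧸ I ^ (n + 1))).isPrime
    exact ⟨⟨(p : PrimeSpectrum (A ⧸ I ^ (n + 1))).asIdeal.map φ, Ideal.map_isPrime_of_surjective hφ hle⟩,
      PrimeSpectrum.ext ((Ideal.comap_map_of_surjective _ hφ _).trans
        (by rw [← RingHom.ker_eq_comap_bot, sup_eq_left.2 hle]))⟩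
  · refine Scheme.IdealSheafData.ext_of_isAffine ?_
    rw [Scheme.IdealSheafData.ideal_pow, Pi.pow_apply, FComplLib.ker_specMap_ideal _ hφ, ← Ideal.map_pow, hk,
      Ideal.map_bot, Scheme.IdealSheafData.zero_eq_bot, Scheme.IdealSheafData.ideal_bot, Pi.bot_apply]

variable {A : Type u} [CommRing A] {X X' : Scheme.{u}}
  [X.Over (Spec (CommRingCat.of A))] [X'.Over (Spec (CommRingCat.of A))]
  (f : X' ⟶ X) (hf : f ≫ (X ↘ Spec (CommRingCat.of A)) = X' ↘ Spec (CommRingCat.of A))

section Level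

variable {J : Ideal A} {Z : Scheme.{u}} {j : Z ⟶ X} [IsClosedImmersion j] {j' : Z ⟶ X'} [IsClosedImmersion j']
  {q q' : Z ⟶ Spec (CommRingCat.of (A ⧸ J))}
  (sq : IsPullback j q (X ↘ Spec (CommRingCat.of A)) (Spec.map (CommRingCat.ofHom (Ideal.Quotient.mk J))))
  (sq' : IsPullback j' q' (X' ↘ Spec (CommRingCat.of A)) (Spec.map (CommRingCat.ofHom (Ideal.Quotient.mk J))))

include sq in
/-- Restriction is fully faithful on modules killed by the ideal. -/
theorem bijective_pull_level {M N : X.Modules} (hN : Coh.IsQCoh N) (hNk : Formal.KilledBy J N) :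
    Function.Bijective fun φ : M ⟶ N => (Scheme.Modules.pullback j).map φ := by
  haveI := H9LiftLF.isIso_unit_of_killed j hN (H9Existence.killed_of_killedBy (q := q) sq hNk)
  let adj := Scheme.Modules.pullbackPushforwardAdjunction j
  have h : (fun φ : M ⟶ N => (Scheme.Modules.pullback j).map φ) =
      (adj.homEquiv _ _).symm ∘ fun φ => φ ≫ adj.unit.app N := by
    funext φ
    simp only [Function.comp_apply]
    rw [adj.homEquiv_naturality_left_symm]
    have : (adj.homEquiv N _).symm (adj.unit.app N) = 𝟙 _ := by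
      rw [← adj.homEquiv_id]; exact Equiv.symm_apply_apply _ _
    exact ((congrArg (_ ≫ ·) this).trans (Category.comp_id _)).symm
  rw [h]
  exact (Equiv.bijective _).comp ⟨fun a b e => (cancel_mono (adj.unit.app N)).1 e,
    fun g => ⟨g ≫ inv (adj.unit.app N), (Category.assoc _ _ _).trans (by rw [IsIso.inv_hom_id, Category.comp_id])⟩⟩

variable (hj : j' ≫ f = j)
include hf sq sq' hj

/-- Inverse image is fully faithful on modules killed by the ideal. -/
theorem bijective_pull {M N : X.Modules} (hN : Coh.IsQCoh N) (hNk : Formal.KilledBy J N) :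
    Function.Bijective fun φ : M ⟶ N => (Scheme.Modules.pullback f).map φ := by
  let c := Scheme.Modules.pullbackComp j' f ≪≫ Scheme.Modules.pullbackCongr hj
  have h1 := bijective_pull_level sq (M := M) hN hNk
  have h2 := bijective_pull_level sq' (M := (Scheme.Modules.pullback f).obj M) (QCoh.isQCoh_pullback f hN)
    (Algz7.killedBy_pullback f hf hNk)
  refine (Function.Bijective.of_comp_iff' h2 _).1 ?_
  refine (Function.Bijective.of_comp_iff' ((c.app M).homCongr (c.app N)).bijective _).1 ?_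
  convert h1 using 1
  funext φ
  simp only [Function.comp_apply, Iso.homCongr_apply, Iso.app_inv, Iso.app_hom]
  rw [← Iso.app_inv, Iso.inv_comp_eq]
  exact c.hom.naturality φ

/-- A coherent module killed by the ideal comes from one killed by the ideal. -/
theorem exists_preimage [IsLocallyNoetherian X] [IsLocallyNoetherian X'] {N : X'.Modules} (hN : Coh.IsCoh N)
    (hNk : Formal.KilledBy J N) :
    ∃ M : X.Modules, Coh.IsCoh M ∧ Formal.KilledBy J M ∧ Nonempty ((Scheme.Modules.pullback f).obj M ≅ N) := by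
  let L := (Scheme.Modules.pullback j').obj N
  have hL : Coh.IsCoh L := ⟨QCoh.isQCoh_pullback _ hN.1, QCoh.isFT_pullback _ hN.1 hN.2⟩
  let M := (Scheme.Modules.pushforward j).obj L
  have hM : Coh.IsCoh M := QCoh.isCoh_pushforward_finite j hL
  have hMk : Formal.KilledBy J M := H9Existence.killedBy_push (q := q) sq hL.1
  refine ⟨M, hM, hMk, ?_⟩
  let c := Scheme.Modules.pullbackComp j' f ≪≫ Scheme.Modules.pullbackCongr hj
  haveI := AmpleVan.isIso_counit j hL.1
  let e : (Scheme.Modules.pullback j').obj ((Scheme.Modules.pullback f).obj M) ≅ L :=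
    c.app M ≪≫ asIso ((Scheme.Modules.pullbackPushforwardAdjunction j).counit.app L)
  have hPk := Algz7.killedBy_pullback f hf hMk
  obtain ⟨a, ha⟩ := (bijective_pull_level sq' hN.1 hNk).2 e.hom
  obtain ⟨b, hb⟩ := (bijective_pull_level sq' (QCoh.isQCoh_pullback f hM.1) hPk).2 e.inv
  refine ⟨⟨a, b, (bijective_pull_level sq' (QCoh.isQCoh_pullback f hM.1) hPk).1 ?_,
    (bijective_pull_level sq' hN.1 hNk).1 ?_⟩⟩
  · simp only [Functor.map_comp, ha, hb, CategoryTheory.Functor.map_id]
    exact e.hom_inv_id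
  · simp only [Functor.map_comp, ha, hb, CategoryTheory.Functor.map_id]
    exact e.inv_hom_id

end Level

variable (I : Ideal A)
  (hZ : IsIso (pullback.map (X' ↘ Spec (CommRingCat.of A)) (CohB1.specQuot I 0)
      (X ↘ Spec (CommRingCat.of A)) (CohB1.specQuot I 0) f (𝟙 _) (𝟙 _)
      ((Category.comp_id _).trans hf.symm) ((Category.comp_id _).trans (Category.id_comp _).symm)))

/-- The map of levels. -/
def lev (n : ℕ) : pullback (X' ↘ Spec (CommRingCat.of A)) (CohB1.specQuot I n) ⟶
    pullback (X ↘ Spec (CommRingCat.of A)) (CohB1.specQuot I n) :=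
  pullback.map _ _ _ _ f (𝟙 _) (𝟙 _) ((Category.comp_id _).trans hf.symm)
    ((Category.comp_id _).trans (Category.id_comp _).symm)

theorem lev_fst (n : ℕ) : lev f hf I n ≫ pullback.fst _ _ = pullback.fst _ _ ≫ f := pullback.lift_fst _ _ _

theorem lev_snd (n : ℕ) : lev f hf I n ≫ pullback.snd _ _ = pullback.snd _ _ :=
  (pullback.lift_snd _ _ _).trans (Category.comp_id _)

theorem isPullback_lev (n : ℕ) :
    IsPullback (pullback.fst (X' ↘ Spec (CommRingCat.of A)) (CohB1.specQuot I n)) (lev f hf I n) f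
      (pullback.fst (X ↘ Spec (CommRingCat.of A)) (CohB1.specQuot I n)) :=
  IsPullback.of_bot ((lev_snd f hf I n).symm ▸ hf.symm ▸ IsPullback.of_hasPullback _ _) (lev_fst f hf I n).symm
    (IsPullback.of_hasPullback _ _)

variable [Flat f]

include hZ in
theorem isIso_lev (n : ℕ) : IsIso (lev f hf I n) := by
  let T := Spec.map (CommRingCat.ofHom
    (Ideal.Quotient.factor (Ideal.pow_le_pow_right (Nat.le_add_left 1 n) : I ^ (n + 1) ≤ I ^ (0 + 1))))
  have hT : T ≫ CohB1.specQuot I n = CohB1.specQuot I 0 := by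
    simp only [T, CohB1.specQuot, ← Spec.map_comp, ← CommRingCat.ofHom_comp, Ideal.Quotient.factor_comp_mk]
  let t : ∀ (W : Scheme.{u}) (p : W ⟶ Spec (CommRingCat.of A)),
      pullback p (CohB1.specQuot I 0) ⟶ pullback p (CohB1.specQuot I n) := fun W p =>
    pullback.map _ _ _ _ (𝟙 _) T (𝟙 _) (by simp) (by simp [hT])
  have hsq : ∀ (W : Scheme.{u}) (p : W ⟶ Spec (CommRingCat.of A)),
      IsPullback (t W p) (pullback.snd p _) (pullback.snd p _) T := fun W p => by
    refine IsPullback.of_right (h₁₂ := pullback.fst p _) (v₁₃ := p) (h₂₂ := CohB1.specQuot I n) ?_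
      (pullback.lift_snd _ _ _) (IsPullback.of_hasPullback _ _)
    rw [hT, show t W p ≫ pullback.fst p _ = pullback.fst p _ from
      (pullback.lift_fst _ _ _).trans (Category.comp_id _)]
    exact IsPullback.of_hasPullback _ _
  have hY := ThickFin.isFiniteOrderThickening_baseChange (isFiniteOrderThickening_spec I n)
    (hsq X (X ↘ Spec (CommRingCat.of A)))
  have w : t X' (X' ↘ Spec (CommRingCat.of A)) ≫ lev f hf I n =
      lev f hf I 0 ≫ t X (X ↘ Spec (CommRingCat.of A)) :=
    pullback.hom_ext (by simp [t, lev]) (by simp [t, lev])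
  haveI : Flat (lev f hf I n) := MorphismProperty.of_isPullback (P := @Flat) (isPullback_lev f hf I n) inferInstance
  have hc : IsPullback (t X' (X' ↘ Spec (CommRingCat.of A))) (lev f hf I 0) (lev f hf I n)
      (t X (X ↘ Spec (CommRingCat.of A))) := by
    refine IsPullback.of_bot ?_ w (hsq X (X ↘ Spec (CommRingCat.of A)))
    rw [lev_snd, lev_snd]
    exact hsq X' _
  haveI : Flat (lev f hf I n ≫ 𝟙 _) := by rw [Category.comp_id]; infer_instance
  exact (S1318.result (t X' (X' ↘ Spec (CommRingCat.of A))) (t X (X ↘ Spec (CommRingCat.of A)))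
    (t X (X ↘ Spec (CommRingCat.of A))) (lev f hf I 0) (lev f hf I n) (𝟙 _) (𝟙 _) hY
    (by rw [Category.comp_id, Category.comp_id]; exact hc) (IsPullback.of_id_snd) w).1 hZ

include hZ hf in
theorem exists_levels (n : ℕ) : ∃ (Z : Scheme.{u}) (j : Z ⟶ X) (j' : Z ⟶ X') (q q' : Z ⟶ Spec (CommRingCat.of (A ⧸ I ^ (n + 1)))),
    IsClosedImmersion j ∧ IsClosedImmersion j' ∧ j' ≫ f = j ∧
    IsPullback j q (X ↘ Spec (CommRingCat.of A)) (Spec.map (CommRingCat.ofHom (Ideal.Quotient.mk (I ^ (n + 1))))) ∧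
    IsPullback j' q' (X' ↘ Spec (CommRingCat.of A)) (Spec.map (CommRingCat.ofHom (Ideal.Quotient.mk (I ^ (n + 1))))) := by
  haveI := isIso_lev f hf I hZ n
  haveI : IsClosedImmersion (CohB1.specQuot I n) :=
    IsClosedImmersion.spec_of_surjective _ Ideal.Quotient.mk_surjective
  refine ⟨pullback (X ↘ Spec (CommRingCat.of A)) (CohB1.specQuot I n), pullback.fst _ _,
    inv (lev f hf I n) ≫ pullback.fst _ _, pullback.snd _ _, pullback.snd _ _, inferInstance, inferInstance,
    by rw [Category.assoc, ← lev_fst f hf I n, IsIso.inv_hom_id_assoc], IsPullback.of_hasPullback _ _, ?_⟩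
  refine (IsPullback.of_hasPullback (X' ↘ Spec (CommRingCat.of A)) (CohB1.specQuot I n)).of_iso
    (asIso (lev f hf I n)) (Iso.refl _) (Iso.refl _) (Iso.refl _) ?_ ?_ ?_ ?_
  · simp
  · simp [lev_snd]
  · simp
  · simp [CohB1.specQuot]

variable [IsNoetherian X] [IsNoetherian X']

include hZ hf in
theorem bijective_of_killed (n : ℕ) {M N : X.Modules} (hN : Coh.IsQCoh N) (hNk : Formal.KilledBy (I ^ (n + 1)) N) :
    Function.Bijective fun φ : M ⟶ N => (Scheme.Modules.pullback f).map φ := by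
  obtain ⟨Z, j, j', q, q', _, _, hj, sq, sq'⟩ := exists_levels f hf I hZ n
  exact bijective_pull f hf sq sq' hj hN hNk

include hZ hf in
/-- Inverse image is fully faithful on coherent formal modules. -/
theorem bijective_whisker {G₁ G₂ : ℕᵒᵖ ⥤ X.Modules} (h₂ : Formal.IsCohFormal I G₂) :
    Function.Bijective fun φ : G₁ ⟶ G₂ => Functor.whiskerRight φ (Scheme.Modules.pullback f) := by
  have hb := fun (m : ℕᵒᵖ) (M : X.Modules) => bijective_of_killed f hf I hZ m.unop (M := M) (h₂.1 m.unop).1 (h₂.2.1 m.unop)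
  refine ⟨fun φ ψ e => NatTrans.ext (funext fun m => (hb m _).1 (congrArg (fun q => q.app m) e)), fun Φ => ?_⟩
  choose φ hφ using fun m => (hb m (G₁.obj m)).2 (Φ.app m)
  refine ⟨⟨φ, fun m k g => (hb k _).1 ?_⟩, NatTrans.ext (funext fun m => hφ m)⟩
  simp only [Functor.map_comp, hφ]
  exact Φ.naturality g

include hZ hf in
/-- Inverse image is essentially surjective on coherent formal modules. -/
theorem exists_formal_preimage {G' : ℕᵒᵖ ⥤ X'.Modules} (hG' : Formal.IsCohFormal I G') :
    ∃ G : ℕᵒᵖ ⥤ X.Modules, Formal.IsCohFormal I G ∧ Nonempty (G ⋙ Scheme.Modules.pullback f ≅ G') := by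
  have hM : ∀ n, ∃ M : X.Modules, Coh.IsCoh M ∧ Formal.KilledBy (I ^ (n + 1)) M ∧
      Nonempty ((Scheme.Modules.pullback f).obj M ≅ G'.obj (op n)) := fun n => by
    obtain ⟨Z, j, j', q, q', _, _, hj, sq, sq'⟩ := exists_levels f hf I hZ n
    exact exists_preimage f hf sq sq' hj (hG'.1 n) (hG'.2.1 n)
  choose M hMc hMk e using hM
  let e := fun n => (e n).some
  choose g hg using fun n => (bijective_of_killed f hf I hZ n (M := M (n + 1)) (hMc n).1 (hMk n)).2
    ((e (n + 1)).hom ≫ G'.map (homOfLE (Nat.le_succ n)).op ≫ (e n).inv)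
  let G := Functor.ofOpSequence g
  have hmap : ∀ n, (Scheme.Modules.pullback f).map (G.map (homOfLE (Nat.le_succ n)).op) =
      (e (n + 1)).hom ≫ G'.map (homOfLE (Nat.le_succ n)).op ≫ (e n).inv := fun n => by
    rw [Functor.ofOpSequence_map_homOfLE_succ]
    exact hg n
  let η : G' ⟶ G ⋙ Scheme.Modules.pullback f := NatTrans.ofOpSequence (fun n => (e n).inv) fun n => by
    rw [Functor.comp_map, hmap]; simp
  haveI : ∀ m, IsIso (η.app m) := fun m => inferInstanceAs (IsIso (e m.unop).inv)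
  haveI := NatIso.isIso_of_isIso_app η
  refine ⟨G, ⟨hMc, hMk, fun n => ?_⟩, ⟨(asIso η).symm⟩⟩
  · obtain ⟨ψ, hψ⟩ := (Algz7.isQuot_modPowπ I (n + 1) (M (n + 1))).desc (G.map (homOfLE (Nat.le_succ n)).op)
      (Algz7.smulFamily_comp_eq_zero (hMk n) _)
    have hP : Coh.IsQCoh (Formal.modPow I (n + 1) (M (n + 1))) := Algz7.isQCoh_modPow I (n + 1) (hMc (n + 1)).1
    have hPk := Algz7.killedBy_of_isQuot (Algz7.isQuot_modPowπ I (n + 1) (M (n + 1)))
    haveI : Epi ((Scheme.Modules.pullback f).map (G.map (homOfLE (Nat.le_succ n)).op)) := by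
      haveI := Algz7.epi_step hG' n
      rw [hmap]; infer_instance
    have hq := Algz7.IsQuot.pullback f hf (Algz7.isQuot_modPowπ I (n + 1) (M (n + 1)))
    obtain ⟨χ, hχ⟩ := (show Algz7.IsQuot (I ^ (n + 1)) (G'.map (homOfLE (Nat.le_succ n)).op) from hG'.2.2 n).desc
      ((e (n + 1)).inv ≫ (Scheme.Modules.pullback f).map (Formal.modPowπ I (n + 1) (M (n + 1))))
      (Algz7.smulFamily_comp_eq_zero (Algz7.killedBy_of_isQuot hq) _)
    obtain ⟨θ, hθ⟩ := (bijective_of_killed f hf I hZ n (M := M n) hP hPk).2 ((e n).hom ≫ χ)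
    have h1 : G.map (homOfLE (Nat.le_succ n)).op ≫ θ = Formal.modPowπ I (n + 1) (M (n + 1)) := by
      refine (bijective_of_killed f hf I hZ n hP hPk).1 ?_
      simp only [Functor.map_comp, hθ, hmap, Category.assoc, Iso.inv_hom_id_assoc, hχ, Iso.hom_inv_id_assoc]
    have hcancel : ∀ {T : X.Modules}, Coh.IsQCoh T → Formal.KilledBy (I ^ (n + 1)) T → ∀ a b : M n ⟶ T,
        G.map (homOfLE (Nat.le_succ n)).op ≫ a = G.map (homOfLE (Nat.le_succ n)).op ≫ b → a = b := fun hT hTk a b hab => by
      refine (bijective_of_killed f hf I hZ n hT hTk).1 ?_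
      rw [← cancel_epi ((Scheme.Modules.pullback f).map (G.map (homOfLE (Nat.le_succ n)).op)), ← Functor.map_comp,
        ← Functor.map_comp, hab]
    have h2 : θ ≫ ψ = 𝟙 _ := hcancel (hMc n).1 (hMk n) _ _ (by
      rw [← Category.assoc, h1, hψ]; exact (Category.comp_id _).symm)
    haveI := (Algz7.isQuot_modPowπ I (n + 1) (M (n + 1))).epi
    have h3 : ψ ≫ θ = 𝟙 _ := by
      rw [← cancel_epi (Formal.modPowπ I (n + 1) (M (n + 1))), ← Category.assoc, hψ, h1, Category.comp_id]
    refine ⟨Algz7.smulFamily_comp_eq_zero (hMk n) _, ?_⟩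
    have he : cokernel.desc _ (G.map (homOfLE (Nat.le_succ n)).op) (Algz7.smulFamily_comp_eq_zero (hMk n) _) = ψ :=
      coequalizer.hom_ext ((cokernel.π_desc _ _ _).trans hψ.symm)
    exact he ▸ ⟨θ, h3, h2⟩

end Groth.Agent.H9FCoh.FPE
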