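import Groth.Agent.Algz7.Completion
import Groth.Agent.Algz7.CohFormal
import Groth.Agent.H9Existence.Quot
import Groth.Agent.GrpSchLib.ThickIso

/-!
# Coherent formal modules for two ideals with the same zero locus
-/

set_option autoImplicit false
set_option backward.isDefEq.respectTransparency false
set_option backward.isDefEq.respectTransparency.types false
set_option linter.style.haveILetI false

universe u

open CategoryTheory CategoryTheory.Limits AlgebraicGeometry Opposite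
open Groth.Agent.AmpleVan (scal)

noncomputable section

namespace Groth.Agent.H9FCoh.FRe

variable {A : Type u} [CommRing A] {X : Scheme.{u}} [X.Over (Spec (CommRingCat.of A))]

theorem killedBy_le {J J' : Ideal A} (h : J ≤ J') {M : X.Modules} (hM : Formal.KilledBy J' M) : Formal.KilledBy J M :=
  fun a ha => hM a (h ha)

/-- Reductions may be tested on killed modules. -/
theorem isQuot_mk_killed {J : Ideal A} {M N : X.Modules} (g : M ⟶ N) [Epi g] (hN : Formal.KilledBy J N)
    (h : ∀ {Q : X.Modules}, Formal.KilledBy J Q → ∀ φ : M ⟶ Q, ∃ ψ, g ≫ ψ = φ) : Algz7.IsQuot J g := by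
  refine Algz7.IsQuot.mk' g hN fun {P} φ hφ => ?_
  have hp : Algz7.IsQuot J (cokernel.π (Formal.smulFamily J M)) := ⟨cokernel.condition _, by
    have : cokernel.desc (Formal.smulFamily J M) (cokernel.π _) (cokernel.condition _) = 𝟙 _ :=
      coequalizer.hom_ext (by rw [cokernel.π_desc, Category.comp_id])
    rw [this]; infer_instance⟩
  obtain ⟨χ, hχ⟩ := hp.desc φ hφ
  obtain ⟨ψ, hψ⟩ := h (Algz7.killedBy_of_isQuot hp) (cokernel.π _)
  exact ⟨ψ ≫ χ, by rw [← Category.assoc, hψ, hχ]⟩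

theorem desc_killed {J : Ideal A} {M N : X.Modules} {g : M ⟶ N} (hg : Algz7.IsQuot J g) {Q : X.Modules}
    (hQ : Formal.KilledBy J Q) (φ : M ⟶ Q) : ∃ ψ, g ≫ ψ = φ :=
  hg.desc φ (Algz7.smulFamily_comp_eq_zero hQ φ)

/-- The kernel ideals on a finite cover control the killing ideals. -/
theorem exists_killed_pow [IsNoetherian X] {I K : Ideal A}
    (hV : (fun x : X => (X ↘ Spec (CommRingCat.of A)) x) ⁻¹' PrimeSpectrum.zeroLocus (I : Set A) ⊆
      (fun x : X => (X ↘ Spec (CommRingCat.of A)) x) ⁻¹' PrimeSpectrum.zeroLocus (K : Set A)) :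
    ∃ c : ℕ, ∀ (m : ℕ) (M : X.Modules), Formal.KilledBy (I ^ m) M → Formal.KilledBy (K ^ (c * m)) M := by
  obtain ⟨s, hs⟩ := isCompact_univ.elim_finite_subcover (fun U : X.affineOpens => (U.1 : Set X)) (fun U => U.1.2)
    (fun x _ => by
      obtain ⟨_, ⟨W, hW, rfl⟩, hxW, -⟩ := X.isBasis_affineOpens.exists_subset_of_mem_open (Set.mem_univ x) isOpen_univ
      exact Set.mem_iUnion.2 ⟨⟨W, hW⟩, hxW⟩)
  have hU : ∀ U : X.affineOpens, ∃ e : ℕ, (K.map (scal A U.1)) ^ e ≤ I.map (scal A U.1) := fun U => by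
    haveI : IsNoetherianRing Γ(X, U.1) := IsLocallyNoetherian.component_noetherian U
    refine Ideal.exists_pow_le_of_le_radical_of_fg ?_ (IsNoetherian.noetherian _)
    rw [Ideal.radical_eq_sInf]
    refine le_sInf fun P ⟨hIP, hP⟩ => ?_
    haveI := hP
    refine Ideal.map_le_iff_le_comap.2 fun a ha => ?_
    let p : PrimeSpectrum Γ(X, U.1) := ⟨P, hP⟩
    have hx : (X ↘ Spec (CommRingCat.of A)) (U.2.fromSpec p) = PrimeSpectrum.comap (scal A U.1) p :=
      (congrArg (fun φ => φ p) (GrpSchLib.ThickIso.SpecMap_sec (X ↘ Spec (CommRingCat.of A)) U.2)).symm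
    have h1 : U.2.fromSpec p ∈ (fun x : X => (X ↘ Spec (CommRingCat.of A)) x) ⁻¹' PrimeSpectrum.zeroLocus (I : Set A) := by
      change (X ↘ Spec (CommRingCat.of A)) (U.2.fromSpec p) ∈ PrimeSpectrum.zeroLocus (I : Set A)
      exact hx ▸ fun b hb => hIP (Ideal.mem_map_of_mem _ hb)
    have h2 : (X ↘ Spec (CommRingCat.of A)) (U.2.fromSpec p) ∈ PrimeSpectrum.zeroLocus (K : Set A) := hV h1
    exact (hx ▸ h2 : PrimeSpectrum.comap (scal A U.1) p ∈ PrimeSpectrum.zeroLocus (K : Set A)) ha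
  choose e he using hU
  refine ⟨s.sup e, fun m M hM a ha => ?_⟩
  refine LimMod.hom_ext_basis (P := fun W : X.Opens => ∃ U ∈ s, W ≤ (U : X.affineOpens).1) ?_ _ _ fun W hW z => ?_
  · intro V x hx
    obtain ⟨U, hU, hxU⟩ := Set.mem_iUnion₂.1 (hs (Set.mem_univ x))
    exact ⟨U.1 ⊓ V, ⟨U, hU, inf_le_left⟩, ⟨hxU, hx⟩, inf_le_right⟩
  · obtain ⟨U, hU, hWU⟩ := hW
    have h1 : scal A U.1 a ∈ (I ^ m).map (scal A U.1) := by
      rw [Ideal.map_pow]
      refine Ideal.pow_right_mono (he U) m ?_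
      rw [← pow_mul, ← Ideal.map_pow]
      refine Ideal.mem_map_of_mem _ (Ideal.pow_le_pow_right ?_ ha)
      exact Nat.mul_le_mul_right m (Finset.le_sup hU)
    have hres : (X.presheaf.map (homOfLE hWU).op).hom.comp (scal A U.1) = scal A W := RingHom.ext fun r => by
      change (X.presheaf.map (homOfLE (le_top (a := U.1))).op ≫ X.presheaf.map (homOfLE hWU).op).hom _ = _
      rw [← Functor.map_comp]
      rfl
    have h2 : scal A W a ∈ (I ^ m).map (scal A W) := by
      have := Ideal.mem_map_of_mem (X.presheaf.map (homOfLE hWU).op).hom h1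
      rwa [Ideal.map_map, ← RingHom.comp_apply, hres] at this
    exact AmpleVan.smul_eq_zero_of_killed hM h2 z

variable [IsNoetherian X] {I K : Ideal A} (hIK : I ≤ K)

/-- The reduced system. -/
def redObj {G : ℕᵒᵖ ⥤ X.Modules} : ℕᵒᵖ ⥤ X.Modules :=
  Functor.ofOpSequence (X := fun n => Formal.modPow K (n + 1) (G.obj (op n))) fun n =>
    cokernel.desc (Formal.smulFamily (K ^ (n + 1 + 1)) (G.obj (op (n + 1))))
      (G.map (homOfLE (Nat.le_succ n)).op ≫ Formal.modPowπ K (n + 1) (G.obj (op n)))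
      (Algz7.smulFamily_comp_eq_zero (killedBy_le (Ideal.pow_le_pow_right (Nat.le_succ (n + 1)))
        (Algz7.killedBy_of_isQuot (Algz7.isQuot_modPowπ K (n + 1) _))) _)

/-- The projection to the reduced system. -/
def redπ (G : ℕᵒᵖ ⥤ X.Modules) : G ⟶ redObj (K := K) (G := G) :=
  NatTrans.ofOpSequence (fun n => Formal.modPowπ K (n + 1) (G.obj (op n))) fun n => by
    erw [Functor.ofOpSequence_map_homOfLE_succ]
    exact (cokernel.π_desc _ _ _).symm

theorem isQuot_redπ (G : ℕᵒᵖ ⥤ X.Modules) (n : ℕ) : Algz7.IsQuot (K ^ (n + 1)) ((redπ (K := K) G).app (op n)) :=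
  Algz7.isQuot_modPowπ K (n + 1) _

theorem epi_redπ (G : ℕᵒᵖ ⥤ X.Modules) (m : ℕᵒᵖ) : Epi ((redπ (K := K) G).app m) :=
  (isQuot_redπ G m.unop).epi

include hIK in
theorem pow_le (n : ℕ) : I ^ n ≤ K ^ n := Ideal.pow_right_mono hIK n

variable {G : ℕᵒᵖ ⥤ X.Modules}

include hIK in
theorem isQuot_tr_redπ (hG : Formal.IsCohFormal I G) {n p : ℕ} (h : n ≤ p) :
    Algz7.IsQuot (K ^ (n + 1)) (ARSys.tr G h ≫ (redπ (K := K) G).app (op n)) := by
  haveI := Algz7.epi_tr hG h
  haveI := epi_redπ (K := K) G (op n)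
  refine isQuot_mk_killed _ (Algz7.killedBy_of_isQuot (isQuot_redπ G n)) fun {Q} hQ φ => ?_
  obtain ⟨ψ, hψ⟩ := Algz7.factor hG h (killedBy_le (pow_le hIK _) hQ) φ
  obtain ⟨χ, hχ⟩ := desc_killed (isQuot_redπ G n) hQ ψ
  exact ⟨χ, by rw [Category.assoc, hχ, hψ]⟩

include hIK in
theorem isCohFormal_red (hG : Formal.IsCohFormal I G) : Formal.IsCohFormal K (redObj (K := K) (G := G)) := by
  refine ⟨fun n => ?_, fun n => Algz7.killedBy_of_isQuot (isQuot_redπ G n), fun n => ?_⟩
  · haveI := epi_redπ (K := K) G (op n)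
    exact Algz7.isCoh_of_epi ((redπ (K := K) G).app (op n)) (hG.1 n) (Algz7.isQCoh_modPow K (n + 1) (hG.1 n).1)
  · change Algz7.IsQuot (K ^ (n + 1)) ((redObj (K := K) (G := G)).map (homOfLE (Nat.le_succ n)).op)
    have hw := (redπ (K := K) G).naturality (homOfLE (Nat.le_succ n)).op
    have hc := isQuot_tr_redπ hIK hG (Nat.le_succ n)
    haveI := epi_redπ (K := K) G (op (n + 1))
    haveI : Epi ((redObj (K := K) (G := G)).map (homOfLE (Nat.le_succ n)).op) := by
      haveI := hc.epi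
      haveI : Epi ((redπ (K := K) G).app (op (n + 1)) ≫ (redObj (K := K) (G := G)).map (homOfLE (Nat.le_succ n)).op) := by
        rw [← hw]; assumption
      exact epi_of_epi ((redπ (K := K) G).app (op (n + 1))) _
    refine isQuot_mk_killed _ (Algz7.killedBy_of_isQuot (isQuot_redπ G n)) fun {Q} hQ φ => ?_
    obtain ⟨ψ, hψ⟩ := desc_killed hc hQ ((redπ (K := K) G).app (op (n + 1)) ≫ φ)
    refine ⟨ψ, (cancel_epi ((redπ (K := K) G).app (op (n + 1)))).1 ?_⟩
    rw [← Category.assoc, ← hw]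
    exact hψ

/-- The reduced map. -/
def redMap {G G' : ℕᵒᵖ ⥤ X.Modules} (φ : G ⟶ G') : redObj (K := K) (G := G) ⟶ redObj (K := K) (G := G') where
  app m := cokernel.desc (Formal.smulFamily (K ^ (m.unop + 1)) (G.obj m)) (φ.app m ≫ (redπ (K := K) G').app m)
    (Algz7.smulFamily_comp_eq_zero (Algz7.killedBy_of_isQuot (isQuot_redπ G' m.unop)) _)
  naturality m k g := by
    haveI := epi_redπ (K := K) G m
    rw [← cancel_epi ((redπ (K := K) G).app m), ← Category.assoc, ← (redπ (K := K) G).naturality, Category.assoc]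
    refine (congrArg (G.map g ≫ ·) (cokernel.π_desc _ _ _)).trans ?_
    rw [← Category.assoc, φ.naturality, Category.assoc, (redπ (K := K) G').naturality, ← Category.assoc, ← Category.assoc]
    exact congrArg (· ≫ _) (cokernel.π_desc _ _ _).symm

theorem redπ_redMap {G G' : ℕᵒᵖ ⥤ X.Modules} (φ : G ⟶ G') (m : ℕᵒᵖ) :
    (redπ (K := K) G).app m ≫ (redMap (K := K) φ).app m = φ.app m ≫ (redπ (K := K) G').app m :=
  cokernel.π_desc _ _ _

/-- Reduction of coherent formal modules. -/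
def red : Formal2.CohFormalCat I X ⥤ Formal2.CohFormalCat K X where
  obj G := ⟨redObj (K := K) (G := G.obj), isCohFormal_red hIK G.property⟩
  map φ := ObjectProperty.homMk (redMap φ.hom)
  map_id G := ObjectProperty.hom_ext _ (NatTrans.ext (funext fun m => by
    haveI := epi_redπ (K := K) G.obj m
    exact (cancel_epi ((redπ (K := K) G.obj).app m)).1 ((redπ_redMap _ m).trans
      ((Category.id_comp _).trans (Category.comp_id _).symm))))
  map_comp {G G' G''} φ ψ := ObjectProperty.hom_ext _ (NatTrans.ext (funext fun m => by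
    haveI := epi_redπ (K := K) G.obj m
    refine (cancel_epi ((redπ (K := K) G.obj).app m)).1 ((redπ_redMap _ m).trans ?_)
    change (φ.hom.app m ≫ ψ.hom.app m) ≫ _ = _ ≫ (redMap φ.hom).app m ≫ (redMap ψ.hom).app m
    rw [← Category.assoc (((redπ (K := K) G.obj).app m)), redπ_redMap, Category.assoc, Category.assoc, redπ_redMap]))

/-- A cofinal shift. -/
abbrev shiftIx (c n : ℕ) : ℕ := c * (n + 1) + n

theorem le_shiftIx (c n : ℕ) : n ≤ shiftIx c n := Nat.le_add_left n _

theorem shiftIx_mono (c : ℕ) {n n' : ℕ} (h : n ≤ n') : shiftIx c n ≤ shiftIx c n' :=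
  Nat.add_le_add (Nat.mul_le_mul_left c (Nat.succ_le_succ h)) h

variable {c : ℕ} (hc : ∀ (m : ℕ) (M : X.Modules), Formal.KilledBy (I ^ m) M → Formal.KilledBy (K ^ (c * m)) M)
include hc

theorem killed_shift {n : ℕ} {M : X.Modules} (hM : Formal.KilledBy (I ^ (n + 1)) M) :
    Formal.KilledBy (K ^ (shiftIx c n + 1)) M :=
  killedBy_le (Ideal.pow_le_pow_right (by unfold shiftIx; omega)) (hc (n + 1) M hM)

theorem exists_ρ (hG : Formal.IsCohFormal I G) (n : ℕ) :
    ∃ ρ : (redObj (K := K) (G := G)).obj (op (shiftIx c n)) ⟶ G.obj (op n),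
      (redπ (K := K) G).app (op (shiftIx c n)) ≫ ρ = ARSys.tr G (le_shiftIx c n) :=
  desc_killed (isQuot_redπ G _) (killed_shift hc (hG.2.1 n)) _

include hIK

theorem faithful_red : (red (X := X) hIK).Faithful where
  map_injective {G G'} φ ψ e := ObjectProperty.hom_ext _ (NatTrans.ext (funext fun ⟨n⟩ => by
    have e' : (redMap (K := K) φ.hom).app (op (shiftIx c n)) = (redMap (K := K) ψ.hom).app (op (shiftIx c n)) :=
      congrArg (fun q => q.hom.app (op (shiftIx c n))) e
    obtain ⟨ρ, hρ⟩ := exists_ρ hc G'.property n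
    haveI := Algz7.epi_tr G.property (le_shiftIx c n)
    rw [← cancel_epi (ARSys.tr G.obj (le_shiftIx c n))]
    refine (φ.hom.naturality _).trans (Eq.trans ?_ (ψ.hom.naturality _).symm)
    change φ.hom.app _ ≫ ARSys.tr G'.obj (le_shiftIx c n) = ψ.hom.app _ ≫ ARSys.tr G'.obj (le_shiftIx c n)
    rw [← hρ, ← Category.assoc, ← Category.assoc, ← redπ_redMap, ← redπ_redMap, e']))

theorem full_red : (red (X := X) hIK).Full where
  map_surjective {G G'} Φ := by
    choose ρ hρ using exists_ρ (K := K) hc G'.property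
    let α : ∀ n, G.obj.obj (op (shiftIx c n)) ⟶ G'.obj.obj (op n) := fun n =>
      (redπ (K := K) G.obj).app (op (shiftIx c n)) ≫ Φ.hom.app (op (shiftIx c n)) ≫ ρ n
    choose φ hφ using fun n => Algz7.factor G.property (le_shiftIx c n) (G'.property.2.1 n) (α n)
    have hρn : ∀ {n n' : ℕ} (h : n ≤ n'), (redObj (K := K) (G := G'.obj)).map (homOfLE (shiftIx_mono c h)).op ≫ ρ n =
        ρ n' ≫ ARSys.tr G'.obj h := fun {n n'} h => by
      haveI := epi_redπ (K := K) G'.obj (op (shiftIx c n'))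
      rw [← cancel_epi ((redπ (K := K) G'.obj).app (op (shiftIx c n'))), ← Category.assoc, ← (redπ (K := K) G'.obj).naturality,
        Category.assoc, hρ, ← Category.assoc, hρ]
      change ARSys.tr G'.obj (shiftIx_mono c h) ≫ _ = _
      rw [Algz7.tr_trans, Algz7.tr_trans]
    have hα : ∀ {n n' : ℕ} (h : n ≤ n'), ARSys.tr G.obj (shiftIx_mono c h) ≫ α n = α n' ≫ ARSys.tr G'.obj h :=
        fun {n n'} h => by
      have hw : ARSys.tr G.obj (shiftIx_mono c h) ≫ (redπ (K := K) G.obj).app (op (shiftIx c n)) =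
          (redπ (K := K) G.obj).app (op (shiftIx c n')) ≫ (redObj (K := K) (G := G.obj)).map (homOfLE (shiftIx_mono c h)).op :=
        (redπ (K := K) G.obj).naturality _
      have hΦ : (redObj (K := K) (G := G.obj)).map (homOfLE (shiftIx_mono c h)).op ≫ Φ.hom.app (op (shiftIx c n)) =
          Φ.hom.app (op (shiftIx c n')) ≫ (redObj (K := K) (G := G'.obj)).map (homOfLE (shiftIx_mono c h)).op :=
        Φ.hom.naturality _
      simp only [α, Category.assoc]
      rw [← Category.assoc, hw, Category.assoc, ← hρn h]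
      exact congrArg (_ ≫ ·) ((Category.assoc _ _ _).symm.trans
        ((congrArg (· ≫ ρ n) hΦ).trans (Category.assoc _ _ _)))
    let φ' : G.obj ⟶ G'.obj :=
      { app := fun m => φ m.unop
        naturality := by
          rintro ⟨p⟩ ⟨q⟩ g
          have h : q ≤ p := leOfHom g.unop
          rw [show g = (homOfLE h).op from Subsingleton.elim _ _]
          haveI := Algz7.epi_tr G.property (le_shiftIx c p)
          change ARSys.tr G.obj h ≫ φ q = φ p ≫ ARSys.tr G'.obj h
          rw [← cancel_epi (ARSys.tr G.obj (le_shiftIx c p)), ← Category.assoc, Algz7.tr_trans, ← Category.assoc,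
            hφ p, ← hα h, ← hφ q, ← Category.assoc, Algz7.tr_trans] }
    refine ⟨ObjectProperty.homMk φ', ObjectProperty.hom_ext _ (NatTrans.ext (funext fun ⟨n⟩ => ?_))⟩
    haveI := (isQuot_tr_redπ hIK G.property (le_shiftIx c n)).epi
    rw [← cancel_epi (ARSys.tr G.obj (le_shiftIx c n) ≫ (redπ (K := K) G.obj).app (op n))]
    have hw : ρ n ≫ (redπ (K := K) G'.obj).app (op n) =
        (redObj (K := K) (G := G'.obj)).map (homOfLE (le_shiftIx c n)).op := by
      haveI := epi_redπ (K := K) G'.obj (op (shiftIx c n))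
      rw [← cancel_epi ((redπ (K := K) G'.obj).app (op (shiftIx c n))), ← Category.assoc, hρ]
      exact (redπ (K := K) G'.obj).naturality (homOfLE (le_shiftIx c n)).op
    change (ARSys.tr G.obj _ ≫ (redπ (K := K) G.obj).app (op n)) ≫ (redMap φ').app (op n) = _
    rw [Category.assoc, redπ_redMap]
    change ARSys.tr G.obj _ ≫ φ n ≫ _ = _
    rw [← Category.assoc, hφ n]
    simp only [α, Category.assoc, hw]
    refine (congrArg (_ ≫ ·) (Φ.hom.naturality (homOfLE (le_shiftIx c n)).op).symm).trans ?_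
    rw [← Category.assoc, ← Category.assoc]
    exact congrArg (· ≫ _) ((redπ (K := K) G.obj).naturality (homOfLE (le_shiftIx c n)).op).symm

theorem exists_lift {H : ℕᵒᵖ ⥤ X.Modules} (hH : Formal.IsCohFormal K H) :
    ∃ (G : ℕᵒᵖ ⥤ X.Modules), Formal.IsCohFormal I G ∧ Nonempty (redObj (K := K) (G := G) ≅ H) := by
  let u : ∀ n, H.obj (op (shiftIx c n)) ⟶ Formal.modPow I (n + 1) (H.obj (op (shiftIx c n))) := fun n =>
    Formal.modPowπ I (n + 1) _
  have hu : ∀ n, Algz7.IsQuot (I ^ (n + 1)) (u n) := fun n => Algz7.isQuot_modPowπ I (n + 1) _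
  have hup : ∀ {n p : ℕ} (h : shiftIx c n ≤ p), Algz7.IsQuot (I ^ (n + 1)) (ARSys.tr H h ≫ u n) := fun {n p} h => by
    haveI := Algz7.epi_tr hH h
    haveI := (hu n).epi
    refine isQuot_mk_killed _ (Algz7.killedBy_of_isQuot (hu n)) fun {Q} hQ φ => ?_
    obtain ⟨ψ, hψ⟩ := Algz7.factor hH h (killed_shift hc hQ) φ
    obtain ⟨χ, hχ⟩ := desc_killed (hu n) hQ ψ
    exact ⟨χ, by rw [Category.assoc, hχ, hψ]⟩
  have hg : ∀ n, ∃ g : Formal.modPow I (n + 1 + 1) (H.obj (op (shiftIx c (n + 1)))) ⟶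
      Formal.modPow I (n + 1) (H.obj (op (shiftIx c n))),
      u (n + 1) ≫ g = ARSys.tr H (shiftIx_mono c (Nat.le_succ n)) ≫ u n := fun n =>
    desc_killed (hu (n + 1)) (killedBy_le (Ideal.pow_le_pow_right (Nat.le_succ (n + 1)))
      (Algz7.killedBy_of_isQuot (hu n))) _
  choose g hg using hg
  let G := Functor.ofOpSequence (X := fun n => Formal.modPow I (n + 1) (H.obj (op (shiftIx c n)))) g
  have hmap : ∀ n, G.map (homOfLE (Nat.le_succ n)).op = g n := fun n => Functor.ofOpSequence_map_homOfLE_succ _ n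
  have hG : Formal.IsCohFormal I G := by
    refine ⟨fun n => ?_, fun n => Algz7.killedBy_of_isQuot (hu n), fun n => ?_⟩
    · haveI := (hu n).epi
      exact Algz7.isCoh_of_epi (u n) (hH.1 _) (Algz7.isQCoh_modPow I (n + 1) (hH.1 _).1)
    · change Algz7.IsQuot (I ^ (n + 1)) (G.map (homOfLE (Nat.le_succ n)).op)
      rw [hmap]
      have hq := hup (shiftIx_mono c (Nat.le_succ n))
      rw [← hg] at hq
      haveI := (hu (n + 1)).epi
      haveI : Epi (g n) := by
        haveI := hq.epi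
        exact epi_of_epi (u (n + 1)) _
      refine isQuot_mk_killed _ (Algz7.killedBy_of_isQuot (hu n)) fun {Q} hQ φ => ?_
      obtain ⟨ψ, hψ⟩ := desc_killed hq hQ (u (n + 1) ≫ φ)
      exact ⟨ψ, (cancel_epi (u (n + 1))).1 ((Category.assoc _ _ _).symm.trans hψ)⟩
  have hκ : ∀ n, Algz7.IsQuot (K ^ (n + 1)) (u n ≫ (redπ (K := K) G).app (op n)) := fun n => by
    haveI := (hu n).epi
    haveI := epi_redπ (K := K) G (op n)
    refine isQuot_mk_killed _ (Algz7.killedBy_of_isQuot (isQuot_redπ G n)) fun {Q} hQ φ => ?_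
    obtain ⟨ψ, hψ⟩ := desc_killed (hu n) (killedBy_le (pow_le hIK _) hQ) φ
    obtain ⟨χ, hχ⟩ := desc_killed (isQuot_redπ G n) hQ ψ
    exact ⟨χ, by rw [Category.assoc, hχ, hψ]⟩
  have htr : ∀ n, Algz7.IsQuot (K ^ (n + 1)) (ARSys.tr H (le_shiftIx c n)) := fun n => by
    haveI := Algz7.epi_tr hH (le_shiftIx c n)
    exact isQuot_mk_killed _ (hH.2.1 n) fun hQ φ => Algz7.factor hH (le_shiftIx c n) hQ φ
  choose a ha using fun n => desc_killed (hκ n) (hH.2.1 n) (ARSys.tr H (le_shiftIx c n))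
  choose b hb using fun n => desc_killed (htr n) (Algz7.killedBy_of_isQuot (isQuot_redπ G n)) (u n ≫ (redπ (K := K) G).app (op n))
  have hi : ∀ n, IsIso (a n) := fun n => by
    haveI := (hκ n).epi
    haveI := (htr n).epi
    refine ⟨b n, ?_, ?_⟩
    · rw [← cancel_epi (u n ≫ (redπ (K := K) G).app (op n)), ← Category.assoc, ha, hb, Category.comp_id]
    · rw [← cancel_epi (ARSys.tr H (le_shiftIx c n)), ← Category.assoc, hb, ha, Category.comp_id]
  let η : redObj (K := K) (G := G) ⟶ H := NatTrans.ofOpSequence a fun n => by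
    haveI := (hκ (n + 1)).epi
    have hw : (u (n + 1) ≫ (redπ (K := K) G).app (op (n + 1))) ≫
        (redObj (K := K) (G := G)).map (homOfLE (Nat.le_succ n)).op =
        ARSys.tr H (shiftIx_mono c (Nat.le_succ n)) ≫ u n ≫ (redπ (K := K) G).app (op n) := by
      rw [Category.assoc, ← (redπ (K := K) G).naturality, hmap, ← Category.assoc, hg, Category.assoc]
    rw [← cancel_epi (u (n + 1) ≫ (redπ (K := K) G).app (op (n + 1))), ← Category.assoc, hw,
      Category.assoc, ha, ← Category.assoc (u (n + 1) ≫ _), ha, Algz7.tr_trans]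
    exact (Algz7.tr_trans H (Nat.le_succ n) (le_shiftIx c (n + 1))).symm
  haveI : ∀ m, IsIso (η.app m) := fun m => hi m.unop
  haveI := NatIso.isIso_of_isIso_app η
  exact ⟨G, hG, ⟨asIso η⟩⟩

theorem isEquivalence_red : (red (X := X) hIK).IsEquivalence :=
  haveI := faithful_red hIK hc
  haveI := full_red hIK hc
  haveI : (red (X := X) hIK).EssSurj := ⟨fun H => by
    obtain ⟨G, hG, ⟨e⟩⟩ := exists_lift hIK hc H.property
    exact ⟨⟨G, hG⟩, ⟨ObjectProperty.isoMk _ e⟩⟩⟩
  {}

omit hIK hc in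
/-- Ideals with the same zero locus give equivalent categories of coherent formal modules. -/
theorem nonempty_equiv (I J : Ideal A)
    (hV : (fun x : X => (X ↘ Spec (CommRingCat.of A)) x) ⁻¹' PrimeSpectrum.zeroLocus (I : Set A) =
      (fun x : X => (X ↘ Spec (CommRingCat.of A)) x) ⁻¹' PrimeSpectrum.zeroLocus (J : Set A)) :
    Nonempty (Formal2.CohFormalCat I X ≌ Formal2.CohFormalCat J X) := by
  have hz : ∀ x : X, (X ↘ Spec (CommRingCat.of A)) x ∈ PrimeSpectrum.zeroLocus (I : Set A) ↔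
      (X ↘ Spec (CommRingCat.of A)) x ∈ PrimeSpectrum.zeroLocus (J : Set A) := fun x => Set.ext_iff.1 hV x
  obtain ⟨c, hc⟩ := exists_killed_pow (X := X) (I := I) (K := I ⊔ J) (fun x hx => by
    change _ ∈ PrimeSpectrum.zeroLocus ((I ⊔ J : Ideal A) : Set A)
    rw [PrimeSpectrum.zeroLocus_sup]
    exact ⟨hx, (hz x).1 hx⟩)
  obtain ⟨d, hd⟩ := exists_killed_pow (X := X) (I := J) (K := I ⊔ J) (fun x hx => by
    change _ ∈ PrimeSpectrum.zeroLocus ((I ⊔ J : Ideal A) : Set A)
    rw [PrimeSpectrum.zeroLocus_sup]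
    exact ⟨(hz x).2 hx, hx⟩)
  haveI := isEquivalence_red (le_sup_left : I ≤ I ⊔ J) hc
  haveI := isEquivalence_red (le_sup_right : J ≤ I ⊔ J) hd
  exact ⟨(red (X := X) (le_sup_left : I ≤ I ⊔ J)).asEquivalence.trans
    (red (X := X) (le_sup_right : J ≤ I ⊔ J)).asEquivalence.symm⟩

end Groth.Agent.H9FCoh.FRe
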