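import Groth.Agent.H9FCoh.Lin
import Groth.Agent.RngSp.StalkRing
import Mathlib

/-!
# Vectors of functions and their germs on ringed spaces
-/

set_option autoImplicit false
set_option backward.isDefEq.respectTransparency false
set_option backward.isDefEq.respectTransparency.types false
set_option linter.style.haveILetI false

universe u v

open CategoryTheory Opposite TopologicalSpace
open Groth.Agent.RngSp (pt Nearby)

noncomputable section

namespace Groth.Agent.H9FCoh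

variable {X : TopCat.{u}} (O : TopCat.Sheaf CommRingCat.{u} X)

/-- Functions on an open. -/
abbrev Fn (U : Opens X) : Type u := (O.obj.obj (op U) : CommRingCat.{u})

/-- The stalk of functions. -/
abbrev St (x : X) : Type u := (ModSite.stalkRing (pt x) O : CommRingCat.{u})

/-- Restriction of functions. -/
abbrev rr {U V : Opens X} (h : V ≤ U) : Fn O U →+* Fn O V := (O.obj.map (homOfLE h).op).hom

/-- The germ of functions. -/
abbrev gH {U : Opens X} {x : X} (hx : x ∈ U) : Fn O U →+* St O x :=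
  ((pt x).toPresheafFiber U ⟨⟨hx⟩⟩ O.obj).hom

variable {O}

theorem gH_rr {U V : Opens X} (h : V ≤ U) {x : X} (hx : x ∈ V) (a : Fn O U) :
    gH O hx (rr O h a) = gH O (h hx) a := RngSp.gR_res h hx a

theorem gH_comp_rr {U V : Opens X} (h : V ≤ U) {x : X} (hx : x ∈ V) :
    (gH O hx).comp (rr O h) = gH O (h hx) := RingHom.ext fun a => gH_rr h hx a

theorem rr_rr {U V W : Opens X} (h : V ≤ U) (h' : W ≤ V) (a : Fn O U) :
    rr O h' (rr O h a) = rr O (h'.trans h) a :=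
  (ConcreteCategory.congr_hom (O.obj.map_comp (homOfLE h).op (homOfLE h').op) a).symm

theorem rr_comp {U V W : Opens X} (h : V ≤ U) (h' : W ≤ V) :
    (rr O h').comp (rr O h) = rr O (h'.trans h) := RingHom.ext fun a => rr_rr h h' a

theorem exists_gH {x : X} (r : St O x) : ∃ (U : Opens X) (hx : x ∈ U) (a : Fn O U), gH O hx a = r :=
  RngSp.exists_gR r

theorem exists_rr_eq_zero {U : Opens X} {x : X} (hx : x ∈ U) {a : Fn O U} (h : gH O hx a = 0) :
    ∃ (V : Opens X) (hV : V ≤ U), x ∈ V ∧ rr O hV a = 0 :=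
  RngSp.exists_res_eq_zero_of_gR hx h

theorem pN_pN {A B C : Type u} [CommRing A] [CommRing B] [CommRing C] (φ : A →+* B) (ψ : B →+* C)
    {ι : Type v} (N : Submodule A (ι →₀ A)) : pN (ψ.comp φ) N ≤ pN ψ (pN φ N) := by
  refine Submodule.span_le.2 ?_
  rintro _ ⟨n, hn, rfl⟩
  rw [SetLike.mem_coe, ← pv_comp]
  exact pv_mem_pN _ (pv_mem_pN _ hn)

section

variable {ι : Type v}

theorem pv_rr {U V W : Opens X} (h : V ≤ U) (h' : W ≤ V) (v : ι →₀ Fn O U) :
    pv (rr O h') (pv (rr O h) v) = pv (rr O (h'.trans h)) v := by rw [pv_comp, rr_comp]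

theorem pv_gH_rr {U V : Opens X} (h : V ≤ U) {x : X} (hx : x ∈ V) (v : ι →₀ Fn O U) :
    pv (gH O hx) (pv (rr O h) v) = pv (gH O (h hx)) v := by rw [pv_comp, gH_comp_rr]

theorem pv_gH_mem {U V : Opens X} (h : V ≤ U) {x : X} (hx : x ∈ V) {N : Submodule (Fn O U) (ι →₀ Fn O U)}
    {v : ι →₀ Fn O V} (hv : v ∈ pN (rr O h) N) : pv (gH O hx) v ∈ pN (gH O (h hx)) N := by
  have := pv_mem_comp (rr O h) (gH O hx) hv
  rwa [gH_comp_rr] at this

theorem exists_rr_eq_zero_finite {σ : Type*} [Finite σ] {U : Opens X} {x : X} (hx : x ∈ U)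
    (a : σ → Fn O U) (h : ∀ j, gH O hx (a j) = 0) :
    ∃ (V : Opens X) (hV : V ≤ U), x ∈ V ∧ ∀ j, rr O hV (a j) = 0 :=
  RngSp.nearby_forall hx (P := fun j V hV => rr O hV (a j) = 0)
    (fun j V V' h' h'' hP => by rw [← rr_rr h' h'', hP, map_zero]) fun j => exists_rr_eq_zero hx (h j)

theorem exists_pv_eq_zero {U : Opens X} {x : X} (hx : x ∈ U) {v : ι →₀ Fn O U} (h : pv (gH O hx) v = 0) :
    ∃ (V : Opens X) (hV : V ≤ U), x ∈ V ∧ pv (rr O hV) v = 0 := by
  obtain ⟨V, hV, hxV, he⟩ := exists_rr_eq_zero_finite hx (fun i : v.support => v i) fun i => by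
    simpa using DFunLike.congr_fun h i.1
  refine ⟨V, hV, hxV, Finsupp.ext fun i => ?_⟩
  by_cases hi : i ∈ v.support
  · simpa using he ⟨i, hi⟩
  · simp [Finsupp.notMem_support_iff.1 hi]

theorem exists_lift_finite {σ : Type*} [Finite σ] {U : Opens X} {x : X} (hx : x ∈ U) (r : σ → St O x) :
    ∃ (V : Opens X) (_ : V ≤ U) (hxV : x ∈ V) (a : σ → Fn O V), ∀ j, gH O hxV (a j) = r j := by
  obtain ⟨V, hV, hxV, h⟩ := RngSp.nearby_forall hx
    (P := fun j V _ => ∃ a : Fn O V, ∀ hxV : x ∈ V, gH O hxV a = r j)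
    (fun j V V' h' h'' ⟨a, ha⟩ => ⟨rr O h'' a, fun hx' => by rw [gH_rr]; exact ha _⟩)
    fun j => by
      obtain ⟨W, hW, a, ha⟩ := exists_gH (r j)
      exact ⟨U ⊓ W, inf_le_left, ⟨hx, hW⟩, rr O inf_le_right a, fun hx' => by rw [gH_rr]; exact ha⟩
  choose a ha using h
  exact ⟨V, hV, hxV, a, fun j => ha j hxV⟩

theorem exists_pv_eq {U : Opens X} {x : X} (hx : x ∈ U) (w : ι →₀ St O x) :
    ∃ (V : Opens X) (_ : V ≤ U) (hxV : x ∈ V) (v : ι →₀ Fn O V), pv (gH O hxV) v = w := by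
  classical
  obtain ⟨V, hV, hxV, a, ha⟩ := exists_lift_finite hx (fun i : w.support => w i)
  refine ⟨V, hV, hxV, Finsupp.onFinset w.support (fun i => if hi : i ∈ w.support then a ⟨i, hi⟩ else 0)
    (fun i hi => by by_contra h'; exact hi (dif_neg h')), Finsupp.ext fun i => ?_⟩
  rw [pv_apply, Finsupp.onFinset_apply]
  by_cases hi : i ∈ w.support
  · rw [dif_pos hi]; exact ha ⟨i, hi⟩
  · rw [dif_neg hi, map_zero, Finsupp.notMem_support_iff.1 hi]

/-- Membership in a relation module at a point holds nearby. -/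
theorem exists_mem_pN_rr {U V : Opens X} (h : V ≤ U) {x : X} (hx : x ∈ V)
    {N : Submodule (Fn O U) (ι →₀ Fn O U)} {v : ι →₀ Fn O V}
    (hv : pv (gH O hx) v ∈ pN (gH O (h hx)) N) :
    ∃ (W : Opens X) (hW : W ≤ V), x ∈ W ∧ pv (rr O hW) v ∈ pN (rr O (hW.trans h)) N := by
  obtain ⟨k, c, n, hn, he⟩ := exists_sum_of_mem_pN _ hv
  obtain ⟨V', hV', hxV', b, hb⟩ := exists_lift_finite hx c
  obtain ⟨W, hW, hxW, hz⟩ := exists_pv_eq_zero hxV'
    (v := pv (rr O hV') v - ∑ j, b j • pv (rr O (hV'.trans h)) (n j)) (by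
      rw [pv_sub, pv_sum, pv_gH_rr, ← he, sub_eq_zero]
      simp only [pv_smul, hb, pv_gH_rr])
  refine ⟨W, hW.trans hV', hxW, ?_⟩
  rw [pv_sub, sub_eq_zero, pv_rr, pv_sum] at hz
  rw [hz]
  refine Submodule.sum_mem _ fun j _ => ?_
  rw [pv_smul, pv_rr]
  exact Submodule.smul_mem _ _ (pv_mem_pN _ (hn j))

end

theorem flat_of_factor {A B : Type u} [CommRing A] [CommRing B] (φ : A →+* B)
    (h : ∀ (l : ℕ) (f : Fin l → A) (y : Fin l → B), ∑ i, φ (f i) * y i = 0 →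
      ∃ (C : Type u) (_ : CommRing C) (ψ : A →+* C) (χ : C →+* B) (a : Fin l → C),
        ψ.Flat ∧ χ.comp ψ = φ ∧ (∀ i, χ (a i) = y i) ∧ ∑ i, ψ (f i) * a i = 0) : φ.Flat := by
  letI : Algebra A B := φ.toAlgebra
  refine Module.Flat.of_forall_isTrivialRelation fun {l f y} hfy => ?_
  obtain ⟨C, hC, ψ, χ, a, hψ, hc, ha, h0⟩ := h l f y (by simp only [Algebra.smul_def] at hfy; exact hfy)
  letI : Algebra A C := ψ.toAlgebra
  haveI : Module.Flat A C := hψ
  have h1 : ∑ i, f i • a i = (0 : C) := by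
    simp only [Algebra.smul_def]
    exact h0
  have h2 : Module.IsTrivialRelation f a := Module.Flat.iff_forall_isTrivialRelation.mp inferInstance h1
  obtain ⟨k, c, z, hz1, hz2⟩ := h2
  refine ⟨k, c, fun j => χ (z j), fun i => ?_, hz2⟩
  rw [← ha i, hz1 i, map_sum]
  refine Finset.sum_congr rfl fun j _ => ?_
  rw [Algebra.smul_def, map_mul, Algebra.smul_def]
  exact congrArg (· * χ (z j)) (RingHom.congr_fun hc (c i j))

/-- Germs are flat when restrictions to a basis are. -/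
theorem flat_gH_of_basis {U : Opens X} {x : X} (hx : x ∈ U) (P : Opens X → Prop)
    (hP : ∀ (V : Opens X), x ∈ V → ∃ W, W ≤ V ∧ x ∈ W ∧ P W)
    (hflat : ∀ (W : Opens X) (hW : W ≤ U), P W → (rr O hW).Flat) : (gH O hx).Flat := by
  refine flat_of_factor _ fun l f y hfy => ?_
  obtain ⟨V, hV, hxV, a, ha⟩ := exists_lift_finite hx y
  have h0 : gH O hxV (∑ i, rr O hV (f i) * a i) = 0 := by
    simp only [map_sum, map_mul, gH_rr, ha]
    exact hfy
  obtain ⟨V', hV', hxV', hz⟩ := exists_rr_eq_zero hxV h0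
  obtain ⟨W, hW, hxW, hPW⟩ := hP V' hxV'
  refine ⟨Fn O W, inferInstance, rr O (hW.trans (hV'.trans hV)), gH O hxW, fun i => rr O (hW.trans hV') (a i),
    hflat W _ hPW, gH_comp_rr _ hxW, fun i => by rw [gH_rr, ha], ?_⟩
  have := congrArg (rr O hW) hz
  simpa only [map_sum, map_mul, rr_rr, map_zero] using this

variable (O)

/-- A basis of opens on which modules are controlled by their sections. -/
structure Good where
  /-- the opens of the basis -/
  P : Opens X → Prop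
  basis : ∀ U : Opens X, ∀ x ∈ U, ∃ V : Opens X, V ≤ U ∧ x ∈ V ∧ P V
  compact : ∀ U, P U → IsCompact (U : Set X)
  noeth : ∀ U, P U → IsNoetherianRing (Fn O U)
  flat : ∀ U, P U → ∀ (x : X) (hx : x ∈ U), (gH O hx).Flat
  point : ∀ U, P U → ∀ 𝔞 : Ideal (Fn O U), 𝔞 ≠ ⊤ → ∃ (x : X) (hx : x ∈ U), 𝔞.map (gH O hx) ≠ ⊤
  descent : ∀ U, P U → ∀ (ι : Type u) (N : Submodule (Fn O U) (ι →₀ Fn O U)) (κ : Type u) [Finite κ]
    (W : κ → Opens X) (hW : ∀ a, W a ≤ U), (∀ a, P (W a)) → (∀ x ∈ U, ∃ a, x ∈ W a) →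
    ∀ v : ∀ a, ι →₀ Fn O (W a),
    (∀ a b x (ha : x ∈ W a) (hb : x ∈ W b),
      pv (gH O ha) (v a) - pv (gH O hb) (v b) ∈ pN (gH O (hW a ha)) N) →
    ∃ m : ι →₀ Fn O U, ∀ a x (ha : x ∈ W a),
      pv (gH O (hW a ha)) m - pv (gH O ha) (v a) ∈ pN (gH O (hW a ha)) N

variable {O}

theorem mem_of_stalks {U : Opens X} {ι : Type v} (hflat : ∀ (x : X) (hx : x ∈ U), (gH O hx).Flat)
    (hpoint : ∀ 𝔞 : Ideal (Fn O U), 𝔞 ≠ ⊤ → ∃ (x : X) (hx : x ∈ U), 𝔞.map (gH O hx) ≠ ⊤)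
    {N : Submodule (Fn O U) (ι →₀ Fn O U)} {v : ι →₀ Fn O U}
    (h : ∀ (x : X) (hx : x ∈ U), pv (gH O hx) v ∈ pN (gH O hx) N) : v ∈ N := by
  suffices hh : colon N v = ⊤ by simpa [mem_colon] using (Ideal.eq_top_iff_one _).1 hh
  by_contra hne
  obtain ⟨x, hx, hne'⟩ := hpoint _ hne
  exact hne' (map_colon_eq_top _ (hflat x hx) (h x hx))

theorem Good.mem_of_stalks (G : Good O) {U : Opens X} (hU : G.P U) {ι : Type v}
    {N : Submodule (Fn O U) (ι →₀ Fn O U)} {v : ι →₀ Fn O U}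
    (h : ∀ (x : X) (hx : x ∈ U), pv (gH O hx) v ∈ pN (gH O hx) N) : v ∈ N :=
  H9FCoh.mem_of_stalks (G.flat U hU) (G.point U hU) h

end Groth.Agent.H9FCoh
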