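import Groth.Agent.H9FCoh.Bound

/-!
# Uniform bound for global hyper-cohomology
-/

set_option autoImplicit false
set_option backward.isDefEq.respectTransparency false
set_option backward.isDefEq.respectTransparency.types false
set_option linter.style.haveILetI false

universe u

open CategoryTheory CategoryTheory.Limits AlgebraicGeometry TopologicalSpace Opposite DerivedCategory Pretriangulated

attribute [local instance] HasDerivedCategory.standard

noncomputable section

namespace Groth.Agent.H9FCoh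

section Unit

variable {C : Type u} [SmallCategory C] {J : GrothendieckTopology C} (O : Sheaf J CommRingCat.{u})

open SiteCmpLib.Secs

/-- Sections of a sheaf of modules over a terminal object are global sections. -/
def secTopEquiv {T : C} (hT : IsTerminal T) (F : ModSite.Mod O) :
    F.val.sections ≃ F.val.obj (op T) where
  toFun s := s.1 (op T)
  invFun x := ⟨fun U => F.val.map (hT.from U.unop).op x, fun {U V} i => by
    refine (PresheafOfModules.presheaf_map_apply_coe F.val i _).symm.trans ?_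
    show F.val.presheaf.map i (F.val.presheaf.map (hT.from U.unop).op x) = F.val.presheaf.map (hT.from V.unop).op x
    rw [← ConcreteCategory.comp_apply, ← Functor.map_comp]
    exact congrArg (fun q => F.val.presheaf.map q x) (Quiver.Hom.unop_inj (hT.hom_ext _ _))⟩
  left_inv s := Subtype.ext (funext fun U => s.2 (hT.from U.unop).op)
  right_inv x := by
    show F.val.map (hT.from T).op x = x
    rw [hT.hom_ext (hT.from T) (𝟙 T)]
    exact congrArg (fun q => q x) (F.val.presheaf.map_id (op T))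

/-- The free module on a terminal object is the unit. -/
theorem nonempty_freeP_top_iso {T : C} (hT : IsTerminal T) :
    Nonempty ((freeP (ModSite.ringSh O)).obj T ≅ ModSite.unit O) := by
  let e : ∀ F : ModSite.Mod O, ((freeP (ModSite.ringSh O)).obj T ⟶ F) ≃ (ModSite.unit O ⟶ F) :=
    fun F => (modSec _ T F).trans ((secTopEquiv O hT F).symm.trans (SheafOfModules.unitHomEquiv F).symm)
  refine ⟨(Coyoneda.fullyFaithful.preimageIso (NatIso.ofComponents (fun F => (e F).toIso)
    fun {F G} g => ?_)).symm.unop⟩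
  ext φ
  show e G (φ ≫ g) = e F φ ≫ g
  rw [show e F φ ≫ g = (SheafOfModules.unitHomEquiv G).symm
    (SheafOfModules.sectionsMap g ((secTopEquiv O hT F).symm (modSec _ T F φ))) from
    SheafOfModules.unitHomEquiv_symm_comp _ _]
  refine congrArg (SheafOfModules.unitHomEquiv G).symm ((Equiv.symm_apply_eq _).2 ?_)
  show modSec _ T G (φ ≫ g) = g.val.app (op T) (((secTopEquiv O hT F).symm (modSec _ T F φ)).1 (op T))
  rw [modSec_comp]
  exact congrArg (g.val.app (op T)) ((secTopEquiv O hT F).right_inv _).symm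

end Unit

variable {𝔛 : FSch.Sys.{u}} (h : 𝔛.IsLocNoethFormal)

theorem exists_bound_hom_unit [CompactSpace (𝔛.X 0)] :
    ∃ e : ℕ, ∀ (G : DerivedCategory (FSch.ModF 𝔛 h.1)), (∀ i : ℤ, lqP h (SiteCmp.HMod G i)) →
      ∀ i₀ : ℤ, (∀ i : ℤ, i₀ ≤ i → IsZero (SiteCmp.HMod G i)) → ∀ i : ℤ, i₀ + e ≤ i →
        Subsingleton (SiteCmp.inD (𝔛.Osh h.1) (FSch.unitF 𝔛 h.1) ⟶
          (shiftFunctor (DerivedCategory (FSch.ModF 𝔛 h.1)) i).obj G) := by
  haveI : IsGrothendieckAbelian.{u} (FSch.ModF 𝔛 h.1) :=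
    S0484.result (Opens.grothendieckTopology (𝔛.X 0).toPresheafedSpace.carrier) (ModSite.ringSh (𝔛.Osh h.1))
  obtain ⟨hc, hs⟩ := isCompact_opens h (⊤ : (𝔛.X 0).Opens)
  obtain ⟨d, hd⟩ := exists_bound (X := 𝔛.X 0) _ hc hs
  refine ⟨d, fun G hG i₀ h₀ i hi => ?_⟩
  obtain ⟨e⟩ := nonempty_freeP_top_iso (𝔛.Osh h.1) (isTerminalTop (α := (𝔛.X 0).Opens))
  let S := SiteCmpLib.Secs.siteSecs (𝔛.Osh h.1)
  have hgood : S.Good G d ⊤ := SiteCmpLib.Secs.good_of_HU (A := lqP h) hG fun F hF k hk => by
    have := hd 1 (ModSite.toAb F) (affVan_of_lqP h F hF) k hk.le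
    rwa [(𝔛.X 0).basicOpen_of_isUnit isUnit_one] at this
  haveI := SiteCmpLib.Secs.hasProduct_truncTower G
  have hL := S.isRlimVia_trunc G (B := {W : (𝔛.X 0).Opens | IsAffineOpen W}) (fun U => by
      obtain ⟨ι, Y, g, -, h2, h3⟩ := exists_affine_refinement U ⊤ ((Opens.grothendieckTopology _).top_mem U)
      exact ⟨ι, Y, g, h2, h3⟩)
    (SiteCmpLib.Secs.exists_good (A := lqP h) hG fun V hV => ⟨0, fun T hT => by
      obtain ⟨ι, Y, r, h1, h2, h3⟩ := exists_affine_refinement V T hT
      refine ⟨ι, Y, r, h1, h2, fun a F hF k hk => ?_⟩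
      obtain ⟨q, rfl⟩ := Nat.exists_eq_succ_of_ne_zero hk.ne'
      exact subsingleton_HU_of_lqP h F hF (h3 a) q⟩)
  obtain ⟨N, hN⟩ : ∃ N : ℕ, d + i.natAbs < N ∧ -(N : ℤ) ≤ i₀ := ⟨d + i.natAbs + i₀.natAbs + 1, by omega, by omega⟩
  have hzero : ∀ x : S.PD ⊤ ⟶ G⟦i⟧, x = 0 := fun x => by
    refine (S.proj_bijective G hL d ⊤ hgood i N hN.1).1 ?_
    simp only [zero_comp]
    refine S.trans_injective G d ⊤ hgood i (i₀ + N).toNat (-(N : ℤ)) i₀ (by omega) (by omega) _ ?_
    have hz : IsZero ((TStructure.t.truncGE i₀).obj G) := by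
      have hGE : ((TStructure.t.truncGE i₀).obj G).IsGE i₀ := inferInstanceAs (TStructure.t.IsGE _ _)
      have hLE : ((TStructure.t.truncGE i₀).obj G).IsLE (i₀ - 1) := by
        rw [isLE_iff]
        intro j hj
        have := H9Misc.WayOut.isIso_H_truncGE G i₀ j (by omega)
        exact (h₀ j (by omega)).of_iso
          (asIso ((homologyFunctor _ j).map ((TStructure.t.truncGEπ i₀).app G))).symm
      exact TStructure.t.isZero _ (i₀ - 1) i₀ (by omega)
    exact ((shiftFunctor (DerivedCategory (FSch.ModF 𝔛 h.1)) i).map_isZero hz).eq_of_tgt _ _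
  refine ⟨fun x y => ?_⟩
  refine (cancel_epi ((singleFunctor (FSch.ModF 𝔛 h.1) 0).map e.hom)).1 ?_
  exact (hzero _).trans (hzero _).symm

end Groth.Agent.H9FCoh
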