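import Groth.Agent.H9FCoh.Ind
import Groth.Agent.H9FCoh.Free
import Groth.Agent.FComplLib.Spf
import Groth.Agent.RngSp.Gens

/-!
# Global presentations
-/

set_option autoImplicit false
set_option backward.isDefEq.respectTransparency false
set_option backward.isDefEq.respectTransparency.types false
set_option linter.style.haveILetI false

universe u

open CategoryTheory CategoryTheory.Limits Opposite TopologicalSpace
open Groth.Agent.RngSp (pt gm fns mp)
open Groth.Agent.ClosedRinged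

noncomputable section

namespace Groth.Agent.H9FCoh

variable {X : TopCat.{u}} {O : TopCat.Sheaf CommRingCat.{u} X} {M Z : ModSite.Mod O}

section Extend

variable {ι : Type u} {t : ι → M.val.obj (op (⊤ : Opens X))}
  {N : Submodule (Fn O ⊤) (ι →₀ Fn O ⊤)}

theorem gcmb_eq_zero_of_kills (z : ι → Z.val.obj (op (⊤ : Opens X))) (hz : ∀ n ∈ N, cmb z n = 0) {x : X}
    {w : ι →₀ St O x} (hw : w ∈ pN (gH O (show x ∈ (⊤ : Opens X) from trivial)) N) :
    gcmb (fun i => gm Z (show x ∈ (⊤ : Opens X) from trivial) (z i)) w = 0 := by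
  refine LinearMap.mem_ker.1 ((Submodule.span_le.2 ?_ : pN (gH O (show x ∈ (⊤ : Opens X) from trivial)) N ≤
    LinearMap.ker (gcmb fun i => gm Z (show x ∈ (⊤ : Opens X) from trivial) (z i))) hw)
  rintro _ ⟨n, hn, rfl⟩
  rw [SetLike.mem_coe, LinearMap.mem_ker, ← gm_cmb, hz n hn, RngSp.gm_zero]

theorem exists_stalkVal (hm : IsModel M ⊤ t N) (z : ι → Z.val.obj (op (⊤ : Opens X)))
    (hz : ∀ n ∈ N, cmb z n = 0) (x : X) :
    ∃ Φ : ModSite.stalkAb (pt x) M → ModSite.stalkAb (pt x) Z, ∀ w,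
      Φ (gcmb (fun i => gm M (show x ∈ (⊤ : Opens X) from trivial) (t i)) w) =
        gcmb (fun i => gm Z (show x ∈ (⊤ : Opens X) from trivial) (z i)) w := by
  choose w hw using hm.gen x trivial
  refine ⟨fun a => gcmb (fun i => gm Z (show x ∈ (⊤ : Opens X) from trivial) (z i)) (w a), fun w₀ => ?_⟩
  rw [← sub_eq_zero, ← map_sub]
  refine gcmb_eq_zero_of_kills z hz ((hm.rel x trivial _).1 ?_)
  rw [map_sub, hw, sub_self]

theorem exists_hom_of_model (hm : IsModel M ⊤ t N) (z : ι → Z.val.obj (op (⊤ : Opens X)))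
    (hz : ∀ n ∈ N, cmb z n = 0) : ∃ f : M ⟶ Z, ∀ i, mp f ⊤ (t i) = z i := by
  choose Φ hΦ using exists_stalkVal hm z hz
  have hsurj := fun (x : X) (a : ModSite.stalkAb (pt x) M) => hm.gen x trivial a
  have hadd : ∀ x a b, Φ x (a + b) = Φ x a + Φ x b := fun x a b => by
    obtain ⟨wa, rfl⟩ := hsurj x a
    obtain ⟨wb, rfl⟩ := hsurj x b
    rw [← map_add, hΦ, hΦ, hΦ, map_add]
  have hsmul : ∀ x (r : St O x) a, Φ x (r • a) = r • Φ x a := fun x r a => by
    obtain ⟨wa, rfl⟩ := hsurj x a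
    rw [← map_smul, hΦ, hΦ, map_smul]
  have hex : ∀ (V : Opens X) (s : M.val.obj (op V)),
      ∃ w : Z.val.obj (op V), ∀ (x : X) (hx : x ∈ V), gm Z hx w = Φ x (gm M hx s) := by
    intro V s
    have hloc : ∀ x : V, ∃ (W : Opens X) (hW : W ≤ V) (_ : (x : X) ∈ W) (v : ι →₀ Fn O W),
        res M hW s = cmb (fun i => res M (le_top : W ≤ ⊤) (t i)) v := fun x => by
      obtain ⟨w, hw⟩ := hsurj x (gm M x.2 s)
      obtain ⟨W₀, hW₀, hxW₀, v, hv⟩ := exists_pv_eq (show (x : X) ∈ (⊤ : Opens X) from trivial) w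
      have h0 : gm M (show (x : X) ∈ W₀ ⊓ V from ⟨hxW₀, x.2⟩)
          (res M (inf_le_left : W₀ ⊓ V ≤ W₀) (cmb (fun i => res M hW₀ (t i)) v)) =
          gm M (show (x : X) ∈ W₀ ⊓ V from ⟨hxW₀, x.2⟩) (res M (inf_le_right : W₀ ⊓ V ≤ V) s) := by
        rw [RngSp.gm_res, RngSp.gm_res, gm_cmb_res, hv, hw]
      obtain ⟨W, hW, hxW, he⟩ := (RngSp.gm_eq_iff _ _ _).1 h0
      refine ⟨W, hW.trans inf_le_right, hxW, pv (rr O (hW.trans inf_le_left)) v, eq_of_gm fun y hy => ?_⟩
      have h1 := congrArg (fun q => gm M hy q) he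
      simp only [RngSp.gm_res, gm_cmb_res] at h1
      rw [RngSp.gm_res, gm_cmb_res, pv_gH_rr]
      exact h1.symm
    choose W hW hxW v hv using hloc
    have hval : ∀ (j : V) (x : X) (hx : x ∈ W j),
        gm Z hx (cmb (fun i => res Z (le_top : W j ≤ ⊤) (z i)) (v j)) = Φ x (gm M (hW j hx) s) := fun j x hx => by
      rw [gm_cmb_res, ← RngSp.gm_res (hW j) hx, hv, gm_cmb_res, hΦ]
    obtain ⟨w, hw⟩ := ClosedRinged.exists_glue Z W hW (fun x hx => ⟨⟨x, hx⟩, hxW _⟩)
      (fun j => cmb (fun i => res Z (le_top : W j ≤ ⊤) (z i)) (v j)) fun j l => eq_of_gm fun x hx => by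
        rw [RngSp.gm_res, RngSp.gm_res, hval, hval]
    refine ⟨w, fun x hx => ?_⟩
    rw [← hval ⟨x, hx⟩ x (hxW _), ← hw ⟨x, hx⟩, RngSp.gm_res]
  choose app happ using hex
  let f : M ⟶ Z :=
    { val :=
      { app := fun A => ModuleCat.ofHom (X := M.val.obj A) (Y := Z.val.obj A)
          { toFun := app A.unop
            map_add' := fun a b => eq_of_gm fun x hx => by
              rw [happ, RngSp.gm_add, hadd, RngSp.gm_add]
              exact congrArg₂ (· + ·) (happ _ a x hx).symm (happ _ b x hx).symm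
            map_smul' := fun r a => eq_of_gm fun x hx => by
              refine (happ _ _ x hx).trans ?_
              refine (congrArg (Φ x) (RngSp.gm_smul hx r a)).trans ((hsmul x _ _).trans ?_)
              refine Eq.trans ?_ (RngSp.gm_smul hx r (app A.unop a)).symm
              exact congrArg _ (happ _ a x hx).symm }
        naturality := fun {A B} g => by
          ext a
          refine eq_of_gm (U := B.unop) fun x hx => ?_
          change gm Z hx (app B.unop (res M g.unop.le a)) = gm Z hx (res Z g.unop.le (app A.unop a))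
          rw [happ, RngSp.gm_res, RngSp.gm_res, happ] } }
  refine ⟨f, fun i => eq_of_gm fun x hx => ?_⟩
  change gm Z hx (app ⊤ (t i)) = _
  have := hΦ x (Finsupp.single i 1)
  rw [gcmb, gcmb, Finsupp.linearCombination_single, Finsupp.linearCombination_single, one_smul, one_smul] at this
  rw [happ]
  exact this

theorem hom_ext_of_model (hm : IsModel M ⊤ t N) {f g : M ⟶ Z} (h : ∀ i, mp f ⊤ (t i) = mp g ⊤ (t i)) :
    f = g := by
  refine SheafOfModules.hom_ext (PresheafOfModules.Hom.ext (funext fun A => ModuleCat.hom_ext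
    (LinearMap.ext fun s => eq_of_gm fun x hx => ?_)))
  change gm Z hx (mp f A.unop s) = gm Z hx (mp g A.unop s)
  obtain ⟨w, hw⟩ := hm.gen x trivial (gm M hx s)
  rw [← fx_gm, ← fx_gm, ← hw, fx_gcmb, fx_gcmb]
  simp only [h]

end Extend

/-- A global section, as a family. -/
def mkSec (z : M.val.obj (op (⊤ : Opens X))) : M.sections :=
  PresheafOfModules.sectionsMk (fun A => res M (le_top : A.unop ≤ ⊤) z) fun _ B g => res_res M le_top g.unop.le z

/-- The sections of a free module on the whole space. -/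
def eSec (O : TopCat.Sheaf CommRingCat.{u} X) {σ : Type u} (i : σ) :
    (SheafOfModules.free (R := ModSite.ringSh O) σ : ModSite.Mod O).val.obj (op (⊤ : Opens X)) :=
  (SheafOfModules.freeSection (R := ModSite.ringSh O) i).eval (op ⊤)

theorem free_hom_ext {σ : Type u} {f g : (SheafOfModules.free (R := ModSite.ringSh O) σ : ModSite.Mod O) ⟶ M}
    (h : ∀ i, mp f ⊤ (eSec O i) = mp g ⊤ (eSec O i)) : f = g := by
  refine M.freeHomEquiv.injective (funext fun i => PresheafOfModules.sections_ext _ _ fun A => ?_)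
  have hn : ∀ q : (SheafOfModules.free (R := ModSite.ringSh O) σ : ModSite.Mod O) ⟶ M,
      (M.freeHomEquiv q i).eval A = res M (le_top : A.unop ≤ ⊤) (mp q ⊤ (eSec O i)) := fun q =>
    ((M.freeHomEquiv q i).property (homOfLE (le_top : A.unop ≤ ⊤)).op).symm
  exact (hn f).trans ((congrArg _ (h i)).trans (hn g).symm)

/-- The map from a free module given by global sections. -/
def toM {σ : Type u} (s : σ → M.val.obj (op (⊤ : Opens X))) :
    (SheafOfModules.free (R := ModSite.ringSh O) σ : ModSite.Mod O) ⟶ M :=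
  M.freeHomEquiv.symm fun i => mkSec (s i)

theorem mp_toM {σ : Type u} (s : σ → M.val.obj (op (⊤ : Opens X))) (i : σ) :
    mp (toM s) ⊤ (eSec O i) = s i :=
  (RngSp.app_freeSection (M := M) (fun i => mkSec (s i)) i (op ⊤)).trans (res_self (M := M) le_rfl (s i))

theorem isIso_desc_of_model {ι : Type u} {t : ι → M.val.obj (op (⊤ : Opens X))}
    {N : Submodule (Fn O ⊤) (ι →₀ Fn O ⊤)} (hm : IsModel M ⊤ t N) :
    ∃ (φ : (SheafOfModules.free (R := ModSite.ringSh O) N : ModSite.Mod O) ⟶ SheafOfModules.free ι),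
      Nonempty (cokernel φ ≅ M) := by
  let φ : (SheafOfModules.free (R := ModSite.ringSh O) N : ModSite.Mod O) ⟶ SheafOfModules.free ι :=
    toM fun n => cmb (eSec O) n.1
  have w : φ ≫ toM t = 0 := free_hom_ext fun n => by
    change mp (toM t) ⊤ (mp φ ⊤ (eSec O n)) = 0
    rw [mp_toM, mp_cmb]
    simp only [mp_toM]
    exact hm.cmb_eq_zero n.2
  have hdesc : ∀ (Z : ModSite.Mod O) (g : SheafOfModules.free ι ⟶ Z), φ ≫ g = 0 →
      ∃ f : M ⟶ Z, toM t ≫ f = g := fun Z g hg => by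
    obtain ⟨f, hf⟩ := exists_hom_of_model hm (fun i => mp g ⊤ (eSec O i)) fun n hn => by
      rw [← mp_cmb, ← mp_toM (fun n : N => cmb (eSec O) n.1) ⟨n, hn⟩]
      exact congrArg (fun q => mp q ⊤ (eSec O (⟨n, hn⟩ : N))) hg
    refine ⟨f, free_hom_ext fun i => ?_⟩
    change mp f ⊤ (mp (toM t) ⊤ (eSec O i)) = _
    rw [mp_toM, hf]
  choose d hd using hdesc
  refine ⟨φ, ⟨IsColimit.coconePointUniqueUpToIso (cokernelIsCokernel φ)
    (CokernelCofork.IsColimit.ofπ (toM t) w (fun g hg => d _ g hg) (fun g hg => hd _ g hg) fun g hg m hm' => ?_)⟩⟩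
  refine hom_ext_of_model hm fun i => ?_
  have h1 := congrArg (fun q => mp q ⊤ (eSec O i)) (hm'.trans (hd _ g hg).symm)
  change mp m ⊤ (mp (toM t) ⊤ (eSec O i)) = mp (d _ g hg) ⊤ (mp (toM t) ⊤ (eSec O i)) at h1
  rw [mp_toM] at h1
  exact h1

/-- Finitely many generators with finitely many relations. -/
structure FinPres {ι : Type u} (N : Submodule (Fn O ⊤) (ι →₀ Fn O ⊤)) where
  gens : Finset ι
  rels : Finset N
  supp : ∀ n ∈ rels, n.1.support ⊆ gens

namespace FinPres

variable {ι : Type u} {N : Submodule (Fn O ⊤) (ι →₀ Fn O ⊤)}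

instance : Preorder (FinPres N) where
  le p q := p.gens ⊆ q.gens ∧ p.rels ⊆ q.rels
  le_refl _ := ⟨subset_rfl, subset_rfl⟩
  le_trans _ _ _ h h' := ⟨h.1.trans h'.1, h.2.trans h'.2⟩

instance : Nonempty (FinPres N) := ⟨⟨∅, ∅, fun _ h => absurd h (Finset.notMem_empty _)⟩⟩

instance : IsDirectedOrder (FinPres N) := ⟨fun p q => by
  classical
  exact ⟨⟨p.gens ∪ q.gens, p.rels ∪ q.rels, fun n hn => (Finset.mem_union.1 hn).elim
      (fun h => (p.supp n h).trans Finset.subset_union_left) fun h => (q.supp n h).trans Finset.subset_union_right⟩,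
    ⟨Finset.subset_union_left, Finset.subset_union_left⟩, ⟨Finset.subset_union_right, Finset.subset_union_right⟩⟩⟩

/-- The relations among the finitely many generators. -/
def relMap (p : FinPres N) : (SheafOfModules.free (R := ModSite.ringSh O) (p.rels : Type u) : ModSite.Mod O) ⟶
    SheafOfModules.free (p.gens : Type u) :=
  toM fun n : p.rels => cmb (eSec O) (n.1.1.comapDomain Subtype.val Subtype.val_injective.injOn)

/-- The finitely presented module. -/
abbrev mod (p : FinPres N) : ModSite.Mod O := cokernel p.relMap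

/-- The generators of the finitely presented module. -/
def gen (p : FinPres N) (i : p.gens) : p.mod.val.obj (op (⊤ : Opens X)) :=
  mp (cokernel.π p.relMap) ⊤ (eSec O i)

theorem hom_ext (p : FinPres N) {f g : p.mod ⟶ Z} (h : ∀ i, mp f ⊤ (p.gen i) = mp g ⊤ (p.gen i)) : f = g :=
  coequalizer.hom_ext (free_hom_ext h)

theorem cmb_subtype (p : FinPres N) (s : ι → Z.val.obj (op (⊤ : Opens X))) (n : p.rels) :
    cmb (fun i : p.gens => s i) (n.1.1.comapDomain Subtype.val Subtype.val_injective.injOn) = cmb s n.1.1 := by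
  refine eq_of_gm fun x hx => ?_
  rw [gm_cmb, gm_cmb]
  refine (lc_mapDomain (fun i => gm Z hx (s i)) Subtype.val _).symm.trans ?_
  rw [← pv_mapDomain, Finsupp.mapDomain_comapDomain _ Subtype.val_injective _ fun i hi => ⟨⟨i, p.supp _ n.2 hi⟩, rfl⟩]
  rfl

theorem exists_desc (p : FinPres N) (s : ι → Z.val.obj (op (⊤ : Opens X)))
    (hs : ∀ n : p.rels, cmb s n.1.1 = 0) : ∃ f : p.mod ⟶ Z, ∀ i, mp f ⊤ (p.gen i) = s i := by
  refine ⟨cokernel.desc _ (toM fun i : p.gens => s i) (free_hom_ext fun n => ?_), fun i => ?_⟩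
  · change mp (toM fun i : p.gens => s i) ⊤ (mp p.relMap ⊤ (eSec O n)) = 0
    rw [relMap, mp_toM, mp_cmb]
    simp only [mp_toM]
    rw [cmb_subtype p s n, hs]
  · change mp (cokernel.π p.relMap ≫ cokernel.desc _ _ _) ⊤ (eSec O i) = _
    exact (congrArg (fun q => mp q ⊤ (eSec O i)) (cokernel.π_desc _ _ _)).trans (mp_toM _ i)

theorem cmb_gen (p : FinPres N) (n : p.rels) :
    cmb p.gen (n.1.1.comapDomain Subtype.val Subtype.val_injective.injOn) = 0 := by
  change cmb (fun i => mp (cokernel.π p.relMap) ⊤ (eSec O i)) _ = 0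
  rw [← mp_cmb, ← mp_toM (fun n : p.rels => cmb (eSec O)
    (n.1.1.comapDomain Subtype.val Subtype.val_injective.injOn)) n]
  exact congrArg (fun q => mp q ⊤ (eSec O n)) (cokernel.condition p.relMap)

theorem exists_trans {p q : FinPres N} (h : p ≤ q) :
    ∃ f : p.mod ⟶ q.mod, ∀ i : p.gens, mp f ⊤ (p.gen i) = q.gen ⟨i, h.1 i.2⟩ := by
  classical
  obtain ⟨f, hf⟩ := p.exists_desc (fun i => if hi : i ∈ q.gens then q.gen ⟨i, hi⟩ else 0) fun n => by
    have h1 := q.cmb_gen ⟨n.1, h.2 n.2⟩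
    refine Eq.trans (Eq.symm ?_) h1
    rw [← q.cmb_subtype (fun i => if hi : i ∈ q.gens then q.gen ⟨i, hi⟩ else 0) ⟨n.1, h.2 n.2⟩]
    congr 1
    exact funext fun i => by rw [dif_pos i.2]
  exact ⟨f, fun i => (hf i).trans (dif_pos (h.1 i.2))⟩

end FinPres

theorem isFP_mod (G : Good O) {ι : Type u} {N : Submodule (Fn O ⊤) (ι →₀ Fn O ⊤)} (p : FinPres N) :
    IsFP p.mod :=
  isFP_of_epi G (isFP_free _) (isQC_cokernel G (isQC_of_isFP (isFP_free _)) (isQC_of_isFP (isFP_free _)) _)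
    (cokernel.π p.relMap)

/-- A module with generators and relations on the whole space is a filtered colimit of finitely presented ones. -/
theorem ind_of_model (G : Good O) {ι : Type u} {t : ι → M.val.obj (op (⊤ : Opens X))}
    {N : Submodule (Fn O ⊤) (ι →₀ Fn O ⊤)} (hm : IsModel M ⊤ t N) :
    (ObjectProperty.ind.{u} fun M' : ModSite.Mod O => IsFP M') M := by
  classical
  choose tr htr using @FinPres.exists_trans X O ι N
  let D : FinPres N ⥤ ModSite.Mod O :=
    { obj := fun p => p.mod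
      map := fun g => tr g.le
      map_id := fun p => p.hom_ext fun i => (htr _ i).trans rfl
      map_comp := fun {p q r} g g' => p.hom_ext fun i => by
        change _ = mp (tr g'.le) ⊤ (mp (tr g.le) ⊤ (p.gen i))
        rw [htr, htr, htr] }
  choose c hc using fun p : FinPres N => p.exists_desc t fun n => hm.cmb_eq_zero n.1.2
  let κ : D ⟶ (Functor.const (FinPres N)).obj M :=
    { app := c
      naturality := fun p q g => p.hom_ext fun i => by
        change mp (c q) ⊤ (mp (tr g.le) ⊤ (p.gen i)) = mp (c p) ⊤ (p.gen i)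
        rw [htr, hc, hc] }
  refine ⟨FinPres N, inferInstance, inferInstance, ⟨D, κ, ?_⟩, fun p => isFP_mod G p⟩
  let q₁ : ι → FinPres N := fun i => ⟨{i}, ∅, fun _ h => absurd h (Finset.notMem_empty _)⟩
  have hstep : ∀ (s : Cocone D) {p q : FinPres N} (h : p ≤ q) (i : p.gens),
      mp (s.ι.app q) ⊤ (q.gen ⟨i, h.1 i.2⟩) = mp (s.ι.app p) ⊤ (p.gen i) := fun s p q h i => by
    rw [← htr h i]
    exact congrArg (fun φ : D.obj p ⟶ s.pt => mp φ ⊤ (p.gen i)) (s.w (homOfLE h))
  have hex : ∀ s : Cocone D, ∃ f : M ⟶ s.pt,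
      ∀ i, mp f ⊤ (t i) = mp (s.ι.app (q₁ i)) ⊤ ((q₁ i).gen ⟨i, Finset.mem_singleton_self i⟩) := fun s => by
    refine exists_hom_of_model hm _ fun n hn => ?_
    let p : FinPres N := ⟨n.support, {⟨n, hn⟩}, fun m hm' => by rw [Finset.mem_singleton.1 hm']⟩
    have h0 := congrArg (mp (s.ι.app p) ⊤) (p.cmb_gen ⟨⟨n, hn⟩, Finset.mem_singleton_self _⟩)
    rw [mp_cmb, map_zero] at h0
    refine Eq.trans ?_ h0
    rw [← p.cmb_subtype (fun i => mp (s.ι.app (q₁ i)) ⊤ ((q₁ i).gen ⟨i, Finset.mem_singleton_self i⟩))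
      ⟨⟨n, hn⟩, Finset.mem_singleton_self _⟩]
    congr 1
    exact funext fun i => (hstep s (p := q₁ i.1) (q := p)
      ⟨Finset.singleton_subset_iff.2 i.2, Finset.empty_subset _⟩ ⟨i.1, Finset.mem_singleton_self _⟩).symm
  choose desc hdesc using hex
  exact
    { desc := desc
      fac := fun s p => p.hom_ext fun i => by
        change mp (desc s) ⊤ (mp (c p) ⊤ (p.gen i)) = _
        rw [hc, hdesc]
        exact (hstep s (p := q₁ i.1) (q := p) ⟨Finset.singleton_subset_iff.2 i.2, Finset.empty_subset _⟩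
          ⟨i.1, Finset.mem_singleton_self _⟩).symm
      uniq := fun s f hf => hom_ext_of_model hm fun i => by
        rw [hdesc, ← hf (q₁ i)]
        exact congrArg (mp f ⊤) (hc (q₁ i) ⟨i, Finset.mem_singleton_self i⟩).symm }

/-- The finite free submodules. -/
def finFree (O : TopCat.Sheaf CommRingCat.{u} X) (β : Type u) : Finset β ⥤ ModSite.Mod O where
  obj S := SheafOfModules.free (R := ModSite.ringSh O) (S : Type u)
  map {S T} g := toM fun i : S => eSec O (⟨i.1, g.le i.2⟩ : T)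
  map_id S := free_hom_ext fun i => (mp_toM _ i).trans rfl
  map_comp {S T V} g g' := free_hom_ext fun i => by
    refine Eq.trans ?_ (congrArg (mp (toM fun j : T => eSec O (⟨j.1, g'.le j.2⟩ : V)) ⊤) (mp_toM _ i)).symm
    rw [mp_toM, mp_toM]

theorem finFree_app {β : Type u} {S T : Finset β} (g : S ⟶ T) (i : S) :
    mp ((finFree O β).map g) ⊤ (eSec O i) = eSec O (⟨i.1, g.le i.2⟩ : T) :=
  mp_toM _ i

theorem toM_comp_ext {σ : Type u} {s : σ → M.val.obj (op (⊤ : Opens X))} (f : M ⟶ Z) (i : σ) :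
    mp (toM s ≫ f) ⊤ (eSec O i) = mp f ⊤ (s i) :=
  congrArg (mp f ⊤) (mp_toM s i)

/-- The free module over the finite free submodules. -/
def finFreeCocone (O : TopCat.Sheaf CommRingCat.{u} X) (β : Type u) :
    finFree O β ⟶ (Functor.const (Finset β)).obj (SheafOfModules.free (R := ModSite.ringSh O) β : ModSite.Mod O) where
  app S := toM fun i : S => eSec O (i : β)
  naturality S T g := by
    refine Eq.trans ?_ (Category.comp_id _).symm
    refine free_hom_ext fun i => ?_
    refine (toM_comp_ext (toM fun j : T => eSec O (j : β)) i).trans ((mp_toM _ _).trans ?_)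
    exact (mp_toM (fun j : S => eSec O (j : β)) i).symm

/-- It is a colimit. -/
def finFreeIsColimit (O : TopCat.Sheaf CommRingCat.{u} X) (β : Type u) :
    IsColimit (Cocone.mk _ (finFreeCocone O β)) where
  desc s := toM fun b => mp (s.ι.app {b}) ⊤ (eSec O (⟨b, Finset.mem_singleton_self b⟩ : ({b} : Finset β)))
  fac s S := by
    refine free_hom_ext fun i => ?_
    refine (toM_comp_ext _ i).trans ((mp_toM _ _).trans ?_)
    refine Eq.trans ?_ (congrArg (mp (s.ι.app S) ⊤)
      (finFree_app (O := O) (homOfLE (Finset.singleton_subset_iff.2 i.2) : ({i.1} : Finset β) ⟶ S)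
        ⟨i.1, Finset.mem_singleton_self _⟩))
    exact congrArg (fun φ : (finFree O β).obj {i.1} ⟶ s.pt =>
      mp φ ⊤ (eSec O (⟨i.1, Finset.mem_singleton_self _⟩ : ({i.1} : Finset β))))
      (s.w (homOfLE (Finset.singleton_subset_iff.2 i.2) : ({i.1} : Finset β) ⟶ S)).symm
  uniq s f hf := by
    refine free_hom_ext fun b => ?_
    rw [mp_toM, ← hf {b}]
    exact (toM_comp_ext (s := fun j : ({b} : Finset β) => eSec O (j : β)) f
      (⟨b, Finset.mem_singleton_self b⟩ : ({b} : Finset β))).symm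

theorem ind_free (G : Good O) (β : Type u) :
    (ObjectProperty.ind.{u} fun M' : ModSite.Mod O => IsFP M')
      (SheafOfModules.free (R := ModSite.ringSh O) β : ModSite.Mod O) := by
  classical
  exact ⟨Finset β, inferInstance, inferInstance, ⟨finFree O β, finFreeCocone O β, finFreeIsColimit O β⟩,
    fun S => isFP_free _⟩

open AlgebraicGeometry in
theorem exists_model_ind {𝔛 : FSch.Sys.{u}} (h : 𝔛.IsLocNoethFormal) (𝔉 : FSch.ModF 𝔛 h.1)
    (h𝔉 : (ObjectProperty.ind.{u} fun 𝔊 : FSch.ModF 𝔛 h.1 => FSch.IsCohF 𝔛 h.1 𝔊) 𝔉) {U : (𝔛.X 0).Opens}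
    (hU : IsAffineOpen U) : ∃ (σ : Type u) (t : σ → 𝔉.val.obj (op U)) (N : Submodule (Ox h U) (σ →₀ Ox h U)),
      IsModel 𝔉 U t N := by
  obtain ⟨J, hJ, hJf, pres, hP⟩ := h𝔉
  choose σ hσ t N hN hm hml using fun j =>
    exists_model_realMod h (pullSys h (pres.diag.obj j)) (isCoh_pullSys h _ (hP j)) hU
  haveI := fun j => isIso_toReal h (pres.diag.obj j) (hP j)
  exact ⟨_, _, _, isModel_colimit _ N
    (fun j => (hm j).map_iso (asIso (toReal h (pres.diag.obj j))).symm) (good h) pres.isColimit hU⟩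

open AlgebraicGeometry in
theorem ind_iff_cokernel_free {𝔛 : FSch.Sys.{u}} (h : 𝔛.IsLocNoethFormal)
    (htop : IsAffineOpen (⊤ : (𝔛.X 0).Opens)) (𝔉 : FSch.ModF 𝔛 h.1) :
    (ObjectProperty.ind.{u} fun 𝔊 : FSch.ModF 𝔛 h.1 => FSch.IsCohF 𝔛 h.1 𝔊) 𝔉 ↔
      ∃ (α β : Type u) (φ : (SheafOfModules.free α : FSch.ModF 𝔛 h.1) ⟶ SheafOfModules.free β),
        Nonempty (cokernel φ ≅ 𝔉) := by
  refine ⟨fun h𝔉 => ?_, ?_⟩
  · obtain ⟨σ, t, N, hm⟩ := exists_model_ind h 𝔉 h𝔉 htop
    exact ⟨_, _, isIso_desc_of_model hm⟩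
  · rintro ⟨α, β, φ, ⟨e⟩⟩
    obtain ⟨_, t, N, hm⟩ := exists_model_ind h _ (ind_free (good h) α) htop
    obtain ⟨_, t', N', hm'⟩ := exists_model_ind h _ (ind_free (good h) β) htop
    choose col hcol using fun i => hm'.exists_cmb (good h) htop (mp φ ⊤ (t i))
    exact ind_of_model (good h) ((isModel_cokernel φ hm hm' fun i => (hcol i).symm).map_iso e)

end Groth.Agent.H9FCoh
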