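import Groth.Agent.H9FCoh.Lin
import Mathlib

/-!
# Gluing vectors modulo relations on affine schemes
-/

set_option linter.style.haveILetI false

universe u v

open CategoryTheory AlgebraicGeometry TopologicalSpace Opposite

noncomputable section

namespace Groth.Agent.H9FCoh

variable {Y : Scheme.{u}} {ι : Type v}

/-- Restriction of functions on a scheme. -/
abbrev rs {U V : Y.Opens} (h : V ≤ U) : Γ(Y, U) →+* Γ(Y, V) := (Y.presheaf.map (homOfLE h).op).hom

theorem rs_comp {U V W : Y.Opens} (h : V ≤ U) (h' : W ≤ V) : (rs h').comp (rs h) = rs (h'.trans h) := by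
  refine RingHom.ext fun a => ?_
  exact (ConcreteCategory.congr_hom (Y.presheaf.map_comp (homOfLE h).op (homOfLE h').op) a).symm

theorem flat_rs_basicOpen {U : Y.Opens} (hU : IsAffineOpen U) (g : Γ(Y, U)) :
    (rs (Y.basicOpen_le g)).Flat := by
  letI : Algebra Γ(Y, U) Γ(Y, Y.basicOpen g) := (rs (Y.basicOpen_le g)).toAlgebra
  haveI : IsLocalization.Away g Γ(Y, Y.basicOpen g) := hU.isLocalization_basicOpen g
  exact IsLocalization.flat Γ(Y, Y.basicOpen g) (Submonoid.powers g)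

theorem exists_pow_mem_colon {U : Y.Opens} (hU : IsAffineOpen U) (g : Γ(Y, U))
    {N : Submodule Γ(Y, U) (ι →₀ Γ(Y, U))} {v : ι →₀ Γ(Y, U)}
    (h : pv (rs (Y.basicOpen_le g)) v ∈ pN (rs (Y.basicOpen_le g)) N) : ∃ r : ℕ, g ^ r • v ∈ N := by
  have htop := map_colon_eq_top _ (flat_rs_basicOpen hU g) h
  letI : Algebra Γ(Y, U) Γ(Y, Y.basicOpen g) := (rs (Y.basicOpen_le g)).toAlgebra
  haveI : IsLocalization.Away g Γ(Y, Y.basicOpen g) := hU.isLocalization_basicOpen g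
  have := mt (IsLocalization.map_algebraMap_ne_top_iff_disjoint (Submonoid.powers g) Γ(Y, Y.basicOpen g)
    (colon N v)).2 (not_ne_iff.2 htop)
  obtain ⟨a, ha, ha'⟩ := Set.not_disjoint_iff.1 this
  obtain ⟨r, rfl⟩ := ha
  exact ⟨r, ha'⟩

theorem pv_rs {U V W : Y.Opens} (h : V ≤ U) (h' : W ≤ V) (v : ι →₀ Γ(Y, U)) :
    pv (rs h') (pv (rs h) v) = pv (rs (h'.trans h)) v := by rw [pv_comp, rs_comp]

/-- Membership in a relation module is local on an affine open. -/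
theorem mem_of_locally {U : Y.Opens} (hU : IsAffineOpen U)
    {N : Submodule Γ(Y, U) (ι →₀ Γ(Y, U))} {v : ι →₀ Γ(Y, U)}
    (h : ∀ y ∈ U, ∃ (W : Y.Opens) (hW : W ≤ U), y ∈ W ∧ pv (rs hW) v ∈ pN (rs hW) N) : v ∈ N := by
  suffices hh : colon N v = ⊤ by simpa [mem_colon] using (Ideal.eq_top_iff_one _).1 hh
  by_contra hne
  obtain ⟨m, hm, hle⟩ := Ideal.exists_le_maximal _ hne
  let q : PrimeSpectrum Γ(Y, U) := ⟨m, hm.isPrime⟩
  have hy : hU.fromSpec q ∈ U := hU.range_fromSpec.le ⟨q, rfl⟩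
  obtain ⟨W, hW, hyW, hv⟩ := h _ hy
  obtain ⟨g, hgW, hyg⟩ := hU.exists_basicOpen_le ⟨_, hyW⟩ hy
  have h1 : pv (rs (Y.basicOpen_le g)) v ∈ pN (rs (Y.basicOpen_le g)) N := by
    have := pv_mem_comp (rs hW) (rs hgW) hv
    rw [pv_rs, rs_comp] at this
    exact this
  obtain ⟨r, hr⟩ := exists_pow_mem_colon hU g h1
  have hg : g ∉ m := by
    have : q ∈ hU.fromSpec ⁻¹ᵁ Y.basicOpen g := hyg
    rw [hU.fromSpec_preimage_basicOpen] at this
    exact this
  exact hg (hm.isPrime.mem_of_pow_mem r (hle hr))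

theorem exists_fraction {U : Y.Opens} (hU : IsAffineOpen U) (g : Γ(Y, U))
    (v : ι →₀ Γ(Y, Y.basicOpen g)) :
    ∃ (k : ℕ) (u : ι →₀ Γ(Y, U)), pv (rs (Y.basicOpen_le g)) u = rs (Y.basicOpen_le g) g ^ k • v := by
  classical
  letI : Algebra Γ(Y, U) Γ(Y, Y.basicOpen g) := (rs (Y.basicOpen_le g)).toAlgebra
  haveI : IsLocalization.Away g Γ(Y, Y.basicOpen g) := hU.isLocalization_basicOpen g
  obtain ⟨⟨b, k, rfl⟩, hb⟩ := IsLocalization.exist_integer_multiples (Submonoid.powers g) v.support (v ·)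
  choose a ha using hb
  refine ⟨k, Finsupp.onFinset v.support (fun i => if hi : i ∈ v.support then a i hi else 0)
    (fun i hi => by by_contra h'; exact hi (dif_neg h')), Finsupp.ext fun i => ?_⟩
  rw [pv_apply, Finsupp.onFinset_apply, Finsupp.smul_apply, smul_eq_mul]
  by_cases hi : i ∈ v.support
  · rw [dif_pos hi]
    refine (ha i hi).trans ?_
    rw [Algebra.smul_def]
    simp [RingHom.algebraMap_toAlgebra]
  · rw [dif_neg hi, map_zero, Finsupp.notMem_support_iff.1 hi, mul_zero]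

/-- Vectors given locally and agreeing modulo relations come from a vector on the affine open. -/
theorem exists_glue {U : Y.Opens} (hU : IsAffineOpen U) (N : Submodule Γ(Y, U) (ι →₀ Γ(Y, U)))
    {κ : Type*} (W : κ → Y.Opens) (hW : ∀ a, W a ≤ U) (hcov : ∀ y ∈ U, ∃ a, y ∈ W a)
    (v : ∀ a, ι →₀ Γ(Y, W a))
    (hagree : ∀ a b, ∀ y ∈ W a, y ∈ W b → ∃ (O : Y.Opens) (ha : O ≤ W a) (hb : O ≤ W b), y ∈ O ∧
      pv (rs ha) (v a) - pv (rs hb) (v b) ∈ pN (rs (ha.trans (hW a))) N) :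
    ∃ m : ι →₀ Γ(Y, U), ∀ a, ∀ y ∈ W a, ∃ (O : Y.Opens) (ha : O ≤ W a), y ∈ O ∧
      pv (rs (ha.trans (hW a))) m - pv (rs ha) (v a) ∈ pN (rs (ha.trans (hW a))) N := by
  classical
  choose a₀ ha₀ using hcov
  have hg : ∀ y : U, ∃ g : Γ(Y, U), Y.basicOpen g ≤ W (a₀ y y.2) ∧ (y : Y) ∈ Y.basicOpen g := fun y => by
    obtain ⟨g, h1, h2⟩ := hU.exists_basicOpen_le ⟨_, ha₀ y y.2⟩ y.2
    exact ⟨g, h1, h2⟩
  choose g hgW hyg using hg
  have hspan : Ideal.span (Set.range g) = ⊤ := by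
    rw [← hU.self_le_iSup_basicOpen_iff]
    intro y hy
    exact Opens.mem_iSup.2 ⟨⟨g ⟨y, hy⟩, ⟨⟨y, hy⟩, rfl⟩⟩, hyg _⟩
  obtain ⟨c, hc⟩ := (Finsupp.mem_ideal_span_range_iff_exists_finsupp (v := g)).1
    (show (1 : Γ(Y, U)) ∈ _ from hspan ▸ trivial)
  let t := c.support
  have htspan : Ideal.span (g '' t) = ⊤ := by
    rw [Ideal.eq_top_iff_one, ← hc]
    exact Ideal.sum_mem _ fun y hy => Ideal.mul_mem_left _ _ (Ideal.subset_span ⟨y, hy, rfl⟩)
  choose k u hu using fun y : U => exists_fraction hU (g y) (pv (rs (hgW y)) (v (a₀ y y.2)))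
  -- a uniform exponent
  let k₀ := t.sup k
  obtain ⟨u₀, hu₀⟩ : ∃ u₀ : U → (ι →₀ Γ(Y, U)), ∀ y ∈ t, pv (rs (Y.basicOpen_le (g y))) (u₀ y) =
      rs (Y.basicOpen_le (g y)) (g y) ^ k₀ • pv (rs (hgW y)) (v (a₀ y y.2)) := by
    refine ⟨fun y => g y ^ (k₀ - k y) • u y, fun y hy => ?_⟩
    rw [pv_smul, hu, map_pow, smul_smul, ← pow_add, Nat.sub_add_cancel (Finset.le_sup (f := k) hy)]
  have hrel : ∀ y z : U, ∃ r : ℕ, y ∈ t → z ∈ t →
      (g y * g z) ^ r • (g z ^ k₀ • u₀ y - g y ^ k₀ • u₀ z) ∈ N := fun y z => by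
    by_cases hyz : y ∈ t ∧ z ∈ t
    · obtain ⟨r, hr⟩ := exists_pow_mem_colon hU (g y * g z) (N := N)
        (v := g z ^ k₀ • u₀ y - g y ^ k₀ • u₀ z) (by
          refine mem_of_locally (hU.basicOpen _) (N := pN (rs (Y.basicOpen_le (g y * g z))) N) fun p hp => ?_
          have hpm : p ∈ Y.basicOpen (g y) ⊓ Y.basicOpen (g z) := (Scheme.basicOpen_mul Y (g y) (g z)).le hp
          obtain ⟨O, hOa, hOb, hpO, hO⟩ := hagree _ _ p (hgW y hpm.1) (hgW z hpm.2)
          let O' : Y.Opens := O ⊓ Y.basicOpen (g y * g z)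
          have hO1 : O' ≤ O := inf_le_left
          have hO2 : O' ≤ Y.basicOpen (g y * g z) := inf_le_right
          refine ⟨O', hO2, ⟨hpO, hp⟩, ?_⟩
          have hy' : O' ≤ Y.basicOpen (g y) := hO2.trans ((Scheme.basicOpen_mul Y _ _).le.trans inf_le_left)
          have hz' : O' ≤ Y.basicOpen (g z) := hO2.trans ((Scheme.basicOpen_mul Y _ _).le.trans inf_le_right)
          have hOU : O' ≤ U := hO2.trans (Y.basicOpen_le _)
          have hmem : ∀ w ∈ pN (rs hOU) N, w ∈ pN (rs hO2) (pN (rs (Y.basicOpen_le (g y * g z))) N) :=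
            fun w hw => Submodule.span_le.2 (by
              rintro _ ⟨n, hn, rfl⟩
              rw [SetLike.mem_coe, ← pv_rs (Y.basicOpen_le _) hO2]
              exact pv_mem_pN _ (pv_mem_pN _ hn)) hw
          refine hmem _ ?_
          have h1 : pv (rs hOU) (u₀ y) = rs hOU (g y) ^ k₀ • pv (rs (hO1.trans hOa)) (v (a₀ y y.2)) := by
            have := congrArg (pv (rs hy')) (hu₀ y hyz.1)
            rw [pv_rs, pv_smul, map_pow, pv_rs, ← RingHom.comp_apply, rs_comp] at this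
            exact this
          have h2 : pv (rs hOU) (u₀ z) = rs hOU (g z) ^ k₀ • pv (rs (hO1.trans hOb)) (v (a₀ z z.2)) := by
            have := congrArg (pv (rs hz')) (hu₀ z hyz.2)
            rw [pv_rs, pv_smul, map_pow, pv_rs, ← RingHom.comp_apply, rs_comp] at this
            exact this
          have h3 := pv_mem_comp _ (rs hO1) hO
          rw [pv_sub, pv_rs, pv_rs, rs_comp] at h3
          rw [pv_rs, pv_sub, pv_smul, pv_smul, h1, h2, map_pow, map_pow, smul_smul, smul_smul,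
            mul_comm (rs hOU (g z) ^ k₀), ← smul_sub]
          exact Submodule.smul_mem _ _ h3)
      exact ⟨r, fun _ _ => hr⟩
    · exact ⟨0, fun hy hz => absurd ⟨hy, hz⟩ hyz⟩
  choose r hr using hrel
  let r₀ := (t ×ˢ t).sup fun p => r p.1 p.2
  let w : U → (ι →₀ Γ(Y, U)) := fun y => g y ^ r₀ • u₀ y
  have hw : ∀ y ∈ t, ∀ z ∈ t, g z ^ (r₀ + k₀) • w y - g y ^ (r₀ + k₀) • w z ∈ N := fun y hy z hz => by
    have hle : r y z ≤ r₀ := Finset.le_sup (f := fun p : U × U => r p.1 p.2) (b := (y, z))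
      (Finset.mem_product.2 ⟨hy, hz⟩)
    have := N.smul_mem ((g y * g z) ^ (r₀ - r y z)) (hr y z hy hz)
    rw [smul_smul, ← pow_add, Nat.sub_add_cancel hle] at this
    simp only [w, smul_smul, smul_sub] at this ⊢
    convert this using 2 <;> ring_nf
  have hpow : (1 : Γ(Y, U)) ∈ Ideal.span ((fun x => x ^ (r₀ + k₀)) '' (g '' t)) := by
    rw [Ideal.span_pow_eq_top _ htspan]; trivial
  rw [← Set.image_comp, Ideal.span, Finsupp.mem_span_image_iff_linearCombination] at hpow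
  obtain ⟨d, hdt, hd⟩ := hpow
  refine ⟨∑ z ∈ d.support, d z • w z, fun a y hy => ?_⟩
  have hkey : ∀ p ∈ t, g p ^ (r₀ + k₀) • (∑ z ∈ d.support, d z • w z) - w p ∈ N := fun p hp => by
    have hone : w p = ∑ z ∈ d.support, d z • (g z ^ (r₀ + k₀) • w p) := by
      simp only [smul_smul, ← Finset.sum_smul]
      rw [show (∑ z ∈ d.support, d z * g z ^ (r₀ + k₀)) = 1 from hd, one_smul]
    rw [hone, Finset.smul_sum, ← Finset.sum_sub_distrib]
    refine Submodule.sum_mem _ fun z hz => ?_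
    rw [smul_comm (g p ^ (r₀ + k₀)), ← smul_sub]
    exact N.smul_mem _ (hw _ (hdt hz) _ hp)
  -- the point lies in one of the basic opens
  obtain ⟨⟨_, p, hp, rfl⟩, hyp⟩ : ∃ q : (g '' t), y ∈ Y.basicOpen q.1 :=
    Opens.mem_iSup.1 ((hU.self_le_iSup_basicOpen_iff.2 htspan) (hW a hy))
  obtain ⟨O, hOa, hOb, hyO, hO⟩ := hagree a _ y hy (hgW p hyp)
  let O' : Y.Opens := O ⊓ Y.basicOpen (g p)
  have hO1 : O' ≤ O := inf_le_left
  have hp' : O' ≤ Y.basicOpen (g p) := inf_le_right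
  have hOU : O' ≤ U := hp'.trans (Y.basicOpen_le _)
  refine ⟨O', hO1.trans hOa, ⟨hyO, hyp⟩, ?_⟩
  change pv (rs hOU) _ - _ ∈ pN (rs hOU) N
  have hunit : IsUnit (rs hOU (g p)) := by
    have := (RingedSpace.isUnit_res_basicOpen (X := Y.toRingedSpace) (g p)).map (rs hp')
    rw [← rs_comp (Y.basicOpen_le _) hp']
    exact this
  have h1 : pv (rs hOU) (w p) = rs hOU (g p) ^ (r₀ + k₀) • pv (rs (hO1.trans hOb)) (v (a₀ p p.2)) := by
    have := congrArg (pv (rs hp')) (hu₀ p hp)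
    rw [pv_rs, pv_smul, map_pow, pv_rs, ← RingHom.comp_apply, rs_comp] at this
    simp only [w]
    rw [pv_smul, this, map_pow, smul_smul, ← pow_add]
  have h2 := pv_mem_pN (rs hOU) (hkey p hp)
  rw [pv_sub, pv_smul, h1, map_pow, ← smul_sub, Submodule.smul_mem_iff_of_isUnit _ (hunit.pow _)] at h2
  have h3 := pv_mem_comp _ (rs hO1) hO
  rw [pv_sub, pv_rs, pv_rs, rs_comp] at h3
  have := sub_mem h2 h3
  rwa [sub_sub_sub_cancel_right] at this

end Groth.Agent.H9FCoh
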