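import Groth.Agent.H9FCoh.Aff
import Groth.Agent.H9FCoh.Sch
import Groth.Agent.H9FCoh.Gen

/-!
# Affine opens of a locally Noetherian formal scheme control vectors of functions
-/

set_option autoImplicit false
set_option backward.isDefEq.respectTransparency false
set_option backward.isDefEq.respectTransparency.types false
set_option linter.style.haveILetI false

universe u

open CategoryTheory AlgebraicGeometry TopologicalSpace Opposite

noncomputable section

namespace Groth.Agent.H9FCoh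

theorem pN_pN_le {A B C : Type u} [CommRing A] [CommRing B] [CommRing C] (φ : A →+* B) (ψ : B →+* C)
    {ι : Type*} (N : Submodule A (ι →₀ A)) : pN ψ (pN φ N) ≤ pN (ψ.comp φ) N := by
  refine Submodule.span_le.2 ?_
  rintro _ ⟨n, hn, rfl⟩
  exact pv_mem_comp φ ψ hn

theorem mem_smul_top_of_forall {A : Type u} [CommRing A] {ι : Type*} (I : Ideal A) (v : ι →₀ A)
    (hv : ∀ i, v i ∈ I) : v ∈ I • (⊤ : Submodule A (ι →₀ A)) := by
  rw [← v.sum_single]
  refine Submodule.sum_mem _ fun i _ => ?_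
  rw [← Finsupp.smul_single_one]
  exact Submodule.smul_mem_smul (hv i) trivial

variable {𝔛 : FSch.Sys.{u}} (h : 𝔛.IsLocNoethFormal)

theorem flat_gH_Ox {U : (𝔛.X 0).Opens} (hU : IsAffineOpen U) (x : 𝔛.X 0) (hx : x ∈ U) :
    (gH (𝔛.Osh h.1) hx).Flat :=
  flat_gH_of_basis hx IsAffineOpen (fun V hV => by
    obtain ⟨W, hW, hxW, hWV⟩ := Opens.isBasis_iff_nbhd.1 (𝔛.X 0).isBasis_affineOpens hV
    exact ⟨W, hWV, hxW, hW⟩) fun W hW hWa => flat_rO h hU hWa hW

theorem exists_point_Ox {U : (𝔛.X 0).Opens} (hU : IsAffineOpen U) (𝔞 : Ideal (Ox h U)) (h𝔞 : 𝔞 ≠ ⊤) :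
    ∃ (x : 𝔛.X 0) (hx : x ∈ U), 𝔞.map (gH (𝔛.Osh h.1) hx) ≠ ⊤ := by
  haveI := isAdicComplete_Ox h hU
  obtain ⟨m, hm, hle⟩ := Ideal.exists_le_maximal 𝔞 h𝔞
  have hJm : RingHom.ker (pr h 0 U) ≤ m :=
    (IsAdicComplete.le_jacobson_bot (J h U)).trans (sInf_le ⟨bot_le, hm⟩)
  have hsur := pr_surjective h hU 0
  have hcm : (m.map (pr h 0 U)).comap (pr h 0 U) = m := by
    rw [Ideal.comap_map_of_surjective' _ hsur, sup_eq_left]
    exact hJm
  have hprime : (m.map (pr h 0 U)).IsPrime := by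
    haveI := hm.isPrime
    exact Ideal.map_isPrime_of_surjective hsur hJm
  let hU0 := affine_lvU h hU 0
  let y : 𝔛.X 0 := hU0.fromSpec ⟨_, hprime⟩
  have hyU : y ∈ 𝔛.lvU h.1 0 U := hU0.range_fromSpec.le ⟨_, rfl⟩
  have hxU : 𝔛.gInv h.1 0 y ∈ U := hyU
  refine ⟨𝔛.gInv h.1 0 y, hxU, fun htop => ?_⟩
  -- spread the unit
  let N : Submodule (Ox h U) (PUnit.{u + 1} →₀ Ox h U) := 𝔞 • ⊤
  have h1 : pv (gH (𝔛.Osh h.1) hxU) (Finsupp.single PUnit.unit (1 : Ox h U)) ∈
      pN (gH (𝔛.Osh h.1) hxU) N := by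
    have : Finsupp.single PUnit.unit.{u + 1} (1 : St (𝔛.Osh h.1) (𝔛.gInv h.1 0 y)) ∈
        pN (gH (𝔛.Osh h.1) hxU) N := by
      suffices hh : ∀ r ∈ 𝔞.map (gH (𝔛.Osh h.1) hxU),
          Finsupp.single PUnit.unit.{u + 1} r ∈ pN (gH (𝔛.Osh h.1) hxU) N from hh 1 (htop ▸ trivial)
      intro r hr
      induction hr using Submodule.span_induction with
      | mem r hr =>
        obtain ⟨a, ha, rfl⟩ := hr
        have : pv (gH (𝔛.Osh h.1) hxU) (Finsupp.single PUnit.unit (a : Ox h U)) ∈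
            pN (gH (𝔛.Osh h.1) hxU) N := pv_mem_pN _ (by
          rw [← Finsupp.smul_single_one]; exact Submodule.smul_mem_smul ha trivial)
        rwa [pv, Finsupp.mapRange_single] at this
      | zero => rw [Finsupp.single_zero]; exact zero_mem _
      | add r s _ _ hr hs => rw [Finsupp.single_add]; exact add_mem hr hs
      | smul c r _ hr => rw [← Finsupp.smul_single]; exact Submodule.smul_mem _ _ hr
    rwa [pv, Finsupp.mapRange_single, map_one]
  obtain ⟨W, hWU, hyW, hW⟩ := exists_mem_pN_rr le_rfl hxU (N := N) (v := Finsupp.single PUnit.unit 1) h1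
  have h2 := pv_mem_comp _ (pr h 0 W) hW
  rw [pv, pv, Finsupp.mapRange_single, Finsupp.mapRange_single, map_one, map_one] at h2
  -- evaluate at the point
  let Y := 𝔛.X 0
  let e : On h 0 W →+* Y.presheaf.stalk y := (Y.presheaf.germ (𝔛.lvU h.1 0 W) y hyW).hom
  have hN : ∀ v ∈ pN ((pr h 0 W).comp (rr (𝔛.Osh h.1) (hWU.trans le_rfl))) N,
      e (v PUnit.unit) ∈ IsLocalRing.maximalIdeal (Y.presheaf.stalk y) := by
    intro v hv
    induction hv using Submodule.span_induction with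
    | mem v hv =>
      obtain ⟨n, hn, rfl⟩ := hv
      have hn' : n PUnit.unit ∈ m := by
        refine hle ?_
        refine Submodule.smul_induction_on hn (fun r hr z _ => ?_) fun a b ha hb => ?_
        · rw [Finsupp.smul_apply, smul_eq_mul]; exact Ideal.mul_mem_right _ _ hr
        · rw [Finsupp.add_apply]; exact add_mem ha hb
      have h3 : pr h 0 U (n PUnit.unit) ∈ m.map (pr h 0 U) := Ideal.mem_map_of_mem _ hn'
      have h4 : y ∉ Y.basicOpen (pr h 0 U (n PUnit.unit)) := fun hy => by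
        have : (⟨_, hprime⟩ : PrimeSpectrum Γ(Y, 𝔛.lvU h.1 0 U)) ∈ hU0.fromSpec ⁻¹ᵁ Y.basicOpen _ := hy
        rw [hU0.fromSpec_preimage_basicOpen] at this
        exact this h3
      rw [Scheme.mem_basicOpen _ _ _ hyU] at h4
      rw [pv_apply, RingHom.comp_apply, IsLocalRing.mem_maximalIdeal]
      refine fun hu => h4 ?_
      rw [← rn_pr h 0 (hWU.trans le_rfl)] at hu
      exact (TopCat.Presheaf.germ_res_apply Y.presheaf (homOfLE (lvU_mono h 0 (hWU.trans le_rfl))) y hyW _) ▸ hu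
    | zero => rw [Finsupp.zero_apply, map_zero]; exact zero_mem _
    | add a b _ _ ha hb => rw [Finsupp.add_apply, map_add]; exact add_mem ha hb
    | smul c a _ ha => rw [Finsupp.smul_apply, smul_eq_mul, map_mul]; exact Ideal.mul_mem_left _ _ ha
  have h5 := hN _ h2
  rw [Finsupp.single_eq_same, map_one] at h5
  exact (IsLocalRing.maximalIdeal.isMaximal _).ne_top ((Ideal.eq_top_iff_one _).2 h5)

/-- Descent of vectors with finitely many coordinates. -/
theorem descent_finite {U : (𝔛.X 0).Opens} (hU : IsAffineOpen U) {ι : Type u} [Finite ι]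
    (N : Submodule (Ox h U) (ι →₀ Ox h U)) {κ : Type u} (W : κ → (𝔛.X 0).Opens) (hW : ∀ a, W a ≤ U)
    (hWa : ∀ a, IsAffineOpen (W a)) (hcov : ∀ x ∈ U, ∃ a, x ∈ W a) (v : ∀ a, ι →₀ Ox h (W a))
    (hagree : ∀ a b x (ha : x ∈ W a) (hb : x ∈ W b),
      pv (gH (𝔛.Osh h.1) ha) (v a) - pv (gH (𝔛.Osh h.1) hb) (v b) ∈ pN (gH (𝔛.Osh h.1) (hW a ha)) N) :
    ∃ m : ι →₀ Ox h U, ∀ a, pv (rO h (hW a)) m - v a ∈ pN (rO h (hW a)) N := by
  classical
  haveI := isAdicComplete_Ox h hU
  haveI := isNoetherianRing_Ox h hU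
  let Nn := fun n => pN (pr h n U) N
  have hcomp : ∀ (n : ℕ) {A B : (𝔛.X 0).Opens} (hBA : B ≤ A),
      (pr h n B).comp (rO h hBA) = (rn h n hBA).comp (pr h n A) := fun n A B hBA =>
    RingHom.ext fun s => (rn_pr h n hBA s).symm
  -- glue on each level
  have hlev : ∀ n, ∃ mn : ι →₀ Ox h U, ∀ a,
      pv ((pr h n (W a)).comp (rO h (hW a))) mn - pv (pr h n (W a)) (v a) ∈
        pN ((pr h n (W a)).comp (rO h (hW a))) N := by
    intro n
    obtain ⟨mn, hmn⟩ := exists_glue (Y := 𝔛.X n) (affine_lvU h hU n) (Nn n) (fun a => 𝔛.lvU h.1 n (W a))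
      (fun a => lvU_mono h n (hW a)) (fun y hy => hcov _ hy) (fun a => pv (pr h n (W a)) (v a))
      fun a b y ha hb => by
        obtain ⟨W', hW', hyW', hmem⟩ := exists_mem_pN_rr (inf_le_left.trans (hW a) : W a ⊓ W b ≤ U)
          (x := 𝔛.gInv h.1 n y) ⟨ha, hb⟩ (N := N)
          (v := pv (rr _ inf_le_left) (v a) - pv (rr _ inf_le_right) (v b)) (by
            rw [pv_sub, pv_gH_rr, pv_gH_rr]; exact hagree a b _ ha hb)
        refine ⟨𝔛.lvU h.1 n W', lvU_mono h n (hW'.trans inf_le_left), lvU_mono h n (hW'.trans inf_le_right),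
          hyW', ?_⟩
        have h1 := pv_mem_comp _ (pr h n W') hmem
        rw [hcomp n (hW'.trans (inf_le_left.trans (hW a)))] at h1
        rw [pv_sub, pv_rr, pv_rr, pv_sub, pv_comp, pv_comp, hcomp n (hW'.trans inf_le_left),
          hcomp n (hW'.trans inf_le_right), ← pv_comp, ← pv_comp] at h1
        exact pN_pN _ _ N h1
    obtain ⟨mt, rfl⟩ := Finsupp.mapRange_surjective (pr h n U) (map_zero _) (pr_surjective h hU n) mn
    refine ⟨mt, fun a => ?_⟩
    have h2 : pv (rn h n (hW a)) (pv (pr h n U) mt) - pv (pr h n (W a)) (v a) ∈ pN (rn h n (hW a)) (Nn n) := by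
      refine mem_of_locally (Y := 𝔛.X n) (affine_lvU h (hWa a) n) fun y hy => ?_
      obtain ⟨O, hOa, hyO, hO⟩ := hmn a y hy
      refine ⟨O, hOa, hyO, ?_⟩
      refine pN_pN _ _ _ ?_
      have e : (rs (Y := 𝔛.X n) hOa).comp (rn h n (hW a)) = rs (hOa.trans (lvU_mono h n (hW a))) :=
        rs_comp _ _
      rw [pv_sub, pv_comp (rn h n (hW a)) (rs hOa), e]
      exact hO
    rw [hcomp n (hW a), ← pv_comp]
    exact pN_pN_le _ _ N h2
  choose mt hmt using hlev
  have hstep : ∀ n, mt (n + 1) - mt n ∈ N ⊔ J h U ^ (n + 1) • ⊤ := by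
    intro n
    rw [← ker_pr h hU n]
    refine mem_pN_of_surjective _ (pr_surjective h hU n) ?_
    refine mem_of_locally (Y := 𝔛.X n) (affine_lvU h hU n) fun y hy => ?_
    obtain ⟨a, ha⟩ := hcov _ hy
    refine ⟨𝔛.lvU h.1 n (W a), lvU_mono h n (hW a), ha, ?_⟩
    refine pN_pN _ _ _ ?_
    change pv (rn h n (hW a)) (pv (pr h n U) _) ∈ pN ((rn h n (hW a)).comp (pr h n U)) N
    rw [pv_comp, ← hcomp n (hW a), pv_sub]
    have h1 := pv_mem_comp _ (tr h n (W a)) (hmt (n + 1) a)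
    have htr : (tr h n (W a)).comp (pr h (n + 1) (W a)) = pr h n (W a) :=
      RingHom.ext fun s => tr_pr h n (W a) s
    rw [← RingHom.comp_assoc, htr, pv_sub, pv_comp, ← RingHom.comp_assoc, htr, pv_comp, htr] at h1
    have := sub_mem h1 (hmt n a)
    rwa [sub_sub_sub_cancel_right] at this
  -- a Cauchy sequence
  have hnext : ∀ n (p : {p : ι →₀ Ox h U // p - mt n ∈ N}),
      ∃ q : {q : ι →₀ Ox h U // q - mt (n + 1) ∈ N}, q.1 - p.1 ∈ J h U ^ (n + 1) • (⊤ : Submodule (Ox h U) (ι →₀ Ox h U)) := by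
    intro n p
    have h1 := sub_mem (hstep n) (Submodule.mem_sup_left p.2 : p.1 - mt n ∈ N ⊔ J h U ^ (n + 1) • ⊤)
    rw [sub_sub_sub_cancel_right, Submodule.mem_sup] at h1
    obtain ⟨e, he, j, hj, hej⟩ := h1
    refine ⟨⟨mt (n + 1) - e, by rw [sub_sub_cancel_left]; exact neg_mem he⟩, ?_⟩
    rwa [sub_right_comm, ← hej, add_sub_cancel_left]
  choose nx hnx using hnext
  let seq : ∀ n, {p : ι →₀ Ox h U // p - mt n ∈ N} :=
    fun n => Nat.rec ⟨mt 0, by rw [sub_self]; exact zero_mem _⟩ (fun k p => nx k p) n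
  have hseq : ∀ n i, (seq (n + 1)).1 i - (seq n).1 i ∈ J h U ^ (n + 1) := fun n i => by
    have := hnx n (seq n)
    refine Submodule.smul_induction_on (p := fun z : ι →₀ Ox h U => z i ∈ J h U ^ (n + 1)) this
      (fun r hr z _ => ?_) fun a b ha hb => ?_
    · rw [Finsupp.smul_apply, smul_eq_mul]; exact Ideal.mul_mem_right _ _ hr
    · rw [Finsupp.add_apply]; exact add_mem ha hb
  have hcauchy : ∀ i {a b : ℕ}, a ≤ b → (seq b).1 i - (seq a).1 i ∈ J h U ^ a := fun i a b hab => by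
    induction b, hab using Nat.le_induction with
    | base => rw [sub_self]; exact zero_mem _
    | succ b hab ih =>
      rw [← sub_add_sub_cancel ((seq (b + 1)).1 i) ((seq b).1 i)]
      exact add_mem (Ideal.pow_le_pow_right (hab.trans b.le_succ) (hseq b i)) ih
  have hL : ∀ i, ∃ L : Ox h U, ∀ n, (seq n).1 i - L ∈ J h U ^ n := fun i => by
    obtain ⟨L, hL⟩ := IsPrecomplete.prec (I := J h U) (M := Ox h U) inferInstance (f := fun n => (seq n).1 i)
      fun {a b} hab => by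
        rw [SModEq.sub_mem, smul_eq_mul, Ideal.mul_top]
        have := neg_mem (hcauchy i hab)
        rwa [neg_sub] at this
    refine ⟨L, fun n => ?_⟩
    have := hL n
    rwa [SModEq.sub_mem, smul_eq_mul, Ideal.mul_top] at this
  choose L hL using hL
  refine ⟨Finsupp.equivFunOnFinite.symm L, fun a => ?_⟩
  haveI := isNoetherianRing_Ox h (hWa a)
  haveI := isAdicComplete_Ox h (hWa a)
  refine mem_of_forall_mem_sup (J h (W a)) (IsAdicComplete.le_jacobson_bot _) _ _ fun n => ?_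
  rw [← ker_pr h (hWa a) n]
  refine mem_pN_of_surjective _ (pr_surjective h (hWa a) n) ?_
  refine pN_pN _ _ _ ?_
  rw [pv_sub, pv_comp]
  have h1 : pv ((pr h n (W a)).comp (rO h (hW a))) (Finsupp.equivFunOnFinite.symm L) =
      pv ((pr h n (W a)).comp (rO h (hW a))) (seq n).1 := Finsupp.ext fun i => by
    rw [pv_apply, pv_apply, hcomp n (hW a), RingHom.comp_apply, RingHom.comp_apply,
      Finsupp.coe_equivFunOnFinite_symm]
    refine congrArg (rn h n (hW a)) ?_
    rw [← sub_eq_zero, ← map_sub, ← RingHom.mem_ker, ker_pr h hU n,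
      ← sub_add_sub_cancel (L i) ((seq (n + 1)).1 i)]
    refine add_mem ?_ (hseq n i)
    have := neg_mem (hL i (n + 1))
    rwa [neg_sub] at this
  rw [h1]
  have h2 := pv_mem_pN ((pr h n (W a)).comp (rO h (hW a))) (seq n).2
  rw [pv_sub] at h2
  have := add_mem h2 (hmt n a)
  rwa [sub_add_sub_cancel] at this

/-- Affine opens of a locally Noetherian formal scheme. -/
def good : Good (𝔛.Osh h.1) where
  P := IsAffineOpen
  basis U x hx := by
    obtain ⟨W, hW, hxW, hWU⟩ := Opens.isBasis_iff_nbhd.1 (𝔛.X 0).isBasis_affineOpens hx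
    exact ⟨W, hWU, hxW, hW⟩
  compact U hU := hU.isCompact
  noeth U hU := isNoetherianRing_Ox h hU
  flat U hU := flat_gH_Ox h hU
  point U hU := exists_point_Ox h hU
  descent U hU ι N κ _ W hW hWa hcov v hagree := by
    classical
    haveI := Fintype.ofFinite κ
    let S : Finset ι := Finset.univ.biUnion fun a => (v a).support
    let s : S → ι := Subtype.val
    have hs : Function.Injective s := Subtype.val_injective
    have hv : ∀ a, ((v a).comapDomain s hs.injOn).mapDomain s = v a := fun a =>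
      Finsupp.mapDomain_comapDomain s hs _ fun i hi =>
        ⟨⟨i, Finset.mem_biUnion.2 ⟨a, Finset.mem_univ _, hi⟩⟩, rfl⟩
    obtain ⟨m, hm⟩ := descent_finite h hU (N.comap (Finsupp.lmapDomain _ _ s)) W hW hWa hcov
      (fun a => (v a).comapDomain s hs.injOn) fun a b x ha hb => by
        refine mem_pN_comap _ (flat_gH_Ox h hU x (hW a ha)) s hs ?_
        rw [Finsupp.mapDomain_sub, ← pv_mapDomain, ← pv_mapDomain, hv, hv]
        exact hagree a b x ha hb
    refine ⟨m.mapDomain s, fun a x ha => ?_⟩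
    have h1 := mapDomain_mem_pN _ s (hm a)
    rw [Finsupp.mapDomain_sub, ← pv_mapDomain, hv] at h1
    have h2 := pv_gH_mem (O := 𝔛.Osh h.1) (hW a) ha h1
    rw [pv_sub, pv_gH_rr] at h2
    exact h2

end Groth.Agent.H9FCoh
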