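import Mathlib.CategoryTheory.Abelian.Subcategory
import Mathlib.CategoryTheory.Abelian.GrothendieckAxioms.Colim
import Mathlib.CategoryTheory.Abelian.Refinements
import Mathlib.CategoryTheory.Functor.KanExtension.Pointwise
import Mathlib.CategoryTheory.Comma.StructuredArrow.Small
import Mathlib.CategoryTheory.Comma.LocallySmall
import Mathlib.Algebra.Homology.ShortComplex.ExactFunctor

/-!
# The left Kan extension of an exact functor to ind-objects is exact
-/

set_option autoImplicit false
set_option backward.isDefEq.respectTransparency false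
set_option backward.isDefEq.respectTransparency.types false
set_option linter.style.haveILetI false

universe w v u v' u'

open CategoryTheory CategoryTheory.Limits ZeroObject

noncomputable section

namespace Groth.Agent.H9FCoh.IndKan

variable {M : Type u} [Category.{v} M] [Abelian M] {P Q : ObjectProperty M} (hPQ : P ≤ Q)
  [P.ContainsZero] [P.IsClosedUnderKernels] [P.IsClosedUnderCokernels] [P.IsClosedUnderFiniteProducts]
  [Q.ContainsZero] [Q.IsClosedUnderKernels] [Q.IsClosedUnderCokernels] [Q.IsClosedUnderFiniteProducts]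

theorem preservesCokernel {c d : P.FullSubcategory} (φ : c ⟶ d) :
    PreservesColimit (parallelPair φ 0) (ObjectProperty.ιOfLE hPQ) := by
  haveI := P.preservesCokernels_ι
  haveI : PreservesColimit (parallelPair φ 0) (ObjectProperty.ιOfLE hPQ ⋙ Q.ι) :=
    inferInstanceAs (PreservesColimit (parallelPair φ 0) P.ι)
  exact preservesColimit_of_reflects_of_preserves (ObjectProperty.ιOfLE hPQ) Q.ι

/-- Descent to a cokernel. -/
theorem exists_desc {c d : P.FullSubcategory} (φ : c ⟶ d) {Z : Q.FullSubcategory}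
    (x : (ObjectProperty.ιOfLE hPQ).obj d ⟶ Z) (hx : (ObjectProperty.ιOfLE hPQ).map φ ≫ x = 0) :
    ∃ x' : (ObjectProperty.ιOfLE hPQ).obj (cokernel φ) ⟶ Z,
      (ObjectProperty.ιOfLE hPQ).map (cokernel.π φ) ≫ x' = x := by
  haveI := preservesCokernel hPQ φ
  exact ⟨_, (CokernelCofork.IsColimit.desc'
    (isColimitOfHasCokernelOfPreservesColimit (ObjectProperty.ιOfLE hPQ) φ) x hx).2⟩

variable {X Y : Q.FullSubcategory} (f : X ⟶ Y)

/-- Coherent arrows over an arrow. -/
abbrev Sq := CostructuredArrow (ObjectProperty.ιOfLE hPQ).mapArrow (Arrow.mk f)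

variable {hPQ f}

/-- A coherent arrow over an arrow. -/
abbrev mkSq {c d : P.FullSubcategory} (φ : c ⟶ d) (x : (ObjectProperty.ιOfLE hPQ).obj c ⟶ X)
    (y : (ObjectProperty.ιOfLE hPQ).obj d ⟶ Y) (w : x ≫ f = (ObjectProperty.ιOfLE hPQ).map φ ≫ y) : Sq hPQ f :=
  CostructuredArrow.mk (Y := Arrow.mk φ) (Arrow.homMk x y w)

theorem sq_w (j : Sq hPQ f) :
    j.hom.left ≫ f = (ObjectProperty.ιOfLE hPQ).map j.left.hom ≫ j.hom.right :=
  Arrow.w j.hom

theorem map_left {i j : Sq hPQ f} (t : i ⟶ j) :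
    (ObjectProperty.ιOfLE hPQ).map t.left.left ≫ j.hom.left = i.hom.left :=
  congrArg (fun q => q.left) (CostructuredArrow.w t)

theorem map_right {i j : Sq hPQ f} (t : i ⟶ j) :
    (ObjectProperty.ιOfLE hPQ).map t.left.right ≫ j.hom.right = i.hom.right :=
  congrArg (fun q => q.right) (CostructuredArrow.w t)

theorem exists_sum {c c' : P.FullSubcategory} {Z : Q.FullSubcategory}
    (x : (ObjectProperty.ιOfLE hPQ).obj c ⟶ Z) (x' : (ObjectProperty.ιOfLE hPQ).obj c' ⟶ Z) :
    ∃ y : (ObjectProperty.ιOfLE hPQ).obj (c ⊞ c') ⟶ Z,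
      (ObjectProperty.ιOfLE hPQ).map biprod.inl ≫ y = x ∧ (ObjectProperty.ιOfLE hPQ).map biprod.inr ≫ y = x' := by
  haveI : (ObjectProperty.ιOfLE hPQ).Additive := ⟨by intros; rfl⟩
  refine ⟨(ObjectProperty.ιOfLE hPQ).map biprod.fst ≫ x + (ObjectProperty.ιOfLE hPQ).map biprod.snd ≫ x', ?_, ?_⟩
  · rw [Preadditive.comp_add, ← Category.assoc, ← Functor.map_comp, biprod.inl_fst, CategoryTheory.Functor.map_id,
      Category.id_comp, ← Category.assoc, ← Functor.map_comp, biprod.inl_snd, Functor.map_zero, zero_comp, add_zero]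
  · rw [Preadditive.comp_add, ← Category.assoc, ← Functor.map_comp, biprod.inr_fst, Functor.map_zero, zero_comp,
      zero_add, ← Category.assoc, ← Functor.map_comp, biprod.inr_snd, CategoryTheory.Functor.map_id, Category.id_comp]

/-- Coherent arrows over an arrow agree after a further stage. -/
theorem exists_equalizer {j : Sq hPQ f} {c : P.FullSubcategory} (δ : c ⟶ j.left.left)
    (hδ : (ObjectProperty.ιOfLE hPQ).map δ ≫ j.hom.left = 0) :
    ∃ (k : Sq hPQ f) (t : j ⟶ k), δ ≫ t.left.left = 0 := by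
  obtain ⟨x, hx⟩ := exists_desc hPQ δ j.hom.left hδ
  have hy' : (ObjectProperty.ιOfLE hPQ).map (δ ≫ j.left.hom) ≫ j.hom.right = 0 := by
    rw [Functor.map_comp, Category.assoc, ← sq_w j, ← Category.assoc, hδ, zero_comp]
  obtain ⟨y, hy⟩ := exists_desc hPQ (δ ≫ j.left.hom) j.hom.right hy'
  let φ : cokernel δ ⟶ cokernel (δ ≫ j.left.hom) :=
    cokernel.desc δ (j.left.hom ≫ cokernel.π _) (by rw [← Category.assoc, cokernel.condition])
  have hw : x ≫ f = (ObjectProperty.ιOfLE hPQ).map φ ≫ y := by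
    haveI : Epi ((ObjectProperty.ιOfLE hPQ).map (cokernel.π δ)) :=
      epi_of_isColimit_cofork
        (haveI := preservesCokernel hPQ δ; isColimitOfHasCokernelOfPreservesColimit (ObjectProperty.ιOfLE hPQ) δ)
    refine (cancel_epi ((ObjectProperty.ιOfLE hPQ).map (cokernel.π δ))).1 ?_
    rw [← Category.assoc, hx, ← Category.assoc, ← Functor.map_comp, cokernel.π_desc, Functor.map_comp,
      Category.assoc, hy]
    exact sq_w j
  exact ⟨mkSq φ x y hw, CostructuredArrow.homMk (Arrow.homMk (cokernel.π δ) (cokernel.π _)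
    (cokernel.π_desc _ _ _)) (Arrow.hom_ext _ _ hx hy), cokernel.condition δ⟩

theorem exists_equalizer_right {j : Sq hPQ f} {d : P.FullSubcategory} (δ : d ⟶ j.left.right)
    (hδ : (ObjectProperty.ιOfLE hPQ).map δ ≫ j.hom.right = 0) :
    ∃ (k : Sq hPQ f) (t : j ⟶ k), δ ≫ t.left.right = 0 := by
  obtain ⟨y, hy⟩ := exists_desc hPQ δ j.hom.right hδ
  refine ⟨mkSq (j.left.hom ≫ cokernel.π δ) j.hom.left y (by rw [Functor.map_comp, Category.assoc, hy, sq_w j]),
    CostructuredArrow.homMk (Arrow.homMk (𝟙 _) (cokernel.π δ) (Category.id_comp _)) ?_, cokernel.condition δ⟩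
  refine Arrow.hom_ext _ _ ?_ hy
  exact (congrArg (· ≫ j.hom.left) ((ObjectProperty.ιOfLE hPQ).map_id _)).trans (Category.id_comp _)

instance isFiltered_sq : IsFiltered (Sq hPQ f) :=
  haveI : (ObjectProperty.ιOfLE hPQ).Additive := ⟨by intros; rfl⟩
  haveI : Nonempty (Sq hPQ f) :=
    ⟨mkSq (0 : (0 : P.FullSubcategory) ⟶ 0) 0 0 (by simp)⟩
  { cocone_objs := fun i j => by
      obtain ⟨x, hx₁, hx₂⟩ := exists_sum i.hom.left j.hom.left
      obtain ⟨y, hy₁, hy₂⟩ := exists_sum i.hom.right j.hom.right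
      let φ := biprod.map i.left.hom j.left.hom
      have hw : x ≫ f = (ObjectProperty.ιOfLE hPQ).map φ ≫ y := by
        have e : (ObjectProperty.ιOfLE hPQ).map (biprod.fst : i.left.left ⊞ j.left.left ⟶ _) ≫
              (ObjectProperty.ιOfLE hPQ).map biprod.inl +
            (ObjectProperty.ιOfLE hPQ).map (biprod.snd : i.left.left ⊞ j.left.left ⟶ _) ≫
              (ObjectProperty.ιOfLE hPQ).map biprod.inr = 𝟙 _ := by
          rw [← Functor.map_comp, ← Functor.map_comp, ← Functor.map_add, biprod.total, CategoryTheory.Functor.map_id]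
        have g₁ : (ObjectProperty.ιOfLE hPQ).map biprod.inl ≫ x ≫ f =
            (ObjectProperty.ιOfLE hPQ).map biprod.inl ≫ (ObjectProperty.ιOfLE hPQ).map φ ≫ y := by
          rw [← Category.assoc, hx₁, ← Category.assoc, ← Functor.map_comp, biprod.inl_map, Functor.map_comp,
            Category.assoc, hy₁, sq_w i]
        have g₂ : (ObjectProperty.ιOfLE hPQ).map biprod.inr ≫ x ≫ f =
            (ObjectProperty.ιOfLE hPQ).map biprod.inr ≫ (ObjectProperty.ιOfLE hPQ).map φ ≫ y := by
          rw [← Category.assoc, hx₂, ← Category.assoc, ← Functor.map_comp, biprod.inr_map, Functor.map_comp,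
            Category.assoc, hy₂, sq_w j]
        rw [← Category.id_comp (x ≫ f), ← Category.id_comp ((ObjectProperty.ιOfLE hPQ).map φ ≫ y), ← e]
        simp only [Preadditive.add_comp, Category.assoc, g₁, g₂]
      exact ⟨mkSq φ x y hw,
        CostructuredArrow.homMk (Arrow.homMk biprod.inl biprod.inl (biprod.inl_map _ _))
          (Arrow.hom_ext _ _ hx₁ hy₁),
        CostructuredArrow.homMk (Arrow.homMk biprod.inr biprod.inr (biprod.inr_map _ _))
          (Arrow.hom_ext _ _ hx₂ hy₂), trivial⟩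
    cocone_maps := fun i j a b => by
      obtain ⟨k, t, ht⟩ := exists_equalizer (a.left.left - b.left.left) (by
        rw [Functor.map_sub, Preadditive.sub_comp, map_left, map_left, sub_self])
      obtain ⟨l, s, hs⟩ := exists_equalizer_right ((a.left.right - b.left.right) ≫ t.left.right) (by
        rw [Functor.map_comp, Category.assoc, map_right, Functor.map_sub, Preadditive.sub_comp, map_right,
          map_right, sub_self])
      refine ⟨l, t ≫ s, CostructuredArrow.hom_ext _ _ (Arrow.hom_ext _ _ (sub_eq_zero.1 ?_) (sub_eq_zero.1 ?_))⟩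
      · change a.left.left ≫ t.left.left ≫ s.left.left - b.left.left ≫ t.left.left ≫ s.left.left = 0
        rw [← Preadditive.sub_comp, ← Category.assoc, ht, zero_comp]
      · change a.left.right ≫ t.left.right ≫ s.left.right - b.left.right ≫ t.left.right ≫ s.left.right = 0
        rw [← Preadditive.sub_comp, ← Category.assoc, hs] }

variable (hPQ f)

/-- The source of a coherent arrow. -/
@[simps]
def srcF : Sq hPQ f ⥤ CostructuredArrow (ObjectProperty.ιOfLE hPQ) X where
  obj j := CostructuredArrow.mk j.hom.left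
  map t := CostructuredArrow.homMk t.left.left (map_left t)

/-- The target of a coherent arrow. -/
@[simps]
def tgtF : Sq hPQ f ⥤ CostructuredArrow (ObjectProperty.ιOfLE hPQ) Y where
  obj j := CostructuredArrow.mk j.hom.right
  map t := CostructuredArrow.homMk t.left.right (map_right t)

theorem final_srcF : (srcF hPQ f).Final := by
  haveI : (ObjectProperty.ιOfLE hPQ).Additive := ⟨by intros; rfl⟩
  refine Functor.final_of_exists_of_isFiltered _ (fun A => ⟨mkSq (𝟙 A.left) A.hom (A.hom ≫ f)
    ((congrArg (· ≫ A.hom ≫ f) ((ObjectProperty.ιOfLE hPQ).map_id _)).trans (Category.id_comp _)).symm,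
    ⟨CostructuredArrow.homMk (𝟙 A.left)
      ((congrArg (· ≫ A.hom) ((ObjectProperty.ιOfLE hPQ).map_id _)).trans (Category.id_comp _))⟩⟩) fun {A j} a b => ?_
  obtain ⟨k, t, ht⟩ := exists_equalizer (a.left - b.left) (by
    rw [Functor.map_sub, Preadditive.sub_comp]
    exact sub_eq_zero.2 ((CostructuredArrow.w a).trans (CostructuredArrow.w b).symm))
  exact ⟨k, t, CostructuredArrow.hom_ext _ _ (sub_eq_zero.1 ((Preadditive.sub_comp _ _ _).symm.trans ht))⟩

theorem final_tgtF : (tgtF hPQ f).Final := by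
  haveI : (ObjectProperty.ιOfLE hPQ).Additive := ⟨by intros; rfl⟩
  refine Functor.final_of_exists_of_isFiltered _ (fun A => ⟨mkSq (0 : (0 : P.FullSubcategory) ⟶ A.left) 0 A.hom (by simp),
    ⟨CostructuredArrow.homMk (𝟙 A.left)
      ((congrArg (· ≫ A.hom) ((ObjectProperty.ιOfLE hPQ).map_id _)).trans (Category.id_comp _))⟩⟩) fun {A j} a b => ?_
  obtain ⟨k, t, ht⟩ := exists_equalizer_right (a.left - b.left) (by
    rw [Functor.map_sub, Preadditive.sub_comp]
    exact sub_eq_zero.2 ((CostructuredArrow.w a).trans (CostructuredArrow.w b).symm))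
  exact ⟨k, t, CostructuredArrow.hom_ext _ _ (sub_eq_zero.1 ((Preadditive.sub_comp _ _ _).symm.trans ht))⟩

variable {A' : Type u'} [Category.{v'} A'] [Abelian A'] (G : P.FullSubcategory ⥤ A')

/-- The diagram of the extension. -/
abbrev diag (Z : Q.FullSubcategory) := CostructuredArrow.proj (ObjectProperty.ιOfLE hPQ) Z ⋙ G

variable [(ObjectProperty.ιOfLE hPQ).HasPointwiseLeftKanExtension G]

/-- The extension. -/
abbrev ext := (ObjectProperty.ιOfLE hPQ).pointwiseLeftKanExtension G

variable {hPQ G}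

/-- A component of the extension. -/
abbrev comp {c : P.FullSubcategory} {Z : Q.FullSubcategory} (x : (ObjectProperty.ιOfLE hPQ).obj c ⟶ Z) :
    G.obj c ⟶ (ext hPQ G).obj Z :=
  colimit.ι (diag hPQ G Z) (CostructuredArrow.mk x)

theorem comp_ext_map {c : P.FullSubcategory} {Z Z' : Q.FullSubcategory}
    (x : (ObjectProperty.ιOfLE hPQ).obj c ⟶ Z) (g : Z ⟶ Z') :
    comp (G := G) x ≫ (ext hPQ G).map g = comp (G := G) (x ≫ g) := by
  refine (colimit.ι_desc _ _).trans ?_
  change colimit.ι (diag hPQ G Z') _ = colimit.ι (diag hPQ G Z') _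
  rw [CostructuredArrow.map_mk]

theorem map_comp_comp {c c' : P.FullSubcategory} (a : c ⟶ c') {Z : Q.FullSubcategory}
    (x : (ObjectProperty.ιOfLE hPQ).obj c' ⟶ Z) :
    G.map a ≫ comp (G := G) x = comp (G := G) ((ObjectProperty.ιOfLE hPQ).map a ≫ x) :=
  colimit.w (diag hPQ G Z) (CostructuredArrow.homMk a rfl :
    CostructuredArrow.mk ((ObjectProperty.ιOfLE hPQ).map a ≫ x) ⟶ CostructuredArrow.mk x)

theorem comp_add [PreservesFiniteLimits G] {c : P.FullSubcategory} {Z : Q.FullSubcategory}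
    (x x' : (ObjectProperty.ιOfLE hPQ).obj c ⟶ Z) :
    comp (G := G) (x + x') = comp (G := G) x + comp (G := G) x' := by
  haveI : G.Additive := Functor.additive_of_preserves_binary_products G
  haveI : (ObjectProperty.ιOfLE hPQ).Additive := ⟨by intros; rfl⟩
  obtain ⟨y, hy, hy'⟩ := exists_sum x x'
  calc comp (G := G) (x + x')
      = comp (G := G) ((ObjectProperty.ιOfLE hPQ).map (biprod.inl + biprod.inr) ≫ y) := by
        rw [Functor.map_add, Preadditive.add_comp, hy, hy']
    _ = (G.map biprod.inl + G.map biprod.inr) ≫ comp (G := G) y := by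
        rw [← map_comp_comp, Functor.map_add]
    _ = _ := by rw [Preadditive.add_comp, map_comp_comp, map_comp_comp, hy, hy']

theorem additive_ext [PreservesFiniteLimits G] : (ext hPQ G).Additive where
  map_add {Z Z'} {g g'} := colimit.hom_ext fun A => by
    change comp (G := G) A.hom ≫ _ = comp (G := G) A.hom ≫ _
    rw [Preadditive.comp_add, comp_ext_map, comp_ext_map, comp_ext_map, Preadditive.comp_add, comp_add]

/-- A cocone along a stagewise presentation. -/
abbrev stageCocone {J : Type*} [Category J] {Z : Q.FullSubcategory}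
    (F : J ⥤ CostructuredArrow (ObjectProperty.ιOfLE hPQ) Z) : Cocone (F ⋙ diag hPQ G Z) :=
  (colimit.cocone (diag hPQ G Z)).whisker F

variable {S : ShortComplex Q.FullSubcategory} (hS : S.ShortExact)

/-- The kernel of a coherent arrow over the kernel. -/
def kerMap (j : Sq hPQ S.g) : (ObjectProperty.ιOfLE hPQ).obj (kernel j.left.hom) ⟶ S.X₁ :=
  (KernelFork.IsLimit.lift' hS.fIsKernel ((ObjectProperty.ιOfLE hPQ).map (kernel.ι j.left.hom) ≫ j.hom.left)
    (by
      haveI : (ObjectProperty.ιOfLE hPQ).Additive := ⟨by intros; rfl⟩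
      rw [Category.assoc, sq_w j, ← Category.assoc, ← Functor.map_comp, kernel.condition, Functor.map_zero,
        zero_comp])).1

theorem kerMap_f (j : Sq hPQ S.g) :
    kerMap hS j ≫ S.f = (ObjectProperty.ιOfLE hPQ).map (kernel.ι j.left.hom) ≫ j.hom.left :=
  (KernelFork.IsLimit.lift' hS.fIsKernel _ _).2

/-- The kernels of coherent arrows. -/
@[simps]
def kerF : Sq hPQ S.g ⥤ CostructuredArrow (ObjectProperty.ιOfLE hPQ) S.X₁ where
  obj j := CostructuredArrow.mk (kerMap hS j)
  map {i j} t := CostructuredArrow.homMk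
    (kernel.map i.left.hom j.left.hom t.left.left t.left.right (Arrow.w t.left).symm) (by
      haveI := hS.mono_f
      refine (cancel_mono S.f).1 ?_
      refine (Category.assoc _ _ _).trans ((congrArg (_ ≫ ·) (kerMap_f hS j)).trans ?_)
      refine Eq.trans ?_ (kerMap_f hS i).symm
      rw [← Category.assoc, ← Functor.map_comp, kernel.lift_ι, Functor.map_comp, Category.assoc, map_left t])
  map_id j := CostructuredArrow.hom_ext _ _ (equalizer.hom_ext (by simp [kernel.map]))
  map_comp t t' := CostructuredArrow.hom_ext _ _ (equalizer.hom_ext (by simp [kernel.map]))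

theorem final_kerF : (kerF (hPQ := hPQ) hS).Final := by
  haveI : (ObjectProperty.ιOfLE hPQ).Additive := ⟨by intros; rfl⟩
  haveI := hS.mono_f
  refine Functor.final_of_exists_of_isFiltered _ (fun A => ?_) fun {A j} a b => ?_
  · let j : Sq hPQ S.g := mkSq (0 : A.left ⟶ (0 : P.FullSubcategory)) (A.hom ≫ S.f) 0 (by simp [S.zero])
    let l : A.left ⟶ kernel j.left.hom := kernel.lift _ (𝟙 A.left) (Category.id_comp _)
    refine ⟨j, ⟨CostructuredArrow.homMk l ?_⟩⟩
    refine (cancel_mono S.f).1 ((Category.assoc _ _ _).trans ((congrArg (_ ≫ ·) (kerMap_f hS j)).trans ?_))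
    rw [← Category.assoc, ← Functor.map_comp, kernel.lift_ι, CategoryTheory.Functor.map_id]
    exact Category.id_comp _
  · obtain ⟨k, t, ht⟩ := exists_equalizer ((a.left - b.left) ≫ kernel.ι j.left.hom) (by
      have h0 : ((ObjectProperty.ιOfLE hPQ).map (a.left - b.left)) ≫ kerMap hS j = 0 := by
        rw [Functor.map_sub, Preadditive.sub_comp]
        exact sub_eq_zero.2 ((CostructuredArrow.w a).trans (CostructuredArrow.w b).symm)
      rw [Functor.map_comp, Category.assoc, ← kerMap_f hS j, ← Category.assoc, h0, zero_comp])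
    refine ⟨k, t, CostructuredArrow.hom_ext _ _ (equalizer.hom_ext (sub_eq_zero.1 ?_))⟩
    change (a.left ≫ kernel.map j.left.hom k.left.hom t.left.left t.left.right (Arrow.w t.left).symm) ≫ kernel.ι _ -
      (b.left ≫ kernel.map j.left.hom k.left.hom t.left.left t.left.right (Arrow.w t.left).symm) ≫ kernel.ι _ = 0
    rw [Category.assoc, Category.assoc, kernel.lift_ι, ← Preadditive.sub_comp, ← Category.assoc, ht]

variable (G) in
/-- Kernels, sources and targets of coherent arrows, after the functor. -/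
def stageSC [PreservesFiniteLimits G] : ShortComplex (Sq hPQ S.g ⥤ A') :=
  haveI : G.Additive := Functor.additive_of_preserves_binary_products G
  ShortComplex.mk (X₁ := kerF hS ⋙ diag hPQ G S.X₁) (X₂ := srcF hPQ S.g ⋙ diag hPQ G S.X₂)
    (X₃ := tgtF hPQ S.g ⋙ diag hPQ G S.X₃)
    { app := fun j => G.map (kernel.ι j.left.hom)
      naturality := fun i j t => by
        change G.map (kernel.map i.left.hom j.left.hom t.left.left t.left.right (Arrow.w t.left).symm) ≫
          G.map (kernel.ι j.left.hom) = G.map (kernel.ι i.left.hom) ≫ G.map t.left.left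
        rw [← G.map_comp, ← G.map_comp, kernel.lift_ι] }
    { app := fun j => G.map j.left.hom
      naturality := fun i j t => by
        change G.map t.left.left ≫ _ = _ ≫ G.map t.left.right
        rw [← G.map_comp, ← G.map_comp, Arrow.w t.left] }
    (NatTrans.ext (funext fun j => by
      change G.map (kernel.ι j.left.hom) ≫ G.map j.left.hom = 0
      rw [← G.map_comp, kernel.condition, G.map_zero]))

theorem exact_stageSC [PreservesFiniteLimits G] : (stageSC (hPQ := hPQ) G hS).Exact ∧ Mono (stageSC (hPQ := hPQ) G hS).f := by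
  haveI : G.Additive := Functor.additive_of_preserves_binary_products G
  let T := stageSC (hPQ := hPQ) G hS
  have hl : ∀ j, IsLimit (KernelFork.ofι (f := T.g.app j) (T.f.app j) (congrArg (fun q => NatTrans.app q j) T.zero)) :=
    fun j => isLimitOfHasKernelOfPreservesLimit G j.left.hom
  haveI : ∀ j, Mono (T.f.app j) := fun j => mono_of_isLimit_fork (hl j)
  refine ⟨ShortComplex.exact_of_f_is_kernel _ (evaluationJointlyReflectsLimits _ fun j =>
    (KernelFork.isLimitMapConeEquiv ..).2 (hl j)), NatTrans.mono_of_mono_app T.f⟩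

include hS in
theorem left_exact_ext [PreservesFiniteLimits G] [(ext hPQ G).Additive]
    [HasColimitsOfShape (Sq hPQ S.g) A'] [HasExactColimitsOfShape (Sq hPQ S.g) A'] :
    (S.map (ext hPQ G)).Exact ∧ Mono ((ext hPQ G).map S.f) := by
  haveI := final_srcF hPQ S.g
  haveI := final_tgtF hPQ S.g
  haveI := final_kerF (hPQ := hPQ) hS
  have hc₁ : IsColimit (stageCocone (G := G) (kerF hS)) :=
    (Functor.Final.isColimitWhiskerEquiv _ _).symm (colimit.isColimit _)
  have hc₂ : IsColimit (stageCocone (G := G) (srcF hPQ S.g)) :=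
    (Functor.Final.isColimitWhiskerEquiv _ _).symm (colimit.isColimit _)
  have hc₃ : IsColimit (stageCocone (G := G) (tgtF hPQ S.g)) :=
    (Functor.Final.isColimitWhiskerEquiv _ _).symm (colimit.isColimit _)
  have hf : ∀ j, comp (G := G) (kerMap hS j) ≫ (ext hPQ G).map S.f =
      G.map (kernel.ι j.left.hom) ≫ comp (G := G) j.hom.left := fun j => by
    rw [comp_ext_map, map_comp_comp, kerMap_f hS j]
    rfl
  have hg : ∀ j : Sq hPQ S.g, comp (G := G) j.hom.left ≫ (ext hPQ G).map S.g =
      G.map j.left.hom ≫ comp (G := G) j.hom.right := fun j => by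
    rw [comp_ext_map, map_comp_comp, sq_w j]
    rfl
  obtain ⟨he, hm⟩ := exact_stageSC (G := G) hS
  exact ⟨colim.exact_mapShortComplex he hc₁ hc₂ hc₃ _ _ hf hg,
    colim.map_mono' (stageSC G hS).f hc₁ hc₂ _ hf⟩

/-- Coherent pieces of a quotient lift. -/
def Lifts (P Q : ObjectProperty M) : Prop :=
  ∀ {T : ShortComplex M}, T.ShortExact → Q T.X₁ → Q T.X₂ → Q T.X₃ → ∀ {C : M}, P C → ∀ t : C ⟶ T.X₃,
    ∃ (M' : M) (w : M' ⟶ T.X₂), P M' ∧ ∀ {Z : M} (ψ : T.X₃ ⟶ Z), w ≫ T.g ≫ ψ = 0 → t ≫ ψ = 0

omit [Q.ContainsZero] [Q.IsClosedUnderCokernels] [Q.IsClosedUnderFiniteProducts] in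
theorem exists_mono_pullback {A B C : M} (a : A ⟶ C) (b : B ⟶ C) (hAB : Q (A ⊞ B)) (hC : Q C) :
    ∃ k : pullback a b ⟶ A ⊞ B, Mono k ∧ Q (pullback a b) := by
  let k : pullback a b ⟶ A ⊞ B := biprod.lift (pullback.fst _ _) (pullback.snd _ _)
  haveI : Mono k := ⟨fun {Z} g g' hgg => pullback.hom_ext
    (by simpa [k] using congrArg (· ≫ biprod.fst) hgg) (by simpa [k] using congrArg (· ≫ biprod.snd) hgg)⟩
  let δ : A ⊞ B ⟶ C := biprod.fst ≫ a - biprod.snd ≫ b
  refine ⟨k, inferInstance, Q.prop_of_isLimit_kernelFork (k := KernelFork.ofι (f := δ) k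
    (by simp [δ, k, Preadditive.comp_sub, pullback.condition])) ?_ hAB hC⟩
  refine KernelFork.IsLimit.ofι' _ _ fun {Z} g hg => ?_
  have e : (g ≫ biprod.fst) ≫ a = (g ≫ biprod.snd) ≫ b := by
    rw [Category.assoc, Category.assoc]
    simpa [δ, Preadditive.comp_sub, sub_eq_zero] using hg
  exact ⟨pullback.lift _ _ e, biprod.hom_ext _ _ (by simp [k]) (by simp [k])⟩

theorem exists_epi_cover [P.IsClosedUnderIsomorphisms] (hsub : ∀ {A B : M} (i : A ⟶ B) [Mono i], Q A → P B → P A)
    (hlift : Lifts P Q) {d : P.FullSubcategory} (hS : S.ShortExact)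
    (y : (ObjectProperty.ιOfLE hPQ).obj d ⟶ S.X₃) :
    ∃ (c : P.FullSubcategory) (φ : c ⟶ d) (x : (ObjectProperty.ιOfLE hPQ).obj c ⟶ S.X₂),
      Epi φ ∧ x ≫ S.g = (ObjectProperty.ιOfLE hPQ).map φ ≫ y := by
  haveI : HasFiniteBiproducts M := HasFiniteBiproducts.of_hasFiniteProducts
  haveI := Q.preservesKernels_ι
  haveI := Q.preservesCokernels_ι
  haveI : PreservesFiniteLimits Q.ι := Q.ι.preservesFiniteLimits_of_preservesKernels
  haveI : PreservesFiniteColimits Q.ι := Q.ι.preservesFiniteColimits_of_preservesCokernels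
  obtain ⟨M', w, hM', hw⟩ := hlift (hS.map_of_exact Q.ι) S.X₁.property S.X₂.property S.X₃.property d.property y.hom
  let a : M' ⟶ S.X₃.obj := w ≫ S.g.hom
  have hepi : Epi (pullback.snd a y.hom) := by
    refine (epi_iff_surjective_up_to_refinements _).2 fun {A} z => ?_
    have hz : (z ≫ y.hom) ≫ cokernel.π a = 0 := by
      rw [Category.assoc, hw (cokernel.π a) ((Category.assoc _ _ _).symm.trans (cokernel.condition a)), comp_zero]
    have hex : (ShortComplex.mk a (cokernel.π a) (cokernel.condition a)).Exact := ShortComplex.exact_cokernel a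
    obtain ⟨A', π, hπ, x, hx⟩ := (ShortComplex.exact_iff_exact_up_to_refinements _).1 hex _ hz
    exact ⟨A', π, hπ, pullback.lift x (π ≫ z) (by rw [Category.assoc]; exact hx.symm), (pullback.lift_snd _ _ _).symm⟩
  have hPd : P (M' ⊞ d.obj) :=
    P.prop_of_iso (biprod.isoProd M' d.obj).symm
      (P.prop_limit (pair M' d.obj) (by rintro ⟨_ | _⟩ <;> [exact hM'; exact d.property]))
  obtain ⟨k, hk, hQp⟩ := exists_mono_pullback (Q := Q) a y.hom (hPQ _ hPd) S.X₃.property
  refine ⟨⟨_, hsub k hQp hPd⟩, ObjectProperty.homMk (pullback.snd a y.hom),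
    ObjectProperty.homMk (pullback.fst a y.hom ≫ w), ?_, ObjectProperty.hom_ext _ ((Category.assoc _ _ _).trans ?_)⟩
  · exact P.ι.epi_of_epi_map hepi
  · exact pullback.condition

theorem epi_ext [P.IsClosedUnderIsomorphisms] (hsub : ∀ {A B : M} (i : A ⟶ B) [Mono i], Q A → P B → P A) (hlift : Lifts P Q)
    [PreservesFiniteColimits G] [(ext hPQ G).Additive] (hS : S.ShortExact) : Epi ((ext hPQ G).map S.g) :=
  Preadditive.epi_of_cancel_zero _ fun {Z} ψ hψ => colimit.hom_ext fun A => by
    obtain ⟨c, φ, x, hφ, hx⟩ := exists_epi_cover hsub hlift hS A.hom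
    change comp (G := G) A.hom ≫ ψ = comp (G := G) A.hom ≫ 0
    rw [comp_zero, ← cancel_epi (G.map φ), comp_zero, ← Category.assoc, map_comp_comp, ← hx, ← comp_ext_map,
      Category.assoc, hψ, comp_zero]

theorem exact_ext [P.IsClosedUnderIsomorphisms] (hsub : ∀ {A B : M} (i : A ⟶ B) [Mono i], Q A → P B → P A) (hlift : Lifts P Q)
    [PreservesFiniteLimits G] [PreservesFiniteColimits G]
    (hJ : ∀ {X Y : Q.FullSubcategory} (f : X ⟶ Y),
      ∃ _ : HasColimitsOfShape (Sq hPQ f) A', HasExactColimitsOfShape (Sq hPQ f) A') :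
    PreservesFiniteLimits (ext hPQ G) ∧ PreservesFiniteColimits (ext hPQ G) := by
  haveI := additive_ext (hPQ := hPQ) (G := G)
  have h : ∀ T : ShortComplex Q.FullSubcategory, T.ShortExact →
      ((T.map (ext hPQ G)).Exact ∧ Mono ((ext hPQ G).map T.f)) ∧ Epi ((ext hPQ G).map T.g) := fun T hT => by
    obtain ⟨_, _⟩ := hJ T.g
    exact ⟨left_exact_ext (hPQ := hPQ) (G := G) hT, epi_ext (hPQ := hPQ) (G := G) hsub hlift hT⟩
  exact ⟨((Functor.preservesFiniteLimits_tfae _).out 0 3).1 fun T hT => (h T hT).1,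
    ((Functor.preservesFiniteColimits_tfae _).out 0 3).1 fun T hT => And.intro (h T hT).1.1 (h T hT).2⟩

end Groth.Agent.H9FCoh.IndKan
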