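import Groth.Agent.H9FCoh.Ops

/-!
# Kernels of finite type
-/

set_option autoImplicit false
set_option backward.isDefEq.respectTransparency false
set_option backward.isDefEq.respectTransparency.types false
set_option linter.style.haveILetI false

universe u

open CategoryTheory CategoryTheory.Limits Opposite TopologicalSpace
open Groth.Agent.RngSp (fns Nearby mp)
open Groth.Agent.ClosedRinged Groth.Agent.ModPull

noncomputable section

namespace Groth.Agent.H9FCoh

variable {X : TopCat.{u}} {O : TopCat.Sheaf CommRingCat.{u} X} {M M' : ModSite.Mod O}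

theorem isFiniteType_kernel (θ : M ⟶ M')
    (h : ∀ x : X, ∃ (U : Opens X) (σ : Type u) (_ : Finite σ) (g : σ → M.val.obj (op U)), x ∈ U ∧
      (∀ j, mp θ U (g j) = 0) ∧ ∀ (V : Opens X) (hV : V ≤ U) (z : M.val.obj (op V)), mp θ V z = 0 →
        Nearby V fun W hW => res M hW z ∈
          Submodule.span (fns O W) (Set.range fun j => res M (hW.trans hV) (g j))) :
    SheafOfModules.IsFiniteType (R := ModSite.ringSh O) (kernel θ) := by
  refine RngSp.isFiniteType_iff.2 fun x => ?_
  obtain ⟨U, σ, hσ, g, hxU, hg, hgen⟩ := h x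
  choose s hs using fun j => exists_mp_kernel_eq θ (g j) (hg j)
  refine ⟨U, σ, hσ, s, hxU, fun V hV z y hy => ?_⟩
  obtain ⟨W, hW, hyW, hz⟩ := hgen V hV (mp (kernel.ι θ) V z) (RngSp.app_kerι θ (X := op V) z) y hy
  refine ⟨W, hW, hyW, ?_⟩
  have e : (fun j => res M (hW.trans hV) (g j)) = fun j => mp (kernel.ι θ) W (res (kernel θ) (hW.trans hV) (s j)) :=
    funext fun j => by rw [RngSp.mp_res, hs]
  have h4 : (Submodule.span (fns O W) (Set.range fun j => res (kernel θ) (hW.trans hV) (s j))).map
      (mp (kernel.ι θ) W) = Submodule.span (fns O W) (Set.range fun j => res M (hW.trans hV) (g j)) := by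
    rw [Submodule.map_span, ← Set.range_comp, e]
    rfl
  change res M hW (mp (kernel.ι θ) V z) ∈ _ at hz
  rw [← h4, ← RngSp.mp_res] at hz
  obtain ⟨w, hw, hwe⟩ := hz
  have := app_injective (kernel.ι θ) (op W) hwe
  show res (kernel θ) hW z ∈ _
  rw [← this]
  exact hw

end Groth.Agent.H9FCoh
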