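import Mathlib

/-!
# Vectors and relation modules under flat ring maps
-/

universe u v w

open Finsupp

noncomputable section

namespace Groth.Agent.H9FCoh

variable {A B C : Type u} [CommRing A] [CommRing B] [CommRing C] {ι : Type v}

/-- The image of a vector. -/
def pv (φ : A →+* B) (v : ι →₀ A) : ι →₀ B := v.mapRange φ (map_zero φ)

/-- The submodule generated by the image of a submodule. -/
def pN (φ : A →+* B) (N : Submodule A (ι →₀ A)) : Submodule B (ι →₀ B) :=
  Submodule.span B (pv φ '' (N : Set (ι →₀ A)))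

section

variable (φ : A →+* B) (ψ : B →+* C)

@[simp] theorem pv_apply (v : ι →₀ A) (i : ι) : pv φ v i = φ (v i) := rfl

@[simp] theorem pv_zero : pv φ (0 : ι →₀ A) = 0 := Finsupp.ext fun i => by simp

theorem pv_add (v v' : ι →₀ A) : pv φ (v + v') = pv φ v + pv φ v' := Finsupp.ext fun i => by simp

theorem pv_sub (v v' : ι →₀ A) : pv φ (v - v') = pv φ v - pv φ v' := Finsupp.ext fun i => by simp

theorem pv_smul (a : A) (v : ι →₀ A) : pv φ (a • v) = φ a • pv φ v := Finsupp.ext fun i => by simp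

theorem pv_sum {σ : Type*} (s : Finset σ) (v : σ → ι →₀ A) : pv φ (∑ j ∈ s, v j) = ∑ j ∈ s, pv φ (v j) :=
  Finsupp.ext fun i => by simp [Finsupp.finsetSum_apply]

theorem pv_comp (v : ι →₀ A) : pv ψ (pv φ v) = pv (ψ.comp φ) v := Finsupp.ext fun i => by simp

theorem pv_mem_pN {N : Submodule A (ι →₀ A)} {v : ι →₀ A} (hv : v ∈ N) : pv φ v ∈ pN φ N :=
  Submodule.subset_span ⟨v, hv, rfl⟩

theorem pv_mem_comp {N : Submodule A (ι →₀ A)} {w : ι →₀ B} (hw : w ∈ pN φ N) :
    pv ψ w ∈ pN (ψ.comp φ) N := by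
  induction hw using Submodule.span_induction with
  | mem a ha => obtain ⟨v, hv, rfl⟩ := ha; rw [pv_comp]; exact pv_mem_pN _ hv
  | zero => rw [pv_zero]; exact zero_mem _
  | add a b _ _ ha hb => rw [pv_add]; exact add_mem ha hb
  | smul r a _ ha => rw [pv_smul]; exact Submodule.smul_mem _ _ ha

theorem exists_sum_of_mem_pN {N : Submodule A (ι →₀ A)} {w : ι →₀ B} (hw : w ∈ pN φ N) :
    ∃ (k : ℕ) (c : Fin k → B) (n : Fin k → ι →₀ A), (∀ j, n j ∈ N) ∧ ∑ j, c j • pv φ (n j) = w := by
  obtain ⟨k, c, g, h⟩ := Submodule.mem_span_set'.1 hw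
  choose n hn hg using fun j => (g j).2
  exact ⟨k, c, n, hn, by simp only [hg]; exact h⟩

theorem mem_pN_of_surjective (hφ : Function.Surjective φ) {N : Submodule A (ι →₀ A)} {v : ι →₀ A}
    (hv : pv φ v ∈ pN φ N) : v ∈ N ⊔ RingHom.ker φ • (⊤ : Submodule A (ι →₀ A)) := by
  classical
  obtain ⟨k, c, n, hn, he⟩ := exists_sum_of_mem_pN φ hv
  choose a ha using fun j => hφ (c j)
  have h0 : ∀ i, (v - ∑ j, a j • n j) i ∈ RingHom.ker φ := fun i => by
    have h1 : pv φ (v - ∑ j, a j • n j) = 0 := by simp [pv_sub, pv_sum, pv_smul, ha, he]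
    rw [RingHom.mem_ker, ← pv_apply, h1, Finsupp.zero_apply]
  refine Submodule.mem_sup.2 ⟨∑ j, a j • n j, Submodule.sum_mem _ fun j _ => N.smul_mem _ (hn j),
    v - ∑ j, a j • n j, ?_, by abel⟩
  rw [← Finsupp.sum_single (v - ∑ j, a j • n j)]
  refine Submodule.sum_mem _ fun i _ => ?_
  rw [← mul_one ((v - ∑ j, a j • n j) i), ← Finsupp.smul_single']
  exact Submodule.smul_mem_smul (h0 i) Submodule.mem_top

/-- Linear relations among images of vectors come from relations over the source. -/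
theorem exists_of_sum_eq_zero (hφ : φ.Flat) {σ : Type} [Fintype σ] (w : σ → ι →₀ A) (c : σ → B)
    (h : ∑ j, c j • pv φ (w j) = 0) :
    ∃ (k : ℕ) (a : Fin k → σ → A) (y : Fin k → B),
      (∀ l, ∑ j, a l j • w j = 0) ∧ ∀ j, c j = ∑ l, y l * φ (a l j) := by
  classical
  letI := φ.toAlgebra
  haveI : Module.Flat A B := hφ
  let s : Finset ι := Finset.univ.biUnion fun j => (w j).support
  let f : (s → A) →ₗ[A] (σ → A) :=
    LinearMap.pi fun j => ∑ i : s, (w j i.1) • (LinearMap.proj i)
  let x : (σ → A) →ₗ[A] B := ∑ j, (LinearMap.proj j : (σ → A) →ₗ[A] A).smulRight (c j)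
  have hx : ∀ g, x g = ∑ j, φ (g j) * c j := fun g => by
    simp [x, Algebra.smul_def, RingHom.algebraMap_toAlgebra]
  have hxf : x ∘ₗ f = 0 := LinearMap.ext fun g => by
    rw [LinearMap.comp_apply, hx, LinearMap.zero_apply]
    simp only [f, LinearMap.pi_apply, LinearMap.coe_sum, Finset.sum_apply, LinearMap.smul_apply,
      LinearMap.proj_apply, smul_eq_mul, map_sum, map_mul, Finset.sum_mul]
    rw [Finset.sum_comm]
    refine Finset.sum_eq_zero fun i _ => ?_
    have h1 := DFunLike.congr_fun h i.1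
    simp only [Finsupp.finsetSum_apply, Finsupp.smul_apply, pv_apply, smul_eq_mul, Finsupp.zero_apply] at h1
    calc ∑ j, φ (w j i.1) * φ (g i) * c j = φ (g i) * ∑ j, c j * φ (w j i.1) := by
          rw [Finset.mul_sum]; exact Finset.sum_congr rfl fun j _ => by ring
      _ = 0 := by rw [h1, mul_zero]
  obtain ⟨k, a, y, hy, ha⟩ := Module.Flat.exists_factorization_of_comp_eq_zero_of_free hxf
  refine ⟨k, fun l j => a (Pi.single j 1) l, fun l => y (Finsupp.single l 1), fun l => ?_, fun j => ?_⟩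
  · refine Finsupp.ext fun i => ?_
    simp only [Finsupp.finsetSum_apply, Finsupp.smul_apply, Finsupp.zero_apply, smul_eq_mul]
    by_cases hi : i ∈ s
    · have h1 := DFunLike.congr_fun (LinearMap.congr_fun ha (Pi.single ⟨i, hi⟩ 1)) l
      have h2 : f (Pi.single ⟨i, hi⟩ 1) = ∑ j, (w j i) • Pi.single j (1 : A) := by
        funext j
        simp [f, Pi.single_apply]
      simp only [LinearMap.comp_apply, h2, map_sum, map_smul, LinearMap.zero_apply] at h1
      simp only [Finsupp.finsetSum_apply, Finsupp.smul_apply, smul_eq_mul, Finsupp.zero_apply] at h1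
      calc ∑ j, a (Pi.single j 1) l * w j i = ∑ j, w j i * a (Pi.single j 1) l :=
            Finset.sum_congr rfl fun j _ => mul_comm _ _
        _ = 0 := h1
    · refine Finset.sum_eq_zero fun j _ => ?_
      rw [Finsupp.notMem_support_iff.1 (fun hj => hi (Finset.mem_biUnion.2 ⟨j, Finset.mem_univ _, hj⟩)),
        mul_zero]
  · have h1 := LinearMap.congr_fun hy (Pi.single j 1)
    have h2 : x (Pi.single j 1) = c j := by
      rw [hx, Finset.sum_eq_single j (fun j' _ hj' => by simp [Pi.single_eq_of_ne hj']) (by simp)]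
      simp
    rw [h2, LinearMap.comp_apply] at h1
    rw [h1]
    conv_lhs => rw [← Finsupp.univ_sum_single (a (Pi.single j 1))]
    rw [map_sum]
    refine Finset.sum_congr rfl fun l _ => ?_
    rw [← smul_eq_mul (y (Finsupp.single l 1)) _, smul_eq_mul, mul_comm, ← RingHom.algebraMap_toAlgebra φ,
      ← Algebra.smul_def, ← map_smul, Finsupp.smul_single, smul_eq_mul, mul_one]

/-- The ideal of coefficients bringing a vector into a submodule. -/
def colon (N : Submodule A (ι →₀ A)) (v : ι →₀ A) : Ideal A :=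
  N.comap (LinearMap.toSpanSingleton A _ v)

theorem mem_colon {N : Submodule A (ι →₀ A)} {v : ι →₀ A} {a : A} : a ∈ colon N v ↔ a • v ∈ N := Iff.rfl

theorem map_colon_eq_top (hφ : φ.Flat) {N : Submodule A (ι →₀ A)} {v : ι →₀ A}
    (hv : pv φ v ∈ pN φ N) : (colon N v).map φ = ⊤ := by
  obtain ⟨k, c, n, hn, he⟩ := exists_sum_of_mem_pN φ hv
  obtain ⟨m, a, y, ha, hc⟩ := exists_of_sum_eq_zero φ hφ (σ := Option (Fin k))
    (fun j => Option.elim j v n) (fun j => Option.elim j (-1) c) (by
      rw [Fintype.sum_option]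
      simp [he])
  rw [Ideal.eq_top_iff_one]
  have h1 : (1 : B) = -∑ l, y l * φ (a l none) := by
    rw [← hc none]
    simp
  rw [h1]
  refine neg_mem (Ideal.sum_mem _ fun l _ => Ideal.mul_mem_left _ _ (Ideal.mem_map_of_mem _ ?_))
  rw [mem_colon]
  have h2 := ha l
  rw [Fintype.sum_option] at h2
  simp only [Option.elim] at h2
  rw [eq_neg_of_add_eq_zero_left h2]
  exact neg_mem (Submodule.sum_mem _ fun j _ => N.smul_mem _ (hn j))

variable {κ : Type w}

theorem pv_mapDomain (s : κ → ι) (v : κ →₀ A) : pv φ (v.mapDomain s) = (pv φ v).mapDomain s :=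
  (Finsupp.mapDomain_mapRange s v φ (map_zero φ) (map_add φ)).symm

/-- Relation modules of flat maps commute with restriction of supports. -/
theorem mem_pN_comap (hφ : φ.Flat) (s : κ → ι) (hs : Function.Injective s) {N : Submodule A (ι →₀ A)}
    {w : κ →₀ B} (hw : w.mapDomain s ∈ pN φ N) :
    w ∈ pN φ (N.comap (Finsupp.lmapDomain A A s)) := by
  classical
  obtain ⟨k, c, n, hn, he⟩ := exists_sum_of_mem_pN φ hw
  obtain ⟨m, a, y, ha, hc⟩ := exists_of_sum_eq_zero φ hφ (σ := Fin k)
    (fun j => (n j).filter fun i => i ∉ Set.range s) c (Finsupp.ext fun i => by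
      have h1 := DFunLike.congr_fun he i
      simp only [Finsupp.finsetSum_apply, Finsupp.smul_apply, pv_apply, Finsupp.filter_apply,
        Finsupp.zero_apply, smul_eq_mul] at h1 ⊢
      by_cases hi : i ∈ Set.range s
      · simp [hi]
      · simp only [hi, not_false_eq_true, if_true]
        rw [h1, Finsupp.mapDomain_of_notMem_range _ _ hi])
  have hl : ∀ l, ∃ u : κ →₀ A, u.mapDomain s = ∑ j, a l j • n j := fun l => by
    refine ⟨(∑ j, a l j • n j).comapDomain s hs.injOn, Finsupp.mapDomain_comapDomain s hs _ fun i hi => ?_⟩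
    by_contra hi'
    refine Finsupp.mem_support_iff.1 hi ?_
    have h2 := DFunLike.congr_fun (ha l) i
    simp only [Finsupp.finsetSum_apply, Finsupp.smul_apply, Finsupp.filter_apply, hi', not_false_eq_true,
      if_true, Finsupp.zero_apply] at h2 ⊢
    exact h2
  choose u hu using hl
  have hw' : w = ∑ l, y l • pv φ (u l) := by
    apply Finsupp.mapDomain_injective hs
    rw [← he, Finsupp.mapDomain_finsetSum]
    simp only [Finsupp.mapDomain_smul, ← pv_mapDomain, hu, pv_sum, pv_smul, Finset.smul_sum, smul_smul]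
    rw [Finset.sum_comm]
    refine Finset.sum_congr rfl fun j _ => ?_
    rw [hc j, Finset.sum_smul]
  rw [hw']
  refine Submodule.sum_mem _ fun l _ => Submodule.smul_mem _ _ (pv_mem_pN φ ?_)
  change Finsupp.lmapDomain A A s (u l) ∈ N
  rw [Finsupp.lmapDomain_apply, hu]
  exact Submodule.sum_mem _ fun j _ => N.smul_mem _ (hn j)

theorem mapDomain_mem_pN (s : κ → ι) {N : Submodule A (ι →₀ A)} {w : κ →₀ B}
    (hw : w ∈ pN φ (N.comap (Finsupp.lmapDomain A A s))) : w.mapDomain s ∈ pN φ N := by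
  induction hw using Submodule.span_induction with
  | mem a ha =>
    obtain ⟨v, hv, rfl⟩ := ha
    rw [← pv_mapDomain]
    exact pv_mem_pN φ hv
  | zero => rw [Finsupp.mapDomain_zero]; exact zero_mem _
  | add a b _ _ ha hb => rw [Finsupp.mapDomain_add]; exact add_mem ha hb
  | smul r a _ ha => rw [Finsupp.mapDomain_smul]; exact Submodule.smul_mem _ _ ha

end

/-- Submodules of a finite free module over a complete Noetherian ring are closed. -/
theorem mem_of_forall_mem_sup [IsNoetherianRing A] (J : Ideal A) (hJ : J ≤ Ideal.jacobson ⊥) [Finite ι]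
    (P : Submodule A (ι →₀ A)) (v : ι →₀ A) (h : ∀ n : ℕ, v ∈ P ⊔ J ^ (n + 1) • ⊤) : v ∈ P := by
  rw [← Submodule.Quotient.mk_eq_zero, ← Submodule.mem_bot A,
    ← Ideal.iInf_pow_smul_eq_bot_of_le_jacobson (M := (ι →₀ A) ⧸ P) J hJ]
  refine Submodule.mem_iInf _ |>.2 fun n => ?_
  obtain ⟨p, hp, q, hq, rfl⟩ := Submodule.mem_sup.1 (h n)
  rw [Submodule.Quotient.mk_add, (Submodule.Quotient.mk_eq_zero P).2 hp, zero_add]
  refine Submodule.smul_mono_left (Ideal.pow_le_pow_right n.le_succ) ?_
  have h1 : P.mkQ q ∈ (J ^ (n + 1) • ⊤ : Submodule A (ι →₀ A)).map P.mkQ := Submodule.mem_map_of_mem hq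
  rw [Submodule.map_smul''] at h1
  exact Submodule.smul_mono le_rfl le_top h1

end Groth.Agent.H9FCoh
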