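import Groth.Agent.H9FCoh.ProdH
import Groth.Prelude.Def_Formal2

/-!
# Milnor's sequence for the cohomology of a limit of a tower of sheaves
-/

set_option autoImplicit false
set_option backward.isDefEq.respectTransparency false
set_option backward.isDefEq.respectTransparency.types false
set_option linter.style.haveILetI false

universe u

open CategoryTheory CategoryTheory.Limits Opposite TopologicalSpace CategoryTheory.Abelian

noncomputable section

namespace Groth.Agent.H9FCoh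

open Groth.Agent

section Cat

variable {C : Type*} [Category C] [Abelian C] [HasProductsOfShape ℕ C] (F : ℕ → C) (t : ∀ n, F (n + 1) ⟶ F n)

/-- The difference map of a tower. -/
def towerD : ∏ᶜ F ⟶ ∏ᶜ F := Pi.lift fun n => Pi.π F n - Pi.π F (n + 1) ≫ t n

theorem towerD_π (n : ℕ) : towerD F t ≫ Pi.π F n = Pi.π F n - Pi.π F (n + 1) ≫ t n := Pi.lift_π _ _

variable {F t} {L : C} {π : ∀ n, L ⟶ F n}

theorem lift_towerD (hπ : ∀ n, π (n + 1) ≫ t n = π n) : Pi.lift π ≫ towerD F t = 0 :=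
  Pi.hom_ext _ _ fun n => by
    rw [Category.assoc, towerD_π, Preadditive.comp_sub, Pi.lift_π, Pi.lift_π_assoc, hπ, sub_self, zero_comp]

theorem tower_exact (hπ : ∀ n, π (n + 1) ≫ t n = π n)
    (hlim : ∀ (W : C) (k : ∀ n, W ⟶ F n), (∀ n, k (n + 1) ≫ t n = k n) → ∃! l : W ⟶ L, ∀ n, l ≫ π n = k n) :
    (ShortComplex.mk _ _ (lift_towerD hπ)).Exact ∧ Mono (Pi.lift π) := by
  have hm : Mono (Pi.lift π) := ⟨fun {W} a b h => by
    have hc : ∀ n, (a ≫ π (n + 1)) ≫ t n = a ≫ π n := fun n => by rw [Category.assoc, hπ]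
    obtain ⟨l, -, hu⟩ := hlim W (fun n => a ≫ π n) hc
    rw [hu a fun n => rfl, hu b fun n => ?_]
    have := congrArg (· ≫ Pi.π F n) h
    simp only [Category.assoc, Pi.lift_π] at this
    exact this.symm⟩
  have hw : ∀ {W : C} (k : W ⟶ ∏ᶜ F), k ≫ towerD F t = 0 →
      ∀ n, (k ≫ Pi.π F (n + 1)) ≫ t n = k ≫ Pi.π F n := fun {W} k hk n => by
    have h0 : k ≫ (towerD F t ≫ Pi.π F n) = 0 := by rw [← Category.assoc, hk, zero_comp]
    rw [towerD_π, Preadditive.comp_sub, sub_eq_zero] at h0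
    rw [Category.assoc, h0]
  refine ⟨ShortComplex.exact_of_f_is_kernel _ (KernelFork.IsLimit.ofι _ _
    (fun {W} k hk => (hlim W _ (hw k hk)).choose)
    (fun {W} k hk => Pi.hom_ext _ _ fun n => by
      rw [Category.assoc, Pi.lift_π]
      exact (hlim W _ (hw k hk)).choose_spec.1 n)
    fun {W} k hk l hl => (hlim W _ (hw k hk)).choose_spec.2 l fun n => ?_), hm⟩
  rw [← hl, Category.assoc, Pi.lift_π]

end Cat

variable {X : TopCat.{u}} {B : Opens X → Prop}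

theorem H_map_sub_tower {G : CohTop.Ab X} (F : ℕ → CohTop.Ab X) (t : ∀ n, F (n + 1) ⟶ F n) (p : ℕ)
    (x : CohTop.H (∏ᶜ F) p) (n : ℕ) (h : G = ∏ᶜ F) :
    Sheaf.H.map (Pi.π F n) p (Sheaf.H.map (towerD F t) p x) =
      Sheaf.H.map (Pi.π F n) p x - Sheaf.H.map (t n) p (Sheaf.H.map (Pi.π F (n + 1)) p x) := by
  simp only [Sheaf.H.map_apply]
  rw [Ext.comp_assoc_of_third_deg_zero, Ext.comp_assoc_of_third_deg_zero, Ext.mk₀_comp_mk₀, Ext.mk₀_comp_mk₀,
    towerD_π, eq_sub_iff_add_eq, ← Ext.comp_add, ← Ext.mk₀_add, sub_add_cancel]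

theorem H_map_connecting_f {T : ShortComplex (CohTop.Ab X)} (hT : T.ShortExact) (p : ℕ) (z : CohTop.H T.X₃ p) :
    Sheaf.H.map T.f (p + 1) (QCoh.Ab.connecting hT p z) = 0 := by
  change (z.comp hT.extClass rfl).comp (Ext.mk₀ T.f) (add_zero _) = 0
  rw [Ext.comp_assoc_of_third_deg_zero]
  exact (congrArg (fun w => Ext.comp z w _) hT.extClass_comp).trans (Ext.comp_zero _ _ _ _ _)

/-- The group theory of Milnor's sequence. -/
theorem milnor_alg {G G' : ℕ → Type u} [∀ n, AddCommGroup (G n)] [∀ n, AddCommGroup (G' n)] {M : Type u}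
    [AddCommGroup M] (t : ∀ n, G (n + 1) →+ G n) (t' : ∀ n, G' (n + 1) →+ G' n)
    (δ : (∀ n, G n) →+ M) (q : M →+ (∀ n, G' n)) (hq : ∀ x, Formal2.towerDiff G' t' (q x) = 0)
    (h₁ : ∀ v, δ v = 0 ↔ v ∈ (Formal2.towerDiff G t).range) (h₂ : ∀ x, q x = 0 ↔ ∃ v, δ v = x)
    (h₃ : ∀ y, Formal2.towerDiff G' t' y = 0 → ∃ x, q x = y) :
    ∃ (α : Formal2.limOne G t →+ M) (β : M →+ Formal2.limZero G' t'),
      Function.Injective α ∧ Function.Surjective β ∧ α.range = β.ker ∧ ∀ x n, (β x).1 n = q x n := by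
  let β : M →+ Formal2.limZero G' t' := AddMonoidHom.mk' (fun x => ⟨q x, hq x⟩) fun a b => Subtype.ext (map_add q a b)
  refine ⟨QuotientAddGroup.lift _ δ fun v hv => (h₁ v).2 hv, β, ?_, ?_, ?_, fun x n => rfl⟩
  · refine (injective_iff_map_eq_zero _).2 fun z hz => ?_
    obtain ⟨v, rfl⟩ := QuotientAddGroup.mk_surjective z
    exact (QuotientAddGroup.eq_zero_iff v).2 ((h₁ v).1 hz)
  · rintro ⟨v, hv⟩
    obtain ⟨x, hx⟩ := h₃ v hv
    exact ⟨x, Subtype.ext hx⟩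
  · ext x
    constructor
    · rintro ⟨z, rfl⟩
      obtain ⟨v, rfl⟩ := QuotientAddGroup.mk_surjective z
      exact Subtype.ext ((h₂ _).2 ⟨v, rfl⟩)
    · intro hx
      obtain ⟨v, hv⟩ := (h₂ x).1 (congrArg Subtype.val hx)
      exact ⟨QuotientAddGroup.mk v, hv⟩

theorem tower_shortExact (hB : Opens.IsBasis {V | B V}) (F : ℕ → CohTop.Ab X) (t : ∀ n, F (n + 1) ⟶ F n)
    (ht : ∀ V, B V → ∀ n, Function.Surjective ((t n).hom.app (op V)))
    {L : CohTop.Ab X} (π : ∀ n, L ⟶ F n) (hπ : ∀ n, π (n + 1) ≫ t n = π n)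
    (hlim : ∀ (W : CohTop.Ab X) (k : ∀ n, W ⟶ F n), (∀ n, k (n + 1) ≫ t n = k n) →
      ∃! l : W ⟶ L, ∀ n, l ≫ π n = k n) :
    (ShortComplex.mk _ _ (lift_towerD hπ)).ShortExact := by
  obtain ⟨hex, hm⟩ := tower_exact hπ hlim
  refine { exact := hex, mono_f := hm, epi_g := epi_of_surjective_basis hB _ fun V hV y => ?_ }
  choose step hstep using fun (n : ℕ) (z : (F n).obj.obj (op V)) => ht V hV n z
  let x : ∀ n, (F n).obj.obj (op V) := fun n => Nat.rec (motive := fun n => (F n).obj.obj (op V)) 0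
    (fun n xn => step n (xn - (Pi.π F n).hom.app (op V) y)) n
  have hx : ∀ n, (t n).hom.app (op V) (x (n + 1)) = x n - (Pi.π F n).hom.app (op V) y := fun n => hstep n _
  obtain ⟨x', hx'⟩ := exists_pi_section F V x
  refine ⟨x', pi_section_ext F V fun n => ?_⟩
  have h2 := congr(($(towerD_π F t n)).hom.app (op V) x')
  refine h2.trans ?_
  change (Pi.π F n).hom.app (op V) x' - (t n).hom.app (op V) ((Pi.π F (n + 1)).hom.app (op V) x') = _
  rw [hx', hx', hx, sub_sub_cancel]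


/-- Milnor's sequence from a long exact sequence and the comparison with products. -/
theorem milnor_abs {G G' : ℕ → Type u} [∀ n, AddCommGroup (G n)] [∀ n, AddCommGroup (G' n)] {A A' M : Type u}
    [AddCommGroup A] [AddCommGroup A'] [AddCommGroup M] (t : ∀ n, G (n + 1) →+ G n) (t' : ∀ n, G' (n + 1) →+ G' n)
    (π : ∀ n, A →+ G n) (π' : ∀ n, A' →+ G' n) (hπ : Function.Bijective fun x n => π n x)
    (hπ' : Function.Bijective fun x n => π' n x) (d : A →+ A) (d' : A' →+ A')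
    (hd : ∀ x n, π n (d x) = π n x - t n (π (n + 1) x)) (hd' : ∀ x n, π' n (d' x) = π' n x - t' n (π' (n + 1) x))
    (δ : A →+ M) (f : M →+ A') (μ : ∀ n, M →+ G' n) (hμ : ∀ x n, π' n (f x) = μ n x)
    (e₁ : ∀ x, δ x = 0 ↔ ∃ y, d y = x) (e₂ : ∀ x, f x = 0 ↔ ∃ y, δ y = x) (e₃ : ∀ y, d' y = 0 ↔ ∃ x, f x = y) :
    ∃ (α : Formal2.limOne G t →+ M) (β : M →+ Formal2.limZero G' t'),
      Function.Injective α ∧ Function.Surjective β ∧ α.range = β.ker ∧ ∀ x n, (β x).1 n = μ n x := by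
  let e : A ≃+ (∀ n, G n) := AddEquiv.ofBijective (AddMonoidHom.mk' (fun x n => π n x)
    fun a b => funext fun n => map_add _ a b) hπ
  have he : ∀ v n, π n (e.symm v) = v n := fun v n => congrFun (e.apply_symm_apply v) n
  let q : M →+ (∀ n, G' n) := AddMonoidHom.mk' (fun x n => μ n x) fun a b => funext fun n => map_add _ a b
  have hq : ∀ x, q x = fun n => π' n (f x) := fun x => funext fun n => (hμ x n).symm
  refine milnor_alg t t' (δ.comp e.symm.toAddMonoidHom) q (fun x => ?_) (fun v => ?_) (fun x => ?_) fun y hy => ?_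
  · funext n
    rw [hq]
    exact (hd' (f x) n).symm.trans (by rw [(e₃ (f x)).2 ⟨x, rfl⟩, map_zero]; rfl)
  · refine (e₁ _).trans ⟨fun ⟨y, hy⟩ => ⟨e y, funext fun n => ?_⟩, fun ⟨w, hw⟩ => ⟨e.symm w, hπ.1 (funext fun n => ?_)⟩⟩
    · show π n y - t n (π (n + 1) y) = v n
      rw [← hd, hy]
      exact he v n
    · show π n (d (e.symm w)) = π n (e.symm v)
      rw [hd, he, he, he]
      exact congrFun hw n
  · refine Iff.trans ⟨fun hx => hπ'.1 ?_, fun hx => ?_⟩ ((e₂ x).trans ⟨fun ⟨y, hy⟩ => ⟨e y, ?_⟩, fun ⟨v, hv⟩ => ⟨_, hv⟩⟩)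
    · funext n
      show π' n (f x) = π' n 0
      rw [map_zero, hμ]
      exact congrFun hx n
    · rw [hq, hx]
      exact funext fun n => map_zero _
    · exact (congrArg δ (e.symm_apply_apply y)).trans hy
  · obtain ⟨z, hz⟩ := hπ'.2 y
    obtain ⟨x, hx⟩ := (e₃ z).1 (hπ'.1 (funext fun n => by
      show π' n (d' z) = π' n 0
      rw [hd', map_zero, show π' n z = y n from congrFun hz n, show π' (n + 1) z = y (n + 1) from congrFun hz (n + 1)]
      exact congrFun hy n))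
    exact ⟨x, by rw [hq, hx]; exact hz⟩

theorem H_map_eq_zero_iff {T : ShortComplex (CohTop.Ab X)} (hS : T.ShortExact) (p : ℕ) (x : CohTop.H T.X₁ (p + 1)) :
    Sheaf.H.map T.f (p + 1) x = 0 ↔ ∃ y, QCoh.Ab.connecting hS p y = x :=
  ⟨fun hx => Ext.covariant_sequence_exact₁ _ hS x hx (rfl : p + 1 = p + 1),
    fun ⟨y, hy⟩ => hy ▸ H_map_connecting_f hS p y⟩

theorem H_map_g_eq_zero_iff {T : ShortComplex (CohTop.Ab X)} (hS : T.ShortExact) (p : ℕ) (x : CohTop.H T.X₂ p) :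
    Sheaf.H.map T.g p x = 0 ↔ ∃ y, Sheaf.H.map T.f p y = x := by
  refine ⟨fun hx => Ext.covariant_sequence_exact₂ _ hS x hx, fun ⟨y, hy⟩ => ?_⟩
  subst hy
  simp only [Sheaf.H.map_apply]
  rw [Ext.comp_assoc_of_third_deg_zero, Ext.mk₀_comp_mk₀, T.zero, Ext.mk₀_zero, Ext.comp_zero]

theorem H_map_comp_eq {A C D : CohTop.Ab X} (f : A ⟶ C) (g : C ⟶ D) (h : A ⟶ D) (w : f ≫ g = h) (p : ℕ)
    (x : CohTop.H A p) : Sheaf.H.map g p (Sheaf.H.map f p x) = Sheaf.H.map h p x := by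
  subst w
  exact (Sheaf.H.map_comp_apply f g x).symm

/-- Milnor's exact sequence. -/
theorem milnor_sequence (hB : Opens.IsBasis {V | B V}) (F : ℕ → CohTop.Ab X) (t : ∀ n, F (n + 1) ⟶ F n)
    (hF : ∀ n, BasisVan B (F n)) (ht : ∀ V, B V → ∀ n, Function.Surjective ((t n).hom.app (op V)))
    {L : CohTop.Ab X} (π : ∀ n, L ⟶ F n) (hπ : ∀ n, π (n + 1) ≫ t n = π n)
    (hlim : ∀ (W : CohTop.Ab X) (k : ∀ n, W ⟶ F n), (∀ n, k (n + 1) ≫ t n = k n) →
      ∃! l : W ⟶ L, ∀ n, l ≫ π n = k n) (p : ℕ) :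
    ∃ (α : Formal2.limOne (fun n => CohTop.H (F n) p) (fun n => Sheaf.H.map (t n) p) →+ CohTop.H L (p + 1))
      (β : CohTop.H L (p + 1) →+
        Formal2.limZero (fun n => CohTop.H (F n) (p + 1)) (fun n => Sheaf.H.map (t n) (p + 1))),
      Function.Injective α ∧ Function.Surjective β ∧ α.range = β.ker ∧
      ∀ (x : CohTop.H L (p + 1)) (n : ℕ), (β x : ∀ n, CohTop.H (F n) (p + 1)) n = Sheaf.H.map (π n) (p + 1) x :=
  have hS := tower_shortExact hB F t ht π hπ hlim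
  milnor_abs (G := fun n => CohTop.H (F n) p) (G' := fun n => CohTop.H (F n) (p + 1))
    (fun n => Sheaf.H.map (t n) p) (fun n => Sheaf.H.map (t n) (p + 1))
    (fun n => Sheaf.H.map (Pi.π F n) p) (fun n => Sheaf.H.map (Pi.π F n) (p + 1))
    (bijective_H_pi hB p F hF) (bijective_H_pi hB (p + 1) F hF)
    (Sheaf.H.map (towerD F t) p) (Sheaf.H.map (towerD F t) (p + 1))
    (fun x n => H_map_sub_tower (G := ∏ᶜ F) F t p x n rfl) (fun x n => H_map_sub_tower (G := ∏ᶜ F) F t (p + 1) x n rfl)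
    (QCoh.Ab.connecting hS p) (Sheaf.H.map (Pi.lift π) (p + 1)) (fun n => Sheaf.H.map (π n) (p + 1))
    (fun x n => H_map_comp_eq _ _ _ (Pi.lift_π _ _) (p + 1) x)
    (QCoh.Ab.connecting_eq_zero_iff hS p) (H_map_eq_zero_iff hS p) (H_map_g_eq_zero_iff hS (p + 1))

end Groth.Agent.H9FCoh
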