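import Groth.Agent.H9FCoh.SecModel
import Groth.Agent.QCoh.Ab.Cartan
import Mathlib.Topology.Sheaves.SheafCondition.Sites

/-!
# Restriction of modules and models to open subspaces
-/

set_option autoImplicit false
set_option backward.isDefEq.respectTransparency false
set_option backward.isDefEq.respectTransparency.types false
set_option linter.style.haveILetI false

universe u

open CategoryTheory Opposite TopologicalSpace Topology
open Groth.Agent.RngSp (pt gm mp fns)
open Groth.Agent.ClosedRinged

noncomputable section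

namespace Groth.Agent.H9FCoh

variable {X Y : TopCat.{u}} {O : TopCat.Sheaf CommRingCat.{u} X} {O' : TopCat.Sheaf CommRingCat.{u} Y}
  {j : Y ⟶ X} (hj : IsOpenEmbedding j) (ψ : O'.obj ⟶ hj.functor.op ⋙ O.obj)

/-- The image functor on opens. -/
abbrev imF : Opens Y ⥤ Opens X := hj.functor

/-- The map of sheaves of rings underlying the restriction. -/
def rsPhi : ModSite.ringSh O' ⟶
    (haveI := hj.functor_isContinuous
     (imF hj).sheafPushforwardContinuous RingCat.{u} (Opens.grothendieckTopology Y)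
      (Opens.grothendieckTopology X)).obj (ModSite.ringSh O) :=
  ⟨Functor.whiskerRight ψ (forget₂ CommRingCat.{u} RingCat.{u})⟩

/-- The restriction of a module. -/
def rsMod (M : ModSite.Mod O) : ModSite.Mod O' :=
  haveI := hj.functor_isContinuous
  (SheafOfModules.pushforward (rsPhi hj ψ)).obj M

/-- The ring map on an open. -/
abbrev rsR (W : Opens Y) : Fn O' W →+* Fn O ((imF hj).obj W) := (ψ.app (op W)).hom

theorem rsR_rr {W W' : Opens Y} (h : W' ≤ W) (a : Fn O' W) :
    rsR hj ψ W' (rr O' h a) = rr O ((imF hj).map (homOfLE h)).le (rsR hj ψ W a) :=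
  congr($(ψ.naturality (homOfLE h).op) a)

theorem pv_rsR_rr {W W' : Opens Y} (h : W' ≤ W) {ι : Type u} (v : ι →₀ Fn O' W) :
    pv (rsR hj ψ W') (pv (rr O' h) v) = pv (rr O ((imF hj).map (homOfLE h)).le) (pv (rsR hj ψ W) v) := by
  ext i; exact rsR_rr hj ψ h (v i)

variable (M : ModSite.Mod O)

theorem cmb_rsMod {W : Opens Y} {ι : Type u} (t : ι → (rsMod hj ψ M).val.obj (op W)) (v : ι →₀ Fn O' W) :
    (show M.val.obj (op ((imF hj).obj W)) from cmb (O := O') (M := rsMod hj ψ M) t v) =
      cmb (fun i => (show M.val.obj (op ((imF hj).obj W)) from t i)) (pv (rsR hj ψ W) v) := by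
  exact (Finsupp.sum_mapRange_index (g := v) (f := (rsR hj ψ W : _ → _)) (hf := map_zero _)
    (h := fun i a => (show fns O ((imF hj).obj W) from a) • (show M.val.obj (op ((imF hj).obj W)) from t i))
    fun i => zero_smul (fns O _) _).symm

theorem image_le {U : Opens X} {W : Opens Y} (h : W ≤ (Opens.map j).obj U) : (imF hj).obj W ≤ U := by
  rintro _ ⟨y, hy, rfl⟩
  exact h hy

theorem preimage_le {U : Opens X} {W : Opens Y} (h : (imF hj).obj W ≤ U) : W ≤ (Opens.map j).obj U :=
  fun y hy => h ⟨y, hy, rfl⟩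

/-- Restrictions of models. -/
theorem SecModel.rsMod {U : Opens Y} {ι : Type u} {t : ι → M.val.obj (op ((imF hj).obj U))}
    (hψ : ∀ W, Function.Bijective (rsR hj ψ W))
    {N : Submodule (Fn O ((imF hj).obj U)) (ι →₀ Fn O ((imF hj).obj U))} (h : SecModel M ((imF hj).obj U) t N) :
    SecModel (rsMod hj ψ M) U (show ι → (rsMod hj ψ M).val.obj (op U) from t)
      (Submodule.span (Fn O' U) {n | pv (rsR hj ψ U) n ∈ N}) where
  gen W z x hxW hxU := by
    obtain ⟨V, hVW, hVU, hxV, v, hv⟩ := h.gen ((imF hj).obj W) z (j x) ⟨x, hxW, rfl⟩ ⟨x, hxU, rfl⟩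
    let V' : Opens Y := (Opens.map j).obj V
    have e : (imF hj).obj V' ≤ V := image_le hj le_rfl
    have hinj : ∀ {A B : Opens Y}, (imF hj).obj A ≤ (imF hj).obj B → A ≤ B := fun {A B} h y hy => by
      obtain ⟨y', hy', e⟩ := h ⟨y, hy, rfl⟩
      rwa [hj.injective e] at hy'
    choose b hb using fun a => (hψ V').2 a
    classical
    refine ⟨V', hinj (e.trans hVW), hinj (e.trans hVU), hxV,
      Finsupp.onFinset v.support (fun i => if v i = 0 then 0 else b (rr O e (v i)))
        (fun i hi => by
          by_contra h'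
          exact hi (if_pos (Finsupp.notMem_support_iff.1 h'))), ?_⟩
    refine (cmb_rsMod hj ψ M _ _).trans ?_
    have e1 : pv (rsR hj ψ V') (Finsupp.onFinset v.support (fun i => if v i = 0 then 0 else b (rr O e (v i)))
        (fun i hi => by
          by_contra h'
          exact hi (if_pos (Finsupp.notMem_support_iff.1 h')))) = pv (rr O e) v := by
      ext i
      simp only [pv_apply, Finsupp.onFinset_apply]
      split
      · next h0 => rw [h0, map_zero, map_zero]
      · exact hb _
    rw [e1]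
    refine Eq.trans ?_ ((congrArg (res M e) hv).trans (res_res M hVW e z))
    refine eq_of_gm fun y hy => ?_
    rw [gm_cmb, pv_gH_rr, RngSp.gm_res, gm_cmb_res]
    exact congrArg (fun q => gcmb q (pv (gH O (e hy)) v)) (funext fun i => RngSp.gm_res (M := M) _ hy (t i))
  kill n hn := by
    refine (cmb_rsMod hj ψ M _ _).trans (h.kill _ ?_)
    induction hn using Submodule.span_induction with
    | mem a ha => exact ha
    | zero => rw [pv_zero]; exact zero_mem _
    | add a b _ _ ha hb => rw [pv_add]; exact add_mem ha hb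
    | smul c a _ ha => rw [pv_smul]; exact N.smul_mem _ ha
  rel V hVU v hv x hx := by
    have hv' := (cmb_rsMod hj ψ M _ v).symm.trans hv
    obtain ⟨W, hW, hxW, hm⟩ := h.rel _ ((imF hj).map (homOfLE hVU)).le _ hv' (j x) ⟨x, hx, rfl⟩
    let W' : Opens Y := (Opens.map j).obj W
    have e : (imF hj).obj W' ≤ W := image_le hj le_rfl
    have hW' : W' ≤ V := fun y hy => by
      obtain ⟨y', hy', e'⟩ := hW hy
      rwa [hj.injective e'] at hy'
    refine ⟨W', hW', hxW, ?_⟩
    have h1 := pv_mem_comp _ (rr O e) hm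
    rw [pv_rr, rr_comp] at h1
    rw [show pv (rr O (e.trans hW)) (pv (rsR hj ψ V) v) = pv (rsR hj ψ W') (pv (rr O' hW') v) from
      (pv_rsR_rr hj ψ hW' v).symm] at h1
    obtain ⟨k, c, n, hn, he⟩ := exists_sum_of_mem_pN _ h1
    choose c' hc' using fun l => (hψ W').2 (c l)
    classical
    choose b hb using fun a => (hψ U).2 a
    let n' : Fin k → ι →₀ Fn O' U := fun l => Finsupp.onFinset (n l).support
      (fun i => if n l i = 0 then 0 else b (n l i)) (fun i hi => by
        by_contra h'
        exact hi (if_pos (Finsupp.notMem_support_iff.1 h')))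
    have hn' : ∀ l, pv (rsR hj ψ U) (n' l) = n l := fun l => by
      ext i
      simp only [n', pv_apply, Finsupp.onFinset_apply]
      split
      · next h0 => rw [h0, map_zero]
      · exact hb _
    have e2 : pv (rr O' hW') v = ∑ l, c' l • pv (rr O' (hW'.trans hVU)) (n' l) := by
      refine Finsupp.ext fun i => (hψ W').1 ?_
      have h2 := DFunLike.congr_fun he.symm i
      simp only [pv_apply, Finsupp.finsetSum_apply, Finsupp.smul_apply, map_sum, smul_eq_mul, map_mul, hc',
        rsR_rr] at h2 ⊢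
      rw [h2]
      refine Finset.sum_congr rfl fun l _ => ?_
      rw [← pv_apply (rsR hj ψ U) (n' l) i, hn']
    rw [e2]
    exact Submodule.sum_mem _ fun l _ => Submodule.smul_mem _ _
      (pv_mem_pN _ (Submodule.subset_span (show pv (rsR hj ψ U) (n' l) ∈ N by rw [hn']; exact hn l)))

/-- Acyclicity is tested on the open subspace. -/
theorem acyclic_of_rsMod {ι : Type u} {U : ι → Opens X} (hU : ∀ i, U i ≤ (imF hj).obj ⊤)
    (h : QCoh.Ab.Acyclic (ModSite.toAb (rsMod hj ψ M)).obj fun i => (Opens.map j).obj (U i)) :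
    QCoh.Ab.Acyclic (ModSite.toAb M).obj U := by
  intro p c hcn hdc
  let U' : ι → Opens Y := fun i => (Opens.map j).obj (U i)
  have hback : ∀ {q : ℕ} (τ : Fin (q + 1) → ι) {W : Opens X}, QCoh.Ab.Le U τ W →
      W ≤ (imF hj).obj ((Opens.map j).obj W) := fun τ W hW z hz => by
    obtain ⟨y, -, rfl⟩ := hU _ (hW 0 hz)
    exact ⟨y, hz, rfl⟩
  let c' : QCoh.Ab.Cochain (ModSite.toAb (rsMod hj ψ M)).obj U' (p + 2) := fun σ W =>
    c σ ⟨(imF hj).obj W.1, fun a => image_le hj (W.2 a)⟩
  obtain ⟨e, hen, hed⟩ := h p c' (fun σ W W' hW hW' i => hcn σ _ _ _ _ ((imF hj).map i))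
    (funext₂ fun σ W => congrFun (congrFun hdc σ) ⟨(imF hj).obj W.1, fun a => image_le hj (W.2 a)⟩)
  refine ⟨fun τ W => (ModSite.toAb M).obj.map (homOfLE (hback τ W.2)).op
    (e τ ⟨(Opens.map j).obj W.1, fun a => ((Opens.map j).map (homOfLE (W.2 a))).le⟩), ?_, ?_⟩
  · intro τ W W' hW hW' i
    have := hen τ _ ((Opens.map j).obj W') (fun a => ((Opens.map j).map (homOfLE (hW a))).le)
      (fun a => ((Opens.map j).map (homOfLE (hW' a))).le) ((Opens.map j).map i)
    refine Eq.trans ?_ (congrArg ((ModSite.toAb M).obj.map (homOfLE (hback τ hW')).op) this)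
    exact (congr($(((ModSite.toAb M).obj.map_comp (homOfLE (hback τ hW)).op i.op).symm) _)).trans
      (congr($((ModSite.toAb M).obj.map_comp ((imF hj).map ((Opens.map j).map i)).op
        (homOfLE (hback τ hW')).op) _))
  · funext σ W
    have h1 := congrArg ((ModSite.toAb M).obj.map (homOfLE (hback σ W.2)).op)
      (congrFun (congrFun hed σ) ⟨(Opens.map j).obj W.1, fun a => ((Opens.map j).map (homOfLE (W.2 a))).le⟩)
    refine Eq.trans ?_ (h1.trans (hcn σ _ W.1 _ W.2 (homOfLE (hback σ W.2))))
    simp only [QCoh.Ab.d, map_sum, map_zsmul]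

end Groth.Agent.H9FCoh
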