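import Groth.Agent.H9FCoh.Vanish
import Groth.Agent.H9FCoh.OpenRestr
import Groth.Agent.H9FCoh.FinPush
import Groth.Agent.FComplLib.Restrict

/-!
# Modules with models on affine opens are Cech acyclic there
-/

set_option autoImplicit false
set_option backward.isDefEq.respectTransparency false
set_option backward.isDefEq.respectTransparency.types false
set_option linter.style.haveILetI false

universe u

open CategoryTheory CategoryTheory.Limits AlgebraicGeometry TopologicalSpace Opposite Topology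
open Groth.Agent.ClosedRinged
open Groth.Agent.RngSp (pt gm mp fns)

noncomputable section

namespace Groth.Agent.H9FCoh

variable {𝔛 : FSch.Sys.{u}} (h : 𝔛.IsLocNoethFormal) (V : (𝔛.X 0).Opens)

/-- The formal scheme on an open. -/
abbrev oS : FSch.Sys.{u} := 𝔛.restrictOpen h.1 V

theorem isLNF_oS : (oS h V).IsLocNoethFormal :=
  haveI := FComplLib.isLocallyNoetherian_restrictOpen_zero 𝔛 h.1 V (h.2.2 0)
  FComplLib.isLocNoethFormal_of_isAdicHom (FComplLib.isAdicHom_restrictOpenι 𝔛 h.1 V) h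

/-- The inclusion of the open. -/
abbrev oι : oS h V ⟶ 𝔛 := 𝔛.restrictOpenι h.1 V

theorem lvU_zero : 𝔛.lvU h.1 0 V = V := by
  have := 𝔛.toX_base_gInv h.1 0
  change (Opens.map ((𝔛.toX 0).base ≫ 𝔛.gInv h.1 0)).obj V = V
  rw [this]
  rfl

theorem isOpenEmbedding_oι : IsOpenEmbedding (fl (oι h V) 0).base :=
  (𝔛.lvU h.1 0 V).ι.isOpenEmbedding

theorem imF_top : (imF (isOpenEmbedding_oι h V)).obj ⊤ = V := by
  refine Eq.trans ?_ (lvU_zero h V)
  exact (Scheme.Hom.image_top_eq_opensRange _).trans (Scheme.Opens.opensRange_ι _)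

theorem imF_le (W : ((oS h V).X 0).Opens) : (imF (isOpenEmbedding_oι h V)).obj W ≤ V :=
  (((imF (isOpenEmbedding_oι h V)).map (homOfLE (show W ≤ ⊤ from le_top))).le).trans (imF_top h V).le

theorem bijective_lp (k : ℕ) {W : (𝔛.X 0).Opens} (hW : W ≤ V) :
    Function.Bijective (lp (isLNF_oS h V) h (oι h V) k W) := by
  haveI : IsOpenImmersion (fl (oι h V) k) := inferInstanceAs (IsOpenImmersion (𝔛.lvU h.1 k V).ι)
  have hr : 𝔛.lvU h.1 k W ≤ (fl (oι h V) k).opensRange := by
    refine (lvU_mono h k hW).trans (le_of_eq ?_)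
    exact (Scheme.Opens.opensRange_ι _).symm
  haveI := Scheme.Hom.isIso_app (fl (oι h V) k) _ hr
  have hb := ConcreteCategory.bijective_of_isIso ((fl (oι h V) k).app (𝔛.lvU h.1 k W))
  have hb' := bijective_map_eq (Y := (oS h V).X k) (FSch.Hom.lvU_preimage (oι h V) (isLNF_oS h V).1 h.1 k W).symm
  exact hb'.comp hb

theorem tr_lp (k : ℕ) (W : (𝔛.X 0).Opens) (a : On h (k + 1) W) :
    tr (isLNF_oS h V) k (fU (oι h V) W) (lp (isLNF_oS h V) h (oι h V) (k + 1) W a) =
      lp (isLNF_oS h V) h (oι h V) k W (tr h k W a) :=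
  (congrArg (fun q => (q.hom.app (op W)).hom a)
    (FSch.Hom.levelMap_levelPush (oι h V) (isLNF_oS h V).1 h.1 k)).symm

theorem bijective_shF {W : (𝔛.X 0).Opens} (hW : W ≤ V) :
    Function.Bijective (shF (isLNF_oS h V) h (oι h V) W) := by
  refine ⟨fun a b hab => pr_ext h fun k => (bijective_lp h V k hW).1 ?_, fun b => ?_⟩
  · rw [← pr_shF, ← pr_shF, hab]
  · choose y hy using fun k => (bijective_lp h V k hW).2 (pr (isLNF_oS h V) k _ b)
    obtain ⟨a, ha⟩ := pr_lift h y fun k => (bijective_lp h V k hW).1 (by rw [← tr_lp, hy, hy, tr_pr])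
    exact ⟨a, pr_ext (isLNF_oS h V) fun k => by rw [pr_shF, ha, hy]⟩

/-- The comparison of structure sheaves. -/
def oθ : (imF (isOpenEmbedding_oι h V)).op ⋙ (𝔛.Osh h.1).obj ⟶ ((oS h V).Osh (isLNF_oS h V).1).obj where
  app W := (FSch.Hom.sharp (oι h V) (isLNF_oS h V).1 h.1).hom.app (op ((imF (isOpenEmbedding_oι h V)).obj W.unop)) ≫
    ((oS h V).Osh (isLNF_oS h V).1).obj.map (homOfLE (show W.unop ≤ fU (oι h V) ((imF (isOpenEmbedding_oι h V)).obj W.unop)
      from fun y hy => ⟨y, hy, rfl⟩)).op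
  naturality W W' g := by
    have hn := (FSch.Hom.sharp (oι h V) (isLNF_oS h V).1 h.1).hom.naturality ((imF (isOpenEmbedding_oι h V)).map g.unop).op
    change (𝔛.Osh h.1).obj.map _ ≫ _ ≫ _ = _
    rw [← Category.assoc]
    refine (congrArg (· ≫ _) hn).trans ?_
    rw [Category.assoc, Category.assoc]
    congr 1
    exact ((((oS h V).Osh (isLNF_oS h V).1).obj.map_comp _ _).symm.trans
      (congrArg _ (Subsingleton.elim _ _))).trans (((oS h V).Osh (isLNF_oS h V).1).obj.map_comp _ _)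

theorem bijective_oθ (W : ((oS h V).X 0).Opens) : Function.Bijective ((oθ h V).app (op W)) := by
  have e : fU (oι h V) ((imF (isOpenEmbedding_oι h V)).obj W) = W :=
    Opens.ext (Set.preimage_image_eq _ (isOpenEmbedding_oι h V).injective)
  have key : ∀ (A : ((oS h V).X 0).Opens) (hA : W ≤ A), A = W →
      Function.Bijective (((oS h V).Osh (isLNF_oS h V).1).obj.map (homOfLE hA).op) := by
    intro A hA hAW
    subst hAW
    rw [Subsingleton.elim (homOfLE hA) (𝟙 A), op_id, CategoryTheory.Functor.map_id]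
    exact Function.bijective_id
  exact (key (fU (oι h V) ((imF (isOpenEmbedding_oι h V)).obj W)) (fun y hy => ⟨y, hy, rfl⟩) e).comp (bijective_shF h V (imF_le h V W))

instance isIso_oθ : IsIso (oθ h V) := by
  haveI : ∀ W, IsIso ((oθ h V).app W) := fun W => (ConcreteCategory.isIso_iff_bijective _).2 (bijective_oθ h V W.unop)
  exact NatIso.isIso_of_isIso_app _

/-- The comparison map. -/
def oψ : ((oS h V).Osh (isLNF_oS h V).1).obj ⟶ (imF (isOpenEmbedding_oι h V)).op ⋙ (𝔛.Osh h.1).obj :=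
  inv (oθ h V)

theorem bijective_oψ (W : ((oS h V).X 0).Opens) :
    Function.Bijective (rsR (isOpenEmbedding_oι h V) (oψ h V) W) :=
  haveI : IsIso ((oψ h V).app (op W)) := by unfold oψ; infer_instance
  ConcreteCategory.bijective_of_isIso ((oψ h V).app (op W))

/-- The restriction of a module to an open. -/
abbrev oMod (M : FSch.ModF 𝔛 h.1) : FSch.ModF (oS h V) (isLNF_oS h V).1 :=
  rsMod (isOpenEmbedding_oι h V) (oψ h V) M

theorem exists_model_oMod (M : FSch.ModF 𝔛 h.1) {ι : Type u} {t : ι → M.val.obj (op V)}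
    {N : Submodule (Ox h V) (ι →₀ Ox h V)} (hm : IsModel M V t N) :
    ∃ (t' : ι → (oMod h V M).val.obj (op ⊤))
      (N' : Submodule (Ox (isLNF_oS h V) ⊤) (ι →₀ Ox (isLNF_oS h V) ⊤)), IsModel (oMod h V M) ⊤ t' N' := by
  have e := imF_top h V
  exact ⟨_, _, (SecModel.rsMod (isOpenEmbedding_oι h V) (oψ h V) M (U := ⊤) (bijective_oψ h V)
    (hm.mono e.le).secModel).isModel⟩

/-- Modules with models on an affine open are acyclic for standard covers inside. -/
theorem acyclic_of_isModel (M : FSch.ModF 𝔛 h.1) (hV : IsAffineOpen V) {ι : Type u} {t : ι → M.val.obj (op V)}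
    {N : Submodule (Ox h V) (ι →₀ Ox h V)} (hm : IsModel M V t N) {W : (𝔛.X 0).Opens} (hWV : W ≤ V)
    {κ : Type u} {U : κ → (𝔛.X 0).Opens} (hU : (QCoh.stdCovers (𝔛.X 0)).Cov W U) :
    QCoh.Ab.Acyclic (abF h M).presheaf U := by
  obtain ⟨t', N', hm'⟩ := exists_model_oMod h V M hm
  obtain ⟨J, hJ, hJf, pres, hP⟩ := ind_of_model (good (isLNF_oS h V)) hm'
  refine acyclic_of_rsMod (isOpenEmbedding_oι h V) (oψ h V) M
    (fun i => ((QCoh.stdCovers (𝔛.X 0)).le hU i).trans (hWV.trans (imF_top h V).ge)) ?_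
  obtain ⟨hW, hκ, f, hf, hfU⟩ := hU
  haveI : IsOpenImmersion (fl (oι h V) 0) := inferInstanceAs (IsOpenImmersion (𝔛.lvU h.1 0 V).ι)
  have hW' : IsAffineOpen (fl (oι h V) 0 ⁻¹ᵁ W) := by
    refine hW.preimage_of_isOpenImmersion _ ?_
    exact (hWV.trans (lvU_zero h V).ge).trans (Scheme.Opens.opensRange_ι _).ge
  refine acyclic_ind (isLNF_oS h V) (V := fl (oι h V) 0 ⁻¹ᵁ W) ⟨hW', hκ,
    fun i => (fl (oι h V) 0).app W (f i), ?_, fun i => ?_⟩ pres.isColimit hP
  · rw [show (Set.range fun i => (fl (oι h V) 0).app W (f i)) = ((fl (oι h V) 0).app W).hom '' Set.range f from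
      (Set.range_comp _ _), ← Ideal.map_span, hf, Ideal.map_top]
  · rw [hfU i]
    exact Scheme.preimage_basicOpen _ _

end Groth.Agent.H9FCoh
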