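import Groth.Agent.H9FCoh.PullEpi
import Groth.Agent.H9FCoh.Lin2

/-!
# Injective and surjective maps of coherent modules form open subsets
-/

set_option autoImplicit false
set_option backward.isDefEq.respectTransparency false
set_option backward.isDefEq.respectTransparency.types false
set_option linter.style.haveILetI false

universe u

open CategoryTheory CategoryTheory.Limits AlgebraicGeometry Opposite TopologicalSpace
open Groth.Agent.ClosedRinged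
open Groth.Agent.RngSp (pt gm mp fns)

noncomputable section

namespace Groth.Agent.H9FCoh

/-- Small perturbations of an injective map of finite modules are injective. -/
theorem exists_comap_le {A : Type u} [CommRing A] [IsNoetherianRing A] (I : Ideal A) (hI : I ≤ Ideal.jacobson ⊥)
    {ι κ : Type u} [Finite ι] [Finite κ] (N : Submodule A (ι →₀ A)) (N' : Submodule A (κ →₀ A))
    (c₀ : ι → κ →₀ A) (h₀ : N'.comap (Finsupp.linearCombination A c₀) = N) :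
    ∃ k, ∀ n ≥ k, ∀ c₁ : ι → κ →₀ A, N ≤ N'.comap (Finsupp.linearCombination A c₁) →
      (∀ i, c₁ i ∈ N' ⊔ I ^ (n + 1) • ⊤) → N'.comap (Finsupp.linearCombination A fun i => c₀ i + c₁ i) ≤ N := by
  let a := N'.mkQ ∘ₗ Finsupp.linearCombination A c₀
  obtain ⟨k, hk⟩ := I.exists_pow_inf_eq_pow_smul (LinearMap.range a)
  refine ⟨k, fun n hn c₁ hN hc x hx => ?_⟩
  let b := N'.mkQ ∘ₗ Finsupp.linearCombination A c₁
  have ha : LinearMap.ker a = N := by rw [LinearMap.ker_comp, Submodule.ker_mkQ, h₀]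
  have hb : N ≤ LinearMap.ker b := by rw [LinearMap.ker_comp, Submodule.ker_mkQ]; exact hN
  have hbI : ∀ y, b y ∈ (I ^ (n + 1) • ⊤ : Submodule A ((κ →₀ A) ⧸ N')) := fun y => by
    refine (Submodule.span_le.2 ?_ : Submodule.span A (Set.range c₁) ≤
      (I ^ (n + 1) • ⊤ : Submodule A ((κ →₀ A) ⧸ N')).comap N'.mkQ) ?_
    · rintro _ ⟨i, rfl⟩
      obtain ⟨p, hp, q, hq, e⟩ := Submodule.mem_sup.1 (hc i)
      rw [SetLike.mem_coe, Submodule.mem_comap, ← e, map_add, Submodule.mkQ_apply,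
        (Submodule.Quotient.mk_eq_zero N').2 hp, zero_add]
      have h1 : N'.mkQ q ∈ (I ^ (n + 1) • ⊤ : Submodule A (κ →₀ A)).map N'.mkQ := Submodule.mem_map_of_mem hq
      rw [Submodule.map_smul''] at h1
      exact Submodule.smul_mono le_rfl le_top h1
    · rw [← Finsupp.range_linearCombination]
      exact ⟨y, rfl⟩
  have hx' : a x + b x = 0 := by
    have h1 : N'.mkQ (Finsupp.linearCombination A (fun i => c₀ i + c₁ i) x) = 0 :=
      (Submodule.Quotient.mk_eq_zero N').2 hx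
    rw [Finsupp.linearCombination_apply] at h1
    simp only [smul_add, Finsupp.sum_add, map_add] at h1
    rw [← Finsupp.linearCombination_apply, ← Finsupp.linearCombination_apply] at h1
    exact h1
  have step : ∀ j, x ∈ N ⊔ I ^ j • ⊤ := by
    intro j
    induction j with
    | zero => rw [pow_zero, Ideal.one_eq_top, Submodule.top_smul]; exact Submodule.mem_sup_right trivial
    | succ j ih =>
      obtain ⟨p, hp, q, hq, e⟩ := Submodule.mem_sup.1 ih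
      have hbx : b x ∈ (I ^ (j + (n + 1)) • ⊤ : Submodule A ((κ →₀ A) ⧸ N')) := by
        rw [← e, map_add, hb hp, zero_add, pow_add, Submodule.mul_smul]
        have h1 : b q ∈ (I ^ j • ⊤ : Submodule A (ι →₀ A)).map b := Submodule.mem_map_of_mem hq
        rw [Submodule.map_smul''] at h1
        exact Submodule.smul_mono le_rfl (by rintro _ ⟨y, -, rfl⟩; exact hbI y) h1
      have hax : a x ∈ I ^ (j + (n + 1)) • (⊤ : Submodule A ((κ →₀ A) ⧸ N')) ⊓ LinearMap.range a := by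
        refine ⟨?_, ⟨x, rfl⟩⟩
        rw [eq_neg_of_add_eq_zero_left hx']
        exact neg_mem hbx
      rw [hk (j + (n + 1)) (by omega)] at hax
      have h2 : a x ∈ I ^ (j + 1) • LinearMap.range a :=
        Submodule.smul_mono (Ideal.pow_le_pow_right (by omega)) inf_le_right hax
      rw [← Submodule.map_top a, ← Submodule.map_smul''] at h2
      obtain ⟨y, hy, hay⟩ := h2
      refine Submodule.mem_sup.2 ⟨x - y, ?_, y, hy, sub_add_cancel x y⟩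
      rw [← ha, LinearMap.mem_ker, map_sub, hay, sub_self]
  exact mem_of_forall_mem_sup I hI N x fun m => step (m + 1)

theorem mp_add {X : TopCat.{u}} {O : TopCat.Sheaf CommRingCat.{u} X} {M M' : ModSite.Mod O} (f g : M ⟶ M')
    (U : Opens X) (z : M.val.obj (op U)) : mp (f + g) U z = mp f U z + mp g U z :=
  rfl

variable {𝔛 : FSch.Sys.{u}} (h : 𝔛.IsLocNoethFormal) {𝔉 𝔊 : FSch.ModF 𝔛 h.1}

theorem pull_map_eq_zero (n : ℕ) (ψ : 𝔉 ⟶ 𝔊) (hψ : ψ ≫ (FSch.levelMor 𝔛 h.1 n).adj.unit.app 𝔊 = 0)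
    {U : (𝔛.X 0).Opens} (z : 𝔉.val.obj (op U)) : puL h n 𝔊 (mp ψ U z) = 0 :=
  congrArg (fun q => mp q U z) hψ

theorem unit_zero_of_unit (n : ℕ) (ψ : 𝔉 ⟶ 𝔊) (hψ : ψ ≫ (FSch.levelMor 𝔛 h.1 n).adj.unit.app 𝔊 = 0) :
    ψ ≫ (FSch.levelMor 𝔛 h.1 0).adj.unit.app 𝔊 = 0 := by
  induction n with
  | zero => exact hψ
  | succ n ih =>
    refine ih ?_
    rw [← FSch.unit_levelTrans 𝔛 h.1 𝔊 n, ← Category.assoc, hψ, zero_comp]

theorem epi_add (h𝔉 : FSch.IsCohF 𝔛 h.1 𝔉) (h𝔊 : FSch.IsCohF 𝔛 h.1 𝔊) (θ ψ : 𝔉 ⟶ 𝔊) [Epi θ] (n : ℕ)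
    (hψ : ψ ≫ (FSch.levelMor 𝔛 h.1 n).adj.unit.app 𝔊 = 0) : Epi (θ + ψ) := by
  haveI : ((FSch.levelMor 𝔛 h.1 0).pull).Additive := (FSch.levelMor 𝔛 h.1 0).adj.left_adjoint_additive
  haveI := (FSch.levelMor 𝔛 h.1 0).adj.isLeftAdjoint
  have h0 : (FSch.levelMor 𝔛 h.1 0).pull.map ψ = 0 := by
    refine ((FSch.levelMor 𝔛 h.1 0).adj.homEquiv _ _).injective ?_
    rw [Adjunction.homEquiv_unit, Adjunction.homEquiv_unit, Functor.map_zero, comp_zero]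
    exact ((FSch.levelMor 𝔛 h.1 0).adj.unit.naturality ψ).symm.trans (unit_zero_of_unit h n ψ hψ)
  haveI : Epi ((FSch.levelMor 𝔛 h.1 0).pull.map (θ + ψ)) := by
    rw [Functor.map_add, h0, add_zero]
    exact inferInstance
  exact epi_of_epi_pull h 𝔉 𝔊 h𝔉 h𝔊 (θ + ψ)

/-- The local statement. -/
theorem exists_bound_local (h𝔉 : FSch.IsCohF 𝔛 h.1 𝔉) (h𝔊 : FSch.IsCohF 𝔛 h.1 𝔊) (θ : 𝔉 ⟶ 𝔊) [Mono θ]
    (x : (𝔛.X 0 : Scheme.{u})) : ∃ (U : (𝔛.X 0).Opens) (_ : x ∈ U) (k : ℕ), ∀ n ≥ k, ∀ ψ : 𝔉 ⟶ 𝔊,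
      ψ ≫ (FSch.levelMor 𝔛 h.1 n).adj.unit.app 𝔊 = 0 →
        ∀ y (_ : y ∈ U), Function.Injective (fx (θ + ψ) y) := by
  obtain ⟨U₁, hU₁, -, ι, hι, t, N, hxU₁, hm⟩ := exists_finite_model (good h) (isQC_of_isFP h𝔉) (isFT_of_isFP h𝔉)
    (show x ∈ (⊤ : (𝔛.X 0).Opens) from trivial)
  obtain ⟨U, hU, hUU₁, κ, hκ, t', N', hxU, hm'⟩ :=
    exists_finite_model (good h) (isQC_of_isFP h𝔊) (isFT_of_isFP h𝔊) hxU₁
  have hmU := hm.mono hUU₁
  haveI := isNoetherianRing_Ox h hU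
  haveI := isAdicComplete_Ox h hU
  haveI : ∀ n, IsLocallyNoetherian (𝔛.X n) := h.2.2
  have hcolN : ∀ (φ : 𝔉 ⟶ 𝔊) (col : ι → κ →₀ Ox h U),
      (∀ i, cmb (O := 𝔛.Osh h.1) t' (col i) = mp φ U (res 𝔉 hUU₁ (t i))) →
      ∀ v, mp φ U (cmb (O := 𝔛.Osh h.1) (fun i => res 𝔉 hUU₁ (t i)) v) =
        cmb (O := 𝔛.Osh h.1) t' (Finsupp.linearCombination (Ox h U) col v) := fun φ col hcol v =>
    eq_of_gm fun y hy => by rw [← fx_gm, gm_cmb, gm_cmb, fx_model φ (fun i => (hcol i).symm), colMap_pv]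
  choose c₀ hc₀ using fun i => hm'.exists_cmb (good h) hU (mp θ U (res 𝔉 hUU₁ (t i)))
  have h₀ : N'.comap (Finsupp.linearCombination (Ox h U) c₀) = pN (rr (𝔛.Osh h.1) hUU₁) N := by
    refine SetLike.ext fun v => ?_
    rw [Submodule.mem_comap, ← hm'.cmb_eq_zero_iff (good h) hU, ← hcolN θ c₀ hc₀,
      ← hmU.cmb_eq_zero_iff (good h) hU]
    exact ⟨fun h0 => ModPull.app_injective θ (op U) (h0.trans (map_zero (mp θ U)).symm),
      fun h0 => (congrArg (mp θ U) h0).trans (map_zero (mp θ U))⟩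
  obtain ⟨k, hk⟩ := exists_comap_le (J h U) (IsAdicComplete.le_jacobson_bot _) _ N' c₀ h₀
  refine ⟨U, hxU, k, fun n hn ψ hψ y hy => ?_⟩
  choose c₁ hc₁ using fun i => hm'.exists_cmb (good h) hU (mp ψ U (res 𝔉 hUU₁ (t i)))
  have h₁ : pN (rr (𝔛.Osh h.1) hUU₁) N ≤ N'.comap (Finsupp.linearCombination (Ox h U) c₁) := fun v hv => by
    rw [Submodule.mem_comap, ← hm'.cmb_eq_zero_iff (good h) hU, ← hcolN ψ c₁ hc₁,
      (hmU.cmb_eq_zero_iff (good h) hU).2 hv, map_zero]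
  have h₂ : ∀ i, c₁ i ∈ N' ⊔ J h U ^ (n + 1) • ⊤ := fun i => by
    rw [← ker_pr h hU n]
    refine mem_pN_of_surjective _ (pr_surjective h hU n) ?_
    refine ((isModel_lvP h n hm').cmb_eq_zero_iff (schGood (𝔛.X n)) (affine_lvU h hU n)).1 ?_
    refine (puSec_cmb (𝔛.gInv h.1 n) (𝔛.OshProj h.1 n) 𝔊 t' (c₁ i)).symm.trans ?_
    rw [hc₁]
    exact pull_map_eq_zero h n ψ hψ _
  have hc : ∀ i, mp (θ + ψ) U (res 𝔉 hUU₁ (t i)) = cmb (O := 𝔛.Osh h.1) t' (c₀ i + c₁ i) := fun i =>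
    eq_of_gm fun z hz => by
      rw [mp_add, RngSp.gm_add, ← hc₀, ← hc₁, gm_cmb, gm_cmb, gm_cmb, pv_add, map_add]
  rw [injective_iff_map_eq_zero]
  intro z hz
  obtain ⟨w, rfl⟩ := hmU.gen y hy z
  rw [fx_model (θ + ψ) hc hy, hm'.rel y hy] at hz
  rw [hmU.rel y hy]
  exact (Submodule.span_mono (Set.image_mono (hk n hn c₁ h₁ h₂)) : pN (gH (𝔛.Osh h.1) hy) _ ≤ _)
    (mem_pN_comap_col _ ((good h).flat U hU y hy) _ hz)

theorem exists_level_mono_epi [CompactSpace (𝔛.X 0)] (h𝔉 : FSch.IsCohF 𝔛 h.1 𝔉)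
    (h𝔊 : FSch.IsCohF 𝔛 h.1 𝔊) (θ : 𝔉 ⟶ 𝔊) :
    ∃ n : ℕ, ∀ ψ : 𝔉 ⟶ 𝔊, ψ ≫ (FSch.levelMor 𝔛 h.1 n).adj.unit.app 𝔊 = 0 →
      (Mono θ → Mono (θ + ψ)) ∧ (Epi θ → Epi (θ + ψ)) := by
  by_cases hθ : Mono θ
  · choose U hxU k hk using exists_bound_local h h𝔉 h𝔊 θ
    obtain ⟨s, hs⟩ := isCompact_univ.elim_finite_subcover (fun x => ((U x : (𝔛.X 0).Opens) : Set (𝔛.X 0)))
      (fun x => (U x).2) fun x _ => Set.mem_iUnion.2 ⟨x, hxU x⟩
    refine ⟨s.sup k, fun ψ hψ => ⟨fun _ => ModPull.mono_of_app_eq_zero _ fun W z hz => eq_of_gm fun y hy => ?_,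
      fun _ => epi_add h h𝔉 h𝔊 θ ψ _ hψ⟩⟩
    obtain ⟨x, hxs, hyx⟩ := Set.mem_iUnion₂.1 (hs (Set.mem_univ y))
    refine hk x _ (Finset.le_sup hxs) ψ hψ y hyx ?_
    rw [fx_gm, RngSp.gm_zero, map_zero]
    exact (congrArg (gm 𝔊 hy) hz).trans (RngSp.gm_zero hy)
  · exact ⟨0, fun ψ hψ => ⟨fun h1 => absurd h1 hθ, fun _ => epi_add h h𝔉 h𝔊 θ ψ _ hψ⟩⟩

end Groth.Agent.H9FCoh
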