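import Groth.Agent.H9FCoh.AffSec
import Groth.Agent.FFun.Basic
import Groth.Agent.Algz7.Completion

/-!
# Systems for a principal ideal given by short exact sequences
-/

set_option autoImplicit false
set_option backward.isDefEq.respectTransparency false
set_option backward.isDefEq.respectTransparency.types false
set_option linter.style.haveILetI false

universe u

open CategoryTheory CategoryTheory.Limits AlgebraicGeometry Opposite

noncomputable section

namespace Groth.Agent.H9FCoh.PSys

variable {A : Type u} [CommRing A] {X : Scheme.{u}} [X.Over (Spec (CommRingCat.of A))] {f : A}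
  {G : ℕᵒᵖ ⥤ X.Modules} {i : ∀ n, G.obj (op n) ⟶ G.obj (op (n + 1))}


theorem smulMod_killed_span {M : X.Modules} {J : Ideal A} {b : A} (hJ : J = Ideal.span {b})
    (h : Formal.smulMod A M b = 0) : Formal.KilledBy J M := fun a ha => by
  subst hJ
  obtain ⟨c, rfl⟩ := Ideal.mem_span_singleton'.1 ha
  rw [FFun.smulMod_mul, h]
  simp

variable (hm : ∀ n, Mono (i n))
  (hf : ∀ n, G.map (homOfLE (Nat.le_succ n)).op ≫ i n = Formal.smulMod A (G.obj (op (n + 1))) f)
  (hw : ∀ n, i n ≫ G.map (homOfLE (Nat.zero_le (n + 1))).op = 0)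
  (hS : ∀ n, (ShortComplex.mk _ _ (hw n)).ShortExact)

omit [X.Over (Spec (CommRingCat.of A))] in
theorem map_π (n : ℕ) : G.map (homOfLE (Nat.le_succ n)).op ≫ G.map (homOfLE (Nat.zero_le n)).op =
    G.map (homOfLE (Nat.zero_le (n + 1))).op :=
  (G.map_comp _ _).symm

omit [X.Over (Spec (CommRingCat.of A))] in
theorem π_zero : G.map (homOfLE (Nat.zero_le 0)).op = 𝟙 (G.obj (op 0)) := G.map_id _

include hm hf in
theorem i_tr (n : ℕ) : i n ≫ G.map (homOfLE (Nat.le_succ n)).op = Formal.smulMod A (G.obj (op n)) f := by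
  haveI := hm n
  rw [← cancel_mono (i n), Category.assoc, hf, Algz7.smulMod_naturality]

include hm hf hw hS in
theorem epi_tr (n : ℕ) : Epi (G.map (homOfLE (Nat.le_succ n)).op) := by
  induction n with
  | zero =>
    have h0 : Epi (G.map (homOfLE (Nat.zero_le 1)).op) := (hS 0).epi_g
    exact h0
  | succ n ih =>
    refine Preadditive.epi_of_cancel_zero _ fun {Z} ψ hψ => ?_
    have h1 : i n ≫ ψ = 0 := by
      rw [← cancel_epi (G.map (homOfLE (Nat.le_succ n)).op), comp_zero, ← Category.assoc, hf,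
        ← i_tr hm hf (n + 1), Category.assoc]
      exact (congrArg (i (n + 1) ≫ ·) hψ).trans comp_zero
    obtain ⟨ψ', hψ'⟩ := CokernelCofork.IsColimit.desc' (hS n).gIsCokernel ψ h1
    have h2 : G.map (homOfLE (Nat.zero_le (n + 1))).op ≫ ψ' = ψ := hψ'
    haveI : Epi (G.map (homOfLE (Nat.zero_le (n + 1 + 1))).op) := (hS (n + 1)).epi_g
    rw [← h2, ← Category.assoc, map_π] at hψ
    rw [← h2, show ψ' = 0 from (cancel_epi (G.map (homOfLE (Nat.zero_le (n + 1 + 1))).op)).1
      (hψ.trans comp_zero.symm), comp_zero]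

variable (i) in
/-- The iterated inclusion. -/
def iter : ∀ n, G.obj (op 0) ⟶ G.obj (op n)
  | 0 => 𝟙 _
  | n + 1 => iter n ≫ i n

include hf in
theorem pow_eq (n : ℕ) :
    Formal.smulMod A (G.obj (op n)) (f ^ n) = G.map (homOfLE (Nat.zero_le n)).op ≫ iter i n := by
  induction n with
  | zero =>
    rw [pow_zero, FFun.smulMod_one, π_zero]
    exact (Category.id_comp (𝟙 (G.obj (op 0)))).symm
  | succ n ih =>
    have : Formal.smulMod A (G.obj (op (n + 1))) (f ^ (n + 1)) =
        Formal.smulMod A (G.obj (op (n + 1))) f ≫ Formal.smulMod A (G.obj (op (n + 1))) (f ^ n) := by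
      rw [← FFun.smulMod_mul]; congr 1; ring
    rw [this, ← hf, Category.assoc, ← Algz7.smulMod_naturality, ih]
    simp only [iter, Category.assoc]
    rw [← Category.assoc, map_π]

include hw in
theorem iter_π (n : ℕ) : iter i (n + 1) ≫ G.map (homOfLE (Nat.zero_le (n + 1))).op = 0 := by
  simp only [iter, Category.assoc, hw, comp_zero]

include hm hf hw hS in
theorem killed (n : ℕ) : Formal.smulMod A (G.obj (op n)) (f ^ (n + 1)) = 0 := by
  induction n with
  | zero =>
    haveI := (hS 0).epi_g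
    rw [zero_add, pow_one, ← cancel_epi (G.map (homOfLE (Nat.zero_le 1)).op), comp_zero,
      ← Algz7.smulMod_naturality, ← hf, Category.assoc, hw, comp_zero]
  | succ n ih =>
    have : Formal.smulMod A (G.obj (op (n + 1))) (f ^ (n + 1 + 1)) =
        Formal.smulMod A (G.obj (op (n + 1))) f ≫ Formal.smulMod A (G.obj (op (n + 1))) (f ^ (n + 1)) := by
      rw [← FFun.smulMod_mul]; congr 1; ring
    rw [this, ← hf, Category.assoc, ← Algz7.smulMod_naturality, ih, zero_comp, comp_zero]

include hm hf hw hS in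
theorem factor_iter (n : ℕ) {T : X.Modules} (k : T ⟶ G.obj (op (n + 1)))
    (hk : k ≫ G.map (homOfLE (Nat.le_succ n)).op = 0) : ∃ l, l ≫ iter i (n + 1) = k := by
  induction n generalizing T with
  | zero =>
    obtain ⟨l, hl⟩ := KernelFork.IsLimit.lift' (hS 0).fIsKernel k
      (by change k ≫ G.map (homOfLE (Nat.zero_le 1)).op = 0; exact hk)
    exact ⟨l, (congrArg (l ≫ ·) (Category.id_comp (i 0))).trans hl⟩
  | succ n ih =>
    have h0 : k ≫ G.map (homOfLE (Nat.zero_le (n + 1 + 1))).op = 0 := by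
      rw [← map_π (n + 1), ← Category.assoc, hk, zero_comp]
    obtain ⟨k', hk'⟩ := KernelFork.IsLimit.lift' (hS (n + 1)).fIsKernel k h0
    have hk' : k' ≫ i (n + 1) = k := hk'
    have h1 : k' ≫ G.map (homOfLE (Nat.le_succ n)).op = 0 := by
      haveI := hm n
      rw [← cancel_mono (i n), zero_comp, Category.assoc, hf, ← i_tr hm hf (n + 1), ← Category.assoc, hk']
      exact hk
    obtain ⟨l, hl⟩ := ih k' h1
    refine ⟨l, ?_⟩
    change l ≫ iter i (n + 1) ≫ i (n + 1) = k
    rw [← Category.assoc, hl, hk']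

include hm hf hw hS in
theorem isQCohFormal (hqc : ∀ n : ℕᵒᵖ, Coh.IsQCoh (G.obj n)) :
    Formal2.IsQCohFormal (Ideal.span ({f} : Set A)) G := by
  refine ⟨fun n => hqc _, fun n => smulMod_killed_span (Ideal.span_singleton_pow f (n + 1)) (killed hm hf hw hS n),
    fun n => ?_⟩
  haveI := epi_tr hm hf hw hS n
  refine Algz7.IsQuot.mk' _ (smulMod_killed_span (Ideal.span_singleton_pow f (n + 1)) (killed hm hf hw hS n))
    fun {P} φ hφ => ?_
  have hp : Formal.smulMod A (G.obj (op (n + 1))) (f ^ (n + 1)) ≫ φ = 0 :=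
    Algz7.smulMod_comp_eq_zero hφ (by rw [Ideal.span_singleton_pow]; exact Ideal.mem_span_singleton_self _)
  have hj : iter i (n + 1) ≫ φ = 0 := by
    haveI : Epi (G.map (homOfLE (Nat.zero_le (n + 1))).op) := (hS n).epi_g
    rw [← cancel_epi (G.map (homOfLE (Nat.zero_le (n + 1))).op), comp_zero, ← Category.assoc, ← pow_eq hf]
    exact hp
  have hk : kernel.ι (G.map (homOfLE (Nat.le_succ n)).op) ≫ φ = 0 := by
    obtain ⟨l, hl⟩ := factor_iter hm hf hw hS n _ (kernel.condition (G.map (homOfLE (Nat.le_succ n)).op))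
    rw [← hl, Category.assoc, hj, comp_zero]
  exact ⟨Abelian.epiDesc _ φ hk, Abelian.comp_epiDesc _ _ hk⟩

include hm hf hw hS in
/-- The limit is torsion free and its completion is the system. -/
theorem exists_torsionFree (hqc : ∀ n : ℕᵒᵖ, Coh.IsQCoh (G.obj n)) :
    ∃ F : X.Modules, Mono (Formal.smulMod A F f) ∧
      Nonempty (Formal.completion (Ideal.span ({f} : Set A)) F ≅ G) := by
  have hG := isQCohFormal hm hf hw hS hqc
  refine ⟨limit G, ?_, ?_⟩
  · refine Preadditive.mono_of_cancel_zero _ fun {T} t ht => limit.hom_ext fun ⟨n⟩ => ?_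
    haveI := hm n
    rw [← cancel_mono (i n), zero_comp, zero_comp, ← limit.w G (homOfLE (Nat.le_succ n)).op, Category.assoc,
      Category.assoc, hf, ← Algz7.smulMod_naturality, ← Category.assoc, ht, zero_comp]
  · exact Algz7.nonempty_iso_of_isQuot (I := Ideal.span ({f} : Set A)) (Iso.refl (limit G))
      (P := Formal.completion (Ideal.span ({f} : Set A)) (limit G)) (Q := G)
      (fun n => Formal.modPowπ _ (n + 1) (limit G)) (fun n => limit.π G (op n))
      (fun n => Algz7.isQuot_modPowπ _ (n + 1) _)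
      (fun n => isQuot_limit_π (Submodule.fg_span_singleton f) hG n)
      (fun n => by rw [Algz7.completion_map_succ]; exact Formal.modPowπ_trans _ (n + 1) _)
      (fun n => limit.w G _)

end Groth.Agent.H9FCoh.PSys
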