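import Groth.Agent.QCoh.Ab.LerayNat
import Groth.Agent.SiteBase.Cohom

/-!
# Cohomology of countable products of sheaves acyclic on a basis
-/

set_option autoImplicit false
set_option backward.isDefEq.respectTransparency false
set_option backward.isDefEq.respectTransparency.types false
set_option linter.style.haveILetI false

universe u

open CategoryTheory CategoryTheory.Limits Opposite TopologicalSpace CategoryTheory.Abelian

noncomputable section

namespace Groth.Agent.H9FCoh

open Groth.Agent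

variable {X : TopCat.{u}} (B : Opens X → Prop)

/-- Sheaves without higher cohomology on the members of a family of opens. -/
def BasisVan (F : CohTop.Ab X) : Prop :=
  ∀ V, B V → ∀ n : ℕ, Subsingleton (CohSite.HU F (n + 1) V)

variable {B}

theorem basisVan_of_injective (I : CohTop.Ab X) [Injective I] : BasisVan B I := fun V _ n =>
  SiteBase.subsingleton_HU_of_injective I V n

theorem BasisVan.quot {T : ShortComplex (CohTop.Ab X)} (hT : T.ShortExact) (h₁ : BasisVan B T.X₁)
    (h₂ : BasisVan B T.X₂) : BasisVan B T.X₃ := fun V hV n =>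
  SiteBase.subsingleton_HU_X₃ hT V (n + 1) (h₁ V hV (n + 1)) (h₂ V hV n)

theorem exists_pi_section (F : ℕ → CohTop.Ab X) (V : Opens X) (y : ∀ i, (F i).obj.obj (op V)) :
    ∃ x : (∏ᶜ F).obj.obj (op V), ∀ i, (Pi.π F i).hom.app (op V) x = y i := by
  let φ : CohCx.freeSheaf (Opens.grothendieckTopology X) V ⟶ ∏ᶜ F :=
    Pi.lift fun i => (SiteBase.secEquiv _ V (F i)).symm (y i)
  refine ⟨SiteBase.secEquiv _ V _ φ, fun i => ?_⟩
  rw [← SiteBase.secEquiv_comp, Pi.lift_π, AddEquiv.apply_symm_apply]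

theorem pi_section_ext (F : ℕ → CohTop.Ab X) (V : Opens X) {x x' : (∏ᶜ F).obj.obj (op V)}
    (h : ∀ i, (Pi.π F i).hom.app (op V) x = (Pi.π F i).hom.app (op V) x') : x = x' := by
  obtain ⟨a, rfl⟩ := (SiteBase.secEquiv _ V _).surjective x
  obtain ⟨a', rfl⟩ := (SiteBase.secEquiv _ V _).surjective x'
  refine congrArg _ (Pi.hom_ext _ _ fun i => (SiteBase.secEquiv _ V _).injective ?_)
  rw [SiteBase.secEquiv_comp, SiteBase.secEquiv_comp, h]

/-- A morphism surjective on the members of a basis is an epimorphism. -/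
theorem epi_of_surjective_basis (hB : Opens.IsBasis {V | B V}) {F G : CohTop.Ab X} (g : F ⟶ G)
    (h : ∀ V, B V → Function.Surjective (g.hom.app (op V))) : Epi g := by
  refine (TopCat.Sheaf.isLocallySurjective_iff_epi g).1 ((TopCat.Presheaf.isLocallySurjective_iff _).2
    fun U t y hy => ?_)
  obtain ⟨V, hV, hyV, hVU⟩ := Opens.isBasis_iff_nbhd.1 hB hy
  exact ⟨V, hVU, h V hV _, hyV⟩

theorem piMap_zero {C : Type*} [Category C] [Abelian C] [HasProductsOfShape ℕ C] (T : ℕ → ShortComplex C) :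
    (Limits.Pi.map fun i => (T i).f) ≫ (Limits.Pi.map fun i => (T i).g) = 0 :=
  Pi.hom_ext _ _ fun i => by
    rw [Category.assoc, Limits.Pi.map_π, Limits.Pi.map_π_assoc, (T i).zero, comp_zero, zero_comp]

theorem piMap_exact {C : Type*} [Category C] [Abelian C] [HasProductsOfShape ℕ C] (T : ℕ → ShortComplex C)
    (hT : ∀ i, (T i).ShortExact) : (ShortComplex.mk _ _ (piMap_zero T)).Exact ∧
      Mono (Limits.Pi.map fun i => (T i).f) := by
  haveI : ∀ i, Mono (T i).f := fun i => (hT i).mono_f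
  have hm : Mono (Limits.Pi.map fun i => (T i).f) := inferInstance
  refine ⟨ShortComplex.exact_of_f_is_kernel _ (KernelFork.IsLimit.ofι _ _
      (fun {W} k hk => Pi.lift fun i => (hT i).exact.lift (k ≫ Pi.π _ i) (by
        rw [Category.assoc]
        refine (congrArg (k ≫ ·) (Limits.Pi.map_π (fun i => (T i).g) i).symm).trans ?_
        rw [← Category.assoc, hk, zero_comp]))
      (fun {W} k hk => Pi.hom_ext _ _ fun i => by
        rw [Category.assoc, Limits.Pi.map_π, Pi.lift_π_assoc]
        exact (hT i).exact.lift_f _ _)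
      fun {W} k hk l hl => ?_), hm⟩
  rw [← cancel_mono (Limits.Pi.map fun i => (T i).f), hl]
  exact Pi.hom_ext _ _ fun i => by
    rw [Category.assoc, Limits.Pi.map_π, Pi.lift_π_assoc]
    exact ((hT i).exact.lift_f _ _).symm

/-- Products preserve exactness of sequences of sheaves acyclic on a basis. -/
theorem piMap_shortExact (hB : Opens.IsBasis {V | B V}) (T : ℕ → ShortComplex (CohTop.Ab X))
    (hT : ∀ i, (T i).ShortExact) (h₁ : ∀ i, BasisVan B (T i).X₁) :
    (ShortComplex.mk _ _ (piMap_zero T)).ShortExact := by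
  refine { exact := (piMap_exact T hT).1, mono_f := (piMap_exact T hT).2, epi_g := ?_ }
  · refine epi_of_surjective_basis hB _ fun V hV y => ?_
    choose x hx using fun i => SiteBase.surjective_sections_of_HU_one (hT i) V (h₁ i V hV 0)
      ((Pi.π (fun i => (T i).X₃) i).hom.app (op V) y)
    obtain ⟨x', hx'⟩ := exists_pi_section (fun i => (T i).X₂) V x
    refine ⟨x', pi_section_ext _ V fun i => ?_⟩
    refine Eq.trans ?_ (hx i)
    rw [← hx' i]
    exact congr(($(Limits.Pi.map_π (fun i => (T i).g) i)).hom.app (op V) x')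

/-- Cohomology commutes with countable products of sheaves acyclic on a basis. -/
theorem bijective_H_pi (hB : Opens.IsBasis {V | B V}) (n : ℕ) :
    ∀ F : ℕ → CohTop.Ab X, (∀ i, BasisVan B (F i)) →
      Function.Bijective fun (x : CohTop.H (∏ᶜ F) n) (i : ℕ) => Sheaf.H.map (Pi.π F i) n x := by
  induction n with
  | zero =>
    intro F _
    refine ⟨fun x x' h => ?_, fun y => ?_⟩
    · obtain ⟨a, rfl⟩ := (Ext.mk₀_bijective _ _).2 x
      obtain ⟨a', rfl⟩ := (Ext.mk₀_bijective _ _).2 x'
      refine congrArg _ (Pi.hom_ext _ _ fun i => (Ext.mk₀_bijective _ _).1 ?_)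
      rw [← Ext.mk₀_comp_mk₀, ← Ext.mk₀_comp_mk₀]
      exact congrFun h i
    · choose a ha using fun i => (Ext.mk₀_bijective _ _).2 (y i)
      refine ⟨Ext.mk₀ (Pi.lift a), funext fun i => ?_⟩
      show (Ext.mk₀ (Pi.lift a)).comp (Ext.mk₀ (Pi.π F i)) (add_zero 0) = y i
      rw [Ext.mk₀_comp_mk₀, Pi.lift_π, ha]
  | succ n ih =>
    intro F hF
    let T := fun i => QCoh.Ab.pres (F i)
    have hT : ∀ i, (T i).ShortExact := fun i => QCoh.Ab.pres_shortExact (F i)
    haveI hinj : ∀ i, Injective (T i).X₂ := fun i => Injective.injective_under (F i)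
    have hQ : ∀ i, BasisVan B (T i).X₃ := fun i => (hF i).quot (hT i) (basisVan_of_injective _)
    have hP := piMap_shortExact hB T hT hF
    let S := ShortComplex.mk _ _ (piMap_zero T)
    let p : ∀ i, S ⟶ T i := fun i =>
      { τ₁ := Pi.π _ i
        τ₂ := Pi.π _ i
        τ₃ := Pi.π _ i
        comm₁₂ := (Limits.Pi.map_π (fun i => (T i).f) i).symm
        comm₂₃ := (Limits.Pi.map_π (fun i => (T i).g) i).symm }
    haveI : Injective S.X₂ := inferInstanceAs (Injective (∏ᶜ fun i => (T i).X₂))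
    have hv : Subsingleton (CohTop.H S.X₂ (n + 1)) := inferInstance
    have hnat : ∀ (z : CohTop.H S.X₃ n) (i : ℕ), Sheaf.H.map (Pi.π F i) (n + 1) (QCoh.Ab.connecting hP n z) =
        QCoh.Ab.connecting (hT i) n (Sheaf.H.map (Pi.π (fun i => (T i).X₃) i) n z) := fun z i =>
      QCoh.Ab.connecting_naturality hP (hT i) (p i) n z
    refine ⟨(injective_iff_map_eq_zero' (AddMonoidHom.mk' (fun (x : CohTop.H (∏ᶜ F) (n + 1)) (i : ℕ) =>
        Sheaf.H.map (Pi.π F i) (n + 1) x) fun a b => funext fun i => map_add _ a b)).2 fun x => ⟨fun hx => ?_,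
        fun hx => by subst hx; exact funext fun i => map_zero (Sheaf.H.map (Pi.π F i) (n + 1))⟩, fun y => ?_⟩
    · obtain ⟨z, rfl⟩ := QCoh.Ab.connecting_surjective hP n hv x
      have h0 : ∀ i, QCoh.Ab.connecting (hT i) n (Sheaf.H.map (Pi.π (fun i => (T i).X₃) i) n z) = 0 :=
        fun i => (hnat z i).symm.trans (congrFun hx i)
      choose w hw using fun i => (QCoh.Ab.connecting_eq_zero_iff (hT i) n _).1 (h0 i)
      obtain ⟨w', hw'⟩ := (ih (fun i => (T i).X₂) fun i => basisVan_of_injective _).2 w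
      refine (QCoh.Ab.connecting_eq_zero_iff hP n z).2 ⟨w', (ih _ hQ).1 (funext fun i => ?_)⟩
      refine Eq.trans ?_ (hw i)
      rw [← congrFun hw' i]
      show (w'.comp (Ext.mk₀ S.g) (add_zero n)).comp (Ext.mk₀ (Pi.π _ i)) (add_zero n) =
        (w'.comp (Ext.mk₀ (Pi.π _ i)) (add_zero n)).comp (Ext.mk₀ (T i).g) (add_zero n)
      rw [Ext.comp_assoc_of_third_deg_zero, Ext.comp_assoc_of_third_deg_zero, Ext.mk₀_comp_mk₀, Ext.mk₀_comp_mk₀]
      exact congrArg (fun φ => w'.comp (Ext.mk₀ φ) (add_zero n)) (p i).comm₂₃.symm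
    · choose z hz using fun i => QCoh.Ab.connecting_surjective (hT i) n inferInstance (y i)
      obtain ⟨z', hz'⟩ := (ih _ hQ).2 z
      refine ⟨QCoh.Ab.connecting hP n z', funext fun i => ?_⟩
      refine (hnat z' i).trans ?_
      exact (congrArg (QCoh.Ab.connecting (hT i) n) (congrFun hz' i)).trans (hz i)

end Groth.Agent.H9FCoh
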