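import Groth.Agent.H9FCoh.Rebuild
import Groth.Agent.ExistEasy.PP.PullSec
import Groth.Prelude.Def_FSch6

/-!
# Inverse images of coherent systems along morphisms of formal schemes
-/

set_option autoImplicit false
set_option backward.isDefEq.respectTransparency false
set_option backward.isDefEq.respectTransparency.types false
set_option linter.style.haveILetI false

universe u

open CategoryTheory CategoryTheory.Limits AlgebraicGeometry Opposite TopologicalSpace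
open Groth.Agent.ClosedRinged
open Groth.Agent.RngSp (pt gm mp fns)

noncomputable section

namespace Groth.Agent.H9FCoh

variable {𝔛 𝔜 : FSch.Sys.{u}} (hX : 𝔛.IsLocNoethFormal) (hY : 𝔜.IsLocNoethFormal) (f : 𝔛 ⟶ 𝔜)
  (𝔐 : FSch.ModSys 𝔜)

/-- The levels of a morphism. -/
abbrev fl (f : 𝔛 ⟶ 𝔜) (n : ℕ) : 𝔛.X n ⟶ 𝔜.X n := (f : FSch.Hom 𝔛 𝔜).app n

/-- The preimage of an open of the space. -/
abbrev fU (f : 𝔛 ⟶ 𝔜) (U : (𝔜.X 0).Opens) : (𝔛.X 0).Opens := fl f 0 ⁻¹ᵁ U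

theorem le_preimage (k : ℕ) (U : (𝔜.X 0).Opens) :
    𝔛.lvU hX.1 k (fU f U) ≤ fl f k ⁻¹ᵁ 𝔜.lvU hY.1 k U :=
  (FSch.Hom.lvU_preimage f hX.1 hY.1 k U).ge

theorem lvPushSq_inv_app (k : ℕ) (G : (𝔛.X k).Modules) (U : (𝔜.X 0).Opens)
    (w : Γ(G, fl f k ⁻¹ᵁ 𝔜.lvU hY.1 k U)) :
    mp ((FSch.lvPushSq f hX.1 hY.1 k).inv.app G) U w =
      G.presheaf.map (homOfLE (le_preimage hX hY f k U)).op w :=
  rfl

/-- The component of the comparison at a level. -/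
def cmpC (k : ℕ) : 𝔐.realMod hY.1 ⟶ (FSch.homMor f hX.1 hY.1).push.obj
    ((FSch.levelMor 𝔛 hX.1 k).push.obj ((FSch.ModSys.pullback f 𝔐).F k)) :=
  FSch.realProj 𝔜 hY.1 𝔐.F 𝔐.toPush k ≫
    (FSch.levelMor 𝔜 hY.1 k).push.map ((ModSite.RMor.ofScheme (fl f k)).adj.unit.app (𝔐.F k)) ≫
    (FSch.lvPushSq f hX.1 hY.1 k).inv.app ((FSch.ModSys.pullback f 𝔐).F k)

theorem cmpC_app (k : ℕ) (U : (𝔜.X 0).Opens) (z : Lm hY 𝔐 U) :
    mp (cmpC hX hY f 𝔐 k) U z =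
      QCoh.pullSec (fl f k) (𝔐.F k) (le_preimage hX hY f k U) (prM hY 𝔐 k U z) := by
  unfold cmpC
  change mp ((FSch.lvPushSq f hX.1 hY.1 k).inv.app ((FSch.ModSys.pullback f 𝔐).F k)) U
    (mp ((ModSite.RMor.ofScheme (fl f k)).adj.unit.app (𝔐.F k)) (𝔜.lvU hY.1 k U) (prM hY 𝔐 k U z)) = _
  rw [lvPushSq_inv_app hX hY]
  rfl

theorem pullbackComp_inv_pullSec {A B C : Scheme.{u}} (a : A ⟶ B) (b : B ⟶ C) (G : C.Modules) {W : A.Opens}
    {U : B.Opens} {V : C.Opens} (h₁ : U ≤ b ⁻¹ᵁ V) (h₂ : W ≤ a ⁻¹ᵁ U) (x : Γ(G, V)) :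
    ((Scheme.Modules.pullbackComp a b).inv.app G).app W
      (QCoh.pullSec (a ≫ b) G (show W ≤ (a ≫ b) ⁻¹ᵁ V from h₂.trans ((Opens.map a.base).monotone h₁)) x) =
    QCoh.pullSec a ((Scheme.Modules.pullback b).obj G) h₂ (QCoh.pullSec b G h₁ x) := by
  rw [← ExistEasy.pullSec_comp a b G h₁ h₂ x]
  exact congrArg (fun q => Scheme.Modules.Hom.app q W
    (QCoh.pullSec a ((Scheme.Modules.pullback b).obj G) h₂ (QCoh.pullSec b G h₁ x)))
    ((Scheme.Modules.pullbackComp a b).hom_inv_id_app G)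

theorem step_pullSys_sec (k : ℕ) (U : (𝔜.X 0).Opens) (x : Mk hY 𝔐 (k + 1) U) :
    step hX (FSch.ModSys.pullback f 𝔐) k (fU f U)
        (QCoh.pullSec (fl f (k + 1)) (𝔐.F (k + 1)) (le_preimage hX hY f (k + 1) U) x) =
      QCoh.pullSec (fl f k) (𝔐.F k) (le_preimage hX hY f k U) (step hY 𝔐 k U x) := by
  rw [step_eq]
  refine (QCoh.map_app_comm ((FSch.ModSys.pullback f 𝔐).e k).hom
    (homOfLE (FSch.Sys.lvU_le 𝔛 hX.1 k (fU f U))) _).symm.trans ?_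
  change ((Scheme.Modules.pullback (fl f k)).map (𝔐.e k).hom).app _
    (((Scheme.Modules.pullbackComp (fl f k) (𝔜.ι k)).inv.app (𝔐.F (k + 1))).app _
      (((Scheme.Modules.pullbackCongr ((f : FSch.Hom 𝔛 𝔜).comm k).symm).hom.app (𝔐.F (k + 1))).app _
        (((Scheme.Modules.pullbackComp (𝔛.ι k) (fl f (k + 1))).hom.app (𝔐.F (k + 1))).app _
          (QCoh.pullSec (𝔛.ι k) _ (FSch.Sys.lvU_le 𝔛 hX.1 k (fU f U))
            (QCoh.pullSec (fl f (k + 1)) (𝔐.F (k + 1)) (le_preimage hX hY f (k + 1) U) x))))) = _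
  rw [ExistEasy.pullSec_comp, ExistEasy.pullSec_congr,
    pullbackComp_inv_pullSec _ _ _ (FSch.Sys.lvU_le 𝔜 hY.1 k U) (le_preimage hX hY f k U),
    ExistEasy.pullSec_natural]
  refine congrArg (QCoh.pullSec (fl f k) (𝔐.F k) (le_preimage hX hY f k U)) ?_
  rw [step_eq]
  exact QCoh.map_app_comm (𝔐.e k).hom (homOfLE (FSch.Sys.lvU_le 𝔜 hY.1 k U)) _

/-- The cone of the comparison maps. -/
def cmpCone : Cone (FSch.levelSysOf 𝔛 hX.1 (FSch.ModSys.pullback f 𝔐).F (FSch.ModSys.pullback f 𝔐).toPush) where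
  pt := (FSch.homMor f hX.1 hY.1).pull.obj (𝔐.realMod hY.1)
  π := NatTrans.ofOpSequence
    (F := (Functor.const ℕᵒᵖ).obj ((FSch.homMor f hX.1 hY.1).pull.obj (𝔐.realMod hY.1)))
    (fun k => ((FSch.homMor f hX.1 hY.1).adj.homEquiv _ _).symm (cmpC hX hY f 𝔐 k)) fun k => by
    refine ((FSch.homMor f hX.1 hY.1).adj.homEquiv _ _).injective ?_
    refine (congrArg _ (Category.id_comp _)).trans ((Equiv.apply_symm_apply _ _).trans ?_)
    refine Eq.trans ?_ ((FSch.homMor f hX.1 hY.1).adj.homEquiv_naturality_right _ _).symm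
    rw [Equiv.apply_symm_apply, FSch.levelSysOf_map_succ]
    refine SheafOfModules.hom_ext (PresheafOfModules.Hom.ext (funext fun U => ModuleCat.hom_ext
      (LinearMap.ext fun z => ?_)))
    refine (cmpC_app hX hY f 𝔐 k U.unop z).trans ?_
    rw [← step_prM hY 𝔐 k U.unop z]
    refine (step_pullSys_sec hX hY f 𝔐 k U.unop _).symm.trans ?_
    exact congrArg (step hX (FSch.ModSys.pullback f 𝔐) k (fU f U.unop)) (cmpC_app hX hY f 𝔐 (k + 1) U.unop z).symm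

/-- The comparison map. -/
def toPullSys : (FSch.homMor f hX.1 hY.1).pull.obj (𝔐.realMod hY.1) ⟶
    (FSch.ModSys.pullback f 𝔐).realMod hX.1 :=
  limit.lift _ (cmpCone hX hY f 𝔐)

theorem toPullSys_realProj (k : ℕ) :
    (FSch.homMor f hX.1 hY.1).adj.homEquiv _ _ (toPullSys hX hY f 𝔐) ≫
      (FSch.homMor f hX.1 hY.1).push.map (FSch.realProj 𝔛 hX.1 _ _ k) = cmpC hX hY f 𝔐 k := by
  refine ((FSch.homMor f hX.1 hY.1).adj.homEquiv_naturality_right _ _).symm.trans ?_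
  refine (congrArg _ (limit.lift_π (cmpCone hX hY f 𝔐) (op k))).trans ?_
  exact Equiv.apply_symm_apply _ _

theorem toPullSys_spec (k : ℕ) :
    (FSch.homMor f hX.1 hY.1).adj.homEquiv _ _ (toPullSys hX hY f 𝔐) ≫
        (FSch.pushF f hX.1 hY.1).map (FSch.realProj 𝔛 hX.1 _ _ k) ≫
        (FSch.lvPushSq f hX.1 hY.1 k).hom.app ((FSch.ModSys.pullback f 𝔐).F k) =
      FSch.realProj 𝔜 hY.1 _ _ k ≫ (FSch.levelMor 𝔜 hY.1 k).push.map
        ((ModSite.RMor.ofScheme (fl f k)).adj.unit.app (𝔐.F k)) := by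
  refine (Category.assoc _ _ _).symm.trans ?_
  refine (congrArg (· ≫ _) (toPullSys_realProj hX hY f 𝔐 k)).trans ?_
  unfold cmpC
  refine (Category.assoc _ _ _).trans (congrArg (_ ≫ ·) ?_)
  refine (Category.assoc _ _ _).trans ?_
  refine (congrArg (_ ≫ ·) ((FSch.lvPushSq f hX.1 hY.1 k).inv_hom_id_app _)).trans ?_
  exact Category.comp_id _

/-- The functions pulled back by a morphism. -/
abbrev shF (U : (𝔜.X 0).Opens) : Ox hY U →+* Ox hX (fU f U) :=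
  shH (fl f 0).base (FSch.Hom.sharp f hX.1 hY.1) U

/-- The pulled back section. -/
abbrev puF {U : (𝔜.X 0).Opens} (z : Lm hY 𝔐 U) :
    ((FSch.homMor f hX.1 hY.1).pull.obj (𝔐.realMod hY.1)).val.obj (op (fU f U)) :=
  puSec (fl f 0).base (FSch.Hom.sharp f hX.1 hY.1) (𝔐.realMod hY.1) z

theorem prM_toPullSys (k : ℕ) {U : (𝔜.X 0).Opens} (z : Lm hY 𝔐 U) :
    prM hX (FSch.ModSys.pullback f 𝔐) k (fU f U) (mp (toPullSys hX hY f 𝔐) _ (puF hX hY f 𝔐 z)) =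
      QCoh.pullSec (fl f k) (𝔐.F k) (le_preimage hX hY f k U) (prM hY 𝔐 k U z) := by
  refine Eq.trans ?_ ((congrArg (fun q => mp q U z) (toPullSys_realProj hX hY f 𝔐 k)).trans
    (cmpC_app hX hY f 𝔐 k U z))
  refine congrArg (prM hX (FSch.ModSys.pullback f 𝔐) k (fU f U)) ?_
  exact (ModPull.adj_homEquiv_app (FSch.homMor f hX.1 hY.1) (toPullSys hX hY f 𝔐) (U := op U) z).symm

theorem isModel_pullLevel (k : ℕ) {U : (𝔜.X 0).Opens} {W : (𝔛.X 0).Opens} (hW : W ≤ fU f U) {ι : Type u}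
    {t : ι → Lm hY 𝔐 U} {N : Submodule (Ox hY U) (ι →₀ Ox hY U)}
    (hm : IsModel (O := (𝔜.X k).sheaf) (𝔐.F k) (𝔜.lvU hY.1 k U) (fun i => prM hY 𝔐 k U (t i))
      (pN (pr hY k U) N)) :
    IsModel (O := (𝔛.X k).sheaf) ((FSch.ModSys.pullback f 𝔐).F k) (𝔛.lvU hX.1 k W)
      (fun i => res (O := (𝔛.X k).sheaf) ((FSch.ModSys.pullback f 𝔐).F k) (lvU_mono hX k hW)
        (QCoh.pullSec (fl f k) (𝔐.F k) (le_preimage hX hY f k U) (prM hY 𝔐 k U (t i))))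
      (pN (pr hX k W) (pN (rO hX hW) (pN (shF hX hY f U) N))) := by
  let sh : (𝔜.X k).sheaf ⟶ (TopCat.Sheaf.pushforward CommRingCat.{u} (fl f k).base).obj (𝔛.X k).sheaf :=
    ⟨(fl f k).c⟩
  have h1 := ((isModel_pull (fl f k).base sh hm).mono (le_preimage hX hY f k U)).mono (lvU_mono hX k hW)
  have hcomp : ((rr (𝔛.X k).sheaf (lvU_mono hX k hW)).comp
      ((rr (𝔛.X k).sheaf (le_preimage hX hY f k U)).comp
        ((shH (fl f k).base sh (𝔜.lvU hY.1 k U)).comp (pr hY k U)))) =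
      (pr hX k W).comp ((rO hX hW).comp (shF hX hY f U)) := by
    refine RingHom.ext fun a => ?_
    have h2 := congrArg (fun q => (q.hom.app (op U)).hom a) (FSch.Hom.sharp_proj f hX.1 hY.1 k)
    exact (congrArg (rn hX k hW) h2.symm).trans (rn_pr hX k hW _)
  have pNc : ∀ {A B C : Type u} [CommRing A] [CommRing B] [CommRing C] (φ : A →+* B) (ψ : B →+* C)
      (M : Submodule A (ι →₀ A)), pN ψ (pN φ M) = pN (ψ.comp φ) M :=
    fun φ ψ M => (pN_pN_le φ ψ M).antisymm (pN_pN φ ψ M)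
  have hN' : pN (rr (𝔛.X k).sheaf (lvU_mono hX k hW)) (pN (rr (𝔛.X k).sheaf (le_preimage hX hY f k U))
        (pN (shH (fl f k).base sh (𝔜.lvU hY.1 k U)) (pN (pr hY k U) N))) =
      pN (pr hX k W) (pN (rO hX hW) (pN (shF hX hY f U) N)) := by
    rw [pNc, pNc, pNc, pNc, pNc]
    exact congrArg (fun φ => pN φ N) hcomp
  rw [← hN']
  exact h1

theorem pN_fg {A B : Type u} [CommRing A] [CommRing B] (φ : A →+* B) {ι : Type u}
    {N : Submodule A (ι →₀ A)} (hN : N.FG) : (pN φ N).FG := by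
  classical
  obtain ⟨S, hS⟩ := hN
  refine ⟨S.image (pv φ), ?_⟩
  rw [← hS, pN_span, Finset.coe_image]

include hY in
theorem isCoh_pullback (h𝔐 : 𝔐.IsCoh) : (FSch.ModSys.pullback f 𝔐).IsCoh := fun k => by
  have hfp : IsFP (O := (𝔛.X k).sheaf) ((FSch.ModSys.pullback f 𝔐).F k) := by
    refine isFinitePresentation_of_models fun y => ?_
    obtain ⟨U, hU, hxU, -⟩ := Opens.isBasis_iff_nbhd.1 (𝔜.X 0).isBasis_affineOpens
      (show 𝔜.gInv hY.1 k (fl f k y) ∈ (⊤ : (𝔜.X 0).Opens) from trivial)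
    obtain ⟨σ, hσ, t, N, hN, -, hml⟩ := exists_model_realMod hY 𝔐 h𝔐 hU
    let sh : (𝔜.X k).sheaf ⟶ (TopCat.Sheaf.pushforward CommRingCat.{u} (fl f k).base).obj (𝔛.X k).sheaf :=
      ⟨(fl f k).c⟩
    exact ⟨_, σ, hσ, _, _, hxU, pN_fg _ (pN_fg _ hN), isModel_pull (fl f k).base sh (hml k)⟩
  exact ⟨isQC_of_isFP hfp, isFT_of_isFP hfp⟩

theorem isIso_toPullSys (h𝔐 : 𝔐.IsCoh) : IsIso (toPullSys hX hY f 𝔐) := by
  choose U hU hxU hU' using fun x : (𝔛.X 0 : Scheme.{u}) => Opens.isBasis_iff_nbhd.1 (𝔜.X 0).isBasis_affineOpens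
    (show fl f 0 x ∈ (⊤ : (𝔜.X 0).Opens) from trivial)
  choose σ hσ t N hN hm hml using fun x => exists_model_realMod hY 𝔐 h𝔐 (hU x)
  choose W hW hxW hWU using fun x : (𝔛.X 0 : Scheme.{u}) => Opens.isBasis_iff_nbhd.1 (𝔛.X 0).isBasis_affineOpens
    (show x ∈ fU f (U x) from hxU x)
  haveI : ∀ x, Finite (σ x) := hσ
  refine isIso_of_models (good hX) (toPullSys hX hY f 𝔐) W (fun x => ⟨x, hxW x⟩)
    (fun x i => res _ (hWU x) (puF hX hY f 𝔐 (t x i))) (fun x => pN (rO hX (hWU x)) (pN (shF hX hY f (U x)) (N x)))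
    (fun x => (isModel_pull (fl f 0).base (FSch.Hom.sharp f hX.1 hY.1) (hm x)).mono (hWU x)) fun x => ?_
  refine isModel_realMod_of_levels hX (isCoh_pullback hY f 𝔐 h𝔐) (hW x) _ _ fun k => ?_
  have e : (fun i => prM hX (FSch.ModSys.pullback f 𝔐) k (W x)
      (mp (toPullSys hX hY f 𝔐) (W x) (res _ (hWU x) (puF hX hY f 𝔐 (t x i))))) =
      fun i => res (O := (𝔛.X k).sheaf) ((FSch.ModSys.pullback f 𝔐).F k) (lvU_mono hX k (hWU x))
        (QCoh.pullSec (fl f k) (𝔐.F k) (le_preimage hX hY f k (U x)) (prM hY 𝔐 k (U x) (t x i))) :=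
    funext fun i => by rw [RngSp.mp_res, prM_res, prM_toPullSys]
  rw [e]
  exact isModel_pullLevel hX hY f 𝔐 k (hWU x) (hml x k)

end Groth.Agent.H9FCoh
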