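import Groth.Agent.H9FCoh.AlgzHom
import Groth.Agent.H9FCoh.Limit

/-!
# Direct images of completions on the scheme
-/

set_option autoImplicit false
set_option backward.isDefEq.respectTransparency false
set_option backward.isDefEq.respectTransparency.types false
set_option linter.style.haveILetI false

universe u

open CategoryTheory CategoryTheory.Limits AlgebraicGeometry Opposite TopologicalSpace
open Groth.Agent.ClosedRinged
open Groth.Agent.RngSp (pt gm mp fns)

noncomputable section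

namespace Groth.Agent.H9FCoh

open Groth.Agent

variable {𝔛 : FSch.Sys.{u}} (h : 𝔛.IsLocNoethFormal) {X : Scheme.{u}} (p : ∀ n, 𝔛.X n ⟶ X)
  (hp : ∀ n, 𝔛.ι n ≫ p (n + 1) = p n)

theorem isIso_schPushCompare (k : ℕ) (G : (𝔛.X k).Modules) :
    IsIso ((FSch.schPushCompare 𝔛 h.1 p hp k).app G) := by
  let φ : (Scheme.Modules.pushforward (p k)).obj G ⟶
      (FSch.toSchemeMor 𝔛 h.1 p hp).push.obj ((FSch.levelMor 𝔛 h.1 k).push.obj G) :=
    (FSch.schPushCompare 𝔛 h.1 p hp k).app G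
  have : IsIso φ := Scheme.Modules.Hom.isIso_iff_isIso_app.mpr fun U =>
    (ConcreteCategory.isIso_iff_bijective _).2 (res_bijective_of_eq G (FSch.lvU_p 𝔛 h.1 p hp k U))
  exact this

theorem pushCompare_schPushCompare (k : ℕ) (G : (𝔛.X k).Modules) :
    (Scheme.Modules.pushforwardComp (𝔛.ι k) (p (k + 1))).hom.app G ≫
        (Scheme.Modules.pushforwardCongr (hp k)).hom.app G ≫ (FSch.schPushCompare 𝔛 h.1 p hp k).app G =
      (FSch.schPushCompare 𝔛 h.1 p hp (k + 1)).app ((Scheme.Modules.pushforward (𝔛.ι k)).obj G) ≫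
        (FSch.toSchemeMor 𝔛 h.1 p hp).push.map ((FSch.pushCompare 𝔛 h.1 k).app G) := by
  refine SheafOfModules.hom_ext (PresheafOfModules.Hom.ext (funext fun U => ModuleCat.hom_ext
    (LinearMap.ext fun z => ?_)))
  change G.presheaf.map (homOfLE (FSch.lvU_p 𝔛 h.1 p hp k U.unop).ge).op
      (G.presheaf.map (eqToHom (by rw [← hp k]; rfl)).op z) =
    G.presheaf.map (homOfLE (𝔛.lvU_le h.1 k (p 0 ⁻¹ᵁ U.unop))).op
      (G.presheaf.map ((Opens.map (𝔛.ι k).base).map
        (homOfLE (FSch.lvU_p 𝔛 h.1 p hp (k + 1) U.unop).ge)).op z)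
  exact (QCoh.map_map _ _ _).trans ((congrArg (fun (e : _ ⟶ _) => G.presheaf.map e.op z) (Subsingleton.elim _ _)).trans
    (QCoh.map_map _ _ _).symm)


theorem step_square (k : ℕ) {M : (𝔛.X (k + 1)).Modules} {N : (𝔛.X k).Modules}
    (t : M ⟶ (Scheme.Modules.pushforward (𝔛.ι k)).obj N) :
    (FSch.schPushCompare 𝔛 h.1 p hp (k + 1)).app M ≫
        (FSch.toSchemeMor 𝔛 h.1 p hp).push.map
          ((FSch.levelMor 𝔛 h.1 (k + 1)).push.map t ≫ (FSch.pushCompare 𝔛 h.1 k).app N) =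
      ((Scheme.Modules.pushforward (p (k + 1))).map t ≫
        (Scheme.Modules.pushforwardComp (𝔛.ι k) (p (k + 1))).hom.app N ≫
          (Scheme.Modules.pushforwardCongr (hp k)).hom.app N) ≫ (FSch.schPushCompare 𝔛 h.1 p hp k).app N := by
  have hn : (Scheme.Modules.pushforward (p (k + 1))).map t ≫
      (FSch.schPushCompare 𝔛 h.1 p hp (k + 1)).app ((Scheme.Modules.pushforward (𝔛.ι k)).obj N) =
      (FSch.schPushCompare 𝔛 h.1 p hp (k + 1)).app M ≫
        (FSch.toSchemeMor 𝔛 h.1 p hp).push.map ((FSch.levelMor 𝔛 h.1 (k + 1)).push.map t) :=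
    (FSch.schPushCompare 𝔛 h.1 p hp (k + 1)).naturality t
  simp only [Category.assoc]
  refine ((congrArg (fun z => (FSch.schPushCompare 𝔛 h.1 p hp (k + 1)).app M ≫ z)
    ((FSch.toSchemeMor 𝔛 h.1 p hp).push.map_comp _ _)).trans ((Category.assoc _ _ _).symm.trans ?_))
  refine ((congrArg (· ≫ (FSch.toSchemeMor 𝔛 h.1 p hp).push.map ((FSch.pushCompare 𝔛 h.1 k).app N)) hn.symm).trans
    ((Category.assoc _ _ _).trans ?_))
  exact congrArg (fun z => (Scheme.Modules.pushforward (p (k + 1))).map t ≫ z)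
    (pushCompare_schPushCompare h p hp k N).symm

theorem nonempty_limit_iso_of_steps {C : Type*} [Category C] {P Q : ℕᵒᵖ ⥤ C} [HasLimit P] [HasLimit Q]
    (a : ∀ n, P.obj (op n) ≅ Q.obj (op n))
    (ha : ∀ n, P.map (homOfLE (Nat.le_add_right n 1)).op ≫ (a n).hom =
      (a (n + 1)).hom ≫ Q.map (homOfLE (Nat.le_add_right n 1)).op) : Nonempty (limit P ≅ limit Q) := by
  let η : P ⟶ Q := NatTrans.ofOpSequence (fun n => (a n).hom) ha
  haveI : ∀ x, IsIso (η.app x) := fun x => inferInstanceAs (IsIso (a x.unop).hom)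
  haveI : IsIso η := NatIso.isIso_of_isIso_app η
  exact ⟨HasLimit.isoOfNatIso (asIso η)⟩

theorem nonempty_push_realMod {X : Scheme.{u}} (𝓘 : X.IdealSheafData)
    (hX : (FSch.completionAlong X 𝓘).IsLocNoethFormal) (𝔐 : FSch.ModSys (FSch.completionAlong X 𝓘)) :
    Nonempty ((FSch.toSchemeMor (FSch.completionAlong X 𝓘) hX.1 (FSch.completionToX X 𝓘)
        (FSch.completionToX_comm X 𝓘)).push.obj (𝔐.realMod hX.1) ≅ limit (pushSys 𝓘 𝔐)) := by
  let P := (FSch.toSchemeMor (FSch.completionAlong X 𝓘) hX.1 (FSch.completionToX X 𝓘)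
    (FSch.completionToX_comm X 𝓘)).push
  haveI : P.IsRightAdjoint := (FSch.toSchemeMor (FSch.completionAlong X 𝓘) hX.1 (FSch.completionToX X 𝓘)
    (FSch.completionToX_comm X 𝓘)).adj.isRightAdjoint
  let S := FSch.levelSysOf (FSch.completionAlong X 𝓘) hX.1 𝔐.F 𝔐.toPush
  haveI := fun k => isIso_schPushCompare hX (FSch.completionToX X 𝓘) (FSch.completionToX_comm X 𝓘) k (𝔐.F k)
  have hstep : ∀ n, (pushSys 𝓘 𝔐).map (homOfLE (Nat.le_add_right n 1)).op ≫
      (FSch.schPushCompare (FSch.completionAlong X 𝓘) hX.1 (FSch.completionToX X 𝓘)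
        (FSch.completionToX_comm X 𝓘) n).app (𝔐.F n) =
      (FSch.schPushCompare (FSch.completionAlong X 𝓘) hX.1 (FSch.completionToX X 𝓘)
        (FSch.completionToX_comm X 𝓘) (n + 1)).app (𝔐.F (n + 1)) ≫
        (S ⋙ P).map (homOfLE (Nat.le_add_right n 1)).op := fun n => by
    refine (congrArg (· ≫ _) (pushSys_map_succ 𝓘 𝔐 n)).trans ?_
    refine Eq.trans ?_ (congrArg (fun z => _ ≫ P.map z)
      (FSch.levelSysOf_map_succ (FSch.completionAlong X 𝓘) hX.1 𝔐.F 𝔐.toPush n)).symm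
    exact (step_square hX (FSch.completionToX X 𝓘) (FSch.completionToX_comm X 𝓘) n (𝔐.toPush n)).symm
  obtain ⟨e⟩ := nonempty_limit_iso_of_steps (P := pushSys 𝓘 𝔐) (Q := S ⋙ P)
    (fun n => @asIso _ _ _ _ ((FSch.schPushCompare (FSch.completionAlong X 𝓘) hX.1 (FSch.completionToX X 𝓘)
      (FSch.completionToX_comm X 𝓘) n).app (𝔐.F n)) (this n)) hstep
  exact ⟨preservesLimitIso P S ≪≫ e.symm⟩

end Groth.Agent.H9FCoh
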