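import Groth.Agent.H9FCoh.Model

/-!
# Models of quasi-coherent modules
-/

set_option autoImplicit false
set_option backward.isDefEq.respectTransparency false
set_option backward.isDefEq.respectTransparency.types false
set_option linter.style.haveILetI false

universe u

open CategoryTheory CategoryTheory.Limits Opposite TopologicalSpace
open Groth.Agent.RngSp (pt gm fns Nearby rsM freeM)
open Groth.Agent.ClosedRinged Groth.Agent.ModPull

noncomputable section

namespace Groth.Agent.H9FCoh

variable {X : TopCat.{u}} {O : TopCat.Sheaf CommRingCat.{u} X} {U₀ : Opens X}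

/-- The morphism given by a smaller open. -/
abbrev sub (A : Over U₀) {V : Opens X} (h : V ≤ A.left) : Over.mk (homOfLE h ≫ A.hom) ⟶ A :=
  Over.homMk (U := Over.mk (homOfLE h ≫ A.hom)) (homOfLE h) rfl

/-- Generating sections generate nearby. -/
theorem nearby_span {K : ModSite.Mod (O.over U₀)} (σ : K.GeneratingSections) (A : Over U₀)
    (z : K.val.obj (op A)) : Nearby A.left fun _ hV => rsM K (sub A hV) z ∈
      Submodule.span (RngSp.rO (O.over U₀) (op (Over.mk (homOfLE hV ≫ A.hom)))) (Set.range fun i => (σ.s i).eval (op (Over.mk (homOfLE hV ≫ A.hom)))) := by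
  haveI := σ.epi
  obtain ⟨S, hS, hz⟩ := FDescent.exists_cover_eq_app σ.π A z
  intro x hx
  obtain ⟨W, hW, hxW, y, hy⟩ := RngSp.nearby_of_locally (W := A) (P := fun B g => ∃ y, σ.π.val.app (op B) y =
    K.val.map g.op z) ⟨S, hS, fun B g hg => hz g hg⟩ x hx
  obtain ⟨W', hW', hxW', T, a, ha⟩ := RngSp.free_nearby_sum σ.I (Over.mk (homOfLE hW ≫ A.hom)) y x hxW
  refine ⟨W', hW'.trans hW, hxW', ?_⟩
  have h1 := congrArg (σ.π.val.app _) ha
  rw [map_sum] at h1
  have h2 : σ.π.val.app _ (rsM _ (sub (Over.mk (homOfLE hW ≫ A.hom)) hW') y) =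
      rsM K (sub A (hW'.trans hW)) z := by
    refine (PresheafOfModules.naturality_apply σ.π.val (sub (Over.mk (homOfLE hW ≫ A.hom)) hW').op y).trans ?_
    rw [hy]
    change rsM K (sub (Over.mk (homOfLE hW ≫ A.hom)) hW') (rsM K (sub A hW) z) = _
    exact (ConcreteCategory.congr_hom (K.val.presheaf.map_comp (sub A hW).op
      (sub (Over.mk (homOfLE hW ≫ A.hom)) hW').op) z).symm
  show rsM K (sub A (hW'.trans hW)) z ∈ _
  rw [(h2.symm.trans h1 :)]
  refine Submodule.sum_mem _ fun i _ => ?_
  rw [map_smul]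
  refine Submodule.smul_mem _ _ (Submodule.subset_span ⟨i, ?_⟩)
  exact (RngSp.app_freeSection (O := O.over U₀) σ.s i _).symm

/-- A finitely supported vector as a section of the free module. -/
def vfree {ι : Type u} (B : Over U₀) (v : ι →₀ Fn O B.left) : (freeM (O.over U₀) ι).val.obj (op B) :=
  v.sum fun i a => (show RngSp.rO (O.over U₀) (op B) from a) •
    (SheafOfModules.freeSection (R := ModSite.ringSh (O.over U₀)) i).eval (op B)

theorem coord_vfree {ι : Type u} [DecidableEq ι] (B : Over U₀) (v : ι →₀ Fn O B.left) (i : ι) :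
    RngSp.coord (O := O.over U₀) i (vfree B v) = v i := by
  rw [vfree, Finsupp.sum, map_sum]
  refine (Finset.sum_eq_single i (fun j _ hj => ?_) fun hi => ?_).trans ?_
  · rw [map_smul, RngSp.coord_freeSection, if_neg hj, smul_zero]
  · rw [map_smul, Finsupp.notMem_support_iff.1 hi]
    exact zero_smul _ _
  · rw [map_smul, RngSp.coord_freeSection, if_pos rfl]
    exact mul_one _

theorem vfree_injective {ι : Type u} (B : Over U₀) : Function.Injective (vfree (O := O) (ι := ι) B) := by
  classical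
  intro v w h
  refine Finsupp.ext fun i => ?_
  rw [← coord_vfree B v i, h, coord_vfree]

theorem vfree_add {ι : Type u} (B : Over U₀) (v w : ι →₀ Fn O B.left) :
    vfree B (v + w) = vfree B v + vfree B w :=
  Finsupp.sum_add_index' (fun _ => zero_smul _ _) fun _ _ _ => add_smul _ _ _

theorem vfree_eq_sum {ι : Type u} (B : Over U₀) (v : ι →₀ Fn O B.left) (s : Finset ι) (hs : v.support ⊆ s) :
    vfree B v = ∑ i ∈ s, (show RngSp.rO (O.over U₀) (op B) from v i) •
      (SheafOfModules.freeSection (R := ModSite.ringSh (O.over U₀)) i).eval (op B) :=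
  Finsupp.sum_of_support_subset v hs _ fun _ _ => zero_smul _ _

theorem vfree_smul {ι : Type u} (B : Over U₀) (a : Fn O B.left) (v : ι →₀ Fn O B.left) :
    vfree B (a • v) = (show RngSp.rO (O.over U₀) (op B) from a) • vfree B v := by
  rw [vfree_eq_sum B v v.support subset_rfl, vfree_eq_sum B (a • v) v.support Finsupp.support_smul,
    Finset.smul_sum]
  refine Finset.sum_congr rfl fun i _ => ?_
  exact mul_smul _ _ _

theorem rsM_vfree {ι : Type u} {A B : Over U₀} (g : B ⟶ A) (v : ι →₀ Fn O A.left) :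
    rsM (freeM (O.over U₀) ι) g (vfree A v) = vfree B (pv (rr O g.left.le) v) := by
  rw [vfree_eq_sum A v v.support subset_rfl, vfree_eq_sum B (pv (rr O g.left.le) v) v.support Finsupp.support_mapRange]
  refine (map_sum ((freeM (O.over U₀) ι).val.map g.op).hom _ _).trans (Finset.sum_congr rfl fun i _ => ?_)
  refine (RngSp.rsM_smul (M := freeM (O.over U₀) ι) g _ _).trans ?_
  rw [RngSp.rsM_eval]
  rfl

/-- Sections of free modules over compact opens are finitely supported. -/
theorem exists_vfree {ι : Type u} (A : Over U₀) (hA : IsCompact (A.left : Set X))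
    (z : (freeM (O.over U₀) ι).val.obj (op A)) : ∃ v, vfree A v = z := by
  classical
  choose V hV hxV S a ha using RngSp.free_nearby_sum (O := O) ι A z
  obtain ⟨s, hs⟩ := hA.elim_finite_subcover (fun x : A.left => ((V x.1 x.2 : Opens X) : Set X))
    (fun x => (V x.1 x.2).2) fun x hx => Set.mem_iUnion.2 ⟨⟨x, hx⟩, hxV x hx⟩
  let T := s.biUnion fun x => S x.1 x.2
  let v : ι →₀ Fn O A.left := Finsupp.onFinset T
    (fun i => if i ∈ T then (RngSp.coord (O := O.over U₀) i z : Fn O A.left) else 0)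
    fun i hi => by by_contra h'; exact hi (if_neg h')
  refine ⟨v, eq_of_locally' (freeM (O.over U₀) ι) (RngSp.locally_of_nearby fun y hy => ?_)⟩
  obtain ⟨x, hx, hyx⟩ := Set.mem_iUnion₂.1 (hs hy)
  refine ⟨V x.1 x.2, hyx, fun B g hB => ?_⟩
  change rsM (freeM (O.over U₀) ι) g (vfree A v) = rsM (freeM (O.over U₀) ι) g z
  rw [rsM_vfree]
  -- the given expression on the smaller open
  let B₁ : Over U₀ := Over.mk (homOfLE (hV x.1 x.2) ≫ A.hom)
  let g₁ : B ⟶ B₁ := Over.homMk (homOfLE hB) (Subsingleton.elim _ _)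
  let w : ι →₀ Fn O B.left := ∑ i ∈ S x.1 x.2, Finsupp.single i (rr O hB (a x.1 x.2 i))
  have hz : rsM (freeM (O.over U₀) ι) g z = vfree B w := by
    have h1 := congrArg (rsM (freeM (O.over U₀) ι) g₁) (ha x.1 x.2)
    have h2 : rsM (freeM (O.over U₀) ι) g₁ (rsM (freeM (O.over U₀) ι) (sub A (hV x.1 x.2)) z) =
        rsM (freeM (O.over U₀) ι) g z := by
      have e : g = g₁ ≫ sub A (hV x.1 x.2) := Over.OverMorphism.ext (Subsingleton.elim _ _)
      rw [e]
      exact (ConcreteCategory.congr_hom ((freeM (O.over U₀) ι).val.presheaf.map_comp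
        (sub A (hV x.1 x.2)).op g₁.op) z).symm
    refine h2.symm.trans (h1.trans ?_)
    simp only [w]
    refine Eq.trans ?_ (map_sum (AddMonoidHom.mk' (vfree B) (vfree_add B)) _ _).symm
    refine (map_sum ((freeM (O.over U₀) ι).val.map g₁.op).hom _ _).trans (Finset.sum_congr rfl fun i _ => ?_)
    refine (RngSp.rsM_smul (M := freeM (O.over U₀) ι) g₁ _ _).trans ?_
    rw [RngSp.rsM_eval]
    refine ((vfree_eq_sum B _ {i} Finsupp.support_single_subset).trans ?_).symm
    rw [Finset.sum_singleton, Finsupp.single_eq_same]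
    rfl
  rw [hz]
  congr 1
  refine Finsupp.ext fun i => ?_
  have hwi : w i = rr O g.left.le (RngSp.coord (O := O.over U₀) i z) := by
    rw [← coord_vfree B w i, ← hz]
    exact PresheafOfModules.naturality_apply (RngSp.coordHom (O := O.over U₀) i).val g.op z
  rw [pv_apply, Finsupp.onFinset_apply]
  by_cases hi : i ∈ T
  · rw [if_pos hi, hwi]
  · rw [if_neg hi, map_zero, Finsupp.finsetSum_apply]
    refine (Finset.sum_eq_zero fun j hj => ?_).symm
    exact Finsupp.single_eq_of_ne (fun e => hi (Finset.mem_biUnion.2 ⟨x, hx, e ▸ hj⟩))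

variable {M : ModSite.Mod O} (G : Good O)

theorem app_eval_eq {K K' : ModSite.Mod (O.over U₀)} (f : K ⟶ K') (s : K.sections) {A B : Over U₀} (g : B ⟶ A) :
    f.val.app (op B) (s.eval (op B)) = rsM K' g (f.val.app (op A) (s.eval (op A))) := by
  rw [← RngSp.rsM_eval g s]
  exact PresheafOfModules.naturality_apply f.val g.op _

section Presented

variable (P : ((ModSite.restr O U₀).obj M).Presentation) {U : Opens X} (hUU₀ : U ≤ U₀)

/-- The open as an object over the larger one. -/
abbrev ovr {V : Opens X} (h : V ≤ U₀) : Over U₀ := Over.mk (homOfLE h)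

/-- The values of the generators. -/
def tSec (i : P.generators.I) : M.val.obj (op U) := (P.generators.s i).eval (op (ovr hUU₀))

theorem res_tSec (B : Over U₀) (hB : B.left ≤ U) (i : P.generators.I) :
    res M hB (tSec P hUU₀ i) = (P.generators.s i).eval (op B) :=
  PresheafOfModules.sections_property (P.generators.s i)
    (Over.homMk (homOfLE hB) (Subsingleton.elim _ _) : B ⟶ ovr hUU₀).op

theorem π_vfree (B : Over U₀) (hB : B.left ≤ U) (v : P.generators.I →₀ Fn O B.left) :
    P.generators.π.val.app (op B) (vfree B v) = cmb (fun i => res M hB (tSec P hUU₀ i)) v := by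
  rw [vfree, Finsupp.sum, map_sum, cmb, Finsupp.sum]
  refine Finset.sum_congr rfl fun i _ => ?_
  rw [map_smul]
  exact congrArg₂ (· • ·) rfl ((RngSp.app_freeSection _ _ _).trans (res_tSec P hUU₀ B hB i).symm)

theorem gen_of_presentation (x : X) (hx : x ∈ U) (z : ModSite.stalkAb (pt x) M) :
    ∃ w, gcmb (fun i => gm M hx (tSec P hUU₀ i)) w = z := by
  obtain ⟨W, hW, z', rfl⟩ := RngSp.exists_gm z
  obtain ⟨V, hV, hxV, hz⟩ := nearby_span P.generators (ovr ((inf_le_left : U ⊓ W ≤ U).trans hUU₀))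
    (res M (inf_le_right : U ⊓ W ≤ W) z') x ⟨hx, hW⟩
  obtain ⟨c, hc⟩ := Finsupp.mem_span_range_iff_exists_finsupp.1 hz
  have hVU : V ≤ U := hV.trans inf_le_left
  refine ⟨pv (gH O hxV) (show P.generators.I →₀ Fn O V from c), ?_⟩
  have h1 : cmb (fun i => res M hVU (tSec P hUU₀ i)) (show P.generators.I →₀ Fn O V from c) =
      res M (hV.trans inf_le_right) z' := by
    rw [← res_res M inf_le_right hV z']
    refine Eq.trans ?_ hc
    refine Finsupp.sum_congr fun i _ => ?_
    exact congrArg₂ (· • ·) rfl (res_tSec P hUU₀ (Over.mk (homOfLE hV ≫ (ovr _).hom)) hVU i)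
  have h2 := congrArg (fun q => gm M hxV q) h1
  simp only [gm_cmb_res, RngSp.gm_res] at h2
  exact h2

variable (r : P.relations.I → P.generators.I →₀ Fn O U)
  (hr : ∀ l, vfree (ovr hUU₀) (r l) =
    (kernel.ι P.generators.π).val.app (op (ovr hUU₀)) ((P.relations.s l).eval (op (ovr hUU₀))))

include hr in
theorem exists_vec_of_mem_span (B : Over U₀) (hB : B.left ≤ U) (k : (kernel P.generators.π).val.obj (op B))
    (hk : k ∈ Submodule.span (RngSp.rO (O.over U₀) (op B))
      (Set.range fun l => (P.relations.s l).eval (op B))) :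
    ∃ v ∈ pN (rr O hB) (Submodule.span (Fn O U) (Set.range r)),
      (kernel.ι P.generators.π).val.app (op B) k = vfree B v := by
  induction hk using Submodule.span_induction with
  | mem k hk =>
    obtain ⟨l, rfl⟩ := hk
    refine ⟨pv (rr O hB) (r l), pv_mem_pN _ (Submodule.subset_span ⟨l, rfl⟩), ?_⟩
    let g : B ⟶ ovr hUU₀ := Over.homMk (homOfLE hB) (Subsingleton.elim _ _)
    exact (app_eval_eq (kernel.ι P.generators.π) (P.relations.s l) g).trans
      ((congrArg (rsM _ g) (hr l)).symm.trans (rsM_vfree g (r l)))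
  | zero => exact ⟨0, zero_mem _, by rw [map_zero, vfree, Finsupp.sum_zero_index]⟩
  | add a b _ _ ha hb =>
    obtain ⟨va, hva, ea⟩ := ha
    obtain ⟨vb, hvb, eb⟩ := hb
    exact ⟨va + vb, add_mem hva hvb, by rw [map_add, ea, eb, vfree_add]⟩
  | smul c a _ ha =>
    obtain ⟨va, hva, ea⟩ := ha
    refine ⟨(show Fn O B.left from c) • va, Submodule.smul_mem _ _ hva, ?_⟩
    rw [map_smul, ea, vfree_smul]

include hr in
theorem rel_of_presentation (x : X) (hx : x ∈ U) (w : P.generators.I →₀ St O x)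
    (hw : gcmb (fun i => gm M hx (tSec P hUU₀ i)) w = 0) :
    w ∈ pN (gH O hx) (Submodule.span (Fn O U) (Set.range r)) := by
  obtain ⟨V, hV, hxV, v, rfl⟩ := exists_pv_eq hx w
  have h0 : gm M hxV (cmb (fun i => res M hV (tSec P hUU₀ i)) v) = gm M hxV 0 := by
    rw [gm_cmb_res, RngSp.gm_zero]; exact hw
  obtain ⟨V', hV', hxV', he⟩ := (RngSp.gm_eq_iff hxV _ _).1 h0
  have hV'U : V' ≤ U := hV'.trans hV
  let B : Over U₀ := ovr (hV'U.trans hUU₀)
  have hk : P.generators.π.val.app (op B) (vfree B (pv (rr O hV') v)) = 0 := by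
    rw [π_vfree P hUU₀ B hV'U]
    refine eq_of_gm fun y hy => ?_
    have h1 := congrArg (fun q => gm M hy q) he
    simp only [RngSp.gm_res, gm_cmb_res, RngSp.gm_zero] at h1
    rw [gm_cmb_res, pv_gH_rr, RngSp.gm_zero]
    exact h1
  haveI : Epi P.generators.π := P.generators.epi
  obtain ⟨k, hk'⟩ := exists_app_eq_of_exact (RngSp.shortExact_ker P.generators.π) _ hk
  obtain ⟨V'', hV'', hxV'', hz⟩ := nearby_span P.relations B k x hxV'
  have hV''U : V'' ≤ U := hV''.trans hV'U
  obtain ⟨v', hv', hve⟩ := exists_vec_of_mem_span P hUU₀ r hr _ hV''U _ hz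
  have h5 : v' = pv (rr O hV'') (pv (rr O hV') v) := by
    refine vfree_injective _ (hve.symm.trans
      ((PresheafOfModules.naturality_apply (kernel.ι P.generators.π).val (sub B hV'').op k).trans ?_))
    exact (congrArg _ hk').trans (rsM_vfree (sub B hV'') _)
  have h6 := pv_gH_mem hV''U hxV'' hv'
  rw [h5, pv_gH_rr, pv_gH_rr] at h6
  exact h6

include hr in
theorem cmb_rel_eq_zero (l : P.relations.I) : cmb (tSec P hUU₀) (r l) = 0 := by
  have h1 : P.generators.π.val.app (op (ovr hUU₀)) (vfree (ovr hUU₀) (r l)) = 0 := by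
    rw [hr l]; exact RngSp.app_kerι P.generators.π _
  rw [π_vfree P hUU₀ (ovr hUU₀) le_rfl] at h1
  refine Eq.trans ?_ h1
  refine eq_of_gm fun y hy => ?_
  erw [gm_cmb, gm_cmb_res]

end Presented

include G in
/-- A module presented over an open has a model on the smaller members of the basis. -/
theorem exists_isModel_of_presentation (P : ((ModSite.restr O U₀).obj M).Presentation) {U : Opens X}
    (hU : G.P U) (hUU₀ : U ≤ U₀) :
    ∃ (ι : Type u) (t : ι → M.val.obj (op U)) (N : Submodule (Fn O U) (ι →₀ Fn O U)), IsModel M U t N := by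
  choose r hr using fun l => exists_vfree (O := O) (ovr hUU₀) (G.compact U hU)
    ((kernel.ι P.generators.π).val.app (op (ovr hUU₀)) ((P.relations.s l).eval (op (ovr hUU₀))))
  refine ⟨_, tSec P hUU₀, Submodule.span _ (Set.range r), ⟨gen_of_presentation P hUU₀, fun x hx w =>
    ⟨rel_of_presentation P hUU₀ r hr x hx w, fun hw => ?_⟩⟩⟩
  refine LinearMap.mem_ker.1 (?_ : w ∈ LinearMap.ker (gcmb fun i => gm M hx (tSec P hUU₀ i)))
  refine Submodule.span_le.2 ?_ hw
  rintro _ ⟨n, hn, rfl⟩
  induction hn using Submodule.span_induction with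
  | mem n hn =>
    obtain ⟨l, rfl⟩ := hn
    rw [SetLike.mem_coe, LinearMap.mem_ker, ← gm_cmb, cmb_rel_eq_zero P hUU₀ r hr l, RngSp.gm_zero]
  | zero => rw [pv_zero]; exact zero_mem _
  | add a b _ _ ha hb => rw [pv_add]; exact add_mem ha hb
  | smul c a _ ha => rw [pv_smul]; exact Submodule.smul_mem _ _ ha

include G in
/-- A quasi-coherent module has models near every point. -/
theorem exists_isModel [SheafOfModules.IsQuasicoherent.{u} (R := ModSite.ringSh O) M] {W : Opens X} {x : X}
    (hx : x ∈ W) :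
    ∃ (U : Opens X) (_ : G.P U) (_ : U ≤ W) (ι : Type u) (t : ι → M.val.obj (op U))
      (N : Submodule (Fn O U) (ι →₀ Fn O U)), x ∈ U ∧ IsModel M U t N := by
  obtain ⟨q⟩ := SheafOfModules.IsQuasicoherent.nonempty_quasicoherentData.{u} (M := M)
  obtain ⟨i, hi⟩ := RngSp.exists_mem_of_coversTop q.coversTop x
  obtain ⟨U, hU, hxU, hP⟩ := G.basis (W ⊓ q.X i) x ⟨hx, hi⟩
  obtain ⟨ι, t, N, h⟩ := exists_isModel_of_presentation G (q.presentation i) hP (hU.trans inf_le_right)
  exact ⟨U, hP, hU.trans inf_le_left, ι, t, N, hxU, h⟩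

end Groth.Agent.H9FCoh
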