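import Groth.Agent.Adic7.Limit
import Groth.Agent.LocalCrit.Complete
import Groth.Agent.FComplLib.AffineSys
import Mathlib.RingTheory.AdicCompletion.Completeness
import Mathlib

/-!
# Limits of adic systems of Noetherian rings
-/

set_option linter.style.haveILetI false
universe u

namespace Groth.Agent.H9FCoh

/-- The limit `L` of an adic system of Noetherian rings is Noetherian and complete. -/
theorem limit_rings (G : ℕ → Type u) [∀ n, CommRing (G n)] (hG : ∀ n, IsNoetherianRing (G n))
    (res : ∀ n, G (n + 1) →+* G n) (hres : ∀ n, Function.Surjective (res n))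
    (N : ∀ n, Ideal (G n)) (hbot : ∀ n, N n ^ (n + 1) = ⊥)
    (hker : ∀ n, RingHom.ker (res n) = N (n + 1) ^ (n + 1))
    (hmap : ∀ n, (N (n + 1)).map (res n) = N n)
    (L : Type u) [CommRing L] (π : ∀ n, L →+* G n) (hπ : ∀ n s, res n (π (n + 1) s) = π n s)
    (hinj : ∀ s : L, (∀ n, π n s = 0) → s = 0)
    (hlift : ∀ y : ∀ n, G n, (∀ n, res n (y (n + 1)) = y n) → ∃ s : L, ∀ n, π n s = y n) :
    IsNoetherianRing L ∧ IsAdicComplete (RingHom.ker (π 0)) L ∧
      ∀ n, Function.Surjective (π n) ∧ RingHom.ker (π n) = RingHom.ker (π 0) ^ (n + 1) ∧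
        (RingHom.ker (π 0)).map (π n) = N n := by
  classical
  obtain ⟨r, g, hg⟩ :=
    Submodule.fg_iff_exists_fin_generating_family.mp ((hG 1).noetherian (N 1))
  let y : Fin r → ∀ n, G n := fun i n =>
    Nat.rec (motive := G) 0 (fun m v => Nat.casesOn (motive := fun m => G m → G (m + 1)) m
      (fun _ => g i) (fun m v => Function.surjInv (hres (m + 1)) v) v) n
  have hy : ∀ i n, res n (y i (n + 1)) = y i n := by
    intro i n
    cases n with
    | zero =>
      change res 0 (g i) = 0
      rw [← RingHom.mem_ker, hker 0]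
      refine (pow_one (N (0 + 1))).symm ▸ ?_
      exact hg ▸ Submodule.subset_span ⟨i, rfl⟩
    | succ n => exact Function.surjInv_eq (hres (n + 1)) _
  have hspan : ∀ n, Ideal.span (Set.range fun i => y i (n + 1)) = N (n + 1) := by
    intro n
    induction n with
    | zero => exact hg
    | succ n ih =>
      set N' := N (n + 1 + 1) with hN'
      have hkN : RingHom.ker (res (n + 1)) ≤ N' :=
        (hker (n + 1)).le.trans (Ideal.pow_le_self (by omega))
      refine (FComplLib.eq_of_le_sup_pow N' _ (n + 1) (by omega) (hbot _) ?_ ?_).symm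
      · intro a ha
        have h1 : res (n + 1) a ∈ (Ideal.span (Set.range fun i => y i (n + 1 + 1))).map (res (n + 1)) := by
          rw [Ideal.map_span, ← Set.range_comp]
          simp only [Function.comp_def, hy]
          rw [ih, ← hmap (n + 1)]
          exact Ideal.mem_map_of_mem _ ha
        rw [← Ideal.mem_comap, Ideal.comap_map_of_surjective' _ (hres (n + 1)), hker (n + 1)] at h1
        exact h1
      · rw [Ideal.span_le]
        rintro _ ⟨i, rfl⟩
        have h1 : res (n + 1) (y i (n + 1 + 1)) ∈ N'.map (res (n + 1)) := by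
          rw [hy, hmap, ← ih]
          exact Ideal.subset_span ⟨i, rfl⟩
        rw [← Ideal.mem_comap, Ideal.comap_map_of_surjective' _ (hres (n + 1)),
          sup_eq_left.mpr hkN] at h1
        exact h1
  let P := MvPolynomial (Fin r) ℤ
  let ev : ∀ n, P →+* G n := fun n =>
    MvPolynomial.eval₂Hom (Int.castRingHom (G n)) fun i => y i n
  letI : ∀ n, Algebra P (G n) := fun n => (ev n).toAlgebra
  choose z hz using fun i => hlift (y i) (hy i)
  let evL : P →+* L := MvPolynomial.eval₂Hom (Int.castRingHom L) z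
  letI : Algebra P L := evL.toAlgebra
  let I : Ideal P := Ideal.span (Set.range MvPolynomial.X)
  have hI : I.FG := Submodule.fg_span (Set.finite_range _)
  have hIn : ∀ n, I.map (algebraMap P (G (n + 1))) = N (n + 1) := fun n => by
    rw [← hspan n, Ideal.map_span, ← Set.range_comp]
    congr 1
    congr 1
    funext i
    exact MvPolynomial.eval₂Hom_X' _ _ i
  have hI0 : I.map (algebraMap P (G 0)) = ⊥ := by
    rw [Ideal.map_span, Ideal.span_eq_bot]
    rintro _ ⟨_, ⟨i, rfl⟩, rfl⟩
    exact MvPolynomial.eval₂Hom_X' _ _ i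
  have hfc : ∀ n, (res n).comp (ev (n + 1)) = ev n := fun n =>
    MvPolynomial.ringHom_ext (fun k => by simp [ev]) fun i => by simp [ev, hy]
  let f : ∀ n, G (n + 1) →ₗ[P] G n := fun n =>
    ({ res n with commutes' := fun p => RingHom.congr_fun (hfc n) p } : G (n + 1) →ₐ[P] G n).toLinearMap
  have hπc : ∀ n, (π n).comp evL = ev n := fun n =>
    MvPolynomial.ringHom_ext (fun k => by simp [ev, evL]) fun i => by
      rw [RingHom.comp_apply, MvPolynomial.eval₂Hom_X', MvPolynomial.eval₂Hom_X']
      exact hz i n
  let π' : ∀ n, L →ₗ[P] G n := fun n =>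
    ({ π n with commutes' := fun p => RingHom.congr_fun (hπc n) p } : L →ₐ[P] G n).toLinearMap
  obtain ⟨hcomp, hπ', -⟩ := Adic7.limit_quotient_system P I hI G f hres (fun n => by
      refine SetLike.ext fun x => ?_
      rw [LinearMap.mem_ker, Ideal.smul_top_eq_map, Submodule.restrictScalars_mem, Ideal.map_pow,
        hIn n, ← hker n]
      rfl)
    L π' (fun n => LinearMap.ext fun s => hπ n s) hinj hlift
  set J : Ideal L := I.map (algebraMap P L) with hJdef
  have hJker : ∀ n, RingHom.ker (π n) = J ^ (n + 1) := fun n => by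
    refine SetLike.ext fun s => ?_
    rw [← Ideal.map_pow]
    exact (SetLike.ext_iff.mp (hπ' n).2 s).trans
      (by rw [Ideal.smul_top_eq_map, Submodule.restrictScalars_mem])
  have hJ0 : RingHom.ker (π 0) = J := by rw [hJker 0, zero_add, pow_one]
  have hJ : IsAdicComplete J L := (IsAdicComplete.map_algebraMap_iff (R := P) (S := L) (M := L) (I := I)).mpr hcomp
  have hG0 : IsNoetherianRing (L ⧸ J) := by
    have := hG 0
    exact isNoetherianRing_of_ringEquiv (G 0)
      (((Ideal.quotEquivOfEq hJ0.symm).trans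
        (RingHom.quotientKerEquivOfSurjective (hπ' 0).1)).symm)
  refine ⟨LocalCrit.isNoetherianRing_of_isAdicComplete J (hI.map _), hJ0 ▸ hJ, fun n => ⟨(hπ' n).1, ?_, ?_⟩⟩
  · rw [hJ0]; exact hJker n
  · rw [hJ0, hJdef, Ideal.map_map, show (π n).comp (algebraMap P L) = algebraMap P (G n) from hπc n]
    cases n with
    | zero =>
      rw [hI0]
      have h := hbot 0
      rw [zero_add, pow_one] at h
      exact h.symm
    | succ n => exact hIn n

end Groth.Agent.H9FCoh
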