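import Groth.Agent.H9FCoh.AdicHom
import Groth.Agent.H9FCoh.Univ
import Groth.Prelude.Def_FSch6
/-!
The base change map from the completion of a direct image to the direct image of the completion is an
isomorphism as soon as formal functions hold on sections over affine opens.
-/

set_option autoImplicit false
set_option backward.isDefEq.respectTransparency false
set_option backward.isDefEq.respectTransparency.types false
set_option linter.style.haveILetI false
universe u

open CategoryTheory CategoryTheory.Limits AlgebraicGeometry Opposite TopologicalSpace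
open Groth.Agent.ClosedRinged
open Groth.Agent.RngSp (pt gm mp fns)

noncomputable section

namespace Groth.Agent.H9FCoh

open Groth.Agent

variable {𝔛 : FSch.Sys.{u}} (h : 𝔛.IsLocNoethFormal) {X : Scheme.{u}} (p : ∀ n, 𝔛.X n ⟶ X)
  (hp : ∀ n, 𝔛.ι n ≫ p (n + 1) = p n)

theorem homEquiv_toCompl (F : X.Modules) :
    (cMor h p hp).adj.homEquiv _ _ (toCompl h p hp F) = fHat h.1 p hp F :=
  fProj_ext h.1 p hp fun k => (toCompl_realProj h p hp F k).trans (fHat_proj h.1 p hp F k).symm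

variable {𝔜 : FSch.Sys.{u}} (h' : 𝔜.IsLocNoethFormal) {Y : Scheme.{u}} (r : ∀ n, 𝔜.X n ⟶ Y)
  (hr : ∀ n, 𝔜.ι n ≫ r (n + 1) = r n) (φ : 𝔛 ⟶ 𝔜) (f : X ⟶ Y)
  (hsq : ∀ n, p n ≫ f = (φ : FSch.Hom 𝔛 𝔜).app n ≫ r n)

include hp hsq in
theorem le_level_preimage (V : Y.Opens) (n : ℕ) :
    𝔛.lvU h.1 n ((φ : FSch.Hom 𝔛 𝔜).app 0 ⁻¹ᵁ (r 0 ⁻¹ᵁ V)) ≤ p n ⁻¹ᵁ (f ⁻¹ᵁ V) := by
  rw [← FSch.sch_sq_preimage φ f p r hsq V, FSch.lvU_p 𝔛 h.1 p hp n]

/-- The comparison of the completed direct image with the direct image of the completion. -/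
def ffMap [IsLocallyNoetherian Y] [IsAffineHom (r 0)] (F : X.Modules)
    (hfF : Coh.IsCoh ((Scheme.Modules.pushforward f).obj F)) :
    (plMod r hr ((Scheme.Modules.pushforward f).obj F)).realMod h'.1 ⟶
      (FSch.pushF φ h.1 h'.1).obj ((plMod p hp F).realMod h.1) :=
  haveI := isIso_toCompl h' r hr _ hfF
  inv (toCompl h' r hr ((Scheme.Modules.pushforward f).obj F)) ≫
    FSch.schBcMap φ h.1 h'.1 f p hp r hr hsq F ≫ (FSch.pushF φ h.1 h'.1).map (toCompl h p hp F)

theorem homEquiv_schBcMap_comp (F : X.Modules) :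
    (cMor h' r hr).adj.homEquiv _ _
      (FSch.schBcMap φ h.1 h'.1 f p hp r hr hsq F ≫ (FSch.pushF φ h.1 h'.1).map (toCompl h p hp F)) =
    (Scheme.Modules.pushforward f).map (fHat h.1 p hp F) ≫
      (FSch.schPushSq φ h.1 h'.1 f p hp r hr hsq).hom.app ((plMod p hp F).realMod h.1) := by
  rw [(cMor h' r hr).adj.homEquiv_naturality_right]
  refine (congrArg (· ≫ _) (ModSite.RMor.bcMap_transpose (FSch.schSharp_sq φ h.1 h'.1 f p hp r hr hsq) F)).trans ?_
  refine (Category.assoc _ _ _).trans ?_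
  rw [← homEquiv_toCompl h p hp F, Adjunction.homEquiv_unit, Functor.map_comp, Category.assoc]
  exact congrArg (_ ≫ ·) ((FSch.schPushSq φ h.1 h'.1 f p hp r hr hsq).hom.naturality (toCompl h p hp F)).symm

theorem fHat_ffMap [IsLocallyNoetherian Y] [IsAffineHom (r 0)] (F : X.Modules)
    (hfF : Coh.IsCoh ((Scheme.Modules.pushforward f).obj F)) :
    fHat h'.1 r hr ((Scheme.Modules.pushforward f).obj F) ≫ (fPush h'.1 r hr).map (ffMap h p hp h' r hr φ f hsq F hfF) =
    (Scheme.Modules.pushforward f).map (fHat h.1 p hp F) ≫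
      (FSch.schPushSq φ h.1 h'.1 f p hp r hr hsq).hom.app ((plMod p hp F).realMod h.1) := by
  haveI := isIso_toCompl h' r hr _ hfF
  rw [← homEquiv_schBcMap_comp h p hp h' r hr φ f hsq F, ← homEquiv_toCompl h' r hr,
    ← Adjunction.homEquiv_naturality_right, ffMap, IsIso.hom_inv_id_assoc]

theorem fprM_ffMap_hat [IsLocallyNoetherian Y] [IsAffineHom (r 0)] (F : X.Modules)
    (hfF : Coh.IsCoh ((Scheme.Modules.pushforward f).obj F)) (V : Y.Opens) (y : Γ(F, f ⁻¹ᵁ V)) (n : ℕ) :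
    fprM h.1 (plMod p hp F) n ((φ : FSch.Hom 𝔛 𝔜).app 0 ⁻¹ᵁ (r 0 ⁻¹ᵁ V))
      (mp (ffMap h p hp h' r hr φ f hsq F hfF) (cU r V)
        (mp (fHat h'.1 r hr ((Scheme.Modules.pushforward f).obj F)) V y)) =
      QCoh.pullSec (p n) F (le_level_preimage h p hp r φ f hsq V n) y := by
  refine (congrArg (fun t => fprM h.1 (plMod p hp F) n _ (mp t V y)) (fHat_ffMap h p hp h' r hr φ f hsq F hfF)).trans ?_
  change fprM h.1 (plMod p hp F) n _ (res ((plMod p hp F).realMod h.1)
    (FSch.sch_sq_preimage φ f p r hsq V).ge (mp (fHat h.1 p hp F) (f ⁻¹ᵁ V) y)) = _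
  refine (RngSp.mp_res (FSch.realProj 𝔛 h.1 (plMod p hp F).F (plMod p hp F).toPush n) _ _).trans ?_
  refine (congrArg _ (fprM_hat h.1 p hp F n (f ⁻¹ᵁ V) y)).trans ?_
  exact QCoh.map_map _ _ _

/-- The comparison on a level factors through the level. -/
theorem exists_level_factor [IsLocallyNoetherian Y] [IsAffineHom (r 0)] (F : X.Modules)
    (hfF : Coh.IsCoh ((Scheme.Modules.pushforward f).obj F)) (n : ℕ) :
    ∀ (W : (𝔜.X 0).Opens) (x : ((plMod r hr ((Scheme.Modules.pushforward f).obj F)).realMod h'.1).val.obj (op W)),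
      fprM h'.1 (plMod r hr ((Scheme.Modules.pushforward f).obj F)) n W x = 0 →
        fprM h.1 (plMod p hp F) n ((φ : FSch.Hom 𝔛 𝔜).app 0 ⁻¹ᵁ W)
          (mp (ffMap h p hp h' r hr φ f hsq F hfF) W x) = 0 := by
  intro W x hx
  let π := (FSch.pushF φ h.1 h'.1).map (FSch.realProj 𝔛 h.1 (plMod p hp F).F (plMod p hp F).toPush n)
  let e := (FSch.lvPushSq φ h.1 h'.1 n).app ((plMod p hp F).F n)
  obtain ⟨a, ha⟩ := (realProj_push_bijective h' (plMod r hr ((Scheme.Modules.pushforward f).obj F))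
    (isCoh_plMod r hr _ hfF) n _).2 (ffMap h p hp h' r hr φ f hsq F hfF ≫ π ≫ e.hom)
  have h1 : mp e.hom W (mp π W (mp (ffMap h p hp h' r hr φ f hsq F hfF) W x)) = 0 := by
    refine (congrArg (fun t => mp t W x) ha.symm).trans ?_
    exact (congrArg _ hx).trans (map_zero (mp ((FSch.levelMor 𝔜 h'.1 n).push.map a) W))
  exact mp_injective_of_mono e.hom W (h1.trans (map_zero (mp e.hom W)).symm)

/-- Formal functions on sections over affine opens give the isomorphism. -/
theorem isIso_schBcMap [IsLocallyNoetherian X] [IsLocallyNoetherian Y] [IsAffineHom (p 0)] [IsAffineHom (r 0)]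
    (F : X.Modules) (hF : Coh.IsCoh F) (hfF : Coh.IsCoh ((Scheme.Modules.pushforward f).obj F))
    (hind : Topology.IsInducing (r 0).base)
    (hs : ∀ (V : Y.Opens), IsAffineOpen V → ∀ n, Function.Surjective
      fun y : Γ((Scheme.Modules.pushforward f).obj F, V) =>
        QCoh.pullSec (r n) _ (FSch.lvU_p 𝔜 h'.1 r hr n V).ge y)
    (hinj : ∀ (V : Y.Opens), IsAffineOpen V → ∀ n, ∃ m, n ≤ m ∧ ∀ y : Γ(F, f ⁻¹ᵁ V),
      QCoh.pullSec (p m) F (le_level_preimage h p hp r φ f hsq V m) y = 0 →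
        QCoh.pullSec (r n) ((Scheme.Modules.pushforward f).obj F) (FSch.lvU_p 𝔜 h'.1 r hr n V).ge y = 0)
    (hsurj : ∀ (V : Y.Opens), IsAffineOpen V → ∀ (n : ℕ)
      (s : ∀ k, Γ((plMod p hp F).F k, 𝔛.lvU h.1 k ((φ : FSch.Hom 𝔛 𝔜).app 0 ⁻¹ᵁ (r 0 ⁻¹ᵁ V)))),
      (∀ k, fstep h.1 (plMod p hp F) k _ (s (k + 1)) = s k) →
        ∃ y : Γ(F, f ⁻¹ᵁ V), QCoh.pullSec (p n) F (le_level_preimage h p hp r φ f hsq V n) y = s n) :
    IsIso (FSch.schBcMap φ h.1 h'.1 f p hp r hr hsq F) := by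
  haveI := isIso_toCompl h p hp F hF
  haveI := isIso_toCompl h' r hr _ hfF
  suffices IsIso (ffMap h p hp h' r hr φ f hsq F hfF) by
    have e : FSch.schBcMap φ h.1 h'.1 f p hp r hr hsq F = toCompl h' r hr ((Scheme.Modules.pushforward f).obj F) ≫
        ffMap h p hp h' r hr φ f hsq F hfF ≫ inv ((FSch.pushF φ h.1 h'.1).map (toCompl h p hp F)) := by
      simp [ffMap]
    rw [e]; infer_instance
  let P : Opens (𝔜.X 0) → Prop := fun W => ∃ V : Y.Opens, IsAffineOpen V ∧ W = cU r V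
  have hP : ∀ (O : Opens (𝔜.X 0)) (x : 𝔜.X 0), x ∈ O → ∃ W, P W ∧ x ∈ W ∧ W ≤ O := by
    intro O x hx
    obtain ⟨O', hO', hOO⟩ := hind.isOpen_iff.1 O.isOpen
    obtain ⟨V, hV, hxV, hVO⟩ := Opens.isBasis_iff_nbhd.mp Y.isBasis_affineOpens (U := ⟨O', hO'⟩)
      (show r 0 x ∈ O' from (Set.ext_iff.1 hOO x).2 hx)
    exact ⟨_, ⟨V, hV, rfl⟩, hxV, fun y hy => (Set.ext_iff.1 hOO y).1 (hVO hy)⟩
  have key : ∀ (V : Y.Opens) (x : ((plMod r hr ((Scheme.Modules.pushforward f).obj F)).realMod h'.1).val.obj (op (cU r V)))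
      (n : ℕ) (z : Γ((Scheme.Modules.pushforward f).obj F, V)),
      QCoh.pullSec (r n) _ (FSch.lvU_p 𝔜 h'.1 r hr n V).ge z =
        fprM h'.1 (plMod r hr ((Scheme.Modules.pushforward f).obj F)) n (cU r V) x →
      fprM h.1 (plMod p hp F) n _ (mp (ffMap h p hp h' r hr φ f hsq F hfF) (cU r V) x) =
        QCoh.pullSec (p n) F (le_level_preimage h p hp r φ f hsq V n) z := by
    intro V x n z hz
    refine Eq.trans (sub_eq_zero.1 ?_) (fprM_ffMap_hat h p hp h' r hr φ f hsq F hfF V z n)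
    refine Eq.trans ?_ (exists_level_factor h p hp h' r hr φ f hsq F hfF n (cU r V)
      (x - (show ((plMod r hr ((Scheme.Modules.pushforward f).obj F)).realMod h'.1).val.obj (op (cU r V)) from
        mp (fHat h'.1 r hr _) V z)) ?_)
    · rw [map_sub]
      exact (map_sub (mp (FSch.realProj 𝔛 h.1 (plMod p hp F).F (plMod p hp F).toPush n) _) _ _).symm
    · refine (map_sub (mp (FSch.realProj 𝔜 h'.1 (plMod r hr ((Scheme.Modules.pushforward f).obj F)).F
        (plMod r hr ((Scheme.Modules.pushforward f).obj F)).toPush n) _) _ _).trans ?_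
      exact sub_eq_zero.2 (hz.symm.trans (fprM_hat h'.1 r hr _ n V z).symm)
  haveI : Mono (ffMap h p hp h' r hr φ f hsq F hfF) := by
    refine mono_of_injective_basis hP _ ?_
    rintro _ ⟨V, hV, rfl⟩
    refine (injective_iff_map_eq_zero _).2 fun x hx => fprM_ext h'.1 _ fun n => ?_
    choose z hz using fun k => hs V hV k (fprM h'.1 (plMod r hr ((Scheme.Modules.pushforward f).obj F)) k (cU r V) x)
    obtain ⟨m, hnm, hm⟩ := hinj V hV n
    have h0 := hm (z m) (by
      rw [← key V x m (z m) (hz m), hx]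
      exact map_zero (mp (FSch.realProj 𝔛 h.1 _ _ m) _))
    let σ : ∀ k, Γ((Scheme.Modules.pushforward f).obj F, V) →+ _ := fun k => AddMonoidHom.mk'
      (fun y => QCoh.pullSec (r k) ((Scheme.Modules.pushforward f).obj F) (FSch.lvU_p 𝔜 h'.1 r hr k V).ge y)
      (QCoh.pullSec_add (r k) _ _)
    exact ((tower_descend σ (fun k => fstep h'.1 (plMod r hr ((Scheme.Modules.pushforward f).obj F)) k (cU r V))
      (fun k y => fstep_pullSec h'.1 r hr _ k V y) (z := z) hz
      (fun k => fprM_step h'.1 (plMod r hr ((Scheme.Modules.pushforward f).obj F)) k (cU r V) x) n m hnm).symm.trans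
        h0).trans (map_zero (mp (FSch.realProj 𝔜 h'.1 (plMod r hr ((Scheme.Modules.pushforward f).obj F)).F
          (plMod r hr ((Scheme.Modules.pushforward f).obj F)).toPush n) (cU r V))).symm
  haveI : Epi (ffMap h p hp h' r hr φ f hsq F hfF) := by
    refine epi_of_surjective_basis hP _ ?_
    rintro _ ⟨V, hV, rfl⟩ y
    choose z hz using fun k => hsurj V hV k (fun j => fprM h.1 (plMod p hp F) j _ y)
      (fun j => fprM_step h.1 (plMod p hp F) j _ y)
    choose M hM hMz using hinj V hV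
    let τ : ∀ k, Γ(F, f ⁻¹ᵁ V) →+ _ := fun k => AddMonoidHom.mk'
      (fun y => QCoh.pullSec (p k) F (le_level_preimage h p hp r φ f hsq V k) y) (QCoh.pullSec_add (p k) _ _)
    have eτ : ∀ k w, fstep h.1 (plMod p hp F) k _ (τ (k + 1) w) = τ k w := fun k w => by
      rw [show τ (k + 1) w = _ from (fprM_ffMap_hat h p hp h' r hr φ f hsq F hfF V w (k + 1)).symm,
        fprM_step]
      exact fprM_ffMap_hat h p hp h' r hr φ f hsq F hfF V w k
    have hd := tower_descend τ (fun k => fstep h.1 (plMod p hp F) k _) eτ (z := z) hz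
      (fun k => fprM_step h.1 (plMod p hp F) k _ y)
    let σ : ∀ k, Γ((Scheme.Modules.pushforward f).obj F, V) →+ _ := fun k => AddMonoidHom.mk'
      (fun y => QCoh.pullSec (r k) ((Scheme.Modules.pushforward f).obj F) (FSch.lvU_p 𝔜 h'.1 r hr k V).ge y)
      (QCoh.pullSec_add (r k) _ _)
    -- choose bounds increasing in the level
    have indep : ∀ n a b, M n ≤ a → M n ≤ b → σ n (z a) = σ n (z b) := fun n a b ha hb => by
      refine sub_eq_zero.1 ((map_sub (σ n) _ _).symm.trans (hMz n (z a - z b) ?_))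
      change τ (M n) (z a - z b) = 0
      rw [map_sub, hd (M n) a ha, hd (M n) b hb, sub_self]
    let N : ℕ → ℕ := fun n => (Finset.range (n + 1)).sup M + n
    have hN : ∀ n k, n ≤ k → M n ≤ N k := fun n k hnk =>
      (Finset.le_sup (f := M) (Finset.mem_range.2 (Nat.lt_succ_of_le hnk))).trans (Nat.le_add_right _ _)
    obtain ⟨x, hx⟩ := fprM_lift h'.1 (plMod r hr ((Scheme.Modules.pushforward f).obj F)) (V := cU r V)
      (fun n => σ n (z (N n))) fun n => (fstep_pullSec h'.1 r hr _ n V _).trans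
        (indep n _ _ (hN n (n + 1) (Nat.le_succ n)) (hN n n le_rfl))
    refine ⟨x, fprM_ext h.1 (plMod p hp F) fun n => ?_⟩
    refine (key V x n _ (hx n).symm).trans ?_
    exact hd n _ (Nat.le_add_left _ _)
  exact isIso_of_mono_of_epi _

end Groth.Agent.H9FCoh
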