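import Groth.Agent.H9FCoh.Model

/-!
# Models, in terms of sections
-/

set_option autoImplicit false
set_option backward.isDefEq.respectTransparency false
set_option backward.isDefEq.respectTransparency.types false
set_option linter.style.haveILetI false

universe u

open CategoryTheory Opposite TopologicalSpace
open Groth.Agent.RngSp (pt gm mp fns gm_res gm_eq_iff gm_zero exists_gm)
open Groth.Agent.ClosedRinged

noncomputable section

namespace Groth.Agent.H9FCoh

variable {X : TopCat.{u}} {O : TopCat.Sheaf CommRingCat.{u} X} (M : ModSite.Mod O)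

/-- Generators and relations on sections near every point. -/
structure SecModel (U : Opens X) {ι : Type u} (t : ι → M.val.obj (op U))
    (N : Submodule (Fn O U) (ι →₀ Fn O U)) : Prop where
  gen : ∀ (W : Opens X) (z : M.val.obj (op W)) (x : X), x ∈ W → x ∈ U →
    ∃ (V : Opens X) (hVW : V ≤ W) (hVU : V ≤ U), x ∈ V ∧
      ∃ v : ι →₀ Fn O V, cmb (fun i => res M hVU (t i)) v = res M hVW z
  kill : ∀ n ∈ N, cmb t n = 0
  rel : ∀ (V : Opens X) (hVU : V ≤ U) (v : ι →₀ Fn O V), cmb (fun i => res M hVU (t i)) v = 0 → ∀ x ∈ V,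
    ∃ (W : Opens X) (hW : W ≤ V), x ∈ W ∧ pv (rr O hW) v ∈ pN (rr O (hW.trans hVU)) N

variable {M}

theorem IsModel.secModel {U : Opens X} {ι : Type u} {t : ι → M.val.obj (op U)}
    {N : Submodule (Fn O U) (ι →₀ Fn O U)} (h : IsModel M U t N) : SecModel M U t N where
  gen W z x hxW hxU := by
    obtain ⟨w, hw⟩ := h.gen x hxU (gm M hxW z)
    obtain ⟨V, hV, hxV, v, hv⟩ := exists_pv_eq (U := W ⊓ U) ⟨hxW, hxU⟩ w
    have : gm M hxV (cmb (fun i => res M (hV.trans inf_le_right) (t i)) v) =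
        gm M hxV (res M (hV.trans inf_le_left) z) := by
      rw [gm_cmb_res, hv, gm_res]
      exact hw
    obtain ⟨V', hV', hxV', he⟩ := (gm_eq_iff hxV _ _).1 this
    refine ⟨V', hV'.trans (hV.trans inf_le_left), hV'.trans (hV.trans inf_le_right), hxV', pv (rr O hV') v,
      eq_of_gm fun y hy => ?_⟩
    have h1 := congrArg (fun q => gm M hy q) he
    simp only [gm_res, gm_cmb_res] at h1
    rw [gm_cmb_res, pv_gH_rr, gm_res]
    exact h1
  kill n hn := eq_of_gm fun x hx => by rw [gm_cmb, gm_zero]; exact (h.rel x hx _).2 (pv_mem_pN _ hn)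
  rel V hVU v hv x hx := by
    refine exists_mem_pN_rr hVU hx ((h.rel x (hVU hx) _).1 ?_)
    rw [← gm_cmb_res hVU v hx, hv, gm_zero]

theorem SecModel.isModel {U : Opens X} {ι : Type u} {t : ι → M.val.obj (op U)}
    {N : Submodule (Fn O U) (ι →₀ Fn O U)} (h : SecModel M U t N) : IsModel M U t N where
  gen x hx z := by
    obtain ⟨W, hxW, z', rfl⟩ := exists_gm z
    obtain ⟨V, hVW, hVU, hxV, v, hv⟩ := h.gen W z' x hxW hx
    exact ⟨pv (gH O hxV) v, by rw [← gm_cmb_res hVU v hxV, hv, gm_res]⟩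
  rel x hx w := by
    refine ⟨fun hw => ?_, fun hw => ?_⟩
    · obtain ⟨V, hV, hxV, v, rfl⟩ := exists_pv_eq hx w
      rw [← gm_cmb_res hV v hxV, ← gm_zero (M := M) hxV] at hw
      obtain ⟨V', hV', hxV', he⟩ := (gm_eq_iff hxV _ _).1 hw
      have hz : cmb (fun i => res M (hV'.trans hV) (t i)) (pv (rr O hV') v) = 0 := eq_of_gm fun y hy => by
        have h1 := congrArg (fun q => gm M hy q) he
        simp only [gm_res, gm_cmb_res, gm_zero] at h1
        rw [gm_cmb_res, pv_gH_rr, gm_zero]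
        exact h1
      obtain ⟨W, hW, hxW, hm⟩ := h.rel V' (hV'.trans hV) _ hz x hxV'
      have := pv_gH_mem (hW.trans (hV'.trans hV)) hxW hm
      rwa [pv_gH_rr, pv_gH_rr] at this
    · refine LinearMap.mem_ker.1 ((Submodule.span_le.2 ?_ : pN (gH O hx) N ≤ LinearMap.ker _) hw)
      rintro _ ⟨n, hn, rfl⟩
      refine LinearMap.mem_ker.2 ?_
      rw [← gm_cmb, h.kill n hn, gm_zero]

end Groth.Agent.H9FCoh
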