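import Groth.Agent.H9FCoh.Coh
import Groth.Agent.ModTensor.SheafHom
import Groth.Agent.ModTensor.ProjSheaf
import Groth.Agent.S6156

/-!
Internal hom out of a finitely presented module on a ringed space with good opens.
-/

set_option autoImplicit false
set_option backward.isDefEq.respectTransparency false
set_option backward.isDefEq.respectTransparency.types false
set_option linter.style.haveILetI false

universe u

open CategoryTheory CategoryTheory.Limits MonoidalCategory Opposite TopologicalSpace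
open Groth.Agent.RngSp (pt gm mp fns)
open Groth.Agent.ClosedRinged Groth.Agent.ModPull

noncomputable section

namespace Groth.Agent.H9FCoh

section Site

open Groth.Agent.ModTensor

variable {C : Type u} [SmallCategory C] {J : GrothendieckTopology C} {O : Sheaf J CommRingCat.{u}}

/-- Tensoring with the structure sheaf on the right. -/
def rhoTensor (O : Sheaf J CommRingCat.{u}) :
    (ModSite.tensorBi O).flip.obj (ModSite.unit O) ≅ 𝟭 (ModSite.Mod O) :=
  Functor.isoWhiskerLeft (fg O) (Functor.isoWhiskerRight (rightUnitorNatIso (P₀ O)) (sh O)) ≪≫ counitIso O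

/-- The endomorphism of every module given by an endomorphism of the structure sheaf. -/
def scal (γ : ModSite.unit O ⟶ ModSite.unit O) (B : ModSite.Mod O) : B ⟶ B :=
  (rhoTensor O).inv.app B ≫ ((ModSite.tensorBi O).obj B).map γ ≫ (rhoTensor O).hom.app B

theorem scal_naturality (γ : ModSite.unit O ⟶ ModSite.unit O) {B B' : ModSite.Mod O} (f : B ⟶ B') :
    scal γ B ≫ f = f ≫ scal γ B' := by
  have h1 := (rhoTensor O).inv.naturality f
  have h2 := (rhoTensor O).hom.naturality f
  simp only [Functor.id_map] at h1 h2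
  simp only [scal, Category.assoc]
  rw [← h2, ← Category.assoc (((ModSite.tensorBi O).obj B).map γ),
    show ((ModSite.tensorBi O).obj B).map γ ≫ ((ModSite.tensorBi O).flip.obj (ModSite.unit O)).map f =
      ((ModSite.tensorBi O).flip.obj (ModSite.unit O)).map f ≫ ((ModSite.tensorBi O).obj B').map γ from
      ((ModSite.tensorBi O).map f).naturality γ,
    Category.assoc, ← Category.assoc ((rhoTensor O).inv.app B), ← h1, Category.assoc]

instance additive_tensorBi_obj (Z : ModSite.Mod O) : ((ModSite.tensorBi O).obj Z).Additive := by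
  have : PreservesColimitsOfSize.{0, 0} ((ModSite.tensorBi O).obj Z) :=
    preservesColimitsOfSize_shrink.{0, u, 0, u} _
  have : PreservesFiniteColimits ((ModSite.tensorBi O).obj Z) := ⟨fun _ => inferInstance⟩
  have := Functor.preservesZeroMorphisms_of_preserves_initial_object (F := (ModSite.tensorBi O).obj Z)
  have : PreservesBinaryBiproducts ((ModSite.tensorBi O).obj Z) :=
    preservesBinaryBiproducts_of_preservesBinaryCoproducts _
  exact Functor.additive_of_preservesBinaryBiproducts _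

/-- The internal hom out of a finitely presented module is a kernel between finite sums. -/
theorem exists_sheafHom_kernel {A : ModSite.Mod O} [ModSite.HasSheafHom A] (B : ModSite.Mod O)
    (P : A.Presentation) [Finite P.generators.I] [Finite P.relations.I] :
    ∃ (n m : Type u) (_ : Fintype n) (_ : Fintype m) (e : n → ((ModSite.sheafHom A).obj B ⟶ B))
      (c : m → n → (B ⟶ B)), (∀ l, ∑ i, e i ≫ c l i = 0) ∧
      ∀ (Z : ModSite.Mod O) (q : n → (Z ⟶ B)), (∀ l, ∑ i, q i ≫ c l i = 0) →
        ∃! y : Z ⟶ (ModSite.sheafHom A).obj B, ∀ i, y ≫ e i = q i := by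
  classical
  let n := P.generators.I
  let m := P.relations.I
  haveI := Fintype.ofFinite n
  haveI := Fintype.ofFinite m
  let adj := ModSite.sheafHomAdj A
  let ρ := rhoTensor O
  let R := (ModSite.sheafHom A).obj B
  let F₁ : ModSite.Mod O := SheafOfModules.free n
  let F₂ : ModSite.Mod O := SheafOfModules.free m
  let ιn : n → (ModSite.unit O ⟶ F₁) := fun i => Sigma.ι (fun _ : n => ModSite.unit O) i
  let ιm : m → (ModSite.unit O ⟶ F₂) := fun l => Sigma.ι (fun _ : m => ModSite.unit O) l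
  let pr : n → (F₁ ⟶ ModSite.unit O) := fun i =>
    Sigma.desc fun k => if k = i then 𝟙 _ else 0
  have htot : ∑ i, pr i ≫ ιn i = 𝟙 F₁ := by
    refine Sigma.hom_ext _ _ fun k => ?_
    rw [Preadditive.comp_sum, Finset.sum_eq_single k]
    · simp only [pr, Sigma.ι_desc_assoc, if_true, Category.id_comp]
      exact (Category.comp_id _).symm
    · intro i _ hi
      simp only [pr, Sigma.ι_desc_assoc, if_neg (Ne.symm hi), zero_comp]
    · simp
  let π : F₁ ⟶ A := P.generators.π
  let rel : F₂ ⟶ F₁ := (SheafOfModules.freeHomEquiv _).symm P.relations.s ≫ kernel.ι _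
  have hw : rel ≫ π = 0 := by simp [rel, π, kernel.condition]
  let s : n → (ModSite.unit O ⟶ A) := fun i => ιn i ≫ π
  let γ : m → n → (ModSite.unit O ⟶ ModSite.unit O) := fun l i => ιm l ≫ rel ≫ pr i
  let e : n → (R ⟶ B) := fun i =>
    ρ.inv.app R ≫ ((ModSite.tensorBi O).obj R).map (s i) ≫ adj.counit.app B
  refine ⟨n, m, inferInstance, inferInstance, e, fun l i => scal (γ l i) B, fun l => ?_, fun Z q hq => ?_⟩
  · have h1 : ∀ i, e i ≫ scal (γ l i) B =
        ρ.inv.app R ≫ ((ModSite.tensorBi O).obj R).map (γ l i ≫ s i) ≫ adj.counit.app B := fun i => by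
      rw [← scal_naturality]
      simp [e, scal, Functor.map_comp, ρ]
    rw [Finset.sum_congr rfl fun i _ => h1 i, ← Preadditive.comp_sum, ← Preadditive.sum_comp, ← Functor.map_sum]
    have h2 : ∑ i, γ l i ≫ s i = 0 := by
      calc ∑ i, γ l i ≫ s i = ιm l ≫ rel ≫ (∑ i, pr i ≫ ιn i) ≫ π := by
            simp [γ, s, Preadditive.sum_comp, Preadditive.comp_sum]
        _ = 0 := by rw [htot, Category.id_comp, hw, comp_zero]
    rw [h2, Functor.map_zero, zero_comp, comp_zero]
  · let T := (ModSite.tensorBi O).obj Z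
    let Q : T.obj F₁ ⟶ B := ∑ i, T.map (pr i) ≫ ρ.hom.app Z ≫ q i
    have hιQ : ∀ i, T.map (ιn i) ≫ Q = ρ.hom.app Z ≫ q i := fun i => by
      simp only [Q, Preadditive.comp_sum]
      rw [Finset.sum_eq_single i]
      · rw [← Category.assoc, ← T.map_comp]
        simp only [ιn, pr, Sigma.ι_desc, if_true]
        rw [CategoryTheory.Functor.map_id, Category.id_comp]
      · intro k _ hk
        rw [← Category.assoc, ← T.map_comp]
        simp only [ιn, pr, Sigma.ι_desc, if_neg (Ne.symm hk), Functor.map_zero, zero_comp]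
      · simp
    have hrelQ : T.map rel ≫ Q = 0 := by
      haveI : PreservesColimit (Discrete.functor fun _ : m => ModSite.unit O) T := inferInstance
      refine (isColimitOfHasCoproductOfPreservesColimit T fun _ : m => ModSite.unit O).hom_ext fun ⟨l⟩ => ?_
      show T.map (ιm l) ≫ T.map rel ≫ Q = T.map (ιm l) ≫ 0
      rw [comp_zero]
      simp only [Q, Preadditive.comp_sum]
      have h1 : ∀ i, T.map (ιm l) ≫ T.map rel ≫ T.map (pr i) ≫ ρ.hom.app Z ≫ q i =
          ρ.hom.app Z ≫ q i ≫ scal (γ l i) B := fun i => by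
        rw [← scal_naturality]
        simp [scal, γ, T, ρ, Functor.map_comp]
      rw [Finset.sum_congr rfl fun i _ => h1 i, ← Preadditive.comp_sum, hq l, comp_zero]
    haveI : PreservesColimit (parallelPair rel 0) T := inferInstance
    haveI hepi : Epi π := P.generators.epi
    let hc := CokernelCofork.mapIsColimit _ P.isColimit T
    obtain ⟨χ, hχ⟩ := CokernelCofork.IsColimit.desc' hc Q hrelQ
    have hχ' : T.map π ≫ χ = Q := hχ
    have hcomp : ∀ (y : Z ⟶ R) (i : n), y ≫ e i =
        ρ.inv.app Z ≫ T.map (s i) ≫ (adj.homEquiv Z B).symm y := fun y i => by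
      rw [Adjunction.homEquiv_counit]
      have h1 := ρ.inv.naturality y
      simp only [Functor.id_map] at h1
      simp only [e, T]
      rw [← Category.assoc y, h1, Category.assoc,
        ← Category.assoc (((ModSite.tensorBi O).flip.obj (ModSite.unit O)).map y),
        show ((ModSite.tensorBi O).flip.obj (ModSite.unit O)).map y ≫ ((ModSite.tensorBi O).obj R).map (s i) =
          ((ModSite.tensorBi O).obj Z).map (s i) ≫ ((ModSite.tensorBi O).flip.obj A).map y from
          (((ModSite.tensorBi O).map y).naturality (s i)).symm, Category.assoc]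
    refine ⟨adj.homEquiv Z B χ, fun i => ?_, fun y hy => ?_⟩
    · rw [hcomp, Equiv.symm_apply_apply]
      simp only [s, Functor.map_comp, Category.assoc, hχ', hιQ]
      rw [Iso.inv_hom_id_app_assoc]
    · refine (Equiv.symm_apply_eq (adj.homEquiv Z B)).1 ?_
      refine Cofork.IsColimit.hom_ext hc ?_
      show T.map π ≫ _ = T.map π ≫ χ
      rw [hχ']
      haveI : PreservesColimit (Discrete.functor fun _ : n => ModSite.unit O) T := inferInstance
      refine (isColimitOfHasCoproductOfPreservesColimit T fun _ : n => ModSite.unit O).hom_ext fun ⟨i⟩ => ?_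
      show T.map (ιn i) ≫ _ = T.map (ιn i) ≫ Q
      rw [hιQ, ← hy i, hcomp y i]
      simp [s, Functor.map_comp, T, ρ]

end Site

section Space

local instance hasFiniteBiproductsMod {X : TopCat.{u}} (O : TopCat.Sheaf CommRingCat.{u} X) :
    HasFiniteBiproducts (ModSite.Mod O) :=
  HasFiniteBiproducts.of_hasFiniteProducts

variable {X : TopCat.{u}} {O : TopCat.Sheaf CommRingCat.{u} X} {U₀ : Opens X} {M M' H : ModSite.Mod O}

/-- The component of a map over an open at a smaller open. -/
abbrev ap (φ : (ModSite.restr O U₀).obj M ⟶ (ModSite.restr O U₀).obj M') {V : Opens X} (hV : V ≤ U₀)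
    (z : M.val.obj (op V)) : M'.val.obj (op V) :=
  (φ.val.app (op (Over.mk (homOfLE hV)))).hom z

theorem ap_res (φ : (ModSite.restr O U₀).obj M ⟶ (ModSite.restr O U₀).obj M') {V W : Opens X} (h : W ≤ V)
    (hV : V ≤ U₀) (z : M.val.obj (op V)) :
    res M' h (ap φ hV z) = ap φ (h.trans hV) (res M h z) :=
  (PresheafOfModules.naturality_apply φ.val
    (Over.homMk (homOfLE h) rfl : Over.mk (homOfLE (h.trans hV)) ⟶ Over.mk (homOfLE hV)).op z).symm

theorem ap_zero (φ : (ModSite.restr O U₀).obj M ⟶ (ModSite.restr O U₀).obj M') {V : Opens X} (hV : V ≤ U₀) :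
    ap φ hV 0 = 0 := map_zero _

theorem ap_cmb (φ : (ModSite.restr O U₀).obj M ⟶ (ModSite.restr O U₀).obj M') {V : Opens X} (hV : V ≤ U₀)
    {ι : Type u} (t : ι → M.val.obj (op V)) (v : ι →₀ Fn O V) :
    ap φ hV (cmb t v) = cmb (fun i => ap φ hV (t i)) v := by
  rw [cmb, cmb, Finsupp.sum, Finsupp.sum, ap, map_sum]
  exact Finset.sum_congr rfl fun i _ => map_smul _ _ _

/-- The projections and inclusions of a finite sum. -/
theorem biprod_total {n : Type u} [Fintype n] (T : n → ModSite.Mod O) :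
    ∑ i, biproduct.π T i ≫ biproduct.ι T i = 𝟙 (⨁ T) := by
  classical
  refine biproduct.hom_ext' _ _ fun j => ?_
  rw [Preadditive.comp_sum, Finset.sum_eq_single j, biproduct.ι_π_self_assoc]
  · exact (Category.comp_id _).symm
  · intro i _ hi
    rw [biproduct.ι_π_ne_assoc T (Ne.symm hi), zero_comp]
  · simp

variable (e : (ModSite.restr O U₀).obj H ⟶ (ModSite.restr O U₀).obj M)
  (φ : (ModSite.restr O U₀).obj M ⟶ (ModSite.restr O U₀).obj M') (w : e ≫ φ = 0)
  (hlim : IsLimit (KernelFork.ofι e w))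

include hlim in
theorem ap_exact {V : Opens X} (hV : V ≤ U₀) :
    Function.Injective (ap e hV) ∧ ∀ z, ap φ hV z = 0 → ∃ y, ap e hV y = z := by
  let E := SheafOfModules.evaluation (ModSite.ringSh (O.over U₀)) (op (Over.mk (homOfLE hV)))
  haveI : E.Additive := ⟨fun {_ _ _ _} => rfl⟩
  haveI : PreservesLimit (parallelPair φ 0) E := inferInstance
  have h := KernelFork.mapIsLimit _ hlim E
  have hz : E.map e ≫ E.map φ = 0 := by rw [← E.map_comp, w, E.map_zero]
  let h' : IsLimit (KernelFork.ofι (E.map e) hz) := h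
  refine ⟨(ModuleCat.mono_iff_injective (E.map e)).1 (mono_of_isLimit_fork h'), fun z hzz => ?_⟩
  obtain ⟨l, hl⟩ := KernelFork.IsLimit.lift' h' (kernel.ι (E.map φ)) (kernel.condition _)
  let y := (ModuleCat.kernelIsoKer (E.map φ)).inv ⟨z, hzz⟩
  refine ⟨l y, ?_⟩
  exact (congr($hl y)).trans (congr($(ModuleCat.kernelIsoKer_inv_kernel_ι (E.map φ)) ⟨z, hzz⟩))

include hlim in
theorem isModel_of_overKernel {U : Opens X} (hU : U ≤ U₀) {ι κ σ : Type u} {t : ι → M.val.obj (op U)}
    {N : Submodule (Fn O U) (ι →₀ Fn O U)} {t' : κ → M'.val.obj (op U)} {N' : Submodule (Fn O U) (κ →₀ Fn O U)}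
    {col : ι → κ →₀ Fn O U} {g : σ → ι →₀ Fn O U} (hflat : ∀ (x : X) (hx : x ∈ U), (gH O hx).Flat)
    (hM : IsModel M U t N) (hM' : IsModel M' U t' N') (hcol : ∀ i, ap φ hU (t i) = cmb t' (col i))
    (hg : Submodule.span (Fn O U) (Set.range g) = N'.comap (Finsupp.linearCombination (Fn O U) col)) :
    ∃ s : σ → H.val.obj (op U), IsModel H U s (N.comap (Finsupp.linearCombination (Fn O U) g)) := by
  have hφcmb : ∀ {V : Opens X} (hV : V ≤ U) (v : ι →₀ Fn O V) {x : X} (hx : x ∈ V),
      gm M' hx (ap φ (hV.trans hU) (cmb (fun i => res M hV (t i)) v)) =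
        gcmb (fun k => gm M' (hV hx) (t' k)) (colMap (gH O (hV hx)) col (pv (gH O hx) v)) := fun hV v x hx => by
    have e1 : (fun i => gm M' hx (ap φ (hV.trans hU) (res M hV (t i)))) = fun i => gm M' (hV hx) (cmb t' (col i)) :=
      funext fun i => by rw [← ap_res φ hV hU, RngSp.gm_res, hcol]
    rw [ap_cmb, gm_cmb, e1]
    exact gcmb_cmb t' col (hV hx) _
  have hzero : ∀ j, ap φ hU (cmb t (g j)) = 0 := fun j => eq_of_gm fun x hx => by
    rw [ap_cmb, gm_cmb]
    simp only [hcol]
    rw [gcmb_cmb t' col hx, colMap_pv, RngSp.gm_zero]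
    exact (hM'.rel x hx _).2 (pv_mem_pN _ (hg.le (Submodule.subset_span ⟨j, rfl⟩)))
  choose s hs using fun j => (ap_exact e φ w hlim hU).2 _ (hzero j)
  have hecmb : ∀ {V : Opens X} (hV : V ≤ U) (u : σ →₀ Fn O V) {x : X} (hx : x ∈ V),
      gm M hx (ap e (hV.trans hU) (cmb (fun j => res H hV (s j)) u)) =
        gcmb (fun i => gm M (hV hx) (t i)) (colMap (gH O (hV hx)) g (pv (gH O hx) u)) := fun hV u x hx => by
    have e1 : (fun j => gm M hx (ap e (hV.trans hU) (res H hV (s j)))) = fun j => gm M (hV hx) (cmb t (g j)) :=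
      funext fun j => by rw [← ap_res e hV hU, RngSp.gm_res, hs]
    rw [ap_cmb, gm_cmb, e1]
    exact gcmb_cmb t g (hV hx) _
  have hinj : ∀ {V : Opens X} (hV : V ≤ U) {x : X} (hx : x ∈ V) (a b : H.val.obj (op V)),
      gm M hx (ap e (hV.trans hU) a) = gm M hx (ap e (hV.trans hU) b) → gm H hx a = gm H hx b := by
    intro V hV x hx a b h
    obtain ⟨V', hV', hxV', he⟩ := (RngSp.gm_eq_iff hx _ _).1 h
    rw [ap_res, ap_res] at he
    exact (RngSp.gm_eq_iff hx _ _).2 ⟨V', hV', hxV', (ap_exact e φ w hlim _).1 he⟩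
  refine ⟨s, ⟨fun x hx z => ?_, fun x hx u => ?_⟩⟩
  · obtain ⟨W, hxW, z₀, rfl⟩ := RngSp.exists_gm z
    have hV0 : W ⊓ U ≤ U := inf_le_right
    let z₁ := res H (inf_le_left : W ⊓ U ≤ W) z₀
    obtain ⟨w₀, hw₀⟩ := hM.gen x hx (gm M (show x ∈ W ⊓ U from ⟨hxW, hx⟩) (ap e (hV0.trans hU) z₁))
    obtain ⟨V, hV, hxV, v, rfl⟩ := exists_pv_eq hx w₀
    rw [← gm_cmb_res hV v hxV] at hw₀
    have h1 : gm M (show x ∈ V ⊓ (W ⊓ U) from ⟨hxV, hxW, hx⟩)
        (res M inf_le_left (cmb (fun i => res M hV (t i)) v)) =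
      gm M (show x ∈ V ⊓ (W ⊓ U) from ⟨hxV, hxW, hx⟩) (res M inf_le_right (ap e (hV0.trans hU) z₁)) := by
      rw [RngSp.gm_res, RngSp.gm_res]; exact hw₀
    obtain ⟨V', hV', hxV', he⟩ := (RngSp.gm_eq_iff _ _ _).1 h1
    rw [res_res, res_res] at he
    have h2 : gm M' hxV' (ap φ ((hV'.trans (inf_le_left.trans hV)).trans hU)
        (res M (hV'.trans inf_le_left) (cmb (fun i => res M hV (t i)) v))) = 0 := by
      rw [he, ap_res]
      have : ∀ {V : Opens X} (hV : V ≤ U₀) (y : H.val.obj (op V)), ap φ hV (ap e hV y) = 0 := fun hV y =>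
        congr((($w).val.app (op (Over.mk (homOfLE hV)))).hom y)
      rw [this, RngSp.gm_zero]
    rw [← ap_res φ (hV'.trans inf_le_left) (hV.trans hU), RngSp.gm_res, hφcmb, hM'.rel x hx] at h2
    have h3 := mem_pN_comap_col _ (hflat x hx) col h2
    rw [← hg, pN_span, ← Set.range_comp] at h3
    obtain ⟨u, hu⟩ := Finsupp.mem_span_range_iff_exists_finsupp.1 h3
    refine ⟨u, ?_⟩
    obtain ⟨V₂, hV₂, hxV₂, u₀, rfl⟩ := exists_pv_eq hx u
    rw [← gm_cmb_res hV₂ u₀ hxV₂]
    let V₃ := V₂ ⊓ (W ⊓ U)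
    have hx₃ : x ∈ V₃ := ⟨hxV₂, hxW, hx⟩
    rw [← RngSp.gm_res (inf_le_left : V₃ ≤ V₂) hx₃, ← RngSp.gm_res ((inf_le_right.trans inf_le_left) : V₃ ≤ W) hx₃ z₀]
    refine hinj (inf_le_left.trans hV₂) hx₃ _ _ ?_
    rw [← ap_res e inf_le_left (hV₂.trans hU), RngSp.gm_res, hecmb]
    rw [show res H _ z₀ = res H (inf_le_right : V₃ ≤ W ⊓ U) z₁ from (res_res H _ _ _).symm,
      ← ap_res e inf_le_right (hV0.trans hU), RngSp.gm_res, ← hw₀, gm_cmb_res]
    exact congrArg _ hu
  · obtain ⟨V, hV, hxV, u₀, rfl⟩ := exists_pv_eq hx u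
    rw [← gm_cmb_res hV u₀ hxV]
    have e0 : gm H hxV (cmb (fun j => res H hV (s j)) u₀) = 0 ↔
        gm M hxV (ap e (hV.trans hU) (cmb (fun j => res H hV (s j)) u₀)) = 0 := by
      constructor
      · intro h
        rw [← RngSp.gm_zero hxV] at h
        obtain ⟨V', hV', hxV', he⟩ := (RngSp.gm_eq_iff hxV _ _).1 h
        rw [res_zero] at he
        rw [← RngSp.gm_res hV' hxV', ap_res, he, ap_zero, RngSp.gm_zero]
      · intro h
        rw [← RngSp.gm_zero hxV]
        refine hinj hV hxV _ _ ?_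
        rw [h, ap_zero, RngSp.gm_zero]
    rw [e0, hecmb, hM.rel x hx]
    exact ⟨mem_pN_comap_col _ (hflat x hx) g, colMap_mem_pN _ g fun v hv => hv⟩

/-- Models of finite sums of copies of a module. -/
theorem isModel_biproduct {n : Type u} [Fintype n] [DecidableEq n] {U : Opens X} {κ : Type u}
    {t : κ → M.val.obj (op U)} {N : Submodule (Fn O U) (κ →₀ Fn O U)} (h : IsModel M U t N) :
    ∃ N' : Submodule (Fn O U) (n × κ →₀ Fn O U), IsModel (⨁ fun _ : n => M) U
      (fun p => mp (biproduct.ι (fun _ : n => M) p.1) U (t p.2)) N' := by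
  let T : n → ModSite.Mod O := fun _ => M
  let incl : n → (κ →₀ Fn O U) →ₗ[Fn O U] (n × κ →₀ Fn O U) := fun i => Finsupp.lmapDomain _ _ (Prod.mk i)
  refine ⟨⨆ i, N.map (incl i), ?_⟩
  have hdec : ∀ (x : X) (z : ModSite.stalkAb (pt x) (⨁ T)),
      z = ∑ i, fx (biproduct.ι T i) x (fx (biproduct.π T i) x z) := fun x z => by
    obtain ⟨W, hW, z₀, rfl⟩ := RngSp.exists_gm z
    simp only [fx_gm]
    rw [← RngSp.gm_sum]
    refine congrArg (gm (⨁ T) hW) ?_
    let ev : (⨁ T ⟶ ⨁ T) →+ (⨁ T).val.obj (op W) :=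
      { toFun := fun f => mp f W z₀
        map_zero' := rfl
        map_add' := fun _ _ => rfl }
    calc z₀ = ev (∑ i, biproduct.π T i ≫ biproduct.ι T i) := by rw [biprod_total T]; rfl
      _ = _ := map_sum ev _ _
  have hπι : ∀ (i j : n) (x : X) (z : ModSite.stalkAb (pt x) M),
      fx (biproduct.π T j) x (fx (biproduct.ι T i) x z) = if i = j then z else 0 := fun i j x z => by
    obtain ⟨W, hW, z₀, rfl⟩ := RngSp.exists_gm z
    rw [fx_gm, fx_gm]
    rcases eq_or_ne i j with rfl | hij
    · rw [if_pos rfl]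
      exact congrArg (gm M hW) (congr(mp $(biproduct.ι_π_self T i) W z₀))
    · rw [if_neg hij]
      exact (congrArg (gm M hW) (congr(mp $(biproduct.ι_π_ne T hij) W z₀))).trans (RngSp.gm_zero hW)
  have hg : ∀ (x : X) (hx : x ∈ U) (i : n) (a : κ →₀ St O x),
      gcmb (fun p : n × κ => gm (⨁ T) hx (mp (biproduct.ι T p.1) U (t p.2))) (a.mapDomain (Prod.mk i)) =
        fx (biproduct.ι T i) x (gcmb (fun k => gm M hx (t k)) a) := fun x hx i a => by
    rw [fx_gcmb, gcmb, gcmb, lc_mapDomain]
  refine ⟨fun x hx z => ?_, fun x hx w => ?_⟩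
  · choose a ha using fun i => h.gen x hx (fx (biproduct.π T i) x z)
    refine ⟨∑ i, (a i).mapDomain (Prod.mk i), ?_⟩
    rw [map_sum, Finset.sum_congr rfl fun i _ => hg x hx i (a i), Finset.sum_congr rfl fun i _ => by rw [ha i]]
    exact (hdec x z).symm
  · let comp : n → (κ →₀ St O x) := fun i => w.comapDomain (Prod.mk i) (Prod.mk_right_injective i).injOn
    have hw : w = ∑ i, (comp i).mapDomain (Prod.mk i) := by
      ext ⟨j, k⟩
      rw [Finsupp.finsetSum_apply, Finset.sum_eq_single j]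
      · rw [Finsupp.mapDomain_apply (Prod.mk_right_injective j)]; rfl
      · intro i _ hij
        exact Finsupp.mapDomain_notin_range _ _ fun ⟨k', hk'⟩ => hij (congrArg Prod.fst hk')
      · simp
    have hmap : ∀ i, ∀ a ∈ pN (gH O hx) N, (a : κ →₀ St O x).mapDomain (Prod.mk i) ∈
        pN (gH O hx) (⨆ i, N.map (incl i)) := by
      intro i a ha
      suffices hle : (pN (gH O hx) N).map (Finsupp.lmapDomain (St O x) (St O x) (Prod.mk i)) ≤
          pN (gH O hx) (⨆ i, N.map (incl i)) from hle (Submodule.mem_map_of_mem ha)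
      rw [pN, Submodule.map_span_le]
      rintro _ ⟨v, hv, rfl⟩
      show (pv (gH O hx) v).mapDomain (Prod.mk i) ∈ _
      rw [← pv_mapDomain]
      exact pv_mem_pN _ (Submodule.mem_iSup_of_mem i (Submodule.mem_map_of_mem hv))
    constructor
    · intro h0
      rw [hw]
      refine Submodule.sum_mem _ fun i _ => hmap i (comp i) ?_
      rw [← h.rel x hx]
      have h1 := congrArg (fx (biproduct.π T i) x) h0
      rw [map_zero, hw, map_sum, map_sum, Finset.sum_eq_single i] at h1
      · rwa [hg, hπι, if_pos rfl] at h1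
      · intro j _ hji
        rw [hg, hπι, if_neg hji]
      · simp
    · intro hmem
      refine LinearMap.mem_ker.1 ((Submodule.span_le.2 ?_ : pN (gH O hx) _ ≤ LinearMap.ker
        (gcmb fun p : n × κ => gm (⨁ T) hx (mp (biproduct.ι T p.1) U (t p.2)))) hmem)
      rintro _ ⟨v, hv, rfl⟩
      induction hv using Submodule.iSup_induction' with
      | mem i v hv =>
        obtain ⟨a, ha, rfl⟩ := hv
        show gcmb _ (pv (gH O hx) (a.mapDomain (Prod.mk i))) = 0
        rw [pv_mapDomain, hg, (h.rel x hx _).2 (pv_mem_pN _ ha), map_zero]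
      | zero => show gcmb _ (pv (gH O hx) 0) = 0; rw [pv_zero, map_zero]
      | add a b _ _ ha hb =>
        show gcmb _ (pv (gH O hx) (a + b)) = 0
        rw [pv_add, map_add]
        exact (congrArg₂ (· + ·) ha hb).trans (add_zero 0)

variable (G : Good O) {F P : ModSite.Mod O} [ModSite.HasSheafHom F]

/-- Near a point the internal hom is a kernel between finite sums. -/
theorem exists_overKernel (hF : IsFP F) (x : X) :
    ∃ (V : Opens X) (_ : x ∈ V) (n m : Type u) (_ : Fintype n) (_ : Fintype m)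
      (e : (ModSite.restr O V).obj ((ModSite.sheafHom F).obj P) ⟶ (ModSite.restr O V).obj (⨁ fun _ : n => P))
      (φ : (ModSite.restr O V).obj (⨁ fun _ : n => P) ⟶ (ModSite.restr O V).obj (⨁ fun _ : m => P))
      (w : e ≫ φ = 0), Nonempty (IsLimit (KernelFork.ofι e w)) := by
  classical
  obtain ⟨q, hq⟩ := SheafOfModules.IsFinitePresentation.exists_quasicoherentData (M := F) (self := hF)
  haveI := hq
  obtain ⟨j, hj⟩ := RngSp.exists_mem_of_coversTop q.coversTop x
  let V := q.X j
  let R := ModSite.restr O V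
  let P₁ : ((R.obj F)).Presentation := q.presentation j
  haveI : P₁.IsFinite := hq.isFinite_presentation j
  haveI : Finite P₁.generators.I := SheafOfModules.GeneratingSections.IsFiniteType.finite
  haveI : Finite P₁.relations.I := SheafOfModules.GeneratingSections.IsFiniteType.finite
  haveI : ModSite.HasSheafHom (R.obj F) := Groth.Agent.ModTensor.hasSheafHom _
  obtain ⟨θ⟩ := S6156.result O V F P
  obtain ⟨n, m, hn, hm, e, c, hzero, hlift⟩ := exists_sheafHom_kernel (R.obj P) P₁
  haveI := Groth.Agent.ModTensor.additive_extZero O V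
  haveI : R.Additive := (ModSite.extZeroAdj O V).right_adjoint_additive
  let T : n → ModSite.Mod O := fun _ => P
  let T' : m → ModSite.Mod O := fun _ => P
  let E : R.obj ((ModSite.sheafHom F).obj P) ⟶ R.obj (⨁ T) := θ.hom ≫ ∑ i, e i ≫ R.map (biproduct.ι T i)
  let Φ : R.obj (⨁ T) ⟶ R.obj (⨁ T') := ∑ l, (∑ i, R.map (biproduct.π T i) ≫ c l i) ≫ R.map (biproduct.ι T' l)
  have hιπ : ∀ i k, R.map (biproduct.ι T i) ≫ R.map (biproduct.π T k) =
      if h : i = k then 𝟙 _ else 0 := fun i k => by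
    rw [← R.map_comp]
    split_ifs with h
    · subst h; rw [biproduct.ι_π_self, CategoryTheory.Functor.map_id]
    · rw [biproduct.ι_π_ne T h, Functor.map_zero]
  have hιπ' : ∀ i k, R.map (biproduct.ι T' i) ≫ R.map (biproduct.π T' k) =
      if h : i = k then 𝟙 _ else 0 := fun i k => by
    rw [← R.map_comp]
    split_ifs with h
    · subst h; rw [biproduct.ι_π_self, CategoryTheory.Functor.map_id]
    · rw [biproduct.ι_π_ne T' h, Functor.map_zero]
  have hEπ : ∀ i, E ≫ R.map (biproduct.π T i) = θ.hom ≫ e i := fun i => by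
    simp only [E, Category.assoc, Preadditive.sum_comp]
    rw [Finset.sum_eq_single i]
    · rw [hιπ, dif_pos rfl]
      exact congrArg _ (Category.comp_id _)
    · intro k _ hk
      rw [hιπ, dif_neg hk, comp_zero]
    · simp
  have hΦπ : ∀ l, Φ ≫ R.map (biproduct.π T' l) = ∑ i, R.map (biproduct.π T i) ≫ c l i := fun l => by
    rw [show Φ = ∑ k, (∑ i, R.map (biproduct.π T i) ≫ c k i) ≫ R.map (biproduct.ι T' k) from rfl,
      Preadditive.sum_comp, Finset.sum_eq_single l]
    · rw [Category.assoc, hιπ', dif_pos rfl]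
      exact Category.comp_id _
    · intro k _ hk
      rw [Category.assoc, hιπ', dif_neg hk, comp_zero]
    · simp
  have htot : ∀ (S : Type u) [Fintype S] (Z : ModSite.Mod (O.over V)) (a b : Z ⟶ R.obj (⨁ fun _ : S => P)),
      (∀ i, a ≫ R.map (biproduct.π (fun _ : S => P) i) = b ≫ R.map (biproduct.π (fun _ : S => P) i)) → a = b := by
    intro S _ Z a b h
    have e1 : 𝟙 (R.obj (⨁ fun _ : S => P)) =
        ∑ i, R.map (biproduct.π (fun _ : S => P) i) ≫ R.map (biproduct.ι (fun _ : S => P) i) := by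
      simp only [← R.map_comp]
      rw [← R.map_sum, ← R.map_id]
      exact congrArg R.map (biprod_total fun _ : S => P).symm
    rw [← Category.comp_id a, ← Category.comp_id b, e1, Preadditive.comp_sum, Preadditive.comp_sum]
    exact Finset.sum_congr rfl fun i _ => by rw [← Category.assoc, h i, Category.assoc]
  have w : E ≫ Φ = 0 := htot m _ _ _ fun l => by
    rw [Category.assoc, hΦπ, Preadditive.comp_sum, zero_comp]
    simp only [← Category.assoc, hEπ]
    simp only [Category.assoc, ← Preadditive.comp_sum, hzero l, comp_zero]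
  refine ⟨V, hj, n, m, hn, hm, E, Φ, w, ⟨Fork.IsLimit.ofExistsUnique fun σ => ?_⟩⟩
  let k := σ.ι
  let Z := σ.pt
  have hk : k ≫ Φ = 0 := KernelFork.condition σ
  have hq : ∀ l, ∑ i, (k ≫ R.map (biproduct.π T i)) ≫ c l i = 0 := fun l => by
    have := congrArg (· ≫ R.map (biproduct.π T' l)) hk
    simp only [zero_comp, Category.assoc, hΦπ, Preadditive.comp_sum] at this
    simpa only [Category.assoc] using this
  have hy := hlift Z (fun i => k ≫ R.map (biproduct.π T i)) hq
  refine ⟨hy.choose ≫ θ.inv, htot n _ _ _ fun i => ?_, fun y hy' => ?_⟩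
  · show ((hy.choose ≫ θ.inv) ≫ E) ≫ _ = _
    rw [Category.assoc, Category.assoc, hEπ, Iso.inv_hom_id_assoc]
    exact hy.choose_spec.1 i
  · have := hy.choose_spec.2 (y ≫ θ.hom) fun i => by
      rw [Category.assoc, ← hEπ, ← Category.assoc]
      exact congrArg (· ≫ R.map (biproduct.π T i)) hy'
    rw [← this, Category.assoc, Iso.hom_inv_id, Category.comp_id]

include G in
theorem isQC_sheafHom (hF : IsFP F) (hP : IsQC P) : IsQC ((ModSite.sheafHom F).obj P) := by
  classical
  refine isQuasicoherent_of_models fun x => ?_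
  obtain ⟨V, hxV, n, m, _, _, e, φ, w, ⟨hlim⟩⟩ := exists_overKernel (P := P) hF x
  haveI := hP
  obtain ⟨U, hU, hUV, κ, t, N, hxU, hmod⟩ := exists_isModel (M := P) G hxV
  obtain ⟨Nn, hn⟩ := isModel_biproduct (n := n) hmod
  obtain ⟨Nm, hm⟩ := isModel_biproduct (n := m) hmod
  choose col hcol using fun p : n × κ => hm.exists_cmb G hU (ap φ hUV (mp (biproduct.ι _ p.1) U (t p.2)))
  obtain ⟨s, hs⟩ := isModel_of_overKernel e φ w hlim hUV (G.flat U hU) hn hm (fun p => (hcol p).symm)
    (g := fun j : Nm.comap (Finsupp.linearCombination (Fn O U) col) => (j : n × κ →₀ Fn O U))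
    ((congrArg _ Subtype.range_coe).trans (Submodule.span_eq _))
  exact ⟨U, _, s, _, hxU, hs⟩

include G in
theorem isFP_sheafHom (hF : IsFP F) (hP : IsFP P) : IsFP ((ModSite.sheafHom F).obj P) := by
  classical
  refine isFinitePresentation_of_models fun x => ?_
  obtain ⟨V, hxV, n, m, _, _, e, φ, w, ⟨hlim⟩⟩ := exists_overKernel (P := P) hF x
  obtain ⟨U, hU, hUV, κ, hκ, t, N, hxU, hmod⟩ :=
    exists_finite_model G (isQC_of_isFP hP) (isFT_of_isFP hP) hxV
  haveI := G.noeth U hU
  obtain ⟨Nn, hn⟩ := isModel_biproduct (n := n) hmod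
  obtain ⟨Nm, hm⟩ := isModel_biproduct (n := m) hmod
  choose col hcol using fun p : n × κ => hm.exists_cmb G hU (ap φ hUV (mp (biproduct.ι _ p.1) U (t p.2)))
  obtain ⟨k, g, hg⟩ := Submodule.fg_iff_exists_fin_generating_family.1
    (IsNoetherian.noetherian (Nm.comap (Finsupp.linearCombination (Fn O U) col)))
  obtain ⟨s, hs⟩ := isModel_of_overKernel e φ w hlim hUV (G.flat U hU) hn hm (fun p => (hcol p).symm)
    (g := fun j : ULift.{u} (Fin k) => g j.down)
    (by rw [← hg]; congr 1; exact Set.ext fun v => ⟨fun ⟨l, e⟩ => ⟨l.down, e⟩, fun ⟨l, e⟩ => ⟨⟨l⟩, e⟩⟩)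
  exact ⟨U, _, inferInstance, s, _, hxU, IsNoetherian.noetherian _, hs⟩

end Space

end Groth.Agent.H9FCoh
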