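import Groth.Agent.H9FCoh.Gen
import Mathlib

/-!
# Skyscraper modules
-/

set_option autoImplicit false
set_option backward.isDefEq.respectTransparency false
set_option backward.isDefEq.respectTransparency.types false
set_option linter.style.haveILetI false

universe u

open CategoryTheory Opposite TopologicalSpace

noncomputable section

namespace Groth.Agent.H9FCoh

variable {Y : TopCat.{u}} (O : TopCat.Sheaf CommRingCat.{u} Y) (y : Y)
  (Q : Type u) [AddCommGroup Q] [Module (St O y) Q]

/-- Sections of the skyscraper with value `Q`. -/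
def skyAb : (Opens Y)ᵒᵖ ⥤ AddCommGrpCat.{u} where
  obj V := AddCommGrpCat.of (PLift (y ∈ V.unop) → Q)
  map g := AddCommGrpCat.ofHom
    (AddMonoidHom.mk' (fun s hy => s ⟨g.unop.le hy.down⟩) fun _ _ => rfl)

instance skyModule (V : (Opens Y)ᵒᵖ) : Module ((ModSite.ringSh O).obj.obj V) ((skyAb y Q).obj V) where
  smul a s := fun hy => HSMul.hSMul (gH O hy.down (show Fn O V.unop from a)) (show Q from (show PLift (y ∈ V.unop) → Q from s) hy)
  one_smul s := funext fun hy => by
    change gH O hy.down 1 • (show Q from (show PLift (y ∈ V.unop) → Q from s) hy) = (show Q from (show PLift (y ∈ V.unop) → Q from s) hy)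
    rw [map_one, one_smul]
  mul_smul a b s := funext fun hy => by
    change gH O hy.down ((show Fn O V.unop from a) * (show Fn O V.unop from b)) • (show Q from (show PLift (y ∈ V.unop) → Q from s) hy) = _
    rw [map_mul, mul_smul]
    rfl
  smul_zero a := funext fun hy => smul_zero _
  smul_add a s t := funext fun hy => smul_add _ _ _
  add_smul a b s := funext fun hy => by
    change gH O hy.down ((show Fn O V.unop from a) + (show Fn O V.unop from b)) • (show Q from (show PLift (y ∈ V.unop) → Q from s) hy) = _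
    rw [map_add, add_smul]
    rfl
  zero_smul s := funext fun hy => by
    change gH O hy.down 0 • (show Q from (show PLift (y ∈ V.unop) → Q from s) hy) = (0 : Q)
    rw [map_zero, zero_smul]

theorem skyAb_map_smul {V W : (Opens Y)ᵒᵖ} (g : V ⟶ W) (a : (ModSite.ringSh O).obj.obj V)
    (s : (skyAb y Q).obj V) :
    (skyAb y Q).map g (a • s) = (ModSite.ringSh O).obj.map g a • (skyAb y Q).map g s := by
  refine funext fun hy => ?_
  change gH O (g.unop.le hy.down) (show Fn O V.unop from a) •
      (show Q from (show PLift (y ∈ V.unop) → Q from s) ⟨g.unop.le hy.down⟩) =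
    gH O hy.down (rr O g.unop.le (show Fn O V.unop from a)) •
      (show Q from (show PLift (y ∈ V.unop) → Q from s) ⟨g.unop.le hy.down⟩)
  rw [gH_rr]

theorem isSheaf_skyAb : TopCat.Presheaf.IsSheaf (X := Y) (skyAb y Q) := by
  rw [TopCat.Presheaf.isSheaf_iff_isSheafUniqueGluing]
  intro ι U sf hsf
  have hex : ∀ hy : PLift (y ∈ iSup U), ∃ i, y ∈ U i := fun hy => Opens.mem_iSup.1 hy.down
  choose i hi using hex
  refine ⟨fun hy => (sf (i hy) : PLift (y ∈ U (i hy)) → Q) ⟨hi hy⟩, fun j => funext fun hy => ?_,
    fun s hs => funext fun hy => ?_⟩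
  · exact congrFun (hsf (i ⟨Opens.mem_iSup.2 ⟨j, hy.down⟩⟩) j) ⟨⟨hi _, hy.down⟩⟩
  · exact congrFun (hs (i hy)) ⟨hi hy⟩

/-- The skyscraper module. -/
def sky : ModSite.Mod O where
  val := PresheafOfModules.ofPresheaf (R := (ModSite.ringSh O).obj) (skyAb y Q)
    fun _ _ g a s => skyAb_map_smul O y Q g a s
  isSheaf := isSheaf_skyAb y Q

/-- The value of a section of the skyscraper. -/
def skyVal {V : Opens Y} (hy : y ∈ V) (s : (sky O y Q).val.obj (op V)) : Q :=
  (s : PLift (y ∈ V) → Q) ⟨hy⟩

theorem skyVal_smul {V : Opens Y} (hy : y ∈ V) (a : Fn O V) (s : (sky O y Q).val.obj (op V)) :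
    skyVal O y Q hy ((show (ModSite.ringSh O).obj.obj (op V) from a) • s) = gH O hy a • skyVal O y Q hy s :=
  rfl

/-- The value of a section of the skyscraper, additively. -/
def skyValHom {V : Opens Y} (hy : y ∈ V) : ((sky O y Q).val.obj (op V) : Type u) →+ Q :=
  AddMonoidHom.mk' (fun s => skyVal O y Q hy s) fun _ _ => rfl

end Groth.Agent.H9FCoh
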