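import Groth.Agent.H9FCoh.AffSec
import Groth.Agent.Algz7.Extend
import Groth.Agent.Algz7.Separated
import Groth.Agent.QCoh.Support
import Groth.Agent.QCoh.Qcqs
import Groth.Prelude.Def_Wider

/-!
Finite modules representing a coherent formal system on a punctured spectrum up to torsion.
-/

set_option autoImplicit false
set_option backward.isDefEq.respectTransparency false
universe u

open CategoryTheory CategoryTheory.Limits AlgebraicGeometry Opposite TopologicalSpace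

noncomputable section

namespace Groth.Agent.H9FCoh

section Alg

variable {A : Type u} [CommRing A] {S : Type u} [AddCommGroup S] [Module A S]

theorem exists_pow_smul_mem_of_gens {B P : Type u} [CommRing B] [Algebra A B] (a : A) [IsLocalization.Away a B]
    [AddCommGroup P] [Module A P] [Module B P] [IsScalarTower A B P] (L : S →ₗ[A] P)
    [IsLocalizedModule (Submonoid.powers a) L] [Module.Finite B P] :
    ∃ N : Submodule A S, N.FG ∧ ∀ x : S, ∃ k : ℕ, a ^ k • x ∈ N := by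
  classical
  obtain ⟨s, hs⟩ := (Module.Finite.fg_top : (⊤ : Submodule B P).FG)
  choose t ht using fun p : P => IsLocalizedModule.surj (Submonoid.powers a) L p
  refine ⟨Submodule.span A (s.image fun p => (t p).1 : Finset S), Submodule.fg_span (Finset.finite_toSet _),
    fun x => ?_⟩
  have key : ∀ p ∈ Submodule.span B (s : Set P), ∃ k : ℕ,
      ∃ n ∈ Submodule.span A ((s.image fun p => (t p).1 : Finset S) : Set S), a ^ k • p = L n := by
    intro p hp
    induction hp using Submodule.span_induction with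
    | mem p hp =>
      obtain ⟨k, hk⟩ := (t p).2.2
      refine ⟨k, (t p).1, Submodule.subset_span (Finset.mem_image_of_mem _ hp), ?_⟩
      rw [← ht p, Submonoid.smul_def, ← hk]
    | zero => exact ⟨0, 0, zero_mem _, by rw [smul_zero, map_zero]⟩
    | add p q _ _ h1 h2 =>
      obtain ⟨k, n, hn, hkn⟩ := h1
      obtain ⟨l, m, hm, hlm⟩ := h2
      refine ⟨k + l, a ^ l • n + a ^ k • m,
        add_mem (Submodule.smul_mem _ _ hn) (Submodule.smul_mem _ _ hm), ?_⟩
      rw [map_add, map_smul, map_smul, ← hkn, ← hlm, smul_add, smul_smul, smul_smul, ← pow_add, ← pow_add,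
        Nat.add_comm l k]
    | smul r p _ h =>
      obtain ⟨k, n, hn, hkn⟩ := h
      obtain ⟨⟨b, ⟨_, m, rfl⟩⟩, hb⟩ := IsLocalization.surj (Submonoid.powers a) r
      refine ⟨k + m, b • n, Submodule.smul_mem _ _ hn, ?_⟩
      rw [map_smul, ← hkn, pow_add, mul_smul, ← IsScalarTower.algebraMap_smul B b (a ^ k • p),
        ← hb, mul_comm r, mul_smul, IsScalarTower.algebraMap_smul, ← smul_comm (a ^ k) r p,
        smul_comm (a ^ m) (a ^ k)]
  obtain ⟨k, n, hn, hkn⟩ := key (L x) (hs ▸ Submodule.mem_top)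
  rw [← map_smul] at hkn
  obtain ⟨⟨_, l, rfl⟩, hl⟩ := IsLocalizedModule.exists_of_eq (S := Submonoid.powers a) hkn
  refine ⟨l + k, ?_⟩
  rw [pow_add, mul_smul]
  exact (show a ^ l • a ^ k • x = a ^ l • n from hl) ▸ Submodule.smul_mem _ _ hn

theorem exists_pow_le_comap {𝔞 : Ideal A} (h𝔞 : 𝔞.FG) (N : Submodule A S) (x : S)
    (h : ∀ a ∈ 𝔞, ∃ k : ℕ, a ^ k • x ∈ N) : ∃ m : ℕ, ∀ c ∈ 𝔞 ^ m, c • x ∈ N := by
  have hle : 𝔞 ≤ Ideal.radical (N.comap (LinearMap.toSpanSingleton A S x) : Ideal A) := fun a ha => h a ha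
  obtain ⟨m, hm⟩ := Ideal.exists_pow_le_of_le_radical_of_fg hle h𝔞
  exact ⟨m, fun c hc => hm hc⟩

theorem exists_fg_forall_pow_smul_mem {𝔞 : Ideal A} (h𝔞 : 𝔞.FG)
    (h : ∀ a ∈ 𝔞, ∃ N : Submodule A S, N.FG ∧ ∀ x : S, ∃ k : ℕ, a ^ k • x ∈ N) :
    ∃ N : Submodule A S, N.FG ∧ ∀ x : S, ∃ m : ℕ, ∀ c ∈ 𝔞 ^ m, c • x ∈ N := by
  classical
  obtain ⟨s, hs⟩ := id h𝔞
  choose N hN hx using fun a : s => h a.1 (hs ▸ Submodule.subset_span a.2)
  refine ⟨⨆ a, N a, Submodule.fg_iSup _ hN, fun x => exists_pow_le_comap h𝔞 _ x fun a ha => ?_⟩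
  have hle : 𝔞 ≤ Ideal.radical ((⨆ a, N a).comap (LinearMap.toSpanSingleton A S x) : Ideal A) := by
    rw [← hs]
    refine Submodule.span_le.2 fun b hb => ?_
    obtain ⟨k, hk⟩ := hx ⟨b, hb⟩ x
    exact ⟨k, le_iSup N ⟨b, hb⟩ hk⟩
  exact hle ha

theorem exists_smul_mem_smul {T : Type u} [AddCommGroup T] [Module A T] {𝔞 J : Ideal A} (h𝔞 : 𝔞.FG)
    (M : Submodule A T) (hM : ∀ y : T, ∃ m : ℕ, ∀ c ∈ 𝔞 ^ m, c • y ∈ M) (x : T)
    (hx : ∀ a ∈ 𝔞, ∃ k : ℕ, a ^ k • x ∈ J • (⊤ : Submodule A T)) :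
    ∃ m : ℕ, ∀ c ∈ 𝔞 ^ m, c • x ∈ J • M := by
  obtain ⟨m, hm⟩ := exists_pow_le_comap h𝔞 _ x hx
  refine exists_pow_le_comap h𝔞 _ x fun a ha => ?_
  have key : ∀ w ∈ J • (⊤ : Submodule A T), ∃ p : ℕ, a ^ p • w ∈ J • M := by
    intro w hw
    refine Submodule.smul_induction_on hw (fun b hb y _ => ?_) fun u v hu hv => ?_
    · obtain ⟨p, hp⟩ := hM y
      exact ⟨p, by rw [smul_comm]; exact Submodule.smul_mem_smul hb (hp _ (Ideal.pow_mem_pow ha p))⟩
    · obtain ⟨p, hp⟩ := hu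
      obtain ⟨q, hq⟩ := hv
      refine ⟨p + q, ?_⟩
      rw [smul_add]
      refine add_mem ?_ ?_
      · rw [pow_add, mul_comm, mul_smul]; exact Submodule.smul_mem _ _ hp
      · rw [pow_add, mul_smul]; exact Submodule.smul_mem _ _ hq
  obtain ⟨p, hp⟩ := key _ (hm _ (Ideal.pow_mem_pow ha m))
  exact ⟨p + m, by rw [pow_add, mul_smul]; exact hp⟩

end Alg

section Push

variable {R : CommRingCat.{u}} (U : (Spec R).Opens)

/-- The direct image on the spectrum. -/
abbrev pushMod (G : (U : Scheme.{u}).Modules) : (Spec R).Modules := (Scheme.Modules.pushforward U.ι).obj G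

/-- The basic open, as an open of the spectrum. -/
abbrev bOpen (a : R) : (Spec R).Opens := PrimeSpectrum.basicOpen a

/-- Global sections of the direct image on the spectrum. -/
abbrev pushSec (G : (U : Scheme.{u}).Modules) : ModuleCat.{u} R :=
  (moduleSpecΓFunctor (R := R)).obj (pushMod U G)

/-- Sections of the direct image over a basic open. -/
abbrev pushSecD (G : (U : Scheme.{u}).Modules) (a : R) : ModuleCat.{u} R :=
  (modulesSpecToSheaf.obj (pushMod U G)).obj.obj (op (bOpen a))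

/-- Restriction of global sections of the direct image to a basic open. -/
def pushRes (G : (U : Scheme.{u}).Modules) (a : R) : pushSec U G ⟶ pushSecD U G a :=
  (modulesSpecToSheaf.obj (pushMod U G)).obj.map (homOfLE (le_top : bOpen a ≤ ⊤)).op

variable {U}

theorem push_smul (G : (U : Scheme.{u}).Modules) (W : (Spec R).Opens) (b : R)
    (z : Γ(pushMod U G, W)) :
    b • z = secRing (A := R) (X := (U : Scheme.{u})) (U.ι ⁻¹ᵁ W) b • (show Γ(G, U.ι ⁻¹ᵁ W) from z) := by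
  rw [Scheme.Modules.smul_Spec_def]
  refine congrArg (fun r : Γ((U : Scheme.{u}), U.ι ⁻¹ᵁ W) => r • (show Γ(G, U.ι ⁻¹ᵁ W) from z)) ?_
  change U.ι.app W ((Spec R).presheaf.map W.leTop.op
    ((Scheme.ΓSpecIso R).inv b)) = _
  exact ConcreteCategory.congr_hom (U.ι.naturality W.leTop.op) _

variable [IsNoetherianRing R] {G H : (U : Scheme.{u}).Modules}

theorem isLocalizedModule_pushRes (hG : Coh.IsQCoh G) (a : R) :
    IsLocalizedModule (Submonoid.powers a) (pushRes U G a).hom := by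
  haveI : QuasiCompact U.ι :=
    QCoh.quasiCompact_ι_of_compact U (TopologicalSpace.NoetherianSpace.isCompact _)
  exact (isIso_fromTildeΓ_iff_isLocalizing (pushMod U G)).1
    ((isQuasicoherent_iff_isIso_fromTildeΓ _).1 (QCoh.isQCoh_pushforward U.ι hG)) a

theorem isAffineOpen_preimage_basicOpen (a : R)
    (hle : (bOpen a) ≤ U) :
    IsAffineOpen (U.ι ⁻¹ᵁ (bOpen a)) := by
  have hB : IsAffineOpen (bOpen a) := by
    rw [bOpen, ← basicOpen_eq_of_affine]
    exact (isAffineOpen_top _).basicOpen _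
  exact hB.preimage_of_isOpenImmersion U.ι (by rwa [Scheme.Opens.opensRange_ι])

theorem finite_pushSecD (hG : Coh.IsCoh G) (a : R)
    (hle : (bOpen a) ≤ U) :
    ∃ N : Submodule R (pushSec U G), N.FG ∧ ∀ x, ∃ k : ℕ, a ^ k • x ∈ N := by
  let W : (Spec R).Opens := bOpen a
  haveI := QCoh.finite_of_isFT hG.1 hG.2 (isAffineOpen_preimage_basicOpen a hle)
  haveI := isLocalizedModule_pushRes hG.1 a
  have hsurj : Function.Surjective (U.ι.app W) := by
    haveI := U.ι.isIso_app W (by rwa [Scheme.Opens.opensRange_ι])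
    exact (ConcreteCategory.bijective_of_isIso (U.ι.app W)).2
  haveI : Module.Finite Γ(Spec R, W) Γ(pushMod U G, W) := by
    obtain ⟨s, hs⟩ := (Module.Finite.fg_top :
      (⊤ : Submodule Γ((U : Scheme.{u}), U.ι ⁻¹ᵁ W) Γ(G, U.ι ⁻¹ᵁ W)).FG)
    let T : Set Γ(pushMod U G, W) := (s : Set Γ(G, U.ι ⁻¹ᵁ W))
    refine ⟨⟨s, ?_⟩⟩
    show Submodule.span Γ(Spec R, W) T = ⊤
    rw [eq_top_iff]
    rintro x -
    suffices key : ∀ z : Γ(G, U.ι ⁻¹ᵁ W), (show Γ(pushMod U G, W) from z) ∈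
        Submodule.span Γ(Spec R, W) T from key x
    intro z
    have hz : z ∈ Submodule.span Γ((U : Scheme.{u}), U.ι ⁻¹ᵁ W) (s : Set Γ(G, U.ι ⁻¹ᵁ W)) := by
      rw [hs]; trivial
    induction hz using Submodule.span_induction with
    | mem y hy => exact Submodule.subset_span hy
    | zero => exact Submodule.zero_mem _
    | add y z _ _ hy hz => exact Submodule.add_mem _ hy hz
    | smul r y _ hy =>
      obtain ⟨r', rfl⟩ := hsurj r
      exact Submodule.smul_mem _ r' hy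
  haveI : IsLocalization.Away a Γ(Spec R, W) :=
    inferInstanceAs (IsLocalization.Away a
      Γ(Spec R, bOpen a))
  exact exists_pow_smul_mem_of_gens (B := Γ(Spec R, W))
    (P := Γ(pushMod U G, W)) a (pushRes U G a).hom

theorem pushRes_naturality (g : G ⟶ H) (a : R) (x : pushSec U G) :
    pushRes U H a ((moduleSpecΓFunctor (R := R)).map ((Scheme.Modules.pushforward U.ι).map g) x) =
      g.app (U.ι ⁻¹ᵁ (bOpen a))
        (pushRes U G a x) :=
  (ConcreteCategory.congr_hom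
    ((modulesSpecToSheaf.map ((Scheme.Modules.pushforward U.ι).map g)).hom.naturality
      (homOfLE (le_top : bOpen a ≤ ⊤)).op) x).symm

theorem exists_pow_smul_mem_range_push (g : G ⟶ H) [Epi g] (hG : Coh.IsQCoh G) (hH : Coh.IsQCoh H) (a : R)
    (hle : (bOpen a) ≤ U)
    (y : pushSec U H) :
    ∃ k : ℕ, a ^ k • y ∈ LinearMap.range
      ((moduleSpecΓFunctor (R := R)).map ((Scheme.Modules.pushforward U.ι).map g)).hom := by
  haveI := isLocalizedModule_pushRes hG a
  haveI := isLocalizedModule_pushRes hH a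
  obtain ⟨z, hz⟩ := QCoh.app_surjective_of_epi hG hH g (isAffineOpen_preimage_basicOpen a hle) (pushRes U H a y)
  obtain ⟨⟨t, ⟨_, k, rfl⟩⟩, ht⟩ := IsLocalizedModule.surj (Submonoid.powers a) (pushRes U G a).hom
    (show pushSecD U G a from z)
  have h1 : pushRes U H a ((moduleSpecΓFunctor (R := R)).map
      ((Scheme.Modules.pushforward U.ι).map g) t) = pushRes U H a (a ^ k • y) := by
    rw [pushRes_naturality, map_smul, ← hz]
    refine (congrArg _ ht.symm).trans ?_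
    exact (((modulesSpecToSheaf.map ((Scheme.Modules.pushforward U.ι).map g)).hom.app (op (bOpen a))).hom.map_smul (a ^ k) (show pushSecD U G a from z))
  obtain ⟨⟨_, l, rfl⟩, hl⟩ := IsLocalizedModule.exists_of_eq (S := Submonoid.powers a) h1
  refine ⟨l + k, a ^ l • t, ?_⟩
  rw [map_smul, pow_add, mul_smul]
  exact hl

theorem exists_pow_smul_mem_smul_push {J : Ideal R} (g : G ⟶ H) (hg : Algz7.IsQuot J g)
    (hG : Coh.IsQCoh G) (hH : Coh.IsQCoh H) (a : R)
    (hle : (bOpen a) ≤ U)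
    (x : pushSec U G)
    (hx : (moduleSpecΓFunctor (R := R)).map ((Scheme.Modules.pushforward U.ι).map g) x = 0) :
    ∃ k : ℕ, a ^ k • x ∈ J • (⊤ : Submodule R (pushSec U G)) := by
  let W : (Spec R).Opens := bOpen a
  haveI := isLocalizedModule_pushRes hG a
  letI := secMod (A := R) (X := (U : Scheme.{u})) G (U.ι ⁻¹ᵁ W)
  have h0 : g.app (U.ι ⁻¹ᵁ W) (pushRes U G a x) = 0 := by
    rw [← pushRes_naturality, hx, map_zero]
  have hmem := ker_app_le_of_isQuot (IsNoetherian.noetherian J) hG hH hg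
    (isAffineOpen_preimage_basicOpen a hle) (show Γ(G, U.ι ⁻¹ᵁ W) from pushRes U G a x) h0
  have key : ∀ z : Γ(G, U.ι ⁻¹ᵁ W), z ∈ J • (⊤ : Submodule R Γ(G, U.ι ⁻¹ᵁ W)) →
      ∃ k : ℕ, ∃ w ∈ J • (⊤ : Submodule R (pushSec U G)),
        a ^ k • (show pushSecD U G a from z) = pushRes U G a w := by
    intro z hz
    refine Submodule.smul_induction_on hz (fun b hb y _ => ?_) fun p q hp hq => ?_
    · obtain ⟨⟨t, ⟨_, k, rfl⟩⟩, ht⟩ := IsLocalizedModule.surj (Submonoid.powers a) (pushRes U G a).hom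
        (show pushSecD U G a from y)
      refine ⟨k, b • t, Submodule.smul_mem_smul hb Submodule.mem_top, ?_⟩
      have e : (show pushSecD U G a from b • y) = b • (show pushSecD U G a from y) :=
        (push_smul G W b y).symm
      rw [e, map_smul, smul_comm, ← ht]
      rfl
    · obtain ⟨k, w, hw, hkw⟩ := hp
      obtain ⟨l, v, hv, hlv⟩ := hq
      refine ⟨k + l, a ^ l • w + a ^ k • v,
        add_mem (Submodule.smul_mem _ _ hw) (Submodule.smul_mem _ _ hv), ?_⟩
      rw [map_add, map_smul, map_smul, ← hkw, ← hlv, smul_smul, smul_smul, ← pow_add, ← pow_add,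
        Nat.add_comm l k, ← smul_add]
  obtain ⟨k, w, hw, hkw⟩ := key _ hmem
  have h1 : pushRes U G a (a ^ k • x) = pushRes U G a w := by
    rw [map_smul]; exact hkw
  obtain ⟨⟨_, l, rfl⟩, hl⟩ := IsLocalizedModule.exists_of_eq (S := Submonoid.powers a) h1
  refine ⟨l + k, ?_⟩
  rw [pow_add, mul_smul]
  exact (show a ^ l • a ^ k • x = a ^ l • w from hl) ▸ Submodule.smul_mem _ _ hw

omit [IsNoetherianRing R] in
theorem smul_pushSec_eq_zero {J : Ideal R} (hG : Formal.KilledBy J G) {b : R} (hb : b ∈ J)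
    (x : pushSec U G) : b • x = 0 := by
  refine (push_smul G ⊤ b x).trans ?_
  exact congr(($(hG b hb)).app (U.ι ⁻¹ᵁ ⊤) x)

theorem subsingleton_tilde (a : R) (W : ModuleCat.{u} R) (h : ∀ w : W, ∃ l : ℕ, a ^ l • w = 0) :
    Subsingleton Γ(tilde W, bOpen a) := by
  refine subsingleton_of_forall_eq 0 fun p => ?_
  obtain ⟨⟨t, ⟨_, k, rfl⟩⟩, ht⟩ := IsLocalizedModule.surj (Submonoid.powers a)
    (tilde.toOpen W (PrimeSpectrum.basicOpen a)).hom p
  obtain ⟨l, hl⟩ := h t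
  exact Algz7.eq_zero_of_numerator a p t k l ht hl

theorem isIso_restrict_tilde_map {𝔞 : Ideal R} (hU : U = LocCoh.puncturedOpen R 𝔞)
    {P Q : ModuleCat.{u} R} (f : P ⟶ Q) (hf : Function.Injective f)
    (hc : ∀ y : Q, ∀ a ∈ 𝔞, ∃ k : ℕ, a ^ k • y ∈ LinearMap.range f.hom) :
    IsIso ((Scheme.Modules.restrictFunctor U.ι).map ((tilde.functor R).map f)) := by
  let F := Scheme.Modules.restrictFunctor U.ι
  let T := tilde.functor R
  haveI : T.IsLeftAdjoint := tilde.adjunction.isLeftAdjoint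
  haveI : F.IsLeftAdjoint := (Scheme.Modules.restrictAdjunction U.ι).isLeftAdjoint
  haveI hf' : Mono f := (ModuleCat.mono_iff_injective f).2 hf
  haveI : Mono (F.map (T.map f)) :=
    @Functor.map_mono _ _ _ _ F inferInstance _ _ (T.map f) (@QCoh.tildeMap_mono R _ _ f hf')
  let q : Q ⟶ ModuleCat.of R (Q ⧸ LinearMap.range f.hom) := ModuleCat.ofHom (Submodule.mkQ _)
  have hcok : IsColimit (CokernelCofork.ofπ (f := f) q (ModuleCat.hom_ext (LinearMap.ext fun x =>
      (Submodule.Quotient.mk_eq_zero _).mpr (LinearMap.mem_range_self f.hom x)))) :=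
    ModuleCat.cokernelIsColimit f
  have hcok' := CokernelCofork.mapIsColimit _ hcok (T ⋙ F)
  have hz : IsZero (F.obj (T.obj (ModuleCat.of R (Q ⧸ LinearMap.range f.hom)))) := by
    have hq : Coh.IsQCoh (F.obj (T.obj (ModuleCat.of R (Q ⧸ LinearMap.range f.hom)))) :=
      QCoh.isQCoh_restrict U.ι (inferInstanceAs
        (tilde (R := R) (ModuleCat.of R (Q ⧸ LinearMap.range f.hom))).IsQuasicoherent)
    have hle : ∀ a : 𝔞, bOpen (a : R) ≤ U := fun a p hp => hU ▸ fun h => hp (h a.2)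
    refine QCoh.isZero_of_cover hq
      (fun a : 𝔞 => U.ι ⁻¹ᵁ bOpen (a : R))
      (fun a => isAffineOpen_preimage_basicOpen (a : R) (hle a)) ?_ fun a => ?_
    · intro x
      obtain ⟨b, hb, hbx⟩ := Set.not_subset.1
        (show ¬ (𝔞 : Set R) ⊆ (U.ι x).asIdeal from
          (show (U.ι x) ∈ LocCoh.puncturedOpen R 𝔞 from hU ▸ x.2))
      exact ⟨⟨b, hb⟩, hbx⟩
    · let W : (Spec R).Opens := bOpen (a : R)
      have e : U.ι ''ᵁ (U.ι ⁻¹ᵁ W) = W := by
        rw [Scheme.Hom.image_preimage_eq_opensRange_inf, Scheme.Opens.opensRange_ι]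
        exact inf_eq_right.2 (hle a)
      have hsub : Subsingleton Γ(tilde (R := R) (ModuleCat.of R (Q ⧸ LinearMap.range f.hom)), W) := by
        refine subsingleton_tilde (a : R) _ fun t => ?_
        obtain ⟨y, rfl⟩ := Submodule.Quotient.mk_surjective _ t
        obtain ⟨l, hl⟩ := hc y a a.2
        exact ⟨l, (Submodule.Quotient.mk_smul _ _ y).symm.trans ((Submodule.Quotient.mk_eq_zero _).2 hl)⟩
      show Subsingleton Γ(tilde (R := R) (ModuleCat.of R (Q ⧸ LinearMap.range f.hom)), U.ι ''ᵁ (U.ι ⁻¹ᵁ W))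
      rw [e]
      exact hsub
  haveI : Epi (F.map (T.map f)) := Preadditive.epi_of_cancel_zero _ fun {Z} h hh => by
    obtain ⟨l, hl⟩ := CokernelCofork.IsColimit.desc' hcok' h hh
    rw [← hl, hz.eq_zero_of_src l, comp_zero]
  exact isIso_of_mono_of_epi _

end Push

section Sys

variable {A : Type u} [CommRing A] [IsNoetherianRing A]

theorem exists_finite_subsystem {I 𝔞 : Ideal A} (X : ℕᵒᵖ ⥤ ModuleCat.{u} A)
    (hfg : ∀ n, ∀ a ∈ 𝔞, ∃ N : Submodule A (X.obj (op n)), N.FG ∧ ∀ x : X.obj (op n), ∃ k : ℕ, a ^ k • x ∈ N)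
    (hkill : ∀ n, ∀ b ∈ I ^ (n + 1), ∀ x : X.obj (op n), b • x = 0)
    (hker : ∀ n, ∀ x : X.obj (op (n + 1)), X.map (homOfLE (Nat.le_succ n)).op x = 0 → ∀ a ∈ 𝔞,
      ∃ k : ℕ, a ^ k • x ∈ I ^ (n + 1) • (⊤ : Submodule A (X.obj (op (n + 1)))))
    (hran : ∀ n, ∀ a ∈ 𝔞, ∀ y : X.obj (op n), ∃ k : ℕ,
      a ^ k • y ∈ LinearMap.range (X.map (homOfLE (Nat.le_succ n)).op).hom) :
    ∃ (M : ∀ n, Submodule A (X.obj (op n)))
      (hM : ∀ n, ∀ x ∈ M (n + 1), (X.map (homOfLE (Nat.le_succ n)).op).hom x ∈ M n),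
      (∀ n (x : X.obj (op n)), ∀ a ∈ 𝔞, ∃ k : ℕ, a ^ k • x ∈ M n) ∧ (∀ n, Module.Finite A (M n)) ∧
      (∀ n, I ^ (n + 1) • (⊤ : Submodule A (M n)) = ⊥) ∧
      (∀ n (x : M (n + 1)), (X.map (homOfLE (Nat.le_succ n)).op).hom.restrict (hM n) x = 0 →
        ∃ m : ℕ, ∀ a ∈ 𝔞 ^ m, a • x ∈ I ^ (n + 1) • (⊤ : Submodule A (M (n + 1)))) ∧
      (∀ n (y : M n), ∃ m : ℕ, ∀ a ∈ 𝔞 ^ m,
        a • y ∈ LinearMap.range ((X.map (homOfLE (Nat.le_succ n)).op).hom.restrict (hM n))) := by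
  have h𝔞 : 𝔞.FG := IsNoetherian.noetherian 𝔞
  choose N hNfg hN using fun n => exists_fg_forall_pow_smul_mem (S := X.obj (op n)) h𝔞 (hfg n)
  let M : ∀ n, Submodule A (X.obj (op n)) := fun n =>
    Nat.rec (motive := fun n => Submodule A (X.obj (op n))) (N 0)
      (fun n Q => N (n + 1) ⊓ Q.comap (X.map (homOfLE (Nat.le_succ n)).op).hom) n
  have hMle : ∀ n, M n ≤ N n := fun n => by
    cases n with
    | zero => exact le_refl _
    | succ n => exact inf_le_left
  have hMfin : ∀ n, Module.Finite A (M n) := fun n => Module.Finite.iff_fg.2 ((hNfg n).of_le (hMle n))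
  have hMt : ∀ n (x : X.obj (op n)), ∃ m : ℕ, ∀ c ∈ 𝔞 ^ m, c • x ∈ M n := by
    intro n
    induction n with
    | zero => exact hN 0
    | succ n ih =>
      intro x
      obtain ⟨m, hm⟩ := hN (n + 1) x
      obtain ⟨p, hp⟩ := ih (X.map (homOfLE (Nat.le_succ n)).op x)
      refine ⟨m + p, fun c hc => ⟨hm c (Ideal.pow_le_pow_right (Nat.le_add_right m p) hc), ?_⟩⟩
      show (X.map (homOfLE (Nat.le_succ n)).op).hom (c • x) ∈ M n
      rw [map_smul]
      exact hp c (Ideal.pow_le_pow_right (Nat.le_add_left p m) hc)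
  refine ⟨M, fun n x hx => hx.2, fun n x a ha => ?_, hMfin, fun n => ?_, fun n x hx => ?_, fun n y => ?_⟩
  · obtain ⟨m, hm⟩ := hMt n x
    exact ⟨m, hm _ (Ideal.pow_mem_pow ha m)⟩
  · exact eq_bot_iff.2 (Submodule.smul_le.2 fun b hb x _ => Subtype.ext (hkill n b hb x.1))
  · obtain ⟨m, hm⟩ := exists_smul_mem_smul (J := I ^ (n + 1)) h𝔞 (M (n + 1)) (hMt (n + 1)) x.1
      (hker n x.1 (congrArg Subtype.val hx))
    refine ⟨m, fun c hc => ?_⟩
    have h1 := hm c hc
    have e : (I ^ (n + 1) • (⊤ : Submodule A (M (n + 1)))).map (M (n + 1)).subtype = I ^ (n + 1) • M (n + 1) := by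
      rw [Submodule.map_smul'', Submodule.map_subtype_top]
    rw [← e] at h1
    obtain ⟨w, hw, hwx⟩ := h1
    rw [show w = c • x from Subtype.ext hwx] at hw
    exact hw
  · refine exists_pow_le_comap h𝔞 _ y fun a ha => ?_
    obtain ⟨k, t, ht⟩ := hran n a ha y.1
    obtain ⟨m, hm⟩ := hMt (n + 1) t
    refine ⟨m + k, ⟨a ^ m • t, hm _ (Ideal.pow_mem_pow ha m)⟩, Subtype.ext ?_⟩
    show (X.map (homOfLE (Nat.le_succ n)).op).hom (a ^ m • t) = a ^ (m + k) • y.1
    rw [map_smul, pow_add, mul_smul]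
    exact congrArg _ ht

omit [IsNoetherianRing A] in
theorem nonempty_iso_restrict_sub [IsNoetherianRing (CommRingCat.of A)] {𝔞 : Ideal A}
    (X : ℕᵒᵖ ⥤ ModuleCat.{u} A) (M : ∀ n, Submodule A (X.obj (op n)))
    (hM : ∀ n, ∀ x ∈ M (n + 1), (X.map (homOfLE (Nat.le_succ n)).op).hom x ∈ M n)
    (ht : ∀ n (x : X.obj (op n)), ∀ a ∈ 𝔞, ∃ k : ℕ, a ^ k • x ∈ M n) :
    Nonempty (Functor.ofOpSequence
        (X := fun n => (Scheme.Modules.restrictFunctor (LocCoh.puncturedOpen A 𝔞).ι).obj (Formal2.tmod A (M n)))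
        (fun n => (Scheme.Modules.restrictFunctor (LocCoh.puncturedOpen A 𝔞).ι).map
          (Formal2.tmodMap A ((X.map (homOfLE (Nat.le_succ n)).op).hom.restrict (hM n)))) ≅
      (X ⋙ tilde.functor (CommRingCat.of A)) ⋙
        Scheme.Modules.restrictFunctor (LocCoh.puncturedOpen A 𝔞).ι) := by
  let T := tilde.functor (CommRingCat.of A)
  let Rf := Scheme.Modules.restrictFunctor (LocCoh.puncturedOpen A 𝔞).ι
  let φ : ∀ n, ModuleCat.of A (M n) ⟶ X.obj (op n) := fun n => ModuleCat.ofHom (M n).subtype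
  have hiso : ∀ n, IsIso (Rf.map (T.map (φ n))) := fun n => by
    refine isIso_restrict_tilde_map (R := CommRingCat.of A) (𝔞 := 𝔞) rfl (φ n) Subtype.val_injective
      fun y a ha => ?_
    obtain ⟨k, hk⟩ := ht n y a ha
    exact ⟨k, ⟨a ^ k • y, hk⟩, rfl⟩
  let ψ := NatTrans.ofOpSequence
    (F := Functor.ofOpSequence (X := fun n => Rf.obj (Formal2.tmod A (M n)))
      (fun n => Rf.map (Formal2.tmodMap A ((X.map (homOfLE (Nat.le_succ n)).op).hom.restrict (hM n)))))
    (G := (X ⋙ T) ⋙ Rf)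
    (fun n => Rf.map (T.map (φ n))) fun n => by
      rw [Functor.ofOpSequence_map_homOfLE_succ]
      show Rf.map (T.map _) ≫ Rf.map (T.map _) = Rf.map (T.map _) ≫ Rf.map (T.map _)
      rw [← Rf.map_comp, ← Rf.map_comp, ← T.map_comp, ← T.map_comp]
      rfl
  haveI : ∀ n : ℕ, IsIso (ψ.app (op n)) := fun n => hiso n
  haveI : ∀ x, IsIso (ψ.app x) := fun x => this x.unop
  haveI : IsIso ψ := NatIso.isIso_of_isIso_app ψ
  exact ⟨asIso ψ⟩

end Sys

end Groth.Agent.H9FCoh
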